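import Mathlib
import Cfsg.Prelude.Def_CaseTheorems
import Cfsg.Prelude.Def_TwoFusion
import Cfsg.Agent.Lib.PCore.Basic
import Cfsg.Agent.Lib.RankOneInvol.OddGroup

/-!
Gorenstein–Walter: the shape of `G / O(G)`, odd cores of subgroups, coprime lemmas.
-/

set_option autoImplicit false
set_option linter.style.haveILetI false

namespace CfsgLib.GW

open Subgroup

universe u v

/-- `PSL₂(q)` with `q` odd and at least 5, or `A₇`. -/
def IsPSLOrA7 (L : Type u) [Group L] : Prop :=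
  (∃ (F : Type) (_ : Field F) (_ : Fintype F), Odd (Fintype.card F) ∧ 3 < Fintype.card F ∧
      Nonempty (L ≃* Matrix.ProjectiveSpecialLinearGroup (Fin 2) F)) ∨
    Nonempty (L ≃* alternatingGroup (Fin 7))

/-- The possible shapes of a core-free group with cyclic or dihedral Sylow 2-subgroups. -/
def Top (Y : Type u) [Group Y] : Prop :=
  IsPGroup 2 Y ∨ Nonempty (Y ≃* alternatingGroup (Fin 4)) ∨ Nonempty (Y ≃* Equiv.Perm (Fin 4)) ∨
    ∃ L : Subgroup Y, L.Normal ∧ centralizer (L : Set Y) = ⊥ ∧ IsPSLOrA7 L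

/-- The induction predicate of the Gorenstein–Walter theorem. -/
def Good (G : Type u) [Group G] : Prop :=
  Top (G ⧸ Cfsg.oddCore G)

variable {G : Type u} [Group G]

theorem IsPSLOrA7.of_equiv {L : Type u} [Group L] {L' : Type v} [Group L'] (h : IsPSLOrA7 L)
    (e : L ≃* L') : IsPSLOrA7 L' := by
  rcases h with ⟨F, i1, i2, hodd, h3, ⟨f⟩⟩ | ⟨⟨f⟩⟩
  · exact Or.inl ⟨F, i1, i2, hodd, h3, ⟨e.symm.trans f⟩⟩
  · exact Or.inr ⟨e.symm.trans f⟩

theorem Top.of_equiv {Y : Type u} [Group Y] {Y' : Type v} [Group Y'] (h : Top Y)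
    (e : Y ≃* Y') : Top Y' := by
  rcases h with h | ⟨⟨f⟩⟩ | ⟨⟨f⟩⟩ | ⟨L, hL, hC, hI⟩
  · exact Or.inl (h.of_equiv e)
  · exact Or.inr (Or.inl ⟨e.symm.trans f⟩)
  · exact Or.inr (Or.inr (Or.inl ⟨e.symm.trans f⟩))
  · refine Or.inr (Or.inr (Or.inr ⟨L.map e.toMonoidHom, hL.map _ e.surjective, ?_, ?_⟩))
    · refine eq_bot_iff.2 fun y hy => ?_
      have h1 : e.symm y ∈ centralizer (L : Set Y) := mem_centralizer_iff.2 fun x hx => by
        apply e.injective
        rw [map_mul, map_mul, e.apply_symm_apply]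
        exact mem_centralizer_iff.1 hy (e x) ⟨x, hx, rfl⟩
      rw [hC, mem_bot] at h1
      rw [mem_bot, ← e.apply_symm_apply y, h1, map_one]
    · exact hI.of_equiv (L.equivMapOfInjective e.toMonoidHom e.injective)

/-! ### The odd core of a subgroup, as a subgroup of the whole group -/

/-- `O(K)` inside `G`. -/
def coreIn (K : Subgroup G) : Subgroup G := (Cfsg.oddCore K).map K.subtype

theorem coreIn_le (K : Subgroup G) : coreIn K ≤ K := map_subtype_le _

theorem odd_card_coreIn [Finite G] (K : Subgroup G) : Odd (Nat.card (coreIn K)) := by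
  haveI : Fact (Nat.Prime 2) := ⟨Nat.prime_two⟩
  rw [coreIn, card_map_of_injective K.subtype_injective, ← Nat.not_even_iff_odd, even_iff_two_dvd]
  exact CfsgLib.PCore.not_dvd_card_pPrimeCore

theorem le_coreIn {K N : Subgroup G} [Finite G] (hNK : N ≤ K)
    (hn : ∀ k ∈ K, ∀ x ∈ N, k * x * k⁻¹ ∈ N) (hodd : Odd (Nat.card N)) : N ≤ coreIn K := by
  haveI : Fact (Nat.Prime 2) := ⟨Nat.prime_two⟩
  have h1 : N.subgroupOf K ≤ Cfsg.oddCore K := by
    refine CfsgLib.PCore.le_pPrimeCore_of_not_dvd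
      ⟨fun x hx k => mem_subgroupOf.2 (hn _ k.2 _ (mem_subgroupOf.1 hx))⟩ ?_
    rw [Nat.card_congr (subgroupOfEquivOfLe hNK).toEquiv, ← even_iff_two_dvd, Nat.not_even_iff_odd]
    exact hodd
  exact fun x hx => ⟨⟨x, hNK hx⟩, h1 (mem_subgroupOf.2 hx), rfl⟩

theorem conj_mem_coreIn {K : Subgroup G} [Finite G] {k x : G} (hk : k ∈ K) (hx : x ∈ coreIn K) :
    k * x * k⁻¹ ∈ coreIn K := by
  obtain ⟨y, hy, rfl⟩ := hx
  refine ⟨⟨k, hk⟩ * y * ⟨k, hk⟩⁻¹, ?_, rfl⟩
  exact (inferInstance : (Cfsg.oddCore K).Normal).conj_mem y hy _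

/-- An odd-order element fixing and coprime to everything a single inverting involution fixes. -/
theorem commute_of_inverted {P : Subgroup G} {t a : G} (hP : Odd (Nat.card P)) (ht : t * t = 1)
    (hnt : ∀ x ∈ P, t * x * t ∈ P) (hna : ∀ x ∈ P, a * x * a⁻¹ ∈ P) (hat : t * a * t = a⁻¹)
    (hodd : Odd (orderOf a)) (hcop : (orderOf a).Coprime (Nat.card P))
    (hfix : ∀ x ∈ P, t * x * t = x → a * x = x * a) : ∀ x ∈ P, a * x = x * a := by
  have hti : t⁻¹ = t := inv_eq_of_mul_eq_one_right ht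
  have hmul : ∀ u w : G, t * (u * w) * t = (t * u * t) * (t * w * t) := fun u w => by
    calc t * (u * w) * t = t * u * (t * t) * w * t := by rw [ht]; group
      _ = _ := by group
  -- inverted elements
  suffices hz : ∀ z ∈ P, t * z * t = z⁻¹ → a * z = z * a by
    intro x hx
    obtain ⟨y, z, hy, hyt, hzP, hzt, rfl⟩ :=
      CfsgLib.RankOneInvol.exists_fixed_mul_inverted hP ht hnt hx
    calc a * (y * z) = (a * y) * z := by group
      _ = y * (a * z) := by rw [hfix y hy hyt]; group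
      _ = y * z * a := by rw [hz z hzP hzt]; group
  intro z hzP hzt
  obtain ⟨c, z1, hc, hct, hz1P, hz1t, hdec⟩ :=
    CfsgLib.RankOneInvol.exists_fixed_mul_inverted hP ht hnt (hna z hzP)
  have hac : a * c = c * a := hfix c hc hct
  -- apply `t` to the decomposition
  have h1 : a⁻¹ * z⁻¹ * a = c * z1⁻¹ := by
    have e := congrArg (fun w => t * w * t) hdec
    simp only [hmul, hct, hz1t, hzt, hat] at e
    have e2 : t * a⁻¹ * t = a := by
      have := congrArg (·⁻¹) hat
      simpa [mul_inv_rev, hti, mul_assoc] using this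
    rw [e2] at e
    exact e
  have h2 : a * z1 * a⁻¹ = z * c := by
    have h3 : a⁻¹ * z * a = z1 * c⁻¹ := by
      have := congrArg (·⁻¹) h1
      simpa [mul_inv_rev, mul_assoc] using this
    calc a * z1 * a⁻¹ = a * (z1 * c⁻¹) * a⁻¹ * (a * c * a⁻¹) := by group
      _ = a * (a⁻¹ * z * a) * a⁻¹ * (a * c * a⁻¹) := by rw [h3]
      _ = z * c := by rw [hac]; group
  have hA : (a * a) * z * (a * a)⁻¹ = c * z * c := by
    calc a * a * z * (a * a)⁻¹ = a * (a * z * a⁻¹) * a⁻¹ := by group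
      _ = a * (c * z1) * a⁻¹ := by rw [hdec]
      _ = (a * c * a⁻¹) * (a * z1 * a⁻¹) := by group
      _ = c * z * c := by rw [h2, hac]; group
  have hcA : ∀ k : ℕ, a ^ k * c = c * a ^ k := fun k => ((show Commute a c from hac).pow_left k).eq
  have key : ∀ k : ℕ, (a * a) ^ k * z * ((a * a) ^ k)⁻¹ = c ^ k * z * c ^ k := by
    intro k
    induction k with
    | zero => simp
    | succ k ih =>
      have hc2 : (a * a) * c ^ k * (a * a)⁻¹ = c ^ k := by
        have h := (((show Commute a c from hac).mul_left hac).pow_right k).eq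
        rw [h]; group
      calc (a * a) ^ (k + 1) * z * ((a * a) ^ (k + 1))⁻¹
          = (a * a) * ((a * a) ^ k * z * ((a * a) ^ k)⁻¹) * (a * a)⁻¹ := by
            rw [pow_succ', mul_inv_rev]; simp only [mul_assoc]
        _ = ((a * a) * c ^ k * (a * a)⁻¹) * ((a * a) * z * (a * a)⁻¹) *
              ((a * a) * c ^ k * (a * a)⁻¹) := by rw [ih]; group
        _ = c ^ (k + 1) * z * c ^ (k + 1) := by
            rw [hc2, hA]
            conv_rhs => rw [pow_succ]; arg 2; rw [← pow_succ, pow_succ']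
            group
  set m := orderOf a with hm
  have h3 : (a * a) ^ m = 1 := by
    rw [(Commute.refl a).mul_pow, hm, pow_orderOf_eq_one, one_mul]
  have h4 := key m
  rw [h3, one_mul, inv_one, mul_one] at h4
  have h5 : z⁻¹ * c ^ m * z⁻¹⁻¹ = (c ^ m)⁻¹ := by
    rw [inv_inv, eq_inv_iff_mul_eq_one]
    calc z⁻¹ * c ^ m * z * c ^ m = z⁻¹ * (c ^ m * z * c ^ m) := by group
      _ = 1 := by rw [← h4, inv_mul_cancel]
  have h6 : c ^ m = 1 := CfsgLib.RankOneInvol.eq_one_of_conj_eq_inv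
    (CfsgLib.RankOneInvol.odd_orderOf_of_mem hP (inv_mem hzP))
    (CfsgLib.RankOneInvol.odd_orderOf_of_mem hP (pow_mem hc m)) h5
  have h7 : c = 1 := by
    rw [← orderOf_eq_one_iff]
    have hcd : orderOf c ∣ Nat.card P := by
      have := orderOf_dvd_natCard (⟨c, hc⟩ : P)
      rwa [Subgroup.orderOf_mk] at this
    exact Nat.eq_one_of_dvd_coprimes hcop (orderOf_dvd_of_pow_eq_one h6) hcd
  rw [h7, one_mul, mul_one, mul_inv_eq_iff_eq_mul] at hA
  have h8 : Commute (a * a) z := hA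
  obtain ⟨j, hj⟩ := hodd
  have h9 : (a * a) ^ (j + 1) = a := by
    rw [← pow_two, ← pow_mul, show 2 * (j + 1) = 2 * j + 1 + 1 by ring, pow_succ, ← hj,
      pow_orderOf_eq_one, one_mul]
  have := h8.pow_left (j + 1)
  rwa [h9] at this

end CfsgLib.GW
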