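import Cfsg.Agent.Lib.GW.FieldModel
import Cfsg.Agent.Lib.DGroup.Dihedral
import Cfsg.Agent.Lib.Involutions.Fusion

/-!
A group with dihedral Sylow 2-subgroups over a normal `PSL₂(q)` with trivial centraliser: the map
to the automorphisms, the field part, odd tori of involutions.
-/

set_option autoImplicit false
set_option linter.unusedSectionVars false
set_option linter.style.haveILetI false

open Subgroup

namespace CfsgLib.GW.Field

open CfsgLib.PSL2 CfsgLib.AutPSL CfsgLib.GW.TopModel CfsgLib.GW.FieldModel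

universe u

variable {Y : Type u} [Group Y]

/-- The elements of odd order of `L` commuting with `v` generate the odd torus of `v`. -/
def torus (L : Subgroup Y) (v : Y) : Subgroup Y :=
  closure {x | x ∈ L ∧ x * v = v * x ∧ Odd (orderOf x)}

/-- `Y` lies over a normal `PSL₂(q)`, `q` odd, with dihedral Sylow 2-subgroups. -/
structure Psl (L : Subgroup Y) (F : Type*) [Field F] [Fintype F] : Prop where
  normal : L.Normal
  cent : centralizer (L : Set Y) = ⊥
  equiv : Nonempty (L ≃* Matrix.ProjectiveSpecialLinearGroup (Fin 2) F)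
  odd : Odd (Fintype.card F)
  three : 3 < Fintype.card F
  sylow : ∀ S : Sylow 2 Y, ∃ n, Nonempty (↥(S : Subgroup Y) ≃* DihedralGroup n)

variable {F : Type*} [Field F] [Fintype F] {L : Subgroup Y}

local notation "PSL" => Matrix.ProjectiveSpecialLinearGroup (Fin 2) F
local notation "PGL" => Matrix.ProjGenLinGroup (Fin 2) F
local notation "toP" => (Matrix.ProjectiveSpecialLinearGroup.toPGL : PSL →* Matrix.ProjGenLinGroup (Fin 2) F)

namespace Psl

variable [Finite Y] (h : Psl L F)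
include h

theorem two_ne_zero : (2 : F) ≠ 0 := two_ne_zero_of_odd h.odd

/-- The isomorphism with `PSL₂`. -/
noncomputable def e : L ≃* PSL := h.equiv.some

/-- The action on `PSL₂`. -/
noncomputable def phi : Y →* MulAut PSL :=
  haveI := h.normal
  (MulAut.congr h.e).toMonoidHom.comp MulAut.conjNormal

theorem phi_apply (y : Y) (x : L) :
    h.phi y (h.e x) = h.e ⟨y * x * y⁻¹, h.normal.conj_mem _ x.2 y⟩ := by
  haveI := h.normal
  show h.e (MulAut.conjNormal y (h.e.symm (h.e x))) = _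
  rw [MulEquiv.symm_apply_apply]
  exact congrArg h.e (Subtype.ext (MulAut.conjNormal_apply y x))

theorem commute_iff (y : Y) (x : L) : y * x = x * y ↔ h.phi y (h.e x) = h.e x := by
  rw [h.phi_apply, h.e.injective.eq_iff]
  constructor
  · exact fun hc => Subtype.ext (mul_inv_eq_of_eq_mul hc)
  · exact fun hc => mul_inv_eq_iff_eq_mul.1 (congrArg Subtype.val hc)

theorem phi_injective : Function.Injective h.phi := by
  rw [injective_iff_map_eq_one]
  intro y hy
  have : y ∈ centralizer (L : Set Y) := mem_centralizer_iff.2 fun x hx =>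
    ((h.commute_iff y ⟨x, hx⟩).2 (by rw [hy, MulAut.one_apply])).symm
  rwa [h.cent, mem_bot] at this

/-- The image of an element of `L` in `PGL₂`. -/
noncomputable def pg : L →* PGL := MonoidHom.comp toP h.e.toMonoidHom

theorem pg_apply (x : L) : h.pg x = toP (h.e x) := rfl

theorem phi_coe (x : L) : h.phi x = aut F (h.pg x) := by
  rw [h.pg_apply, aut_toP]
  apply MulEquiv.ext
  intro z
  obtain ⟨w, rfl⟩ := h.e.surjective z
  rw [h.phi_apply, MulAut.conj_apply, ← map_inv, ← map_mul, ← map_mul]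
  exact congrArg h.e (Subtype.ext rfl)

/-- The field component. -/
noncomputable def fp : Y →* (F ≃+* F) := partHom.comp h.phi

theorem exists_rep {y : Y} (hy : h.fp y = 1) : ∃ g, h.phi y = aut F g := mem_range_aut.2 hy

theorem fp_of_rep {y : Y} {g : PGL} (hy : h.phi y = aut F g) : h.fp y = 1 :=
  mem_range_aut.1 ⟨g, hy⟩

theorem fp_of_mem {y : Y} (hy : y ∈ L) : h.fp y = 1 := h.fp_of_rep (h.phi_coe ⟨y, hy⟩)

theorem orderOf_rep {y : Y} {g : PGL} (hy : h.phi y = aut F g) : orderOf g = orderOf y := by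
  rw [← orderOf_injective _ aut_injective g, ← hy, orderOf_injective _ h.phi_injective]

theorem commute_rep {y y' : Y} {g g' : PGL} (hy : h.phi y = aut F g) (hy' : h.phi y' = aut F g') :
    y * y' = y' * y ↔ g * g' = g' * g := by
  rw [← h.phi_injective.eq_iff, ← aut_injective.eq_iff]
  simp only [map_mul, hy, hy']

theorem mem_of_rep {y : Y} {g : PGL} (hy : h.phi y = aut F g) (hg : g ∈ pslImage F) : y ∈ L := by
  obtain ⟨x, rfl⟩ := exists_toP hg
  have : y = (h.e.symm x : L) := h.phi_injective (by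
    rw [hy, h.phi_coe, h.pg_apply, MulEquiv.apply_symm_apply])
  rw [this]
  exact SetLike.coe_mem _

/-! ### Sylow 2-subgroups -/

theorem exists_four : ∃ a b : Y, a ∈ L ∧ b ∈ L ∧ orderOf a = 2 ∧ orderOf b = 2 ∧ a ≠ b ∧
    a * b = b * a := by
  obtain ⟨s, t, hs, ht, hne, hc, -, -⟩ := GWCons.TwoOuter.hasFour_one (F := F) h.two_ne_zero
  refine ⟨(h.e.symm s : L), (h.e.symm t : L), SetLike.coe_mem _, SetLike.coe_mem _, ?_, ?_, ?_, ?_⟩
  · rw [Subgroup.orderOf_coe, MulEquiv.orderOf_eq, hs]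
  · rw [Subgroup.orderOf_coe, MulEquiv.orderOf_eq, ht]
  · exact fun e => hne (h.e.symm.injective (Subtype.ext e))
  · exact congrArg Subtype.val (hc.map h.e.symm.toMonoidHom).eq

theorem exists_dihData {a b : Y} (ha : a * a = 1) (ha1 : a ≠ 1) (hb1 : b ≠ 1) (hne : a ≠ b)
    (S : Sylow 2 Y) (haS : a ∈ (S : Subgroup Y)) (hbS : b ∈ (S : Subgroup Y)) :
    ∃ C, DGroup.DihData (S : Subgroup Y) C := by
  classical
  haveI : Fact (Nat.Prime 2) := ⟨Nat.prime_two⟩
  obtain ⟨n, ⟨f⟩⟩ := h.sylow S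
  refine DGroup.dihData_of_equiv S.isPGroup' ?_ f
  haveI : Fintype ↥(S : Subgroup Y) := Fintype.ofFinite _
  have h3 : 3 ≤ Nat.card ↥(S : Subgroup Y) := by
    rw [Nat.card_eq_fintype_card]
    have e : ({1, ⟨a, haS⟩, ⟨b, hbS⟩} : Finset ↥(S : Subgroup Y)).card = 3 := by
      rw [Finset.card_insert_of_notMem, Finset.card_pair]
      · exact fun e => hne (congrArg Subtype.val e)
      · simp only [Finset.mem_insert, Finset.mem_singleton, not_or]
        exact ⟨fun e => ha1 (congrArg Subtype.val e).symm, fun e => hb1 (congrArg Subtype.val e).symm⟩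
    exact e ▸ Finset.card_le_univ _
  rw [Nat.card_congr f.toEquiv, DihedralGroup.nat_card] at h3
  omega

theorem no_eight {a b d : Y} (ha2 : a * a = 1) (hb2 : b * b = 1) (hd2 : d * d = 1)
    (hab : a * b = b * a) (had : a * d = d * a) (hbd : b * d = d * b) (ha1 : a ≠ 1) (hb1 : b ≠ 1)
    (hne : a ≠ b) (h1 : d ≠ 1) (h2 : d ≠ a) (h3 : d ≠ b) (h4 : d ≠ a * b) : False := by
  haveI : Fact (Nat.Prime 2) := ⟨Nat.prime_two⟩
  have hp : IsPGroup 2 (Subgroup.closure ({a, b, d} : Set Y)) := by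
    refine DGroup.closure_isPGroup ?_ ?_
    · rintro x (rfl | rfl | rfl) y (rfl | rfl | rfl)
      exacts [rfl, hab, had, hab.symm, rfl, hbd, had.symm, hbd.symm, rfl]
    · rintro x (rfl | rfl | rfl) <;> assumption
  obtain ⟨S, hS⟩ := hp.exists_le_sylow
  have hm : ∀ x ∈ ({a, b, d} : Set Y), x ∈ (S : Subgroup Y) := fun x hx => hS (subset_closure hx)
  obtain ⟨C, D⟩ := h.exists_dihData ha2 ha1 hb1 hne S (hm a (by simp)) (hm b (by simp))
  exact D.not_three (hm a (by simp)) (hm b (by simp)) (hm d (by simp)) ha2 hb2 hab had hbd ha1 hb1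
    hne h1 h2 h3 h4

theorem fp_involution {v : Y} (hv : v * v = 1) : h.fp v = 1 := by
  by_contra hne
  obtain ⟨s, t, hs, ht, hst, hc, hfs, hft⟩ :=
    hasFour_of_involution h.two_ne_zero (γ := h.phi v) (by rw [← map_mul, hv, map_one]) hne
  obtain ⟨a, rfl⟩ := h.e.surjective s
  obtain ⟨b, rfl⟩ := h.e.surjective t
  rw [MulEquiv.orderOf_eq, ← Subgroup.orderOf_coe, Involutions.orderOf_eq_two_iff_mul] at hs ht
  have hvL : ∀ x ∈ L, v ≠ x := fun x hx e => hne (e ▸ h.fp_of_mem hx)
  exact h.no_eight hs.2 ht.2 hv (congrArg Subtype.val (h.e.injective (by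
      rw [map_mul, map_mul]; exact hc.eq) : a * b = b * a))
    ((h.commute_iff v a).2 hfs).symm ((h.commute_iff v b).2 hft).symm hs.1 ht.1
    (fun e => hst (congrArg h.e (Subtype.ext e))) (hvL 1 (one_mem _)) (hvL _ a.2) (hvL _ b.2)
    (hvL _ (mul_mem a.2 b.2))

theorem orderOf_fp (y : Y) : Odd (orderOf (h.fp y)) := by
  classical
  haveI : Fact (Nat.Prime 2) := ⟨Nat.prime_two⟩
  obtain ⟨a, b, -, -, ha, hb, hne, hab⟩ := h.exists_four
  rw [Involutions.orderOf_eq_two_iff_mul] at ha hb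
  have hp : IsPGroup 2 (Subgroup.closure ({a, b} : Set Y)) := by
    refine DGroup.closure_isPGroup ?_ ?_
    · rintro x (rfl | rfl) y (rfl | rfl)
      exacts [rfl, hab, hab.symm, rfl]
    · rintro x (rfl | rfl)
      exacts [ha.2, hb.2]
  obtain ⟨S, hS⟩ := hp.exists_le_sylow
  obtain ⟨C, D⟩ := h.exists_dihData ha.2 ha.1 hb.1 hne S (hS (subset_closure (by simp)))
    (hS (subset_closure (by simp)))
  have hle : (S : Subgroup Y) ≤ h.fp.ker := by
    intro x hx
    rw [MonoidHom.mem_ker]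
    by_cases hxC : x ∈ C
    · obtain ⟨s, hs, hsC⟩ := D.proper
      have h1 := h.fp_involution (D.out s hs hsC)
      have h2 := h.fp_involution
        (D.out (x * s) (mul_mem hx hs) fun e => hsC ((C.mul_mem_cancel_left hxC).1 e))
      rwa [map_mul, h1, mul_one] at h2
    · exact h.fp_involution (D.out x hx hxC)
  have h2 : ¬ 2 ∣ Nat.card h.fp.range := by
    rw [← Subgroup.index_ker]
    exact fun e => S.not_dvd_index' Subgroup.index_ne_zero_of_finite (e.trans (Subgroup.index_dvd_of_le hle))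
  refine (Nat.not_even_iff_odd.1 fun e => h2 (even_iff_two_dvd.1 e)).of_dvd_nat ?_
  rw [← Subgroup.orderOf_mk (h.fp y) (MonoidHom.mem_range.2 ⟨y, rfl⟩)]
  exact orderOf_dvd_natCard _

/-! ### Involutions and their tori -/

theorem exists_matrix_rep {v : Y} (hv : orderOf v = 2) :
    ∃ (M : Matrix (Fin 2) (Fin 2) F) (hd : M.det ≠ 0), M.trace = 0 ∧ h.phi v = aut F (pmk M hd) ∧
      (v ∈ L ↔ IsSquare M.det) := by
  have hv' := hv
  rw [Involutions.orderOf_eq_two_iff_mul] at hv'
  obtain ⟨g, hg⟩ := h.exists_rep (h.fp_involution hv'.2)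
  obtain ⟨M, hd, rfl⟩ := pmk_surjective g
  have ho := h.orderOf_rep hg
  rw [hv, Involutions.orderOf_eq_two_iff_mul] at ho
  refine ⟨M, hd, trace_eq_zero_of_involution ho.2 ho.1, hg, fun hL => ?_, fun hs =>
    h.mem_of_rep hg (pmk_mem_pslImage.2 hs)⟩
  have e : pmk M hd = h.pg ⟨v, hL⟩ := aut_injective (hg.symm.trans (h.phi_coe ⟨v, hL⟩))
  exact pmk_mem_pslImage.1 (e ▸ toP_mem _)

theorem mem_torus {v : Y} (hv : orderOf v = 2) {x : Y} :
    x ∈ torus L v ↔ x ∈ L ∧ x * v = v * x ∧ Odd (orderOf x) := by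
  refine ⟨fun hx => ?_, fun hx => subset_closure hx⟩
  obtain ⟨M, hd, hM, hrep, -⟩ := h.exists_matrix_rep hv
  induction hx using Subgroup.closure_induction with
  | mem x hx => exact hx
  | one => exact ⟨one_mem _, by rw [one_mul, mul_one], by simp⟩
  | inv x _ hx =>
    exact ⟨inv_mem hx.1, ((show Commute x v from hx.2.1).inv_left).eq, by rw [orderOf_inv]; exact hx.2.2⟩
  | mul x y _ _ hx hy =>
    have hr : ∀ z : Y, ∀ hz : z ∈ L, z * v = v * z → Odd (orderOf z) →
        InTorus M (h.pg ⟨z, hz⟩) := fun z hz hc ho =>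
      inTorus_of_commute_odd h.two_ne_zero hM hd
        (by rw [h.orderOf_rep (h.phi_coe ⟨z, hz⟩)]; exact ho)
        ((h.commute_rep (h.phi_coe ⟨z, hz⟩) hrep).1 hc)
    have hc : Commute x y := (h.commute_rep (h.phi_coe ⟨x, hx.1⟩) (h.phi_coe ⟨y, hy.1⟩)).2
      ((hr x hx.1 hx.2.1 hx.2.2).commute (hr y hy.1 hy.2.1 hy.2.2)).eq
    exact ⟨mul_mem hx.1 hy.1, ((show Commute x v from hx.2.1).mul_left hy.2.1).eq,
      (hx.2.2.mul hy.2.2).of_dvd_nat hc.orderOf_mul_dvd_mul_orderOf⟩

theorem torus_le {v : Y} (hv : orderOf v = 2) : torus L v ≤ L := fun _ hx => ((h.mem_torus hv).1 hx).1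

/-- The torus inside the torus of `PGL₂`. -/
theorem inTorus_pg {v : Y} (hv : orderOf v = 2) {M : Matrix (Fin 2) (Fin 2) F} {hd : M.det ≠ 0}
    (hM : M.trace = 0) (hrep : h.phi v = aut F (pmk M hd)) {x : Y} (hx : x ∈ torus L v) :
    InTorus M (h.pg ⟨x, h.torus_le hv hx⟩) := by
  obtain ⟨hL, hc, ho⟩ := (h.mem_torus hv).1 hx
  exact inTorus_of_commute_odd h.two_ne_zero hM hd
    (by rw [h.orderOf_rep (h.phi_coe ⟨x, hL⟩)]; exact ho)
    ((h.commute_rep (h.phi_coe ⟨x, hL⟩) hrep).1 hc)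

theorem torus_commute {v : Y} (hv : orderOf v = 2) {x y : Y} (hx : x ∈ torus L v)
    (hy : y ∈ torus L v) : x * y = y * x := by
  obtain ⟨M, hd, hM, hrep, -⟩ := h.exists_matrix_rep hv
  exact (h.commute_rep (h.phi_coe ⟨x, h.torus_le hv hx⟩) (h.phi_coe ⟨y, h.torus_le hv hy⟩)).2
    ((h.inTorus_pg hv hM hrep hx).commute (h.inTorus_pg hv hM hrep hy)).eq

theorem isCyclic_torus {v : Y} (hv : orderOf v = 2) : IsCyclic (torus L v) := by
  obtain ⟨M, hd, hM, hrep, -⟩ := h.exists_matrix_rep hv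
  haveI := torus_cyclic h.two_ne_zero hM hd
  let f : torus L v →* TopModel.torus M hM :=
    MonoidHom.codRestrict (h.pg.comp (Subgroup.inclusion (h.torus_le hv))) _
      fun x => h.inTorus_pg hv hM hrep x.2
  refine isCyclic_of_injective f fun x y e => ?_
  exact Subgroup.inclusion_injective _ (h.e.injective
    (Matrix.ProjectiveSpecialLinearGroup.toPGL_injective (congrArg Subtype.val e)))

theorem conj_mem_torus {v : Y} (hv : orderOf v = 2) {y x : Y} (hy : y * v = v * y)
    (hx : x ∈ torus L v) : y * x * y⁻¹ ∈ torus L v := by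
  obtain ⟨hL, hc, ho⟩ := (h.mem_torus hv).1 hx
  refine (h.mem_torus hv).2 ⟨h.normal.conj_mem x hL y, ?_, ?_⟩
  · exact (((show Commute y v from hy).mul_left hc).mul_left (show Commute y v from hy).inv_left).eq
  · rwa [← MulAut.conj_apply, MulEquiv.orderOf_eq]

/-- Every other involution commuting with `v` inverts its torus. -/
theorem inverts_torus {v w : Y} (hv : orderOf v = 2) (hw : orderOf w = 2) (hc : w * v = v * w)
    (hne : w ≠ v) {x : Y} (hx : x ∈ torus L v) : w * x * w⁻¹ = x⁻¹ := by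
  obtain ⟨M, hd, hM, hrep, -⟩ := h.exists_matrix_rep hv
  obtain ⟨N, hN, hNt, hNrep, -⟩ := h.exists_matrix_rep hw
  have h2 := h.two_ne_zero
  rcases cent_cases h2 hM hd ((h.commute_rep hNrep hrep).1 hc) with ht | ⟨N', hN', e, hNt', hanti⟩
  · refine absurd ?_ hne
    have e := ht.involution h2 hM hd (pmk_mul_self hNt hN) (pmk_ne_one h2 hNt hN)
    exact h.phi_injective (hNrep.trans ((congrArg (aut F) e).trans hrep.symm))
  · rw [e] at hNrep
    have := (anti_facts h2 hM hd hNt' hN' hanti).2.2 _ (h.inTorus_pg hv hM hrep hx)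
    apply h.phi_injective
    rw [map_mul, map_mul, map_inv, map_inv, hNrep, h.phi_coe ⟨x, h.torus_le hv hx⟩, ← map_mul,
      ← map_inv, ← map_mul, this, map_inv]

theorem odd_card_torus {v : Y} (hv : orderOf v = 2) : Odd (Nat.card (torus L v)) := by
  haveI := h.isCyclic_torus hv
  obtain ⟨g, hg⟩ := IsCyclic.exists_ofOrder_eq_natCard (α := torus L v)
  rw [← hg, ← Subgroup.orderOf_coe]
  exact ((h.mem_torus hv).1 g.2).2.2

/-- The torus is the odd part of the torus of `PGL₂`. -/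
theorem dvd_card_torus {v : Y} (hv : orderOf v = 2) {M : Matrix (Fin 2) (Fin 2) F}
    {hd : M.det ≠ 0} (hM : M.trace = 0) (hrep : h.phi v = aut F (pmk M hd)) :
    Nat.card (torus L v) ∣ Nat.card (TopModel.torus M hM) ∧
      ∀ d : ℕ, Odd d → d ∣ Nat.card (TopModel.torus M hM) → d ∣ Nat.card (torus L v) := by
  constructor
  · haveI := h.isCyclic_torus hv
    obtain ⟨g, hg⟩ := IsCyclic.exists_ofOrder_eq_natCard (α := torus L v)
    rw [← hg, ← Subgroup.orderOf_coe, ← h.orderOf_rep (h.phi_coe ⟨_, h.torus_le hv g.2⟩),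
      ← Subgroup.orderOf_mk (H := TopModel.torus M hM) _ (h.inTorus_pg hv hM hrep g.2)]
    exact orderOf_dvd_natCard _
  · intro d hdo hdd
    haveI := torus_cyclic h.two_ne_zero hM hd
    obtain ⟨g, hg⟩ := IsCyclic.exists_ofOrder_eq_natCard (α := TopModel.torus M hM)
    have ho : orderOf (g ^ (orderOf g / d)) = d := by
      rw [← hg] at hdd
      rw [orderOf_pow_of_dvd (Nat.div_ne_zero_iff_of_dvd hdd |>.2 ⟨(orderOf_pos g).ne', hdo.pos.ne'⟩)
        (Nat.div_dvd_of_dvd hdd), Nat.div_div_self hdd (orderOf_pos g).ne']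
    set w := g ^ (orderOf g / d)
    have hwo : orderOf (w : PGL) = d := by rw [Subgroup.orderOf_coe, ho]
    obtain ⟨x, hx⟩ := exists_toP (mem_pslImage_of_odd (g := (w : PGL)) (hwo ▸ hdo))
    have hxe : h.pg (h.e.symm x) = w := by rw [h.pg_apply, MulEquiv.apply_symm_apply, hx]
    have hxrep := h.phi_coe (h.e.symm x)
    rw [hxe] at hxrep
    have hmem : ((h.e.symm x : L) : Y) ∈ torus L v := (h.mem_torus hv).2
      ⟨SetLike.coe_mem _, (h.commute_rep hxrep hrep).2 (w.2.commute (InTorus.self M hd)).eq,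
        by rw [← h.orderOf_rep hxrep, hwo]; exact hdo⟩
    rw [← hwo, h.orderOf_rep hxrep, ← Subgroup.orderOf_mk _ hmem]
    exact orderOf_dvd_natCard _

theorem card_torus_inner {v : Y} (hv : orderOf v = 2) (hvL : v ∈ L) :
    (Nat.card (torus L v) : ℤ) ∣ (Fintype.card F : ℤ) - eps (Fintype.card F) ∧
      ∀ d : ℕ, Odd d → (d : ℤ) ∣ (Fintype.card F : ℤ) - eps (Fintype.card F) →
        d ∣ Nat.card (torus L v) := by
  obtain ⟨M, hd, hM, hrep, hiff⟩ := h.exists_matrix_rep hv
  rw [← card_torus_square h.two_ne_zero hM hd (hiff.1 hvL)]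
  simp only [Int.natCast_dvd_natCast]
  exact h.dvd_card_torus hv hM hrep

theorem card_torus_outer {v : Y} (hv : orderOf v = 2) (hvL : v ∉ L) :
    2 * (Nat.card (torus L v) : ℤ) = (Fintype.card F : ℤ) + eps (Fintype.card F) := by
  obtain ⟨M, hd, hM, hrep, hiff⟩ := h.exists_matrix_rep hv
  have he := card_torus_nonsquare h.two_ne_zero hM hd (fun e => hvL (hiff.2 e))
  obtain ⟨hdvd, hmax⟩ := h.dvd_card_torus hv hM hrep
  set N := Nat.card (TopModel.torus M hM)
  have hN : N % 4 = 2 := by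
    have h4 := four_dvd_sub_eps h.odd
    rcases eps_cases (Fintype.card F) with e | e <;> rw [e] at he h4 <;> omega
  have hodd : Odd (N / 2) := by rw [Nat.odd_iff]; omega
  have e2 : N = 2 * (N / 2) := by omega
  have h1 := hmax _ hodd ⟨2, by omega⟩
  rw [e2] at hdvd
  have h3 : Nat.card (torus L v) ∣ N / 2 :=
    (Nat.coprime_two_right.2 (h.odd_card_torus hv)).dvd_of_dvd_mul_left hdvd
  rw [← he, Nat.dvd_antisymm h3 h1]
  omega

end Psl

end CfsgLib.GW.Field
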