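import Cfsg.Agent.Lib.GW.ThetaRoot

/-!
Gorenstein–Walter, characters: uniqueness of a character of `U` agreeing with an invariant linear
one modulo two against class functions. The case where the stabiliser is a four-group uses the
correspondence of characters between `U` and `C_U(V)`.
-/

set_option autoImplicit false
set_option linter.style.haveILetI false
set_option linter.unusedSectionVars false

namespace CfsgLib.GW.ThetaRoot

open Subgroup Cfsg CfsgLib.Characters CfsgLib.CharCorr CfsgLib.GW.ThetaBase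
open scoped Classical ComplexConjugate

universe u

variable {G : Type u} [Group G] [Fintype G] (E : Setup G) {M : Ideal AlgInt}

/-- The four-group `⟨t, b⟩`. -/
def four (b : G) : Subgroup G := (E.S : Subgroup G) ⊓ centralizer ({b} : Set G)

/-- Its centraliser in `U`. -/
def CX (b : G) : Subgroup G := E.U ⊓ centralizer (four E b : Set G)

variable {E}

theorem t_mem_four {b : G} (hb : E.Refl b) : E.t ∈ four E b :=
  ⟨E.t_mem_S, mem_centralizer_singleton_iff.2 hb.comm.symm⟩

theorem b_mem_four {b : G} (hb : E.Refl b) : b ∈ four E b :=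
  ⟨hb.1, mem_centralizer_singleton_iff.2 rfl⟩

theorem cases_four {b s : G} (hb : E.Refl b) (hs : s ∈ four E b) :
    s = 1 ∨ s = E.t ∨ s = b ∨ s = b * E.t :=
  hb.cases_of_commute hs.1 (mem_centralizer_singleton_iff.1 hs.2)

theorem four_le_H (b : G) : four E b ≤ E.H := inf_le_left.trans E.S_le_H

theorem isPGroup_four (b : G) : IsPGroup 2 (four E b) := E.S.2.to_le inf_le_left

theorem mem_centralizer_four {b x : G} (hb : E.Refl b) :
    x ∈ centralizer (four E b : Set G) ↔ x * E.t = E.t * x ∧ x * b = b * x := by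
  constructor
  · intro h
    exact ⟨(mem_centralizer_iff.1 h _ (t_mem_four hb)).symm,
      (mem_centralizer_iff.1 h _ (b_mem_four hb)).symm⟩
  · rintro ⟨h1, h2⟩
    refine mem_centralizer_iff.2 fun s hs => ?_
    rcases cases_four hb hs with rfl | rfl | rfl | rfl
    · rw [one_mul, mul_one]
    · exact h1.symm
    · exact h2.symm
    · exact ((show Commute x b from h2).mul_right (show Commute x E.t from h1)).eq.symm

theorem CX_eq_X {b : G} (hb : E.Refl b) : CX E b = E.X b := by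
  ext x
  show x ∈ E.U ∧ x ∈ centralizer (four E b : Set G) ↔ x ∈ E.U ∧ x ∈ centralizer ({b} : Set G)
  rw [mem_centralizer_four hb, mem_centralizer_singleton_iff]
  exact and_congr_right fun hx => ⟨fun h => h.2, fun h => ⟨(E.mem_U.1 hx).1, h⟩⟩

theorem conj_mem_CX {b : G} (hb : E.Refl b) {n : G} (hn : n ∈ normalizer (four E b : Set G))
    {x : G} (hx : x ∈ CX E b) : n * x * n⁻¹ ∈ CX E b := by
  have hc : n * x * n⁻¹ ∈ centralizer (four E b : Set G) := by
    refine mem_centralizer_iff.2 fun s hs => ?_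
    have h1 : n⁻¹ * s * n ∈ four E b := by simpa using (Subgroup.mem_normalizer_iff''.1 hn s).1 hs
    have h2 := mem_centralizer_iff.1 hx.2 _ h1
    calc s * (n * x * n⁻¹) = n * ((n⁻¹ * s * n) * x) * n⁻¹ := by group
      _ = n * x * n⁻¹ * s := by rw [h2]; group
  exact ⟨E.mem_U.2 ⟨((mem_centralizer_four hb).1 hc).1,
    CfsgLib.RankOneInvol.odd_orderOf_conj (E.mem_U.1 hx.1).2 n⟩, hc⟩

/-- An element of two-power order centralising the four-group lies in it. -/
theorem mem_four_of_two {b x : G} (hb : E.Refl b) (hx : x ∈ centralizer (four E b : Set G))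
    {k : ℕ} (hk : orderOf x = 2 ^ k) : x ∈ four E b := by
  obtain ⟨h1, h2⟩ := (mem_centralizer_four hb).1 hx
  obtain ⟨v, hv, y, hy, rfl⟩ := hb.exists_eq_mul h1 h2
  have hvf : v ∈ four E b := by
    rcases hv with rfl | rfl | rfl | rfl
    exacts [one_mem _, t_mem_four hb, b_mem_four hb, mul_mem (b_mem_four hb) (t_mem_four hb)]
  have hy' : y ∈ CX E b := (CX_eq_X hb).symm ▸ hy
  have hc : Commute v y := mem_centralizer_iff.1 hy'.2 v hvf
  have hv2 : v * v = 1 := by
    rcases hv with rfl | rfl | rfl | rfl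
    exacts [one_mul _, E.t_sq, hb.sq, hb.mul_t.sq]
  have hpow : y ^ 2 ^ (k + 1) = 1 := by
    have h3 : (v * y) ^ 2 ^ (k + 1) = 1 := by
      rw [← orderOf_dvd_iff_pow_eq_one, hk]
      exact pow_dvd_pow 2 k.le_succ
    rwa [hc.mul_pow, pow_succ, mul_comm, pow_mul v, pow_two, hv2, one_pow, one_mul, mul_comm,
      ← pow_succ] at h3
  have hy1 : y = 1 := by
    rw [← orderOf_eq_one_iff]
    exact Nat.eq_one_of_dvd_coprimes
      ((Nat.coprime_two_left.2 (E.mem_U.1 hy'.1).2).pow_left (k + 1))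
      (orderOf_dvd_of_pow_eq_one hpow) dvd_rfl
  rw [hy1, mul_one]
  exact hvf

variable (E)

theorem apply_act {Q : Subgroup G} (hQH : Q ≤ E.H) {η : IrrCharacter E.U}
    (hη : ∀ s (hs : s ∈ Q), irrH E ⟨s, hQH hs⟩ η = η) :
    Inv (conjHom (N := Q) fun _ hm _ hy => E.conj_mem_U (hQH hm) hy) η :=
  fun s v => apply_conj_of_fixed E (hη s s.2) v

variable {E}

/-- The operators on `U`. -/
def actFour (b : G) : four E b →* MulAut E.U :=
  conjHom fun _ hm _ hy => E.conj_mem_U (four_le_H b hm) hy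

/-- The fixed points. -/
def inclX (b : G) : CX E b →* E.U := Subgroup.inclusion inf_le_left

theorem isFixedHom {b : G} : IsFixedHom (actFour (E := E) b) (inclX b) where
  injective := Subgroup.inclusion_injective _
  fixed s c := Subtype.ext (mul_inv_eq_iff_eq_mul.2 (mem_centralizer_iff.1 c.2.2 s s.2))
  exists_of_fixed x hx := ⟨⟨x, x.2, mem_centralizer_iff.2 fun s hs =>
    mul_inv_eq_iff_eq_mul.1 (congrArg Subtype.val (hx ⟨s, hs⟩))⟩, rfl⟩

theorem odd_card_CX (b : G) : Odd (Nat.card (CX E b)) :=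
  E.odd_card_U.of_dvd_nat (card_dvd_of_le inf_le_left)

theorem not_two_dvd_U : ¬ 2 ∣ Nat.card E.U := by
  rw [← even_iff_two_dvd, Nat.not_even_iff_odd]; exact E.odd_card_U

/-- Modulo two, a sum against a class function only sees the corresponding character. -/
theorem sum_corr (hM : IsPModular 2 M) {b : G} {η : IrrCharacter E.U}
    (hη : Inv (actFour b) η) {γ : IrrCharacter (CX E b)} (hγ : ¬ 2 ∣ mult (inclX b) η γ)
    (F : G → AlgInt ⧸ M) (hF : ∀ a c, F (c * a * c⁻¹) = F a) :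
    ∑ v : E.U, F (v : G) * mkv M η v = ∑ x : CX E b, F (x : G) * mkv M γ x := by
  have h1 := sum_reduce_two hM (isPGroup_four (E := E) b)
    (fun _ hm _ hy => E.conj_mem_U (four_le_H b hm) hy)
    (fun v : E.U => F (v : G) * mkv M η v) fun n x => by
      rw [coe_conjHom, hF]
      congr 1
      simp only [mkv]
      congr 1
      apply Subtype.ext
      rw [coe_iv, coe_iv]
      exact hη n x
  rw [h1]
  refine Finset.sum_congr rfl fun x _ => ?_
  show F (x : G) * Ideal.Quotient.mk M (iv η (inclX b x)) = _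
  have h2 := congrArg (modTwoMap hM)
    (iv_res_eq Nat.prime_two (isPGroup_four b) isFixedHom not_two_dvd_U hη hγ x)
  rw [modTwoMap_modP, map_mul, map_natCast, modTwoMap_modP,
    natCast_odd hM (Nat.odd_iff.2 (Nat.two_dvd_ne_zero.1 hγ)), one_mul] at h2
  rw [h2]
  rfl

/-- The operation of the normaliser on the characters of `C_U(V)`. -/
noncomputable def irrN {b : G} (hb : E.Refl b) :
    normalizer (four E b : Set G) →* Equiv.Perm (IrrCharacter (CX E b)) :=
  irrPerm fun _ hn _ hx => conj_mem_CX hb hn hx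

/-- No outer element of two-power order fixes `γ`: everything that agrees with `η` modulo two has
a conjugate corresponding character. -/
theorem exists_conj_corr (hM : IsPModular 2 M) {b : G} (hb : E.Refl b) {η ζ : IrrCharacter E.U}
    (hη : Inv (actFour b) η) (hζ : Inv (actFour b) ζ) {γ γ' : IrrCharacter (CX E b)}
    (hγ : ¬ 2 ∣ mult (inclX b) η γ) (hγ' : ¬ 2 ∣ mult (inclX b) ζ γ')
    (hfree : ∀ x : normalizer (four E b : Set G), (x : G) ∉ four E b →
      (∃ k : ℕ, orderOf (x : G) = 2 ^ k) → irrN hb x γ ≠ γ)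
    (hlike : Like E M η ζ) :
    ∃ n : normalizer (four E b : Set G), irrN hb n γ = γ' := by
  haveI : Fact (Nat.Prime 2) := ⟨Nat.prime_two⟩
  let O : Finset (IrrCharacter (CX E b)) :=
    Finset.univ.filter fun ρ => ∃ n, irrN hb n γ = ρ
  have hmemO : ∀ n, ∀ ρ ∈ O, irrN hb n ρ ∈ O := fun n ρ hρ => by
    obtain ⟨n', rfl⟩ := (Finset.mem_filter.1 hρ).2
    exact Finset.mem_filter.2 ⟨Finset.mem_univ _, n * n', by rw [map_mul]; rfl⟩
  let cX : CX E b → AlgInt ⧸ M := fun v => ∑ ρ ∈ O, mkv M ρ v⁻¹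
  let c : G → AlgInt ⧸ M := fun x => if hx : x ∈ CX E b then cX ⟨x, hx⟩ else 0
  obtain ⟨F, hF, hFc⟩ := exists_class_fun (M := M) (isPGroup_four (E := E) b) (CX E b : Set G)
    (fun v hv x hx => mem_centralizer_singleton_iff.2 (mem_centralizer_iff.1 hv.2 x hx)) c
    (fun n hn v hv hv' => by
      simp only [c]
      rw [dif_pos (show v ∈ CX E b from hv), dif_pos (show n * v * n⁻¹ ∈ CX E b from hv')]
      refine Finset.sum_equiv (irrN hb (⟨n, hn⟩⁻¹)) (fun ρ => ⟨fun hρ => hmemO _ _ hρ,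
        fun hρ => ?_⟩) fun ρ _ => ?_
      · simpa [map_inv] using hmemO ⟨n, hn⟩ _ hρ
      · simp only [mkv]
        congr 1
        apply Subtype.ext
        rw [coe_iv, coe_iv, irrN, irrPerm_apply, inv_inv]
        exact congrArg _ (Subtype.ext (by simp [mul_assoc])))
    (fun v hv P hP hVP hPc hPn => by
      simp only [c]
      rw [dif_pos (show v ∈ CX E b from hv)]
      refine sum_eq_zero_of_no_fixed hM hP ((irrN hb).comp (Subgroup.inclusion hPn)) O
        (fun n ρ hρ => hmemO _ ρ hρ) _ (fun n ρ _ => ?_) fun ρ hρ hfix => ?_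
      · simp only [mkv]
        congr 1
        apply Subtype.ext
        simp only [coe_iv, MonoidHom.comp_apply, irrN, irrPerm_apply]
        refine congrArg _ (Subtype.ext ?_)
        have hc : (n : G) * v = v * n := mem_centralizer_singleton_iff.1 (hPc n.2)
        simp only [coe_conjHom, Subgroup.coe_inv, inv_inv, Subgroup.coe_inclusion]
        rw [show ((n : G)⁻¹ * v⁻¹ * n) = (v * n)⁻¹ * n by group, ← hc]
        group
      · obtain ⟨n, rfl⟩ := (Finset.mem_filter.1 hρ).2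
        obtain ⟨x, hxP, hxV⟩ := SetLike.exists_of_lt hVP
        refine hfree (n⁻¹ * ⟨x, hPn hxP⟩ * n) (fun hmem => hxV ?_) ?_ ?_
        · have h1 := (mem_normalizer_iff.1 n.2 _).1 hmem
          simpa [mul_assoc] using h1
        · obtain ⟨k, hk⟩ := IsPGroup.iff_orderOf.1 hP ⟨x, hxP⟩
          refine ⟨k, ?_⟩
          rw [Subgroup.orderOf_mk] at hk
          rw [← hk]
          have := CfsgLib.Involutions.orderOf_conj_eq (n : G)⁻¹ x
          simpa using this
        · rw [map_mul, map_mul, Equiv.Perm.mul_apply, Equiv.Perm.mul_apply, map_inv]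
          have h2 : irrN hb ⟨x, hPn hxP⟩ (irrN hb n γ) = irrN hb n γ := hfix ⟨x, hxP⟩
          rw [h2]
          exact Equiv.symm_apply_apply _ _)
  have key : ∀ ρ ρ', Inv (actFour b) ρ → ¬ 2 ∣ mult (inclX b) ρ ρ' →
      ∑ v : E.U, F (v : G) * mkv M ρ v = if ρ' ∈ O then 1 else 0 := by
    intro ρ ρ' hρ hρ'
    rw [sum_corr hM hρ hρ' F hF]
    have h3 : ∀ x : CX E b, F (x : G) * mkv M ρ' x = cX x * mkv M ρ' x := fun x => by
      rw [hFc x x.2]
      show (if hx : (x : G) ∈ CX E b then cX ⟨x, hx⟩ else 0) * _ = _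
      rw [dif_pos x.2]
    rw [Finset.sum_congr rfl fun x _ => h3 x]
    simp only [cX, Finset.sum_mul]
    rw [Finset.sum_comm]
    simp only [sum_mkv hM (odd_card_CX b)]
    rw [Finset.sum_ite_eq]
  have h1 := hlike F hF
  rw [key η γ hη hγ, key ζ γ' hζ hγ',
    if_pos (Finset.mem_filter.2 ⟨Finset.mem_univ _, 1, by rw [map_one]; rfl⟩)] at h1
  by_contra hne
  refine one_ne_zero' hM (h1.trans (if_neg fun hm => hne ?_))
  exact (Finset.mem_filter.1 hm).2

/-! ### The invariant linear character -/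

/-- A linear character of `U` as an irreducible character. -/
noncomputable def thI (θ : E.U →* ℂˣ) : IrrCharacter E.U :=
  ⟨fun v => ((θ v : ℂˣ) : ℂ), isIrrCharacter_of_hom θ⟩

/-- Its restriction. -/
noncomputable def thX (θ : E.U →* ℂˣ) (b : G) : IrrCharacter (CX E b) :=
  ⟨fun v => ((θ (inclX b v) : ℂˣ) : ℂ), isIrrCharacter_of_hom (θ.comp (inclX b))⟩

theorem mult_thI (θ : E.U →* ℂˣ) (b : G) : mult (inclX b) (thI θ) (thX θ b) = 1 :=
  mult_eq_of_classInner_eq _ _ _ (by
    rw [show ((thI θ : E.U → ℂ) ∘ inclX b) = (thX θ b : CX E b → ℂ) from rfl,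
      classInner_irr_self (thX θ b).2, Nat.cast_one])

variable {θ : E.U →* ℂˣ}
  (hS : ∀ s (hs : s ∈ (E.S : Subgroup G)) (x : E.U),
    θ ⟨s * x * s⁻¹, E.conj_mem_U (E.S_le_H hs) x.2⟩ = θ x)

include hS in
theorem theta_conj {h : G} (hh : h ∈ E.H) (x : E.U) :
    θ ⟨h * x * h⁻¹, E.conj_mem_U hh x.2⟩ = θ x := by
  obtain ⟨y, hy, s, hs, rfl⟩ := E.exists_mul hh
  have e : (⟨y * s * x * (y * s)⁻¹, E.conj_mem_U hh x.2⟩ : E.U) =
      ⟨y, hy⟩ * ⟨s * x * s⁻¹, E.conj_mem_U (E.S_le_H hs) x.2⟩ * ⟨y, hy⟩⁻¹ :=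
    Subtype.ext (by simp [mul_assoc])
  rw [e, map_mul, map_mul, map_inv, mul_right_comm, mul_inv_cancel, one_mul, hS s hs x]

include hS in
theorem irrH_thI (h : E.H) : irrH E h (thI θ) = thI θ := by
  refine Subtype.ext (funext fun v => ?_)
  rw [irrH_apply]
  show ((θ _ : ℂˣ) : ℂ) = _
  have := theta_conj hS (inv_mem h.2) v
  simp only [inv_inv] at this
  rw [this]
  rfl

include hS in
theorem inv_thI (b : G) : Inv (actFour b) (thI θ) :=
  apply_act E (four_le_H b) fun s hs => irrH_thI hS _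

/-- A reflection together with an element cycling `t → b → b t`. -/
theorem exists_pow_conj {b g : G} (hb : E.Refl b) (hgt : g * E.t * g⁻¹ = b)
    (hgb : g * b * g⁻¹ = b * E.t) :
    g ∈ normalizer (four E b : Set G) ∧ ∀ v ∈ four E b, v ≠ 1 →
      ∃ i : ℕ, g ^ i * E.t * (g ^ i)⁻¹ = v := by
  have hgbt : g * (b * E.t) * g⁻¹ = E.t := by
    rw [show g * (b * E.t) * g⁻¹ = (g * b * g⁻¹) * (g * E.t * g⁻¹) by group, hgt, hgb, mul_assoc,
      ← hb.comm, ← mul_assoc, hb.sq, one_mul]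
  refine ⟨?_, fun v hv hv1 => ?_⟩
  · refine mem_normalizer_iff.2 fun v => ⟨fun hv => ?_, fun hv => ?_⟩
    · rcases cases_four hb hv with rfl | rfl | rfl | rfl
      · simp
      · rw [hgt]; exact b_mem_four hb
      · rw [hgb]; exact mul_mem (b_mem_four hb) (t_mem_four hb)
      · rw [hgbt]; exact t_mem_four hb
    · rcases cases_four hb hv with e | e | e | e <;>
        rw [mul_inv_eq_iff_eq_mul] at e
      · rw [one_mul, mul_eq_left] at e; rw [e]; exact one_mem _
      · have : v = b * E.t := mul_left_cancel (e.trans ((mul_inv_eq_iff_eq_mul.1 hgbt).symm))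
        rw [this]; exact mul_mem (b_mem_four hb) (t_mem_four hb)
      · have : v = E.t := mul_left_cancel (e.trans ((mul_inv_eq_iff_eq_mul.1 hgt).symm))
        rw [this]; exact t_mem_four hb
      · have : v = b := mul_left_cancel (e.trans ((mul_inv_eq_iff_eq_mul.1 hgb).symm))
        rw [this]; exact b_mem_four hb
  · rcases cases_four hb hv with rfl | rfl | rfl | rfl
    · exact absurd rfl hv1
    · exact ⟨0, by simp⟩
    · exact ⟨1, by simpa using hgt⟩
    · exact ⟨2, by
        rw [pow_two, show g * g * E.t * (g * g)⁻¹ = g * (g * E.t * g⁻¹) * g⁻¹ by group, hgt, hgb]⟩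

variable (hg : ∀ b, E.Refl b → ∃ g, g * E.t * g⁻¹ = b ∧ g * b * g⁻¹ = b * E.t ∧
    ∀ x y : E.U, (x : G) ∈ E.X b → (y : G) = g * x * g⁻¹ → θ y = θ x)

include hS hg in
theorem irrN_thX {b : G} (hb : E.Refl b) (n : normalizer (four E b : Set G)) :
    irrN hb n (thX θ b) = thX θ b := by
  obtain ⟨g, hgt, hgb, hgθ⟩ := hg b hb
  obtain ⟨hgN, hpow⟩ := exists_pow_conj hb hgt hgb
  have hgfix : irrN hb ⟨g, hgN⟩⁻¹ (thX θ b) = thX θ b := by
    refine (inv_irrPerm_eq_self_iff _ _ _).2 fun x => ?_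
    exact congrArg Units.val (hgθ (inclX b x) (inclX b _) (CX_eq_X hb ▸ x.2) rfl)
  have hgfix' : irrN hb ⟨g, hgN⟩ (thX θ b) = thX θ b := by
    rw [map_inv] at hgfix
    exact ((Equiv.symm_apply_eq _).1 hgfix).symm
  have hH : ∀ m : normalizer (four E b : Set G), (m : G) ∈ E.H →
      irrN hb m (thX θ b) = thX θ b := fun m hm => by
    refine Subtype.ext (funext fun x => ?_)
    rw [irrN, irrPerm_apply]
    exact congrArg Units.val (Eq.trans (congrArg θ (Subtype.ext rfl))
      (theta_conj hS (inv_mem hm) (inclX b x)))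
  have hv : (n : G) * E.t * (n : G)⁻¹ ∈ four E b :=
    (mem_normalizer_iff.1 n.2 _).1 (t_mem_four hb)
  obtain ⟨i, hi⟩ := hpow _ hv fun h => E.t_ne_one (conj_eq_one_iff.1 h)
  set m : normalizer (four E b : Set G) := (⟨g, hgN⟩ ^ i)⁻¹ * n with hm
  have hmH : (m : G) ∈ E.H := by
    rw [E.mem_H, ← mul_inv_eq_iff_eq_mul]
    simp only [hm, Subgroup.coe_mul, Subgroup.coe_inv, SubmonoidClass.coe_pow]
    rw [show (g ^ i)⁻¹ * (n : G) * E.t * ((g ^ i)⁻¹ * (n : G))⁻¹ =
      (g ^ i)⁻¹ * ((n : G) * E.t * (n : G)⁻¹) * g ^ i by group, ← hi]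
    group
  have hn : n = ⟨g, hgN⟩ ^ i * m := by rw [hm, mul_inv_cancel_left]
  rw [hn, map_mul, Equiv.Perm.mul_apply, hH m hmH, map_pow]
  exact Function.IsFixedPt.perm_pow hgfix' i

theorem normalizer_le_H_of_rot {Q : Subgroup G} (hQS : Q ≤ E.S) {w : G} (hw : w ∈ Q)
    (hwr : w ∈ zpowers E.d.r) (hw2 : w * w ≠ 1) : normalizer (Q : Set G) ≤ E.H := by
  intro n hn
  have h1 : n * w * n⁻¹ ∈ Q := (mem_normalizer_iff.1 hn _).1 hw
  have h2 : n * w * n⁻¹ ∈ zpowers E.d.r := by
    by_contra hh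
    have := E.d.refl_sq (hQS h1) hh
    rw [show n * w * n⁻¹ * (n * w * n⁻¹) = n * (w * w) * n⁻¹ by group, conj_eq_one_iff] at this
    exact hw2 this
  have hne : w ≠ 1 := fun h => hw2 (by rw [h, mul_one])
  obtain ⟨j, hj⟩ : ∃ j, orderOf w = 2 ^ j := by
    haveI : Fact (Nat.Prime 2) := ⟨Nat.prime_two⟩
    obtain ⟨j, hj⟩ := IsPGroup.iff_orderOf.1 E.S.2 ⟨w, hQS hw⟩
    exact ⟨j, by rwa [Subgroup.orderOf_mk] at hj⟩
  obtain ⟨j, rfl⟩ : ∃ i, j = i + 1 := Nat.exists_eq_succ_of_ne_zero fun h => hne (by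
    rw [h, pow_zero] at hj; exact orderOf_eq_one_iff.1 hj)
  have hz : ∀ x ∈ zpowers E.d.r, orderOf x = 2 ^ (j + 1) → x ^ 2 ^ j = E.t := fun x hx hxo => by
    refine ((E.d.rot_sq_eq_one (pow_mem hx _) ?_).resolve_left fun h => ?_)
    · rw [← pow_two, ← pow_mul, ← pow_succ, ← hxo, pow_orderOf_eq_one]
    · have := orderOf_dvd_of_pow_eq_one h
      rw [hxo, Nat.pow_dvd_pow_iff_le_right (by norm_num)] at this
      omega
  have h3 := hz _ h2 ((CfsgLib.Involutions.orderOf_conj_eq n w).trans hj)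
  rw [conj_pow, hz w hwr hj] at h3
  exact E.mem_H.2 (mul_inv_eq_iff_eq_mul.1 h3)

theorem commute_four {b v w : G} (hb : E.Refl b) (hv : v ∈ four E b) (hw : w ∈ four E b) :
    v * w = w * v := by
  have h : Commute E.t b := hb.comm.symm
  rcases cases_four hb hv with rfl | rfl | rfl | rfl <;>
    rcases cases_four hb hw with rfl | rfl | rfl | rfl <;>
    first
      | exact (Commute.one_left _).eq
      | exact (Commute.one_right _).eq
      | exact (Commute.refl _).eq
      | exact h.eq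
      | exact h.symm.eq
      | exact (h.mul_right (Commute.refl _)).eq
      | exact ((Commute.refl _).mul_left h).eq
      | exact ((Commute.refl _).mul_right h.symm).eq
      | exact (h.symm.mul_left (Commute.refl _)).eq

/-- A `2`-element normalising the four-group fixes one of its involutions. -/
theorem exists_fixed_involution {b x : G} (hb : E.Refl b)
    (hx : x ∈ normalizer (four E b : Set G)) {k : ℕ} (hk : orderOf x = 2 ^ k) :
    ∃ v ∈ four E b, v ≠ 1 ∧ x * v * x⁻¹ = v := by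
  have hmem : ∀ v ∈ four E b, x * v * x⁻¹ ∈ four E b := fun v hv => (mem_normalizer_iff.1 hx v).1 hv
  by_cases h1 : x * E.t * x⁻¹ = E.t
  · exact ⟨_, t_mem_four hb, E.t_ne_one, h1⟩
  obtain ⟨v₁, hv₁, hR⟩ : ∃ v₁, x * E.t * x⁻¹ = v₁ ∧ E.Refl v₁ := by
    rcases cases_four hb (hmem _ (t_mem_four hb)) with h | h | h | h
    exacts [absurd (conj_eq_one_iff.1 h) E.t_ne_one, absurd h h1, ⟨_, h, hb⟩, ⟨_, h, hb.mul_t⟩]
  have hv : v₁ ∈ four E b := hv₁ ▸ hmem _ (t_mem_four hb)
  by_cases h2 : x * v₁ * x⁻¹ = v₁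
  · exact ⟨v₁, hv, hR.ne_one, h2⟩
  have hprod : x * (v₁ * E.t) * x⁻¹ = x * v₁ * x⁻¹ * v₁ := by
    nth_rewrite 3 [← hv₁]
    group
  rcases hR.cases_of_commute (hmem _ hv).1 (commute_four hb (hmem _ hv) hv) with h | h | h | h
  · exact absurd (conj_eq_one_iff.1 h) hR.ne_one
  · refine ⟨v₁ * E.t, mul_mem hv (t_mem_four hb), hR.mul_t.ne_one, ?_⟩
    rw [hprod, h, hR.comm]
  · exact absurd h h2
  refine absurd ?_ h1
  replace hprod : x * (v₁ * E.t) * x⁻¹ = E.t := by
    rw [hprod, h, mul_assoc, ← hR.comm, ← mul_assoc, hR.sq, one_mul]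
  have h3 : x ^ 3 * E.t * (x ^ 3)⁻¹ = E.t := by
    rw [show x ^ 3 * E.t * (x ^ 3)⁻¹ = x * (x * (x * E.t * x⁻¹) * x⁻¹) * x⁻¹ by
      simp [pow_succ, mul_assoc], hv₁, h,
      hprod]
  obtain ⟨m, hm⟩ := exists_pow_eq_self_of_coprime (x := x) (n := 3)
    (by rw [hk]; exact Nat.Coprime.pow_right k (by norm_num))
  have hc : Commute (x ^ 3) E.t := mul_inv_eq_iff_eq_mul.1 h3
  exact mul_inv_eq_iff_eq_mul.2 (hm ▸ hc.pow_left m).eq

include hS hg in
/-- Only `θ` itself agrees with `θ`. -/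
theorem eq_thI_of_like (hM : IsPModular 2 M) {η : IrrCharacter E.U}
    (hlike : Like E M η (thI θ)) : η = thI θ := by
  haveI : Fact (Nat.Prime 2) := ⟨Nat.prime_two⟩
  have caseA : ∀ {ρ : IrrCharacter E.U}, normalizer (stab E ρ : Set G) ≤ E.H →
      Like E M ρ (thI θ) → ρ = thI θ :=
    fun h h' => eq_of_like_of_normalizer E hM (irrH_thI hS) h h'
  by_cases hrot : ∃ w ∈ stab E η, w ∈ zpowers E.d.r ∧ w * w ≠ 1
  · obtain ⟨w, hw, hwr, hw2⟩ := hrot
    exact caseA (normalizer_le_H_of_rot (stab_le E η) hw hwr hw2) hlike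
  push Not at hrot
  have hrot' : ∀ w ∈ stab E η, w ∈ zpowers E.d.r → w = 1 ∨ w = E.t :=
    fun w hw hwr => E.d.rot_sq_eq_one hwr (hrot w hw hwr)
  by_cases hrefl : ∃ b ∈ stab E η, E.Refl b
  swap
  · push Not at hrefl
    refine caseA (fun n hn => ?_) hlike
    have h1 : n * E.t * n⁻¹ ∈ stab E η := (mem_normalizer_iff.1 hn _).1 (t_mem_stab E η)
    have h2 : n * E.t * n⁻¹ ∈ zpowers E.d.r := by
      by_contra hh
      exact hrefl _ h1 ⟨stab_le E η h1, hh⟩
    exact E.mem_H.2 (mul_inv_eq_iff_eq_mul.1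
      ((hrot' _ h1 h2).resolve_left fun h => E.t_ne_one (conj_eq_one_iff.1 h)))
  obtain ⟨b, hbQ, hb⟩ := hrefl
  have hQ : stab E η = four E b := by
    refine le_antisymm (fun s hs => ?_) fun s hs => ?_
    · by_cases hsr : s ∈ zpowers E.d.r
      · rcases hrot' s hs hsr with rfl | rfl
        exacts [one_mem _, t_mem_four hb]
      · have h1 := hrot' _ (mul_mem hs hbQ) (E.d.refl_mul_refl (stab_le E η hs) hsr hb.1 hb.2)
        rcases h1 with h1 | h1
        · rw [mul_eq_one_iff_eq_inv, hb.inv] at h1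
          rw [h1]
          exact b_mem_four hb
        · rw [← eq_mul_inv_iff_mul_eq, hb.inv] at h1
          rw [h1]
          exact mul_mem (t_mem_four hb) (b_mem_four hb)
    · rcases cases_four hb hs with rfl | rfl | rfl | rfl
      exacts [one_mem _, t_mem_stab E η, hbQ, mul_mem hbQ (t_mem_stab E η)]
  have hinvη : Inv (actFour b) η := apply_act E (four_le_H b) fun s hs => (hQ ▸ hs : s ∈ stab E η).2
  obtain ⟨γ, hγ, -⟩ := existsUnique_mult Nat.prime_two (isPGroup_four b) isFixedHom not_two_dvd_U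
    hinvη
  have hθγ : ¬ 2 ∣ mult (inclX b) (thI θ) (thX θ b) := by rw [mult_thI]; norm_num
  suffices hgoal : γ = thX θ b from
    mult_injective Nat.prime_two (isPGroup_four b) isFixedHom not_two_dvd_U hinvη (inv_thI hS b)
      hγ (hgoal ▸ hθγ)
  by_cases hfree : ∀ x : normalizer (four E b : Set G), (x : G) ∉ four E b →
      (∃ k : ℕ, orderOf (x : G) = 2 ^ k) → irrN hb x γ ≠ γ
  · obtain ⟨n, hn⟩ := exists_conj_corr hM hb hinvη (inv_thI hS b) hγ hθγ hfree hlike
    exact (irrN hb n).injective (hn.trans (irrN_thX hS hg hb n).symm)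
  push Not at hfree
  obtain ⟨x, hxV, ⟨k, hxk⟩, hxγ⟩ := hfree
  obtain ⟨g, hgt, hgb, -⟩ := hg b hb
  obtain ⟨hgN, hpow⟩ := exists_pow_conj hb hgt hgb
  -- a fixed involution of the four-group
  obtain ⟨v, hv, hv1, hxv⟩ := exists_fixed_involution hb x.2 hxk
  obtain ⟨i, hi⟩ := hpow v hv hv1
  set n : normalizer (four E b : Set G) := ⟨g, hgN⟩ ^ i with hn
  set x' : normalizer (four E b : Set G) := n⁻¹ * x * n with hx'
  set γ' := irrN hb n⁻¹ γ with hγ'def
  have hx'γ : irrN hb x' γ' = γ' := by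
    rw [hx', hγ'def, map_mul, map_mul, Equiv.Perm.mul_apply, Equiv.Perm.mul_apply,
      ← Equiv.Perm.mul_apply (irrN hb n), ← map_mul, mul_inv_cancel, map_one, Equiv.Perm.one_apply,
      hxγ]
  have hnG : (n : G) = g ^ i := by rw [hn, SubmonoidClass.coe_pow]
  have hx'H : (x' : G) ∈ E.H := by
    rw [E.mem_H, ← mul_inv_eq_iff_eq_mul]
    simp only [hx', Subgroup.coe_mul, Subgroup.coe_inv, hnG]
    rw [show (g ^ i)⁻¹ * (x : G) * g ^ i * E.t * ((g ^ i)⁻¹ * (x : G) * g ^ i)⁻¹ =
      (g ^ i)⁻¹ * ((x : G) * (g ^ i * E.t * (g ^ i)⁻¹) * (x : G)⁻¹) * g ^ i by group, hi, hxv, ← hi]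
    group
  have hx'V : (x' : G) ∉ four E b := by
    intro h
    refine hxV ?_
    have h1 := (mem_normalizer_iff.1 n.2 _).1 h
    simpa [hx', mul_assoc] using h1
  have hx'k : orderOf (x' : G) = 2 ^ k := by
    rw [← hxk]
    have := CfsgLib.Involutions.orderOf_conj_eq (n : G)⁻¹ x
    simpa [hx'] using this
  obtain ⟨y, hy, s, hs, hys⟩ := E.exists_mul hx'H
  have hyc : y ∈ centralizer (four E b : Set G) := by
    refine mem_centralizer_iff.2 fun w' hw' => ?_
    have hw : (x' : G)⁻¹ * w' * x' ∈ four E b := by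
      simpa using (mem_normalizer_iff''.1 x'.2 w').1 hw'
    set w := (x' : G)⁻¹ * w' * x' with hwdef
    have e : y * (s * w * s⁻¹) = w' * y := by
      have h1 : (x' : G) * w = w' * x' := by rw [hwdef]; group
      rw [hys] at h1
      calc y * (s * w * s⁻¹) = y * s * w * s⁻¹ := by group
        _ = w' * (y * s) * s⁻¹ := by rw [h1]
        _ = w' * y := by group
    rw [show w' * y = (w' * y * w'⁻¹) * w' by group] at e
    exact mul_inv_eq_iff_eq_mul.1 (E.mul_inj hy (E.conj_mem_U (four_le_H b hw') hy)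
      (mul_mem (mul_mem hs hw.1) (inv_mem hs)) hw'.1 e).1.symm
  have hyN : y ∈ normalizer (four E b : Set G) := centralizer_le_normalizer _ hyc
  have hsN : s ∈ normalizer (four E b : Set G) := by
    have := mul_mem (inv_mem hyN) x'.2
    rwa [hys, inv_mul_cancel_left] at this
  have hyfix : irrN hb ⟨y, hyN⟩ γ' = γ' := by
    refine Subtype.ext (funext fun z => ?_)
    rw [irrN, irrPerm_apply]
    have := irr_isClassFunction γ' z (⟨y, hy, hyc⟩ : CX E b)⁻¹
    rw [← this]
    exact congrArg _ (Subtype.ext ((coe_conjHom _ _ _).trans rfl))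
  have hsfix : irrN hb ⟨s, hsN⟩ γ' = γ' := by
    have h1 : x' = ⟨y, hyN⟩ * ⟨s, hsN⟩ := Subtype.ext hys
    rw [h1, map_mul, Equiv.Perm.mul_apply] at hx'γ
    exact (irrN hb ⟨y, hyN⟩).injective (hx'γ.trans hyfix.symm)
  have hsV : s ∉ four E b := fun h => hx'V (mem_four_of_two hb (by
    rw [hys]
    exact mul_mem hyc (mem_centralizer_iff.2 fun w hw => commute_four hb hw h)) hx'k)
  -- the correspondent of `γ'`
  obtain ⟨η', hη', hγ'⟩ := exists_mult Nat.prime_two (isPGroup_four b) isFixedHom not_two_dvd_U γ'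
  set s' : E.H := ⟨s, E.S_le_H hs⟩ with hs'
  set η'' := irrH E s'⁻¹ η' with hη''def
  have hη''v : ∀ v : E.U, (η'' : E.U → ℂ) v =
      (η' : E.U → ℂ) (conjHom (fun _ hn _ hx => E.conj_mem_U hn hx) s' v) := fun v => by
    rw [hη''def, irrH, irrPerm_apply, inv_inv]
  have hη''inv : Inv (actFour b) η'' := by
    intro w v
    rw [hη''v, hη''v]
    have hw : s * (w : G) * s⁻¹ ∈ four E b := (mem_normalizer_iff.1 hsN _).1 w.2
    rw [← hη' ⟨_, hw⟩ (conjHom _ s' v)]
    exact congrArg _ (Subtype.ext (by simp [actFour, hs', mul_assoc]))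
  have hγ'' : ¬ 2 ∣ mult (inclX b) η'' γ' := by
    rw [mult_eq_of_classInner_eq (inclX b) η'' γ' (n := mult (inclX b) η' γ') ?_]
    · exact hγ'
    rw [← mult_spec]
    have hsfix' := (inv_irrPerm_eq_self_iff (fun _ hn _ hx => conj_mem_CX hb hn hx) ⟨s, hsN⟩ γ').1
      (by rw [map_inv]; exact (Equiv.symm_apply_eq _).2 hsfix.symm)
    rw [← classInner_comp_equiv
      (conjHom (fun _ hn _ hx => conj_mem_CX hb hn hx) (⟨s, hsN⟩ : normalizer (four E b : Set G)))
      ((η' : E.U → ℂ) ∘ inclX b) (γ' : CX E b → ℂ)]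
    congr 1
    · funext z
      rw [Function.comp_apply, hη''v]
      rfl
    · funext z
      exact (hsfix' z).symm
  have hfix : η'' = η' := mult_injective Nat.prime_two (isPGroup_four b) isFixedHom not_two_dvd_U
    hη''inv hη' hγ'' hγ'
  have hle : ∀ w ∈ four E b, w ∈ stab E η' := fun w hw => by
    refine ⟨hw.1, Subtype.ext (funext fun v => ?_)⟩
    rw [irrH_apply]
    rw [← hη' ⟨w⁻¹, inv_mem hw⟩ v]
    exact congrArg _ (Subtype.ext (by simp [actFour]))
  have hsstab : s ∈ stab E η' := by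
    refine ⟨hs, ?_⟩
    conv_rhs => rw [← Equiv.apply_symm_apply (irrH E s') η']
    congr 1
    rw [hη''def, map_inv] at hfix
    exact hfix.symm
  have hN' : normalizer (stab E η' : Set G) ≤ E.H := by
    by_cases hsr : s ∈ zpowers E.d.r
    · refine normalizer_le_H_of_rot (stab_le E η') hsstab hsr fun h => hsV ?_
      rcases E.d.rot_sq_eq_one hsr h with rfl | rfl
      exacts [one_mem _, t_mem_four hb]
    · refine normalizer_le_H_of_rot (stab_le E η') (mul_mem hsstab (hle b (b_mem_four hb)))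
        (E.d.refl_mul_refl hs hsr hb.1 hb.2) fun h => hsV ?_
      rcases E.d.rot_sq_eq_one (E.d.refl_mul_refl hs hsr hb.1 hb.2) h with h | h
      · rw [mul_eq_one_iff_eq_inv, hb.inv] at h
        rw [h]
        exact b_mem_four hb
      · rw [← eq_mul_inv_iff_mul_eq, hb.inv] at h
        rw [h]
        exact mul_mem (t_mem_four hb) (b_mem_four hb)
  have hlike' : Like E M η' (thI θ) := by
    intro F hF
    rw [← hlike F hF, sum_corr hM hη' hγ' F hF, sum_corr hM hinvη hγ F hF]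
    refine Fintype.sum_equiv (conjHom (fun _ hm _ hx => conj_mem_CX hb hm hx) n).toEquiv _ _
      fun z => ?_
    show F (z : G) * mkv M γ' z = F ((n : G) * z * (n : G)⁻¹) * _
    rw [hF]
    congr 1
    simp only [mkv]
    congr 1
    apply Subtype.ext
    rw [coe_iv, coe_iv, hγ'def, irrN, irrPerm_apply, inv_inv]
    rfl
  have hγ'θ : γ' = thX θ b := by
    have e := caseA hN' hlike'
    exact (existsUnique_mult Nat.prime_two (isPGroup_four b) isFixedHom not_two_dvd_U hη').unique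
      hγ' (e ▸ hθγ)
  rw [hγ'def, ← irrN_thX hS hg hb n⁻¹] at hγ'θ
  exact (irrN hb n⁻¹).injective hγ'θ

include hS hg in
/-- The values of `χ` on `t U` are those of a multiple of `θ`, if `θ` occurs there. -/
theorem apply_eq_of_root {χ : IrrCharacter G} (hθ : Root E χ (thI θ)) (v : E.U) :
    (χ : G → ℂ) (E.t * v) = (Nat.card E.U : ℂ)⁻¹ *
      (∑ w : E.U, conj ((θ w : ℂˣ) : ℂ) * (χ : G → ℂ) (E.t * w)) * ((θ v : ℂˣ) : ℂ) := by
  haveI : Fact (Nat.Prime 2) := ⟨Nat.prime_two⟩
  obtain ⟨M, hM⟩ := CfsgLib.Blocks.exists_isPModular (p := 2)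
  let ψ : E.U → ℂ := fun w => (χ : G → ℂ) (E.t * w)
  have hψ : IsClassFunction E.U ψ := fun a c => by
    simp only [ψ, Subgroup.coe_mul, Subgroup.coe_inv]
    rw [show E.t * ((c : G) * a * (c : G)⁻¹) = (c : G) * (E.t * a) * (c : G)⁻¹ by
      rw [← mul_assoc, ← mul_assoc, ← (E.mem_U.1 c.2).1, mul_assoc (c : G)]]
    exact irr_isClassFunction χ _ _
  show ψ v = _
  conv_lhs => rw [classFunction_eq_sum hψ]
  rw [Finset.sum_apply, Finset.sum_eq_single (thI θ)]
  · simp only [Pi.smul_apply, smul_eq_mul, classInner]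
    congr 2
    exact Finset.sum_congr rfl fun w _ => mul_comm _ _
  · intro η _ hη
    have h0 : classInner ψ (η : E.U → ℂ) = 0 := by
      by_contra hne
      refine hη (eq_thI_of_like hS hg hM (like_of_root E hM (χ := χ) ?_ hθ))
      intro hz
      refine hne ?_
      rw [classInner, ← mul_zero ((Nat.card E.U : ℂ)⁻¹), ← hz]
      congr 1
      exact Finset.sum_congr rfl fun w _ => mul_comm _ _
    simp [h0]
  · simp

end CfsgLib.GW.ThetaRoot
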