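import Mathlib.Analysis.Complex.Basic
import Mathlib.Tactic

/-!
Gorenstein–Walter, characters: the integral vectors of norm three (and four) with inner products
two force a character of small degree.
-/

set_option autoImplicit false
set_option linter.style.haveILetI false
set_option linter.unusedSectionVars false

namespace CfsgLib.GW.ThetaLattice

open scoped Classical

variable {ι : Type*} [Fintype ι]

theorem sq_le_of_sum {v : ι → ℤ} {n : ℤ} (hv : ∑ i, v i * v i = n) (i : ι) : v i * v i ≤ n := by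
  rw [← hv]
  exact Finset.single_le_sum (f := fun i => v i * v i) (fun j _ => mul_self_nonneg _)
    (Finset.mem_univ i)

theorem abs_le_one_of_three {v : ι → ℤ} (hv : ∑ i, v i * v i = 3) (i : ι) : |v i| ≤ 1 := by
  have := sq_le_of_sum hv i
  rw [abs_le]
  constructor <;> nlinarith

theorem abs_le_one_of_four {v : ι → ℤ} (hv : ∑ i, v i * v i = 4) {x : ι → ℕ}
    (hx : ∀ i, 0 < x i) (horth : ∑ i, v i * (x i : ℤ) = 0) (i : ι) : |v i| ≤ 1 := by
  by_contra hlt
  push Not at hlt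
  have h1 := sq_le_of_sum hv i
  have h2 : v i * v i = 4 := by
    have : 4 ≤ v i * v i := by rw [← abs_mul_abs_self]; nlinarith
    omega
  have h3 : ∀ j, j ≠ i → v j = 0 := by
    intro j hj
    rw [← Finset.add_sum_erase _ _ (Finset.mem_univ i), h2, add_eq_left,
      Finset.sum_eq_zero_iff_of_nonneg fun j _ => mul_self_nonneg _] at hv
    exact mul_self_eq_zero.1 (hv j (Finset.mem_erase.2 ⟨hj, Finset.mem_univ _⟩))
  rw [Finset.sum_eq_single i (fun j _ hj => by rw [h3 j hj, zero_mul])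
    (fun h => absurd (Finset.mem_univ _) h)] at horth
  rcases mul_eq_zero.1 horth with h | h
  · rw [h] at h2; norm_num at h2
  · exact absurd h (by have := hx i; omega)

/-- A vector of norm three. -/
theorem exists_three {v : ι → ℤ} (hv : ∑ i, v i * v i = 3) :
    ∃ p : Fin 3 → ι, Function.Injective p ∧ (∀ i, v (p i) * v (p i) = 1) ∧
      ∀ j, (∀ i, p i ≠ j) → v j = 0 := by
  set S := Finset.univ.filter fun i => v i ≠ 0
  have h1 : ∀ i ∈ S, v i * v i = 1 := by
    intro i hi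
    have h := abs_le.1 (abs_le_one_of_three hv i)
    have h0 := (Finset.mem_filter.1 hi).2
    have : v i = 1 ∨ v i = -1 := by omega
    rcases this with e | e <;> rw [e] <;> norm_num
  have hS : S.card = 3 := by
    have : (S.card : ℤ) = 3 := by
      rw [← hv, Finset.card_eq_sum_ones, Nat.cast_sum, Finset.sum_filter]
      refine Finset.sum_congr rfl fun i _ => ?_
      split_ifs with h
      · rw [h1 i (Finset.mem_filter.2 ⟨Finset.mem_univ _, h⟩)]; simp
      · rw [not_not.1 h]; simp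
    exact_mod_cast this
  let e : Fin 3 ≃ S := (finCongr hS.symm).trans S.equivFin.symm
  refine ⟨fun i => (e i : ι), Subtype.val_injective.comp e.injective,
    fun i => h1 _ (e i).2, fun j hj => ?_⟩
  by_contra h
  exact hj (e.symm ⟨j, Finset.mem_filter.2 ⟨Finset.mem_univ _, h⟩⟩) (by simp)

/-- Splitting a sum along three points. -/
theorem sum_split {p : Fin 3 → ι} (hp : Function.Injective p) (f : ι → ℤ) :
    ∑ i, f i = ∑ i, f (p i) + ∑ j ∈ Finset.univ.filter (fun j => ∀ i, p i ≠ j), f j := by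
  rw [← Finset.sum_filter_add_sum_filter_not Finset.univ (fun j => ∀ i, p i ≠ j) f, add_comm]
  congr 1
  rw [← Finset.sum_image (f := f) (g := p) hp.injOn]
  refine Finset.sum_congr ?_ fun _ _ => rfl
  ext j
  simp

/-- Three integers of absolute value at most one with sum two. -/
theorem exists_zero {w : Fin 3 → ℤ} (hb : ∀ i, |w i| ≤ 1) (hw : ∑ i, w i = 2) :
    ∃ c, w c = 0 ∧ ∀ i, i ≠ c → w i = 1 := by
  rw [Fin.sum_univ_three] at hw
  have h0 := abs_le.1 (hb 0)
  have h1 := abs_le.1 (hb 1)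
  have h2 := abs_le.1 (hb 2)
  rcases (show (w 0 = 0 ∧ w 1 = 1 ∧ w 2 = 1) ∨ (w 1 = 0 ∧ w 0 = 1 ∧ w 2 = 1) ∨
      (w 2 = 0 ∧ w 0 = 1 ∧ w 1 = 1) by omega) with ⟨a, b, c⟩ | ⟨a, b, c⟩ | ⟨a, b, c⟩
  · exact ⟨0, a, fun i hi => by fin_cases i <;> simp_all⟩
  · exact ⟨1, a, fun i hi => by fin_cases i <;> simp_all⟩
  · exact ⟨2, a, fun i hi => by fin_cases i <;> simp_all⟩

theorem sum_alt (m : ℕ) : ∑ j ∈ Finset.Ico 2 (2 + 2 * m), (-1 : ℤ) ^ (j + 1) = 0 := by
  induction m with
  | zero => simp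
  | succ n ih =>
    rw [show 2 + 2 * (n + 1) = 2 + 2 * n + 1 + 1 by ring, Finset.sum_Ico_succ_top (by omega),
      Finset.sum_Ico_succ_top (by omega), ih, pow_succ _ (2 + 2 * n + 1)]
    ring

/-- The shape on the support of the first vector: either the values `1, 1, 2`, or, for four, the
values `3, -1, 2` with two equal signed degrees. -/
theorem exists_shape {h : ℕ} (hh : h = 2 ∨ h = 4 ∨ (8 ≤ h ∧ Even h)) {k : ℕ → ι → ℤ}
    {x : ι → ℕ} (hx : ∀ i, 0 < x i)
    (hself : ∀ j, 1 ≤ j → j < h → ∑ i, k j i * k j i = 3) (htop : ∑ i, k h i * k h i = 4)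
    (hdot : ∀ i j, 1 ≤ i → i ≤ h → 1 ≤ j → j ≤ h → i ≠ j → ∑ c, k i c * k j c = 2)
    (horth : ∀ j, 1 ≤ j → j ≤ h → ∑ i, k j i * (x i : ℤ) = 0) {m : ι → ℤ}
    (hm : ∀ i, m i = 2 * ∑ j ∈ Finset.Ico 1 h, (-1 : ℤ) ^ (j + 1) * k j i - k h i) :
    ∃ a b c : ι, (∀ f : ι → ℂ, ∑ i, (k 1 i : ℂ) * f i =
        (k 1 a : ℂ) * f a + (k 1 b : ℂ) * f b + (k 1 c : ℂ) * f c) ∧
      (k 1 a = 1 ∨ k 1 a = -1) ∧ (k 1 b = 1 ∨ k 1 b = -1) ∧ (k 1 c = 1 ∨ k 1 c = -1) ∧
      k 1 a * (x a : ℤ) + k 1 b * (x b : ℤ) + k 1 c * (x c : ℤ) = 0 ∧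
      m c = 2 * k 1 c ∧
      ((m a = k 1 a ∧ m b = k 1 b) ∨ (h = 4 ∧ m a = 3 * k 1 a ∧ m b = -k 1 b ∧
        k 1 a * (x a : ℤ) = k 1 b * (x b : ℤ))) := by
  obtain ⟨hh2, heven⟩ : 2 ≤ h ∧ Even h := by
    rcases hh with rfl | rfl | ⟨h8, he⟩
    exacts [⟨le_rfl, even_two⟩, ⟨by norm_num, ⟨2, rfl⟩⟩, ⟨by omega, he⟩]
  obtain ⟨p, hp, hp1, hp0⟩ := exists_three (hself 1 le_rfl (by omega))
  set s : Fin 3 → ℤ := fun i => k 1 (p i) with hs
  have hs1 : ∀ i, s i * s i = 1 := hp1
  set w : ℕ → Fin 3 → ℤ := fun j i => s i * k j (p i) with hw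
  have hb : ∀ j, 2 ≤ j → j ≤ h → ∀ i, |k j i| ≤ 1 := by
    intro j hj1 hj i
    rcases eq_or_lt_of_le hj with e | e
    · subst e; exact abs_le_one_of_four htop hx (horth j (by omega) le_rfl) i
    · exact abs_le_one_of_three (hself j (by omega) e) i
  have hin : ∀ j, 2 ≤ j → j ≤ h → ∑ i, w j i = 2 := by
    intro j hj1 hj
    rw [← hdot 1 j le_rfl (by omega) (by omega) hj (by omega), sum_split hp (fun c => k 1 c * k j c),
      Finset.sum_eq_zero (s := Finset.univ.filter _) fun c hc => by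
        rw [hp0 c (Finset.mem_filter.1 hc).2, zero_mul], add_zero]
  have hwb : ∀ j, 2 ≤ j → j ≤ h → ∀ i, |w j i| ≤ 1 := by
    intro j hj1 hj i
    have h1 : |s i| = 1 := by
      rcases mul_self_eq_one_iff.1 (hs1 i) with e | e <;> rw [e] <;> norm_num
    rw [hw, abs_mul, h1, one_mul]
    exact hb j hj1 hj _
  have hz : ∀ j, 2 ≤ j → j ≤ h → ∃ c, w j c = 0 ∧ ∀ i, i ≠ c → w j i = 1 :=
    fun j h1 h2 => exists_zero (hwb j h1 h2) (hin j h1 h2)
  choose! P hP0 hP1 using hz
  set out : Finset ι := Finset.univ.filter (fun c => ∀ i, p i ≠ c) with hout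
  have hdot' : ∀ i j, 2 ≤ i → i ≤ h → 2 ≤ j → j ≤ h → i ≠ j →
      ∑ e, w i e * w j e + ∑ c ∈ out, k i c * k j c = 2 := by
    intro i j h1 h2 h3 h4 hne
    rw [← hdot i j (by omega) h2 (by omega) h4 hne, sum_split hp (fun c => k i c * k j c)]
    congr 1
    refine Finset.sum_congr rfl fun e _ => ?_
    rw [hw]
    linear_combination (k i (p e) * k j (p e)) * hs1 e
  have hW : ∀ i j, 2 ≤ i → i ≤ h → 2 ≤ j → j ≤ h →
      ∑ e, w i e * w j e = if P i = P j then 2 else 1 := by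
    intro i j h1 h2 h3 h4
    have e1 : ∀ e, w i e * w j e = if e = P i ∨ e = P j then 0 else 1 := fun e => by
      by_cases a : e = P i
      · rw [if_pos (Or.inl a), a, hP0 i h1 h2, zero_mul]
      by_cases b : e = P j
      · rw [if_pos (Or.inr b), b, hP0 j h3 h4, mul_zero]
      rw [if_neg (not_or.2 ⟨a, b⟩), hP1 i h1 h2 e a, hP1 j h3 h4 e b, one_mul]
    simp only [e1, Fin.sum_univ_three]
    generalize P i = a
    generalize P j = b
    fin_cases a <;> fin_cases b <;> simp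
  -- the outside point of each vector of norm three
  have ho : ∀ j, 2 ≤ j → j < h → ∃ o ∈ out, k j o * k j o = 1 ∧
      ∀ c ∈ out, c ≠ o → k j c = 0 := by
    intro j h1 h2
    have e := hself j (by omega) h2
    rw [sum_split hp (fun c => k j c * k j c)] at e
    have e2 : ∑ i, k j (p i) * k j (p i) = 2 := by
      have := hW j j h1 h2.le h1 h2.le
      rw [if_pos rfl] at this
      rw [← this]
      refine Finset.sum_congr rfl fun i _ => ?_
      rw [hw]
      linear_combination (-(k j (p i) * k j (p i))) * hs1 i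
    have e3 : ∑ c ∈ out, k j c * k j c = 1 := by rw [hout]; omega
    obtain ⟨o, hoo, hone⟩ := Finset.exists_ne_zero_of_sum_ne_zero (by rw [e3]; norm_num)
    have h1 : 1 ≤ k j o * k j o := lt_of_le_of_ne (mul_self_nonneg _) (Ne.symm hone)
    have h4 := Finset.add_sum_erase out (fun c => k j c * k j c) hoo
    rw [e3] at h4
    have h5 : 0 ≤ ∑ c ∈ out.erase o, k j c * k j c :=
      Finset.sum_nonneg fun c _ => mul_self_nonneg _
    refine ⟨o, hoo, by omega, fun c hc hco => ?_⟩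
    have h6 : ∑ c ∈ out.erase o, k j c * k j c = 0 := by omega
    exact mul_self_eq_zero.1 ((Finset.sum_eq_zero_iff_of_nonneg fun c _ => mul_self_nonneg _).1 h6 c
      (Finset.mem_erase.2 ⟨hco, hc⟩))
  haveI : Nonempty ι := ⟨p 0⟩
  choose! o hoo ho1 ho0 using ho
  have hO : ∀ i, 2 ≤ i → i < h → ∀ g : ι → ℤ, ∑ c ∈ out, k i c * g c = k i (o i) * g (o i) :=
    fun i h1 h2 g => Finset.sum_eq_single (o i)
      (fun c hc hne => by rw [ho0 i h1 h2 c hc hne, zero_mul])
      (fun hn => absurd (hoo i h1 h2) hn)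
  have hsame : ∀ i j, 2 ≤ i → i < h → 2 ≤ j → j < h → i ≠ j →
      (P i = P j → o i ≠ o j) ∧ (P i ≠ P j → o i = o j) := by
    intro i j h1 h2 h3 h4 hne
    have e := hdot' i j h1 h2.le h3 h4.le hne
    rw [hW i j h1 h2.le h3 h4.le, hO i h1 h2] at e
    constructor
    · intro hP ho'
      rw [if_pos hP] at e
      rcases mul_eq_zero.1 (show k i (o i) * k j (o i) = 0 by omega) with z | z
      · have := ho1 i h1 h2; rw [z] at this; norm_num at this
      · have := ho1 j h3 h4; rw [← ho', z] at this; norm_num at this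
    · intro hP
      rw [if_neg hP] at e
      by_contra hne'
      rw [ho0 j h3 h4 (o i) (hoo i h1 h2) hne', mul_zero] at e
      omega
  -- the alternating sum on the support
  have hval : ∀ i : Fin 3, s i * m (p i) = 2 - w h i -
      2 * ∑ j ∈ (Finset.Ico 2 h).filter (fun j => P j = i), (-1 : ℤ) ^ (j + 1) := by
    intro i
    have e1 : ∀ j ∈ Finset.Ico 2 h, (-1 : ℤ) ^ (j + 1) * w j i =
        (-1 : ℤ) ^ (j + 1) - if P j = i then (-1 : ℤ) ^ (j + 1) else 0 := by
      intro j hj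
      have hj' := Finset.mem_Ico.1 hj
      split_ifs with e
      · rw [← e, hP0 j hj'.1 hj'.2.le]; ring
      · rw [hP1 j hj'.1 hj'.2.le i (Ne.symm e)]; ring
    obtain ⟨r, hr⟩ := heven
    have e2 : ∑ j ∈ Finset.Ico 2 h, (-1 : ℤ) ^ (j + 1) = 0 := by
      rw [show h = 2 + 2 * (r - 1) by omega]; exact sum_alt _
    have e3 : ∑ j ∈ Finset.Ico 2 h, (-1 : ℤ) ^ (j + 1) * w j i =
        -∑ j ∈ (Finset.Ico 2 h).filter (fun j => P j = i), (-1 : ℤ) ^ (j + 1) := by
      rw [Finset.sum_congr rfl e1, Finset.sum_sub_distrib, e2, zero_sub, Finset.sum_filter]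
    rw [hm, Finset.sum_eq_sum_Ico_succ_bot (by omega : 1 < h)]
    have e4 : ∑ j ∈ Finset.Ico (1 + 1) h, (-1 : ℤ) ^ (j + 1) * w j i =
        s i * ∑ j ∈ Finset.Ico (1 + 1) h, (-1 : ℤ) ^ (j + 1) * k j (p i) := by
      rw [Finset.mul_sum]
      exact Finset.sum_congr rfl fun j _ => by rw [hw]; ring
    rw [show (2 : ℕ) = 1 + 1 from rfl, e4] at e3
    have e5 : w h i = s i * k h (p i) := rfl
    have e6 : s i * k 1 (p i) = 1 := hs1 i
    linear_combination 2 * e3 + e5 + 2 * e6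
  have hsum : ∀ i i' i'' : Fin 3, i ≠ i' → i ≠ i'' → i' ≠ i'' → ∀ g : Fin 3 → ℤ,
      ∑ e, g e = g i + g i' + g i'' := by
    intro i i' i'' a b c g
    have hu : (Finset.univ : Finset (Fin 3)) = {i, i', i''} := by
      revert a b c
      revert i i' i''
      decide
    rw [hu, Finset.sum_insert (by simp [a, b]), Finset.sum_insert (by simp [c]), Finset.sum_singleton]
    ring
  have hfun : ∀ i i' i'' : Fin 3, i ≠ i' → i ≠ i'' → i' ≠ i'' → ∀ f : ι → ℂ,
      ∑ c, (k 1 c : ℂ) * f c = (s i : ℂ) * f (p i) + (s i' : ℂ) * f (p i') +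
        (s i'' : ℂ) * f (p i'') := by
    intro i i' i'' a b c f
    have hu : ({i, i', i''} : Finset (Fin 3)) = Finset.univ := by
      revert a b c
      revert i i' i''
      decide
    have : ∑ c, (k 1 c : ℂ) * f c = ∑ e, (k 1 (p e) : ℂ) * f (p e) := by
      rw [← Finset.sum_image (f := fun c => (k 1 c : ℂ) * f c) (g := p) hp.injOn]
      refine (Finset.sum_subset (Finset.subset_univ _) fun c _ hc => ?_).symm
      rw [hp0 c fun e he => hc (Finset.mem_image.2 ⟨e, Finset.mem_univ _, he⟩)]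
      simp
    rw [this, ← hu, Finset.sum_insert (by simp [a, b]), Finset.sum_insert (by simp [c]),
      Finset.sum_singleton, hs]
    ring
  have hsign : ∀ i, k 1 (p i) = 1 ∨ k 1 (p i) = -1 := fun i => mul_self_eq_one_iff.1 (hs1 i)
  have hdeg : ∀ i i' i'' : Fin 3, i ≠ i' → i ≠ i'' → i' ≠ i'' →
      s i * (x (p i) : ℤ) + s i' * (x (p i') : ℤ) + s i'' * (x (p i'') : ℤ) = 0 := by
    intro i i' i'' a b c
    have e := horth 1 le_rfl (by omega)
    rwa [sum_split hp (fun c => k 1 c * (x c : ℤ)),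
      Finset.sum_eq_zero (s := Finset.univ.filter _) fun c hc => by
        rw [hp0 c (Finset.mem_filter.1 hc).2, zero_mul],
      add_zero, hsum i i' i'' a b c] at e
  have hmul : ∀ i (v : ℤ), s i * m (p i) = v → m (p i) = v * k 1 (p i) := fun i v e => by
    rw [← e, hs]
    linear_combination (-(m (p i))) * hs1 i
  by_cases hall : ∀ i ∈ Finset.Ico 2 h, ∀ j ∈ Finset.Ico 2 h, P i = P j
  · -- all the zeros at one place
    have hD : ∀ i, ∑ j ∈ (Finset.Ico 2 h).filter (fun j => P j = i), (-1 : ℤ) ^ (j + 1) = 0 := by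
      intro i
      rcases ((Finset.Ico 2 h).filter (fun j => P j = i)).eq_empty_or_nonempty with e | ⟨j₀, hj₀⟩
      · rw [e, Finset.sum_empty]
      rw [Finset.filter_true_of_mem fun j hj => (hall j hj j₀ (Finset.mem_filter.1 hj₀).1).trans
        (Finset.mem_filter.1 hj₀).2]
      obtain ⟨r, hr⟩ := heven
      rw [show h = 2 + 2 * (r - 1) by omega]; exact sum_alt _
    obtain ⟨c, hc⟩ : ∃ c, P h = c := ⟨_, rfl⟩
    obtain ⟨i, i', hic, hi'c, hii'⟩ :=
      (by decide : ∀ c : Fin 3, ∃ i i', i ≠ c ∧ i' ≠ c ∧ i ≠ i') c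
    refine ⟨p i, p i', p c, hfun i i' c hii' hic hi'c, hsign _, hsign _, hsign _,
      hdeg i i' c hii' hic hi'c, hmul c 2 ?_, Or.inl ⟨?_, ?_⟩⟩
    · rw [hval, hD, ← hc, hP0 h hh2 le_rfl]; ring
    · have := hmul i 1 (by rw [hval, hD, hP1 h hh2 le_rfl i (hc ▸ hic)]; ring)
      rwa [one_mul] at this
    · have := hmul i' 1 (by rw [hval, hD, hP1 h hh2 le_rfl i' (hc ▸ hi'c)]; ring)
      rwa [one_mul] at this
  · -- two places: only possible for four
    push Not at hall
    obtain ⟨i₁, hi₁, i₂, hi₂, hne⟩ := hall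
    rw [Finset.mem_Ico] at hi₁ hi₂
    have hclass : ∀ j j' l, 2 ≤ j → j < h → 2 ≤ j' → j' < h → 2 ≤ l → l < h → j ≠ j' →
        P j = P j' → P l = P j := by
      intro j j' l a1 a2 b1 b2 c1 c2 hjj hP
      by_contra hl
      have e1 := (hsame j l a1 a2 c1 c2 (fun e => hl (by rw [e]))).2 (Ne.symm hl)
      have e2 := (hsame j' l b1 b2 c1 c2 (fun e => hl (by rw [hP, e]))).2
        (fun e => hl (e.symm.trans hP.symm))
      exact (hsame j j' a1 a2 b1 b2 hjj).1 hP (e1.trans e2.symm)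
    have h4 : h = 4 := by
      rcases hh with e | e | ⟨h8, -⟩
      · omega
      · exact e
      exfalso
      obtain ⟨a, b, hab, hPab⟩ := Fintype.exists_ne_map_eq_of_card_lt
        (fun n : Fin 4 => P (2 + n)) (by simp)
      have key := fun l (l1 : 2 ≤ l) (l2 : l < h) => hclass (2 + a) (2 + b) l (by omega)
        (by omega) (by omega) (by omega) l1 l2 (fun e => hab (Fin.ext (by omega))) hPab
      exact hne ((key i₁ hi₁.1 hi₁.2).trans (key i₂ hi₂.1 hi₂.2).symm)
    subst h4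
    have h23 : P 2 ≠ P 3 := by
      intro e
      have : ∀ i, 2 ≤ i → i < 4 → P i = P 2 := fun i a b => by
        rcases (show i = 2 ∨ i = 3 by omega) with rfl | rfl
        exacts [rfl, e.symm]
      exact hne ((this i₁ hi₁.1 hi₁.2).trans (this i₂ hi₂.1 hi₂.2).symm)
    have ho23 : o 2 = o 3 :=
      (hsame 2 3 le_rfl (by norm_num) (by norm_num) (by norm_num) (by norm_num)).2 h23
    have e23 := hdot' 2 3 le_rfl (by norm_num) (by norm_num) (by norm_num) (by norm_num)
    rw [hW 2 3 le_rfl (by norm_num) (by norm_num) (by norm_num), if_neg h23,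
      hO 2 le_rfl (by norm_num)] at e23
    have hk23 : k 2 (o 2) = k 3 (o 2) := by
      have a := ho1 2 le_rfl (by norm_num)
      have e : k 2 (o 2) * k 3 (o 2) = 1 := by omega
      linear_combination (k 3 (o 2)) * a - k 2 (o 2) * e
    have e24 := hdot' 2 4 le_rfl (by norm_num) (by norm_num) (by norm_num) (by norm_num)
    have e34 := hdot' 3 4 (by norm_num) (by norm_num) (by norm_num) (by norm_num) (by norm_num)
    rw [hW 2 4 le_rfl (by norm_num) (by norm_num) (by norm_num),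
      hO 2 le_rfl (by norm_num)] at e24
    rw [hW 3 4 (by norm_num) (by norm_num) (by norm_num) (by norm_num),
      hO 3 (by norm_num) (by norm_num), ← ho23, ← hk23] at e34
    have hP4 : P 2 ≠ P 4 ∧ P 3 ≠ P 4 := by
      constructor <;> intro e
      · rw [if_pos e] at e24
        rw [if_neg fun e' => h23 (e.trans e'.symm)] at e34
        omega
      · rw [if_pos e] at e34
        rw [if_neg fun e' => h23 (e'.trans e.symm)] at e24
        omega
    set i := P 2
    set i' := P 3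
    set c := P 4
    have hD : ∀ e, ∑ j ∈ (Finset.Ico 2 4).filter (fun j => P j = e), (-1 : ℤ) ^ (j + 1) =
        (if i = e then -1 else 0) + (if i' = e then 1 else 0) := by
      intro e
      rw [Finset.sum_filter, show Finset.Ico 2 4 = {2, 3} by decide,
        Finset.sum_pair (by norm_num)]
      norm_num [i, i']
    refine ⟨p i, p i', p c, hfun i i' c h23 hP4.1 hP4.2, hsign _, hsign _, hsign _,
      hdeg i i' c h23 hP4.1 hP4.2, hmul c 2 ?_, Or.inr ⟨rfl, hmul i 3 ?_, ?_, ?_⟩⟩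
    · rw [hval, hD, if_neg hP4.1, if_neg hP4.2, hP0 4 (by norm_num) le_rfl]; ring
    · rw [hval, hD, if_pos rfl, if_neg h23.symm, hP1 4 (by norm_num) le_rfl i hP4.1]; ring
    · have := hmul i' (-1) (by
        rw [hval, hD, if_neg h23, if_pos rfl, hP1 4 (by norm_num) le_rfl i' hP4.2]; ring)
      rwa [neg_one_mul] at this
    · have hv : ∀ j (j1 : 2 ≤ j) (j2 : j < 4) (a a' : Fin 3), P j = a → a' ≠ a → c ≠ a → a' ≠ c →
          s a' * (x (p a') : ℤ) + s c * (x (p c) : ℤ) + k j (o j) * (x (o j) : ℤ) = 0 := by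
        intro j j1 j2 a a' ha ha' hca ha'c
        have e := horth j (by omega) (by omega)
        rw [sum_split hp (fun c => k j c * (x c : ℤ)), hO j j1 j2 (fun c => (x c : ℤ)),
          hsum a a' c ha'.symm hca.symm ha'c] at e
        have v0 : k j (p a) = 0 := by
          have := hP0 j j1 (by omega)
          rw [ha] at this
          linear_combination (-(k j (p a))) * hs1 a + s a * this
        have v1 : ∀ b, b ≠ a → k j (p b) = s b := fun b hb => by
          have := hP1 j j1 (by omega) b (ha ▸ hb)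
          linear_combination (-(k j (p b))) * hs1 b + s b * this
        rw [v0, v1 a' ha', v1 c hca] at e
        linear_combination e
      have a2 := hv 2 le_rfl (by norm_num) i i' rfl h23.symm hP4.1.symm hP4.2
      have a3 := hv 3 (by norm_num) (by norm_num) i' i rfl h23 hP4.2.symm hP4.1
      rw [← ho23, ← hk23] at a3
      show s i * (x (p i) : ℤ) = s i' * (x (p i') : ℤ)
      linear_combination a3 - a2

theorem rat_bound {a c : ℚ} (ha : 7 ≤ a) (hc : c = 10 ∨ 14 ≤ c) :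
    1 / a - 1 / (a + c) + 4 / c < 8 / 15 := by
  rcases hc with rfl | hc
  · have e : 1 / a - 1 / (a + 10) = 10 / (a * (a + 10)) := by field_simp; ring
    have : 10 / (a * (a + 10)) ≤ (10 : ℚ) / 119 := by
      refine div_le_div_of_nonneg_left (by norm_num) (by norm_num) ?_
      nlinarith
    rw [e]
    linarith
  · have h1 : 1 / a ≤ (1 : ℚ) / 7 := by gcongr
    have h2 : 4 / c ≤ (4 : ℚ) / 14 := by gcongr
    have h3 : 0 < 1 / (a + c) := by positivity
    linarith

/-- The conclusion of the lattice argument. -/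
theorem exists_small {h : ℕ} (hh : h = 2 ∨ h = 4 ∨ (8 ≤ h ∧ Even h)) {k : ℕ → ι → ℤ}
    {x : ι → ℕ} (hx : ∀ i, 0 < x i)
    (hself : ∀ j, 1 ≤ j → j < h → ∑ i, k j i * k j i = 3) (htop : ∑ i, k h i * k h i = 4)
    (hdot : ∀ i j, 1 ≤ i → i ≤ h → 1 ≤ j → j ≤ h → i ≠ j → ∑ c, k i c * k j c = 2)
    (horth : ∀ j, 1 ≤ j → j ≤ h → ∑ i, k j i * (x i : ℤ) = 0) {m : ι → ℤ}
    (hm : ∀ i, m i = 2 * ∑ j ∈ Finset.Ico 1 h, (-1 : ℤ) ^ (j + 1) * k j i - k h i)
    (hmod : ∀ i, m i ≠ 0 → (4 : ℤ) ∣ (x i : ℤ) - m i)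
    {T : ι → ℂ} (hT : ∀ i, m i ≠ 0 → T i = (m i : ℂ)) {R : ℚ}
    (hR : ∑ i, (k 1 i : ℂ) * (T i ^ 2 / (x i : ℂ)) = (R : ℂ))
    {f : ℕ} {δ : ℤ} (hδ : δ = 1 ∨ δ = -1) (hf : 5 ≤ f) (h7 : δ = -1 → 7 ≤ f)
    (hdvd : (2 * h : ℤ) ∣ (f : ℤ) - δ)
    (hRf : R * ((f : ℚ) * ((f : ℚ) + δ)) = ((f : ℚ) - δ) ^ 2) :
    ∃ i, m i ≠ 0 ∧ (x i : ℤ) ≤ |m i| + 5 := by
  have hRlow : 8 / 15 ≤ R := by
    have h5 : (5 : ℚ) ≤ f := by exact_mod_cast hf
    have hpos : 0 < (f : ℚ) * ((f : ℚ) + δ) := by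
      rcases hδ with rfl | rfl <;> push_cast <;> nlinarith
    refine le_of_mul_le_mul_right ?_ hpos
    rw [hRf]
    rcases hδ with rfl | rfl
    · push_cast; nlinarith
    · have : (7 : ℚ) ≤ f := by exact_mod_cast h7 rfl
      push_cast; nlinarith
  obtain ⟨a, b, c, hsum, ha, hb, hc, hdeg, hmc, hcase⟩ :=
    exists_shape hh hx hself htop hdot horth hm
  by_contra hno
  push Not at hno
  have hxpos : ∀ i, (0 : ℚ) < (x i : ℚ) := fun i => by exact_mod_cast hx i
  have hmne : m a ≠ 0 ∧ m b ≠ 0 ∧ m c ≠ 0 := by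
    rcases hcase with ⟨e1, e2⟩ | ⟨-, e1, e2, -⟩ <;> rw [e1, e2, hmc] <;>
      rcases ha with ha | ha <;> rcases hb with hb | hb <;> rcases hc with hc | hc <;>
      rw [ha, hb, hc] <;> norm_num
  obtain ⟨hma, hmb, hmc0⟩ := hmne
  have hRval : R = (k 1 a : ℚ) * ((m a : ℚ) ^ 2 / (x a : ℚ)) +
      (k 1 b : ℚ) * ((m b : ℚ) ^ 2 / (x b : ℚ)) + (k 1 c : ℚ) * ((m c : ℚ) ^ 2 / (x c : ℚ)) := by
    have e := hR
    rw [hsum, hT a hma, hT b hmb, hT c hmc0] at e
    have e2 : (R : ℂ) = (((k 1 a : ℚ) * ((m a : ℚ) ^ 2 / (x a : ℚ)) +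
      (k 1 b : ℚ) * ((m b : ℚ) ^ 2 / (x b : ℚ)) +
      (k 1 c : ℚ) * ((m c : ℚ) ^ 2 / (x c : ℚ)) : ℚ) : ℂ) := by rw [← e]; push_cast; ring
    exact_mod_cast e2
  have la := hno a hma
  have lb := hno b hmb
  have lc := hno c hmc0
  rw [hmc] at lc
  have dc := hmod c hmc0
  rw [hmc] at dc
  rcases hcase with ⟨e1, e2⟩ | ⟨h4, e1, e2, heq⟩
  · rw [e1] at la
    rw [e2] at lb
    rw [e1, e2, hmc] at hRval
    have hc10 : (x c : ℤ) = 10 ∨ 14 ≤ (x c : ℤ) := by
      rcases hc with hc | hc <;> rw [hc] at lc dc <;> norm_num at lc <;> omega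
    have hc10' : (x c : ℚ) = 10 ∨ 14 ≤ (x c : ℚ) := by
      rcases hc10 with e | e
      · left; exact_mod_cast e
      · right; exact_mod_cast e
    have ha7 : (7 : ℚ) ≤ x a := by
      have : (7 : ℤ) ≤ x a := by rcases ha with ha | ha <;> rw [ha] at la <;> norm_num at la <;> omega
      exact_mod_cast this
    have hb7 : (7 : ℚ) ≤ x b := by
      have : (7 : ℤ) ≤ x b := by rcases hb with hb | hb <;> rw [hb] at lb <;> norm_num at lb <;> omega
      exact_mod_cast this
    have hc' : (10 : ℚ) ≤ x c := by rcases hc10' with e | e <;> linarith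
    have ia : 1 / (x a : ℚ) ≤ 1 / 7 := by gcongr
    have ib : 1 / (x b : ℚ) ≤ 1 / 7 := by gcongr
    have ic : 4 / (x c : ℚ) ≤ 4 / 10 := by gcongr
    have pa : 0 < (x a : ℚ)⁻¹ := inv_pos.2 (hxpos a)
    have pb : 0 < (x b : ℚ)⁻¹ := inv_pos.2 (hxpos b)
    have pc : 0 < 4 / (x c : ℚ) := by have := hxpos c; positivity
    have hdegQ : (k 1 a : ℚ) * x a + (k 1 b : ℚ) * x b + (k 1 c : ℚ) * x c = 0 := by
      exact_mod_cast hdeg
    have key1 := rat_bound ha7 hc10'
    have key2 := rat_bound hb7 hc10'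
    rcases ha with ha | ha <;> rcases hb with hb | hb <;> rcases hc with hc | hc <;>
      rw [ha, hb, hc] at hRval hdegQ <;>
      norm_num at hRval hdegQ ia ib ic key1 key2 <;>
      first
        | linarith
        | (rw [show (x a : ℚ) + x c = x b by linarith] at key1; linarith)
        | (rw [show (x b : ℚ) + x c = x a by linarith] at key2; linarith)
  · subst h4
    have dA := hmod a hma
    rw [e1] at la dA
    rw [e1, e2, hmc] at hRval
    have hxa : (x b : ℤ) = x a ∧ k 1 b = k 1 a := by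
      have := hx a; have := hx b
      rcases ha with ha | ha <;> rcases hb with hb | hb <;> rw [ha, hb] at heq ⊢ <;> omega
    have hcc : k 1 c = -k 1 a ∧ (x c : ℤ) = 2 * x a := by
      have := hx a; have := hx c
      rw [hxa.1, hxa.2] at hdeg
      rcases ha with ha | ha <;> rcases hc with hc | hc <;> rw [ha, hc] at hdeg ⊢ <;> omega
    have q1 : (x b : ℚ) = x a := by exact_mod_cast hxa.1
    have q2 : (x c : ℚ) = 2 * x a := by exact_mod_cast hcc.2
    rw [hxa.2, hcc.1, q1, q2] at hRval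
    have hpa := hxpos a
    have hR8 : R * x a = 8 * (k 1 a : ℚ) := by
      rcases ha with ha | ha <;> rw [hRval, ha] <;> field_simp <;> push_cast <;> ring
    have hka : k 1 a = 1 := by
      rcases ha with e | e
      · exact e
      · rw [e] at hR8; push_cast at hR8; nlinarith
    rw [hka] at hR8 la dA
    norm_num at la hR8
    have hx15 : x a ≤ 15 := by
      have : (x a : ℚ) ≤ 15 := by nlinarith
      exact_mod_cast this
    have key : (8 : ℤ) * f * (f + δ) = x a * ((f : ℤ) - δ) ^ 2 := by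
      have : (8 : ℚ) * f * (f + δ) = x a * ((f : ℚ) - δ) ^ 2 := by
        rw [← hRf]; linear_combination (-((f : ℚ) * ((f : ℚ) + δ))) * hR8
      exact_mod_cast this
    obtain ⟨y, hy⟩ := hdvd
    have hfy : (f : ℤ) = δ + 8 * y := by push_cast at hy; omega
    rw [hfy] at key
    have hx' : x a = 11 ∨ x a = 15 := by omega
    have hy0 : 0 < y := by rcases hδ with rfl | rfl <;> omega
    rcases hx' with e | e <;> rw [e] at key <;> rcases hδ with rfl | rfl <;> push_cast at key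
    all_goals
      have hy1 : y ≤ 1 := by nlinarith
      have : y = 1 := by omega
      subst this
      norm_num at key

end CfsgLib.GW.ThetaLattice
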