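import Cfsg.Agent.Lib.GW.ThetaCore

/-!
Gorenstein–Walter, characters: the integral vectors `k_j = N_0 - N_j`, their inner products, their
combination `Phi(t)` and the weighted sum against `χ(t)^2 / χ(1)`.
-/

set_option autoImplicit false
set_option linter.style.haveILetI false
set_option linter.unusedSectionVars false

namespace CfsgLib.GW.ThetaCore

open Subgroup Cfsg CfsgLib.Characters CfsgLib.GW.ThetaRot
open scoped Classical ComplexConjugate

universe u

variable {G : Type u} [Group G] [Fintype G] (E : Setup G) {θ : E.U →* ℂˣ}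
  (hS : ∀ s (hs : s ∈ (E.S : Subgroup G)) (x : E.U),
    θ ⟨s * x * s⁻¹, E.conj_mem_U (E.S_le_H hs) x.2⟩ = θ x)

/-- The multiplicity of `θ ⊗ ζ^l` in the restriction to `UR`. -/
noncomputable def NN (χ : IrrCharacter G) (l : ZMod (q E)) : ℤ :=
  ((exists_mult E hS χ l).choose : ℤ)

theorem NN_spec (χ : IrrCharacter G) (l : ZMod (q E)) :
    (q E : ℂ) * (NN E hS χ l : ℂ) = ∑ a, ψ E (-(a * l)) * Phi E θ χ (rz E a) := by
  rw [← (exists_mult E hS χ l).choose_spec]
  simp [NN]

/-- The vector `k_j`. -/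
noncomputable def K (χ : IrrCharacter G) (j : ZMod (q E)) : ℤ := NN E hS χ 0 - NN E hS χ j

theorem K_spec (χ : IrrCharacter G) (j : ZMod (q E)) :
    (q E : ℂ) * (K E hS χ j : ℂ) = ∑ a, (1 - ψ E (-(a * j))) * Phi E θ χ (rz E a) := by
  rw [K, Int.cast_sub, mul_sub, NN_spec, NN_spec, ← Finset.sum_sub_distrib]
  refine Finset.sum_congr rfl fun a _ => ?_
  rw [mul_zero, neg_zero, AddChar.map_zero_eq_one, sub_mul]

theorem K_zero (χ : IrrCharacter G) : K E hS χ 0 = 0 := sub_self _

theorem q_ne_zero : (q E : ℂ) ≠ 0 := Nat.cast_ne_zero.2 (Nat.two_pow_pos _).ne'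

theorem K_neg (χ : IrrCharacter G) (j : ZMod (q E)) : K E hS χ (-j) = K E hS χ j := by
  have h : (q E : ℂ) * (K E hS χ (-j) : ℂ) = (q E : ℂ) * (K E hS χ j : ℂ) := by
    rw [K_spec, K_spec]
    refine Fintype.sum_equiv (Equiv.neg _) _ _ fun a => ?_
    simp only [Equiv.neg_apply, Phi_neg E hS, mul_neg, neg_mul, neg_neg]
  exact_mod_cast mul_left_cancel₀ (q_ne_zero E) h

theorem sum_psi (b : ZMod (q E)) :
    ∑ x, ψ E (x * b) = if b = 0 then (q E : ℂ) else 0 := by
  rw [AddChar.sum_mulShift b (ZMod.isPrimitive_stdAddChar _), ZMod.card]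
  split_ifs <;> simp

theorem sum_psi_neg (b : ZMod (q E)) :
    ∑ x, ψ E (-(x * b)) = if b = 0 then (q E : ℂ) else 0 := by
  simp only [← mul_neg, sum_psi, neg_eq_zero]

/-- The Gram matrix. -/
theorem sum_K_mul (i j : ZMod (q E)) (hi : i ≠ 0) (hj : j ≠ 0) :
    ∑ χ : IrrCharacter G, K E hS χ i * K E hS χ j =
      2 + (if i = j then 1 else 0) + (if i = -j then 1 else 0) := by
  have e : (q E : ℂ) ^ 2 * ∑ χ : IrrCharacter G, (K E hS χ i : ℂ) * (K E hS χ j : ℂ) =
      (q E : ℂ) ^ 2 * (2 + (if i = j then 1 else 0) + (if i = -j then 1 else 0)) := by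
    have h1 : ∀ χ : IrrCharacter G, (q E : ℂ) ^ 2 * ((K E hS χ i : ℂ) * (K E hS χ j : ℂ)) =
        ∑ a, ∑ b, ((1 - ψ E (-(a * i))) * (1 - ψ E (b * j))) *
          (Phi E θ χ (rz E a) * conj (Phi E θ χ (rz E b))) := by
      intro χ
      rw [show (q E : ℂ) ^ 2 * ((K E hS χ i : ℂ) * (K E hS χ j : ℂ)) =
        ((q E : ℂ) * (K E hS χ i : ℂ)) * conj ((q E : ℂ) * (K E hS χ j : ℂ)) by
          rw [map_mul, map_natCast, map_intCast]; ring, K_spec, K_spec, map_sum, Finset.sum_mul_sum]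
      refine Finset.sum_congr rfl fun a _ => Finset.sum_congr rfl fun b _ => ?_
      rw [map_mul, map_sub, map_one, ← AddChar.map_neg_eq_conj, neg_neg]
      ring
    have h2 : ∀ a b, ((1 - ψ E (-(a * i))) * (1 - ψ E (b * j))) *
        ∑ χ : IrrCharacter G, Phi E θ χ (rz E a) * conj (Phi E θ χ (rz E b)) =
        ((1 - ψ E (-(a * i))) * (1 - ψ E (b * j))) *
          (q E * ((if a = b then 1 else 0) + (if a = -b then 1 else 0))) := by
      intro a b
      by_cases ha : a = 0
      · simp [ha, AddChar.map_zero_eq_one]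
      by_cases hb : b = 0
      · simp [hb, AddChar.map_zero_eq_one]
      rw [sum_Phi_mul E hS a b ha hb]
    have h3 : ∀ a, ∑ b, ((1 - ψ E (-(a * i))) * (1 - ψ E (b * j))) *
        (q E * ((if a = b then 1 else 0) + (if a = -b then 1 else 0))) =
        (q E : ℂ) * (2 - ψ E (a * j) - ψ E (a * -j) - 2 * ψ E (-(a * i)) +
          ψ E (a * (j - i)) + ψ E (-(a * (i + j)))) := by
      intro a
      simp only [mul_add, Finset.sum_add_distrib, mul_ite, mul_one, mul_zero, eq_neg_iff_add_eq_zero]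
      rw [Finset.sum_ite_eq, if_pos (Finset.mem_univ _), Finset.sum_eq_single (-a)
        (fun b _ hb => if_neg fun h => hb (eq_neg_of_add_eq_zero_right h))
        (fun h => absurd (Finset.mem_univ _) h), if_pos (add_neg_cancel a)]
      rw [show a * (j - i) = -(a * i) + a * j by ring,
        show -(a * i + a * j) = -(a * i) + -(a * j) by ring,
        AddChar.map_add_eq_mul, AddChar.map_add_eq_mul, show a * -j = -(a * j) by ring,
        show -a * j = -(a * j) by ring]
      ring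
    rw [Finset.mul_sum, Finset.sum_congr rfl fun χ _ => h1 χ, Finset.sum_comm]
    rw [Finset.sum_congr rfl fun a _ => Finset.sum_comm (γ := IrrCharacter G)]
    simp only [← Finset.mul_sum]
    rw [Finset.sum_congr rfl fun a _ =>
      (Finset.sum_congr rfl fun b _ => h2 a b).trans (h3 a), ← Finset.mul_sum]
    simp only [Finset.sum_add_distrib, Finset.sum_sub_distrib, ← Finset.mul_sum, sum_psi, sum_psi_neg,
      Finset.sum_const, Finset.card_univ, ZMod.card, nsmul_eq_mul, if_neg hi, if_neg hj,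
      if_neg (neg_ne_zero.2 hj), sub_eq_zero, add_eq_zero_iff_eq_neg]
    simp only [eq_comm (a := j) (b := i)]
    split_ifs <;> ring
  have := mul_left_cancel₀ (pow_ne_zero 2 (q_ne_zero E)) e
  exact_mod_cast this

theorem sum_K_degree (j : ZMod (q E)) :
    ∑ χ : IrrCharacter G, (K E hS χ j : ℂ) * (χ : G → ℂ) 1 = 0 := by
  refine mul_left_cancel₀ (q_ne_zero E) ?_
  rw [mul_zero, Finset.mul_sum]
  simp only [← mul_assoc, K_spec, Finset.sum_mul]
  rw [Finset.sum_comm]
  refine Finset.sum_eq_zero fun a _ => ?_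
  by_cases ha : a = 0
  · simp [ha, AddChar.map_zero_eq_one]
  · simp only [mul_assoc, ← Finset.mul_sum, sum_Phi_degree E hS a ha, mul_zero]

include hS in
theorem Phi_principal (hθ : θ ≠ 1) {χ : IrrCharacter G} (hχ : (χ : G → ℂ) = fun _ => 1) (s : G) :
    Phi E θ χ s = 0 := by
  obtain ⟨w, hw⟩ : ∃ w, θ w ≠ 1 := by
    by_contra h
    push Not at h
    exact hθ (MonoidHom.ext h)
  rw [Phi, hχ]
  simp only [mul_one]
  have h1 : ∑ v : E.U, ((θ v : ℂˣ) : ℂ) = 0 := by
    have e : ((θ w : ℂˣ) : ℂ) * ∑ v : E.U, ((θ v : ℂˣ) : ℂ) = ∑ v : E.U, ((θ v : ℂˣ) : ℂ) := by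
      rw [Finset.mul_sum]
      exact Fintype.sum_equiv (Equiv.mulLeft w) _ _ fun v => by simp
    exact (mul_left_eq_self₀.1 e).resolve_left fun h => hw (Units.ext h)
  rw [← map_sum, h1, map_zero, mul_zero]

theorem K_principal (hθ : θ ≠ 1) {χ : IrrCharacter G} (hχ : (χ : G → ℂ) = fun _ => 1)
    (j : ZMod (q E)) : K E hS χ j = 0 := by
  have h := K_spec E hS χ j
  simp only [Phi_principal E hS hθ hχ, mul_zero, Finset.sum_const_zero] at h
  exact_mod_cast (mul_eq_zero.1 h).resolve_left (q_ne_zero E)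

theorem psi_hz : ψ E (hz E) = -1 := by
  have h2 : hz E + hz E = 0 := rz_injective E (by rw [rz_add, rz_hz, E.t_sq, rz_zero])
  have hsq : ψ E (hz E) * ψ E (hz E) = 1 := by
    rw [← AddChar.map_add_eq_mul, h2, AddChar.map_zero_eq_one]
  refine (mul_self_eq_one_iff.1 hsq).resolve_left fun h => hz_ne_zero E ?_
  exact ZMod.injective_stdAddChar (h.trans (AddChar.map_zero_eq_one _).symm)

theorem psi_hz_mul (a : ZMod (q E)) : ψ E (a * hz E) = (-1) ^ a.val := by
  conv_lhs => rw [← ZMod.natCast_zmod_val a, ← nsmul_eq_mul, AddChar.map_nsmul_eq_pow, psi_hz]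

/-- The value at the central involution. -/
theorem Phi_hz (χ : IrrCharacter G) :
    Phi E θ χ E.t = ((-∑ l : ZMod (q E), (-1) ^ l.val * K E hS χ l : ℤ) : ℂ) := by
  refine mul_left_cancel₀ (q_ne_zero E) ?_
  simp only [Int.cast_neg, Int.cast_sum, Int.cast_mul, Int.cast_pow, Int.cast_one]
  rw [mul_neg, Finset.mul_sum, ← Finset.sum_neg_distrib]
  have h : ∀ l : ZMod (q E), -((q E : ℂ) * ((-1) ^ l.val * (K E hS χ l : ℂ))) =
      ∑ a, (ψ E (l * (hz E - a)) - ψ E (l * hz E)) * Phi E θ χ (rz E a) := by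
    intro l
    rw [← psi_hz_mul, mul_left_comm, K_spec, Finset.mul_sum, ← Finset.sum_neg_distrib]
    refine Finset.sum_congr rfl fun a _ => ?_
    rw [show l * (hz E - a) = l * hz E + -(a * l) by ring, AddChar.map_add_eq_mul]
    ring
  rw [Finset.sum_congr rfl fun l _ => h l, Finset.sum_comm]
  simp only [← Finset.sum_mul, Finset.sum_sub_distrib, sum_psi, hz_ne_zero, if_false, sub_zero,
    sub_eq_zero, ite_mul, zero_mul, Finset.sum_ite_eq, Finset.mem_univ, if_true, rz_hz]

/-- The weighted sum against `χ(t)²/χ(1)`. -/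
theorem sum_K_one :
    ∑ χ : IrrCharacter G, (K E hS χ 1 : ℂ) * ((χ : G → ℂ) E.t) ^ 2 / (χ : G → ℂ) 1 =
      (q E : ℂ) ^ 3 * (Nat.card E.U : ℂ) ^ 3 * (1 / (Nat.card (E.X E.d.a) : ℂ) +
        1 / (Nat.card (E.X (E.d.r * E.d.a)) : ℂ)) ^ 2 / (Nat.card G : ℂ) := by
  set u : ℂ := (Nat.card E.U : ℂ) with hu_def
  set x₁ : ℂ := (Nat.card (E.X E.d.a) : ℂ)
  set x₂ : ℂ := (Nat.card (E.X (E.d.r * E.d.a)) : ℂ)
  set Hc : ℂ := (Nat.card (centralizer ({E.t} : Set G)) : ℂ)
  set N : ℂ := (Nat.card G : ℂ)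
  have hu : u ≠ 0 := Nat.cast_ne_zero.2 Nat.card_pos.ne'
  have hN : N ≠ 0 := Nat.cast_ne_zero.2 Nat.card_pos.ne'
  have hH : Hc = u * (2 * (q E : ℂ)) := by
    show (Nat.card E.H : ℂ) = _
    rw [E.card_H, E.card_S, Nat.cast_mul, hu_def, show q E = 2 ^ (E.d.k + 1) from rfl]
    push_cast
    ring
  set α : ℂ := u / 2 * (1 / x₁ + 1 / x₂) with hα
  set β : ℂ := u / 2 * (1 / x₁ - 1 / x₂) with hβ
  have hn : ∀ i : ZMod (q E), ((invs E i).card : ℂ) = α + β * ψ E (i * hz E) := by
    intro i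
    have h := congrArg (fun n : ℕ => (n : ℂ)) (card_invs E i)
    simp only [Nat.cast_mul, card_X_refl E i] at h
    have hne : ((if Even i.val then Nat.card (E.X E.d.a)
        else Nat.card (E.X (E.d.r * E.d.a)) : ℕ) : ℂ) ≠ 0 := by
      split_ifs <;> exact Nat.cast_ne_zero.2 Nat.card_pos.ne'
    rw [eq_div_of_mul_eq hne h, psi_hz_mul, hα, hβ]
    by_cases he : Even i.val
    · rw [if_pos he, he.neg_one_pow]; ring
    · rw [if_neg he, (Nat.not_even_iff_odd.1 he).neg_one_pow]; ring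
  have hz2 : ∀ x : ZMod (q E), ψ E (x * hz E) * ψ E (x * hz E) = 1 := fun x => by
    rw [psi_hz_mul, ← mul_pow, neg_one_mul, neg_neg, one_pow]
  have hsum : ∀ a : ZMod (q E), ∑ i, ((invs E i).card : ℂ) * ((invs E (i + a)).card : ℂ) =
      (q E : ℂ) * α ^ 2 + (q E : ℂ) * β ^ 2 * ψ E (a * hz E) := by
    intro a
    have e : ∀ i : ZMod (q E), ((invs E i).card : ℂ) * ((invs E (i + a)).card : ℂ) =
        α ^ 2 + α * β * (1 + ψ E (a * hz E)) * ψ E (i * hz E) + β ^ 2 * ψ E (a * hz E) := fun i => by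
      rw [hn, hn, add_mul i, AddChar.map_add_eq_mul]
      linear_combination (β ^ 2 * ψ E (a * hz E)) * hz2 i
    simp only [e, Finset.sum_add_distrib, Finset.sum_const, Finset.card_univ, ZMod.card,
      nsmul_eq_mul, ← Finset.mul_sum, sum_psi, hz_ne_zero, if_false]
    ring
  have hT : ∀ a : ZMod (q E), a ≠ 0 →
      ∑ χ : IrrCharacter G, Phi E θ χ (rz E a) * (((χ : G → ℂ) E.t) ^ 2 / (χ : G → ℂ) 1) =
        Hc ^ 2 / (u * N) * ((q E : ℂ) * α ^ 2 + (q E : ℂ) * β ^ 2 * ψ E (a * hz E)) := by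
    intro a ha
    rw [← hsum]
    have hP : ∀ v : E.U, ((CfsgLib.ClassCount.pairs E.t E.t
        {((v : G) * rz E a)⁻¹}).card : ℂ) * Hc ^ 2 / N =
        ∑ χ : IrrCharacter G, (χ : G → ℂ) ((v : G) * rz E a) *
          (((χ : G → ℂ) E.t) ^ 2 / (χ : G → ℂ) 1) := by
      intro v
      rw [show ((CfsgLib.ClassCount.pairs E.t E.t {((v : G) * rz E a)⁻¹}).card : ℂ) * Hc ^ 2 =
        ((CfsgLib.ClassCount.pairs E.t E.t {((v : G) * rz E a)⁻¹}).card : ℂ) * Hc * Hc by ring,
        CfsgLib.ClassCount.card_pairs_mul_centralizers, Finset.sum_div]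
      refine Finset.sum_congr rfl fun χ _ => ?_
      rw [Finset.sum_singleton, inv_inv, ← CfsgLib.ClassCount.card_div_degree]
      have := irr_one_ne_zero χ
      field_simp
      ring
    have hwt : ∀ v : E.U, conj ((θ v : ℂˣ) : ℂ) * ((CfsgLib.ClassCount.pairs E.t E.t
        {((v : G) * rz E a)⁻¹}).card : ℂ) =
        ((CfsgLib.ClassCount.pairs E.t E.t {((v : G) * rz E a)⁻¹}).card : ℂ) := by
      intro v
      rcases (CfsgLib.ClassCount.pairs E.t E.t
        {((v : G) * rz E a)⁻¹}).eq_empty_or_nonempty with he | ⟨p, hp⟩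
      · rw [he]; simp
      suffices hv : θ v = 1 by rw [hv, Units.val_one, map_one, one_mul]
      have hp' : p ∈ CfsgLib.ClassCount.pairs E.t E.t (target E a) := by
        simp only [CfsgLib.ClassCount.pairs, Finset.mem_filter, Finset.mem_singleton] at hp ⊢
        exact ⟨hp.1, Finset.mem_image.2 ⟨v, Finset.mem_univ _, hp.2.symm⟩⟩
      have hp2 : p.1 * p.2 = ((v : G) * rz E a)⁻¹ := by
        simp only [CfsgLib.ClassCount.pairs, Finset.mem_filter, Finset.mem_singleton] at hp
        exact hp.2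
      have hxH : ∃ i, p.1 ∈ invs E i ∧ p.2 ∈ invs E (i + a) := by
        have hc := card_pairs E a ha
        have hsub : (Finset.univ.biUnion fun i => invs E i ×ˢ invs E (i + a)) =
            CfsgLib.ClassCount.pairs E.t E.t (target E a) := by
          refine Finset.eq_of_subset_of_card_le ?_ ?_
          · rintro ⟨x, w⟩ hxw
            obtain ⟨i, -, hi⟩ := Finset.mem_biUnion.1 hxw
            obtain ⟨hx, hw⟩ := Finset.mem_product.1 hi
            obtain ⟨hx2, y, hy, rfl⟩ := (mem_invs E).1 hx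
            obtain ⟨hw2, y', hy', rfl⟩ := (mem_invs E).1 hw
            simp only [CfsgLib.ClassCount.pairs, Finset.mem_filter, Finset.mem_product,
              CfsgLib.ClassCount.mem_cls, target, Finset.mem_image]
            refine ⟨⟨isConj_iff.2 (E.exists_conj hx2), isConj_iff.2 (E.exists_conj hw2)⟩,
              ⟨y' * (refl E (i + a) * y * (refl E (i + a))⁻¹),
                mul_mem hy' (E.conj_mem_U (refl_isRefl E _).mem_H hy)⟩, Finset.mem_univ _, ?_⟩
            have hxi := inv_eq_of_mul_eq_one_right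
              (CfsgLib.Involutions.orderOf_eq_two_iff_mul.1 hx2).2
            have hwi := inv_eq_of_mul_eq_one_right
              (CfsgLib.Involutions.orderOf_eq_two_iff_mul.1 hw2).2
            show (y' * (refl E (i + a) * y * (refl E (i + a))⁻¹) * rz E a)⁻¹ =
              y * refl E i * (y' * refl E (i + a))
            rw [inv_eq_iff_eq_inv, mul_inv_rev, hxi, hwi,
              show rz E a = refl E (i + a) * refl E i by rw [refl_mul_refl', add_sub_cancel_left]]
            group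
          · rw [hc, Finset.card_biUnion ?_]
            · simp [Finset.card_product]
            · intro i _ j _ hij
              refine Finset.disjoint_left.2 fun ⟨x, w⟩ h h' => hij ?_
              obtain ⟨-, y, hy, e⟩ := (mem_invs E).1 (Finset.mem_product.1 h).1
              obtain ⟨-, y', hy', e'⟩ := (mem_invs E).1 (Finset.mem_product.1 h').1
              exact refl_injective E (E.mul_inj hy hy' (refl_isRefl E i).1 (refl_isRefl E j).1
                (e.symm.trans e')).2
        rw [← hsub] at hp'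
        obtain ⟨i, -, hi⟩ := Finset.mem_biUnion.1 hp'
        exact ⟨i, Finset.mem_product.1 hi⟩
      obtain ⟨i, hx, hw⟩ := hxH
      obtain ⟨hx2, y, hy, ey⟩ := (mem_invs E).1 hx
      obtain ⟨hw2, y', hy', ey'⟩ := (mem_invs E).1 hw
      have hθy := theta_of_invs E hS (i := i) (v := ⟨y, hy⟩) (by rw [← ey]; exact hx)
      have hθy' := theta_of_invs E hS (i := i + a) (v := ⟨y', hy'⟩) (by rw [← ey']; exact hw)
      have hxi := inv_eq_of_mul_eq_one_right (CfsgLib.Involutions.orderOf_eq_two_iff_mul.1 hx2).2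
      have hwi := inv_eq_of_mul_eq_one_right (CfsgLib.Involutions.orderOf_eq_two_iff_mul.1 hw2).2
      have hmul : (v : G) * rz E a =
          (y' * (refl E (i + a) * y * (refl E (i + a))⁻¹)) * rz E a := by
        have := congrArg (·⁻¹) hp2
        simp only [mul_inv_rev, hxi, hwi, inv_inv] at this
        rw [← this, ey, ey',
          show rz E a = refl E (i + a) * refl E i by rw [refl_mul_refl', add_sub_cancel_left]]
        group
      have hv : v = ⟨y', hy'⟩ * ⟨refl E (i + a) * y * (refl E (i + a))⁻¹,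
          E.conj_mem_U (refl_isRefl E _).mem_H hy⟩ := Subtype.ext (mul_right_cancel hmul)
      rw [hv, map_mul, hS _ (refl_isRefl E (i + a)).1 ⟨y, hy⟩, hθy, hθy', one_mul]
    have hpairs : ∑ v : E.U, ((CfsgLib.ClassCount.pairs E.t E.t
        {((v : G) * rz E a)⁻¹}).card : ℂ) =
        ((CfsgLib.ClassCount.pairs E.t E.t (target E a)).card : ℂ) := by
      rw [← Nat.cast_sum, ← Finset.card_biUnion ?_]
      · congr 2
        ext p
        simp only [CfsgLib.ClassCount.pairs, Finset.mem_biUnion, Finset.mem_univ, true_and,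
          Finset.mem_filter, Finset.mem_singleton, target, Finset.mem_image]
        exact ⟨fun ⟨v, h1, h2⟩ => ⟨h1, v, h2.symm⟩, fun ⟨h1, v, h2⟩ => ⟨v, h1, h2.symm⟩⟩
      · intro v _ w _ hvw
        refine Finset.disjoint_left.2 fun p h h' => hvw (Subtype.ext ?_)
        simp only [CfsgLib.ClassCount.pairs, Finset.mem_filter, Finset.mem_singleton] at h h'
        exact mul_right_cancel (inv_injective (h.2.symm.trans h'.2))
    calc ∑ χ : IrrCharacter G, Phi E θ χ (rz E a) * (((χ : G → ℂ) E.t) ^ 2 / (χ : G → ℂ) 1)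
        = u⁻¹ * ∑ v : E.U, conj ((θ v : ℂˣ) : ℂ) * ∑ χ : IrrCharacter G,
            (χ : G → ℂ) ((v : G) * rz E a) * (((χ : G → ℂ) E.t) ^ 2 / (χ : G → ℂ) 1) := by
          simp only [Phi, Finset.mul_sum, Finset.sum_mul, hu_def]
          rw [Finset.sum_comm]
          exact Finset.sum_congr rfl fun v _ => Finset.sum_congr rfl fun χ _ => by ring
      _ = u⁻¹ * ∑ v : E.U, ((CfsgLib.ClassCount.pairs E.t E.t
            {((v : G) * rz E a)⁻¹}).card : ℂ) * (Hc ^ 2 / N) := by
          refine congrArg _ (Finset.sum_congr rfl fun v _ => ?_)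
          rw [← hP, mul_div_assoc, ← mul_assoc, hwt]
      _ = _ := by
          rw [← Finset.sum_mul, hpairs, card_pairs E a ha]
          push_cast
          field_simp
  refine mul_left_cancel₀ (q_ne_zero E) ?_
  rw [Finset.mul_sum]
  simp only [mul_div_assoc, ← mul_assoc, K_spec, Finset.sum_mul]
  rw [Finset.sum_comm]
  have hterm : ∀ a : ZMod (q E), ∑ χ : IrrCharacter G, (1 - ψ E (-(a * 1))) *
      Phi E θ χ (rz E a) * (((χ : G → ℂ) E.t) ^ 2 / (χ : G → ℂ) 1) =
      (1 - ψ E (-(a * 1))) *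
        (Hc ^ 2 / (u * N) * ((q E : ℂ) * α ^ 2 + (q E : ℂ) * β ^ 2 * ψ E (a * hz E))) := by
    intro a
    by_cases ha : a = 0
    · simp [ha, AddChar.map_zero_eq_one]
    simp only [mul_assoc, ← Finset.mul_sum]
    rw [hT a ha]
    ring
  rw [Finset.sum_congr rfl fun a _ => hterm a]
  have hexp : ∀ a : ZMod (q E), (1 - ψ E (-(a * 1))) *
      (Hc ^ 2 / (u * N) * ((q E : ℂ) * α ^ 2 + (q E : ℂ) * β ^ 2 * ψ E (a * hz E))) =
      Hc ^ 2 / (u * N) * ((q E : ℂ) * α ^ 2) * (1 - ψ E (-(a * 1))) +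
        Hc ^ 2 / (u * N) * ((q E : ℂ) * β ^ 2) * (ψ E (a * hz E) - ψ E (a * (hz E - 1))) := by
    intro a
    rw [show a * (hz E - 1) = a * hz E + -(a * 1) by ring, AddChar.map_add_eq_mul]
    ring
  rw [Finset.sum_congr rfl fun a _ => hexp a]
  simp only [Finset.sum_add_distrib, ← Finset.mul_sum, Finset.sum_sub_distrib, sum_psi,
    sum_psi_neg, Finset.sum_const, Finset.card_univ, ZMod.card, nsmul_eq_mul,
    hz_ne_zero, if_false]
  have hone : (1 : ZMod (q E)) ≠ 0 := fun h => E.t_ne_one (by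
    rw [← rz_hz, show hz E = ((2 ^ E.d.k : ℕ) : ZMod (q E)) * 1 by rw [mul_one]; rfl, h, mul_zero,
      rz_zero])
  have hβ0 : hz E - 1 = 0 → β = 0 := by
    intro h
    have hX : E.X (E.d.r * E.d.a) = E.X E.d.a := by
      have h1 : rz E 1 = E.t := by rw [← sub_eq_zero.1 h, rz_hz]
      have h2 : E.d.r = E.t := by rw [← h1, ← Nat.cast_one, rz_natCast, pow_one]
      rw [h2, ← E.refl_a.comm, E.refl_a.X_mul_t]
    rw [hβ]
    simp only [x₁, x₂, hX, sub_self, mul_zero]
  rw [if_neg hone, mul_one]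
  by_cases h : hz E - 1 = 0
  · rw [hβ0 h, hH, hα]
    field_simp
    ring
  · rw [if_neg h, hH, hα]
    field_simp
    ring

end CfsgLib.GW.ThetaCore
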