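import Cfsg.Agent.Lib.GW.Formula
import Cfsg.Agent.Lib.GW.ThetaFour
import Cfsg.Agent.Lib.GW.ThetaVec
import Cfsg.Agent.Lib.GW.ThetaLattice

/-!
Gorenstein–Walter, the character lemma: a non-principal invariant linear character of `U` whose
restrictions to the centralisers of four-groups are invariant under their normalisers forces `U` to
be abelian.
-/

set_option autoImplicit false
set_option linter.style.haveILetI false
set_option linter.unusedSectionVars false

namespace CfsgLib.GW.ThetaBlock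

open Subgroup Cfsg CfsgLib.Characters CfsgLib.GW.ThetaRot CfsgLib.GW.ThetaCore CfsgLib.GW.ThetaRoot
open scoped Classical ComplexConjugate

universe u

variable {G : Type u} [Group G]

theorem univ_units_int : (Finset.univ : Finset ℤˣ) = {1, -1} := by decide

/-- The element of `⟨t⟩` attached to a sign. -/
def tpow (E : Setup G) (e : ℤˣ) : G := if e = 1 then 1 else E.t

section Degree

variable [Fintype G] (E : Setup G) (θ : E.U →* ℂˣ)

/-- The homomorphism `U × ⟨t⟩ → G`. -/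
noncomputable def piU : E.U × ℤˣ →* G where
  toFun p := (p.1 : G) * tpow E p.2
  map_one' := by simp [tpow]
  map_mul' := by
    rintro ⟨v, e⟩ ⟨w, e'⟩
    have hc : ∀ e, tpow E e * (w : G) = (w : G) * tpow E e := fun e => by
      unfold tpow
      split_ifs
      · rw [one_mul, mul_one]
      · exact (E.mem_U.1 w.2).1.symm
    have hm : tpow E (e * e') = tpow E e * tpow E e' := by
      rcases Int.units_eq_one_or e with rfl | rfl <;> rcases Int.units_eq_one_or e' with rfl | rfl <;>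
        simp [tpow, E.t_sq]
    show (v : G) * (w : G) * tpow E (e * e') = (v : G) * tpow E e * ((w : G) * tpow E e')
    rw [hm, show (v : G) * tpow E e * ((w : G) * tpow E e') =
      (v : G) * (tpow E e * (w : G)) * tpow E e' by group, hc]
    group

/-- The multiplicities on `U` and on `t U` have the same parity and add up to something even and
non-negative, for either sign. -/
theorem exists_half (χ : IrrCharacter G) (η : IrrCharacter E.U) :
    ∃ n n' : ℕ,
      classInner ((χ : G → ℂ) ∘ E.U.subtype) (η : E.U → ℂ) +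
        classInner (fun v : E.U => (χ : G → ℂ) ((v : G) * E.t)) (η : E.U → ℂ) = 2 * (n : ℂ) ∧
      classInner ((χ : G → ℂ) ∘ E.U.subtype) (η : E.U → ℂ) -
        classInner (fun v : E.U => (χ : G → ℂ) ((v : G) * E.t)) (η : E.U → ℂ) = 2 * (n' : ℂ) := by
  have hχ : IsCharacter (E.U × ℤˣ) ((χ : G → ℂ) ∘ piU E) :=
    CfsgLib.CharCorr.isCharacter_comp (irr_isCharacter χ) _
  have hη : IsCharacter (E.U × ℤˣ) ((η : E.U → ℂ) ∘ MonoidHom.fst E.U ℤˣ) :=
    CfsgLib.CharCorr.isCharacter_comp (irr_isCharacter η) _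
  have hsgn : IsCharacter (E.U × ℤˣ) (fun p => ((((Units.map (Int.castRingHom ℂ : ℤ →* ℂ)).comp
      (MonoidHom.snd E.U ℤˣ)) p : ℂˣ) : ℂ)) :=
    isCharacter_of_irr (isIrrCharacter_of_hom _)
  obtain ⟨n, hn⟩ := classInner_char_nat hχ hη
  obtain ⟨n', hn'⟩ := classInner_char_nat hχ (isCharacter_mul hη hsgn)
  refine ⟨n, n', ?_, ?_⟩
  · rw [← hn]
    simp only [classInner, Fintype.sum_prod_type_right, Nat.card_prod, Nat.card_eq_fintype_card,
      Fintype.card_prod, Fintype.card_units_int, univ_units_int, piU, tpow, MonoidHom.coe_mk, OneHom.coe_mk,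
      Function.comp_apply, MonoidHom.coe_fst]
    rw [Finset.sum_pair (by decide)]
    simp only [if_true, mul_one, show ((-1 : ℤˣ) = 1) = False by simp, if_false,
      Subgroup.coe_subtype]
    push_cast
    ring
  · rw [← hn']
    simp only [classInner, Fintype.sum_prod_type_right, Nat.card_prod, Nat.card_eq_fintype_card,
      Fintype.card_prod, Fintype.card_units_int, univ_units_int, piU, tpow, MonoidHom.coe_mk, OneHom.coe_mk,
      Function.comp_apply, MonoidHom.coe_fst, Pi.mul_apply, MonoidHom.coe_comp, MonoidHom.coe_snd]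
    rw [Finset.sum_pair (by decide)]
    simp only [if_true, mul_one, show ((-1 : ℤˣ) = 1) = False by simp, if_false,
      Subgroup.coe_subtype, Units.coe_map, Units.val_one, Units.val_neg]
    simp
    ring

/-- An irreducible character of degree one is multiplicative. -/
theorem map_commutator_of_degree_one {A : Type*} [Group A] (η : IrrCharacter A)
    (h : charDegree (η : A → ℂ) = 1) (a b : A) :
    (η : A → ℂ) (a * b * a⁻¹ * b⁻¹) = 1 := by
  obtain ⟨η, hη⟩ := η
  obtain ⟨n, ρ, hρ, rfl⟩ := hη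
  have hn : n = 1 := by
    have e : charDegree ρ.character = n := CfsgLib.LinearTwist.charDegree_eq_of_apply_one
      (by simp [Representation.char_one])
    exact e.symm.trans h
  subst hn
  let D : A →* ℂˣ := (LinearMap.det.comp ρ).toHomUnits
  have hv : ∀ g, ρ.character g = ((D g : ℂˣ) : ℂ) := fun g => by
    show LinearMap.trace ℂ _ (ρ g) = LinearMap.det (ρ g)
    rw [LinearMap.trace_eq_matrix_trace ℂ (Pi.basisFun ℂ (Fin 1)) (ρ g), Matrix.trace_fin_one,
      ← LinearMap.det_toMatrix', Matrix.det_fin_one]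
    rfl
  show ρ.character (a * b * a⁻¹ * b⁻¹) = 1
  rw [hv, map_mul, map_mul, map_mul, map_inv, map_inv,
    show D a * D b * (D a)⁻¹ * (D b)⁻¹ = 1 by
      rw [mul_right_comm (D a), mul_inv_cancel, one_mul, mul_inv_cancel], Units.val_one]

variable {E θ}

/-- A character with a small degree and `χ(t v) = m θ(v)` forces `U` to be abelian. -/
theorem comm_of_small {χ : IrrCharacter G} (hne : (χ : G → ℂ) ≠ fun _ => 1) {m : ℤ}
    (hval : ∀ v : E.U, (χ : G → ℂ) (E.t * v) = (m : ℂ) * ((θ v : ℂˣ) : ℂ))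
    (hsmall : (charDegree (χ : G → ℂ) : ℤ) ≤ |m| + 5) :
    ∀ x ∈ E.U, ∀ y ∈ E.U, x * y = y * x := by
  have hinner : ∀ η : IrrCharacter E.U,
      classInner (fun v : E.U => (χ : G → ℂ) ((v : G) * E.t)) (η : E.U → ℂ) =
        if η = thI θ then (m : ℂ) else 0 := by
    intro η
    have e : (fun v : E.U => (χ : G → ℂ) ((v : G) * E.t)) = (m : ℂ) • (thI θ : E.U → ℂ) := by
      funext v
      rw [(E.mem_U.1 v.2).1, hval]
      rfl
    rw [e, classInner_smul_left, classInner_irr]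
    by_cases h : η = thI θ
    · simp [h]
    · simp [h, Ne.symm h]
  have hN : ∀ η : IrrCharacter E.U,
      ∃ N : ℕ, classInner ((χ : G → ℂ) ∘ E.U.subtype) (η : E.U → ℂ) = (N : ℂ) :=
    fun η => ⟨_, CfsgLib.CharCorr.mult_spec E.U.subtype χ η⟩
  choose N hN using hN
  have hexp : ∀ v : E.U, (χ : G → ℂ) (v : G) =
      ∑ η : IrrCharacter E.U, (N η : ℂ) * (η : E.U → ℂ) v := fun v => by
    have := congrFun (CfsgLib.CharCorr.irr_res_eq_sum χ E.U.subtype) v
    simp only [hN] at this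
    simpa using this
  have hθN : |m| ≤ N (thI θ) := by
    obtain ⟨n, n', h1, h2⟩ := exists_half E χ (thI θ)
    rw [hN, hinner, if_pos rfl] at h1 h2
    have e1 : (N (thI θ) : ℤ) + m = 2 * n := by exact_mod_cast h1
    have e2 : (N (thI θ) : ℤ) - m = 2 * n' := by exact_mod_cast h2
    rw [abs_le]
    omega
  have hdeg : charDegree (χ : G → ℂ) =
      ∑ η : IrrCharacter E.U, N η * charDegree (η : E.U → ℂ) := by
    have := hexp 1
    simp only [OneMemClass.coe_one, ← CfsgLib.Chars17.cast_irrDegree] at this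
    exact_mod_cast this
  have hθdeg : charDegree (thI θ : E.U → ℂ) = 1 := by
    have e : (thI θ : E.U → ℂ) 1 = ((1 : ℕ) : ℂ) := by simp [thI]
    exact_mod_cast (CfsgLib.Chars17.cast_irrDegree (thI θ)).trans e
  have hlin : ∀ η, N η ≠ 0 → charDegree (η : E.U → ℂ) = 1 := by
    intro η hη
    by_cases h : η = thI θ
    · rw [h]; exact hθdeg
    obtain ⟨n, -, h1, -⟩ := exists_half E χ η
    rw [hN, hinner, if_neg h, add_zero] at h1
    have e1 : N η = 2 * n := by exact_mod_cast h1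
    have hle : N (thI θ) + N η * charDegree (η : E.U → ℂ) ≤ charDegree (χ : G → ℂ) := by
      rw [hdeg, ← Finset.add_sum_erase _ _ (Finset.mem_univ (thI θ)), hθdeg, mul_one]
      exact Nat.add_le_add_left (Finset.single_le_sum
        (f := fun ζ => N ζ * charDegree (ζ : E.U → ℂ)) (fun _ _ => Nat.zero_le _)
        (Finset.mem_erase.2 ⟨h, Finset.mem_univ η⟩)) _
    have hodd : Odd (charDegree (η : E.U → ℂ)) :=
      E.odd_card_U.of_dvd_nat (CfsgLib.CharCorr.charDegree_irr_dvd_card η)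
    have hle' : ((N (thI θ) : ℤ) + (N η : ℤ) * charDegree (η : E.U → ℂ)) ≤
        charDegree (χ : G → ℂ) := by exact_mod_cast hle
    have h5 : (N η : ℤ) * charDegree (η : E.U → ℂ) ≤ 5 := by linarith
    obtain ⟨j, hj⟩ := hodd
    rw [hj, e1] at h5
    push_cast at h5
    have h2 : (1 : ℤ) ≤ n := by omega
    rw [hj]
    by_contra hj0
    have h3 : (1 : ℤ) ≤ j := by omega
    nlinarith
  intro x hx y hy
  have hk : x * y * x⁻¹ * y⁻¹ ∈ CfsgLib.Chars17.irrKer χ := by
    rw [CfsgLib.Chars17.mem_irrKer]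
    have e1 := hexp (⟨x, hx⟩ * ⟨y, hy⟩ * ⟨x, hx⟩⁻¹ * ⟨y, hy⟩⁻¹)
    have e0 := hexp 1
    simp only [Subgroup.coe_mul, Subgroup.coe_inv, OneMemClass.coe_one] at e1 e0
    rw [e1, e0]
    refine Finset.sum_congr rfl fun η _ => ?_
    by_cases hη : N η = 0
    · simp [hη]
    rw [map_commutator_of_degree_one η (hlin η hη), ← CfsgLib.Chars17.cast_irrDegree, hlin η hη,
      Nat.cast_one]
  rcases E.eq_bot_or_top (inferInstance : (CfsgLib.Chars17.irrKer χ).Normal) with h | h
  · rw [h, Subgroup.mem_bot, mul_inv_eq_one, mul_inv_eq_iff_eq_mul] at hk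
    exact hk
  · exact absurd ((CfsgLib.Chars17.irrKer_eq_top_iff χ).1 h) hne

end Degree

/-! ### The lattice -/

theorem natCast_ne_zero_of_lt {q : ℕ} [NeZero q] {j : ℕ} (h1 : 0 < j) (h2 : j < q) :
    (j : ZMod q) ≠ 0 := fun h => by
  rw [ZMod.natCast_eq_zero_iff] at h
  exact absurd (Nat.le_of_dvd h1 h) (not_le.2 h2)

theorem sum_zmod_range {q : ℕ} [NeZero q] {A : Type*} [AddCommMonoid A] (f : ℕ → A) :
    ∑ l : ZMod q, f l.val = ∑ j ∈ Finset.range q, f j :=
  Finset.sum_bij' (fun l _ => l.val) (fun j _ => (j : ZMod q))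
    (fun l _ => Finset.mem_range.2 (ZMod.val_lt l)) (fun _ _ => Finset.mem_univ _)
    (fun l _ => ZMod.natCast_zmod_val l)
    (fun j hj => ZMod.val_natCast_of_lt (Finset.mem_range.1 hj)) (fun _ _ => rfl)

/-- Folding an alternating sum. -/
theorem fold_sum {h : ℕ} (h2 : 2 ≤ h) (he : Even h) (k : ℕ → ℤ) (h0 : k 0 = 0)
    (hsym : ∀ j, 1 ≤ j → j < h → k (2 * h - j) = k j) :
    -∑ j ∈ Finset.range (2 * h), (-1 : ℤ) ^ j * k j =
      2 * ∑ j ∈ Finset.Ico 1 h, (-1 : ℤ) ^ (j + 1) * k j - k h := by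
  rw [Finset.range_eq_Ico, ← Finset.sum_Ico_consecutive _ (Nat.zero_le h) (by omega : h ≤ 2 * h),
    Finset.sum_eq_sum_Ico_succ_bot (by omega : 0 < h),
    Finset.sum_eq_sum_Ico_succ_bot (by omega : h < 2 * h), h0, he.neg_one_pow, zero_add]
  have e : ∑ j ∈ Finset.Ico (h + 1) (2 * h), (-1 : ℤ) ^ j * k j =
      ∑ j ∈ Finset.Ico 1 h, (-1 : ℤ) ^ j * k j := by
    refine Finset.sum_bij' (fun j _ => 2 * h - j) (fun j _ => 2 * h - j) (fun j hj => ?_)
      (fun j hj => ?_) (fun j hj => ?_) (fun j hj => ?_) (fun j hj => ?_)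
    all_goals have := Finset.mem_Ico.1 hj
    · exact Finset.mem_Ico.2 ⟨by omega, by omega⟩
    · exact Finset.mem_Ico.2 ⟨by omega, by omega⟩
    · omega
    · omega
    · rw [← hsym (2 * h - j) (by omega) (by omega), show 2 * h - (2 * h - j) = j by omega]
      congr 1
      rcases Nat.even_or_odd j with hj' | hj'
      · rw [hj'.neg_one_pow, (show Even (2 * h - j) by
          rw [Nat.even_sub (by omega)]; exact iff_of_true ⟨h, by ring⟩ hj').neg_one_pow]
      · rw [hj'.neg_one_pow, (show Odd (2 * h - j) from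
          Nat.Even.sub_odd (by omega) ⟨h, by ring⟩ hj').neg_one_pow]
  have e2 : ∑ j ∈ Finset.Ico 1 h, (-1 : ℤ) ^ (j + 1) * k j =
      -∑ j ∈ Finset.Ico 1 h, (-1 : ℤ) ^ j * k j := by
    rw [← Finset.sum_neg_distrib]
    exact Finset.sum_congr rfl fun j _ => by rw [pow_succ]; ring
  rw [e, e2]
  ring

section Main

variable [Fintype G] (E : Setup G) {θ : E.U →* ℂˣ}
  (hS : ∀ s (hs : s ∈ (E.S : Subgroup G)) (x : E.U),
    θ ⟨s * x * s⁻¹, E.conj_mem_U (E.S_le_H hs) x.2⟩ = θ x)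

/-- The integer `Phi(t)`. -/
noncomputable def mm (χ : IrrCharacter G) : ℤ :=
  -∑ l : ZMod (q E), (-1) ^ l.val * K E hS χ l

variable (hg : ∀ b, E.Refl b → ∃ g, g * E.t * g⁻¹ = b ∧ g * b * g⁻¹ = b * E.t ∧
    ∀ x y : E.U, (x : G) ∈ E.X b → (y : G) = g * x * g⁻¹ → θ y = θ x)

include hg in
theorem apply_of_mm {χ : IrrCharacter G} (h : mm E hS χ ≠ 0) (v : E.U) :
    (χ : G → ℂ) (E.t * v) = (mm E hS χ : ℂ) * ((θ v : ℂˣ) : ℂ) := by
  have hP : Phi E θ χ E.t = (Nat.card E.U : ℂ)⁻¹ *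
      ∑ w : E.U, conj ((θ w : ℂˣ) : ℂ) * (χ : G → ℂ) (E.t * w) := by
    rw [Phi]
    refine congrArg _ (Finset.sum_congr rfl fun w _ => ?_)
    rw [(E.mem_U.1 w.2).1]
  have hm : (mm E hS χ : ℂ) = Phi E θ χ E.t := (Phi_hz E hS χ).symm
  have hroot : Root E χ (thI θ) := fun h0 => h (by
    have : (mm E hS χ : ℂ) = 0 := by
      rw [hm, hP]
      exact mul_eq_zero_of_right _ h0
    exact_mod_cast this)
  rw [apply_eq_of_root hS hg hroot v, hm, hP]

include hg in
theorem apply_t_of_mm {χ : IrrCharacter G} (h : mm E hS χ ≠ 0) :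
    (χ : G → ℂ) E.t = (mm E hS χ : ℂ) := by
  simpa using apply_of_mm E hS hg h 1

include hg in
theorem four_dvd_of_mm {χ : IrrCharacter G} (h : mm E hS χ ≠ 0) :
    (4 : ℤ) ∣ (charDegree (χ : G → ℂ) : ℤ) - mm E hS χ := by
  have hb := E.refl_a
  set V := four E E.d.a
  obtain ⟨n, hn⟩ := CfsgLib.ClassCount.exists_mult χ V
  have hconj : ∀ z, orderOf z = 2 → (χ : G → ℂ) z = (χ : G → ℂ) E.t := fun z hz =>
    (classFunction_eq_of_isConj (irr_isClassFunction χ) (isConj_iff.2 (E.exists_conj hz))).symm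
  have hset : (Finset.univ.filter fun z : G => z ∈ V) = {1, E.t, E.d.a, E.d.a * E.t} := by
    ext z
    simp only [Finset.mem_filter, Finset.mem_univ, true_and, Finset.mem_insert, Finset.mem_singleton]
    constructor
    · exact cases_four hb
    · rintro (rfl | rfl | rfl | rfl)
      exacts [one_mem _, t_mem_four hb, b_mem_four hb, mul_mem (b_mem_four hb) (t_mem_four hb)]
  have h1 : E.d.a * E.t ≠ 1 := hb.mul_t.ne_one
  have h2 : E.d.a * E.t ≠ E.t := hb.mul_t.ne_t
  have h3 : E.d.a * E.t ≠ E.d.a := fun e => E.t_ne_one (mul_eq_left.1 e)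
  have hcard : Nat.card V = 4 := by
    rw [Nat.card_eq_fintype_card, Fintype.card_subtype, hset]
    simp [E.t_ne_one.symm, hb.ne_one.symm, h1.symm, hb.ne_t.symm, h2.symm, h3.symm]
  have hsum : ∑ z : V, (χ : G → ℂ) ((z : G)⁻¹) =
      (χ : G → ℂ) 1 + 3 * (χ : G → ℂ) E.t := by
    rw [← Finset.sum_subtype (Finset.univ.filter fun z : G => z ∈ V) (fun z => by simp)
      (fun z => (χ : G → ℂ) z⁻¹), hset, Finset.sum_insert (by
        simp [E.t_ne_one.symm, hb.ne_one.symm, h1.symm]),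
      Finset.sum_insert (by simp [hb.ne_t.symm, h2.symm]),
      Finset.sum_insert (by simp [h3.symm]), Finset.sum_singleton, inv_one, E.t_inv, hb.inv,
      hb.mul_t.inv, hconj _ hb.orderOf_eq, hconj _ hb.mul_t.orderOf_eq]
    ring
  rw [hsum, hcard, ← CfsgLib.Chars17.cast_irrDegree, apply_t_of_mm E hS hg h] at hn
  have e : (charDegree (χ : G → ℂ) : ℤ) + 3 * mm E hS χ = 4 * n := by exact_mod_cast hn
  exact ⟨(n : ℤ) - mm E hS χ, by linarith⟩

include hg in
/-- Some non-principal character has a small degree against its value at `t`. -/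
theorem exists_small_char (hθ : θ ≠ 1) :
    ∃ χ : IrrCharacter G, (χ : G → ℂ) ≠ (fun _ => 1) ∧ mm E hS χ ≠ 0 ∧
      (charDegree (χ : G → ℂ) : ℤ) ≤ |mm E hS χ| + 5 := by
  have hprinc : ∀ χ : IrrCharacter G, (χ : G → ℂ) = (fun _ => 1) → mm E hS χ = 0 := fun χ e => by
    simp [mm, K_principal E hS hθ e]
  suffices h : ∃ χ, mm E hS χ ≠ 0 ∧ (charDegree (χ : G → ℂ) : ℤ) ≤ |mm E hS χ| + 5 by
    obtain ⟨χ, h1, h2⟩ := h
    exact ⟨χ, fun e => h1 (hprinc χ e), h1, h2⟩
  set x : IrrCharacter G → ℕ := fun χ => charDegree (χ : G → ℂ)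
  have hx : ∀ χ, 0 < x χ := CfsgLib.Chars17.irrDegree_pos
  let k : ℕ → IrrCharacter G → ℤ := fun j χ => K E hS χ (j : ZMod (q E))
  have horth : ∀ j : ℕ, ∑ χ, k j χ * (x χ : ℤ) = 0 := fun j => by
    have e := sum_K_degree E hS (j : ZMod (q E))
    simp only [← CfsgLib.Chars17.cast_irrDegree] at e
    exact_mod_cast e
  have hT : ∀ χ, mm E hS χ ≠ 0 → (χ : G → ℂ) E.t = (mm E hS χ : ℂ) :=
    fun χ h => apply_t_of_mm E hS hg h
  have hR0 := sum_K_one E hS
  simp only [← CfsgLib.Chars17.cast_irrDegree] at hR0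
  have hq2 : q E = 2 * 2 ^ E.d.k := by
    show 2 ^ (E.d.k + 1) = 2 * 2 ^ E.d.k
    rw [pow_succ, mul_comm]
  have hone : ∀ z : G, orderOf z = 2 → ∃ g, g * E.d.z * g⁻¹ = z := fun z hz => E.exists_conj hz
  have hG : (Nat.card G : ℚ) ≠ 0 := Nat.cast_ne_zero.2 Nat.card_pos.ne'
  set R : ℚ := (q E : ℚ) ^ 3 * (Nat.card E.U : ℚ) ^ 3 * (1 / (Nat.card (E.X E.d.a) : ℚ) +
    1 / (Nat.card (E.X (E.d.r * E.d.a)) : ℚ)) ^ 2 / (Nat.card G : ℚ) with hRdef
  have hR : ∑ χ, (k 1 χ : ℂ) * (((χ : G → ℂ) E.t) ^ 2 / (x χ : ℂ)) = (R : ℂ) := by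
    rw [hRdef]
    push_cast
    simp only [k, Nat.cast_one, ← mul_div_assoc]
    rw [hR0]
    push_cast
    rfl
  rcases Nat.eq_zero_or_pos E.d.k with hk | hk
  · -- Sylow four-groups
    have hq : q E = 2 := by rw [hq2, hk]; rfl
    have h11 : ((1 : ℕ) : ZMod (q E)) = -((1 : ℕ) : ZMod (q E)) := by
      rw [eq_neg_iff_add_eq_zero, ← Nat.cast_add, ZMod.natCast_eq_zero_iff, hq]
    have h10 : ((1 : ℕ) : ZMod (q E)) ≠ 0 := natCast_ne_zero_of_lt one_pos (by rw [hq]; norm_num)
    have hnorm : ∑ χ, k 1 χ * k 1 χ = 4 := by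
      show ∑ χ, K E hS χ _ * K E hS χ _ = 4
      rw [sum_K_mul E hS _ _ h10 h10, if_pos rfl, if_pos h11]
      norm_num
    have hm : ∀ χ, mm E hS χ = k 1 χ := fun χ => by
      have e : mm E hS χ = -∑ j ∈ Finset.range (q E), (-1 : ℤ) ^ j * k j χ := by
        rw [mm, ← sum_zmod_range (q := q E) fun j => (-1 : ℤ) ^ j * k j χ]
        simp only [k, ZMod.natCast_zmod_val]
      rw [e, hq, Finset.sum_range_succ, Finset.sum_range_one,
        show k 0 χ = 0 by simp [k, K_zero]]
      ring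
    have hperf : E.d.k = 0 → commutator G = ⊤ := fun _ =>
      (E.eq_bot_or_top (inferInstance : (commutator G).Normal)).resolve_left fun h => E.H_ne_top (by
        rw [eq_top_iff]
        intro y _
        rw [E.mem_H, ← mul_inv_eq_iff_eq_mul, ← mul_inv_eq_one, E.t_inv]
        have := commutator_mem_commutator (mem_top y) (mem_top E.t)
          (H₁ := (⊤ : Subgroup G)) (H₂ := (⊤ : Subgroup G))
        rw [← _root_.commutator_def, h, Subgroup.mem_bot, commutatorElement_def, E.t_inv] at this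
        exact this)
    obtain ⟨F, -, hF2, hF⟩ := CfsgLib.GW.Formula.exists_factor E.S E.d hone hperf
    have hRF : R * F = 1 := by
      have hF' : (Nat.card G : ℚ) = F * 2 ^ (3 * E.d.k + 3) * (Nat.card E.U : ℚ) ^ 3 *
          (1 / (Nat.card (E.X E.d.a) : ℚ) + 1 / (Nat.card (E.X (E.d.r * E.d.a)) : ℚ)) ^ 2 := hF
      rw [hRdef, div_mul_eq_mul_div, div_eq_one_iff_eq hG, hF',
        show (q E : ℚ) ^ 3 = 2 ^ (3 * E.d.k + 3) by rw [hk, hq]; norm_num]
      ring
    have hR15 : 8 / 15 ≤ R := by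
      have hFpos : 0 < F := by
        rcases lt_trichotomy F 0 with h | h | h
        · have : (Nat.card G : ℚ) ≤ 0 := by
            rw [hF]
            exact mul_nonpos_of_nonpos_of_nonneg
              (mul_nonpos_of_nonpos_of_nonneg (mul_nonpos_of_nonpos_of_nonneg h.le (by positivity))
                (by positivity)) (by positivity)
          have : (0 : ℚ) < Nat.card G := by exact_mod_cast Nat.card_pos
          linarith
        · rw [h, mul_zero] at hRF; exact absurd hRF (by norm_num)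
        · exact h
      refine le_of_mul_le_mul_right ?_ hFpos
      rw [hRF]
      linarith
    by_contra hno
    push Not at hno
    have hb : ∀ χ, |k 1 χ| ≤ 1 := ThetaLattice.abs_le_one_of_four hnorm hx (horth 1)
    have hterm : ∀ χ, (k 1 χ : ℂ) * (((χ : G → ℂ) E.t) ^ 2 / (x χ : ℂ)) =
        (((k 1 χ : ℚ) / (x χ : ℚ) : ℚ) : ℂ) := fun χ => by
      have h1 := abs_le.1 (hb χ)
      rcases (show k 1 χ = 0 ∨ k 1 χ = 1 ∨ k 1 χ = -1 by omega) with e | e | e
      · simp [e]
      all_goals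
        rw [hT χ (by rw [hm, e]; norm_num), hm, e]
        push_cast
        ring
    set P := Finset.univ.filter fun χ => k 1 χ = 1
    have hRle : R ≤ (P.card : ℚ) / 7 := by
      have e : R = ∑ χ, (k 1 χ : ℚ) / (x χ : ℚ) := by
        have := hR
        simp only [hterm, ← Rat.cast_sum] at this
        exact_mod_cast this.symm
      rw [e, ← mul_one_div (P.card : ℚ), ← nsmul_eq_mul, ← Finset.sum_const, Finset.sum_filter]
      refine Finset.sum_le_sum fun χ _ => ?_
      have h1 := abs_le.1 (hb χ)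
      have hxq : (0 : ℚ) < x χ := by exact_mod_cast hx χ
      rcases (show k 1 χ = 0 ∨ k 1 χ = 1 ∨ k 1 χ = -1 by omega) with e | e | e <;> rw [e]
      · simp
      · have h7 : (7 : ℤ) ≤ x χ := by
          have := hno χ (by rw [hm, e]; norm_num)
          rw [hm, e] at this
          norm_num at this
          show (7 : ℤ) ≤ (charDegree (χ : G → ℂ) : ℤ)
          omega
        have h7' : (7 : ℚ) ≤ x χ := by exact_mod_cast h7
        simp only [if_true, Int.cast_one]
        gcongr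
      · simp only [show ((-1 : ℤ) = 1) = False by simp, if_false, Int.cast_neg, Int.cast_one]
        exact div_nonpos_of_nonpos_of_nonneg (by norm_num) hxq.le
    have hP : P.card ≤ 3 := by
      by_contra hP
      push Not at hP
      have e : ∀ χ ∈ P, k 1 χ * k 1 χ = 1 := fun χ hχ => by
        rw [(Finset.mem_filter.1 hχ).2]; norm_num
      have h4 := Finset.sum_add_sum_compl P (fun χ => k 1 χ * k 1 χ)
      rw [hnorm, Finset.sum_congr rfl e, Finset.sum_const, nsmul_eq_mul, mul_one] at h4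
      have h5 : 0 ≤ ∑ χ ∈ Pᶜ, k 1 χ * k 1 χ := Finset.sum_nonneg fun _ _ => mul_self_nonneg _
      have h6 : ∑ χ ∈ Pᶜ, k 1 χ * k 1 χ = 0 := by omega
      rw [Finset.sum_eq_zero_iff_of_nonneg fun χ _ => mul_self_nonneg _] at h6
      have e0 := horth 1
      rw [← Finset.sum_add_sum_compl P, Finset.sum_eq_zero (s := Pᶜ) fun χ hχ => by
        rw [mul_self_eq_zero.1 (h6 χ hχ), zero_mul], add_zero] at e0
      have : 0 < ∑ χ ∈ P, k 1 χ * (x χ : ℤ) := Finset.sum_pos (fun χ hχ => by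
        rw [(Finset.mem_filter.1 hχ).2, one_mul]; exact_mod_cast hx χ)
        (Finset.card_pos.1 (by omega))
      omega
    have : (P.card : ℚ) ≤ 3 := by exact_mod_cast hP
    linarith
  · -- the general case
    set h : ℕ := 2 ^ E.d.k with hh_def
    have hh : h = 2 ∨ h = 4 ∨ (8 ≤ h ∧ Even h) := by
      rcases (show E.d.k = 1 ∨ E.d.k = 2 ∨ 3 ≤ E.d.k by omega) with e | e | e
      · exact Or.inl (by rw [hh_def, e]; rfl)
      · exact Or.inr (Or.inl (by rw [hh_def, e]; rfl))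
      · exact Or.inr (Or.inr ⟨(pow_le_pow_right₀ (by norm_num) e : 2 ^ 3 ≤ 2 ^ E.d.k),
          Nat.even_pow.2 ⟨even_two, by omega⟩⟩)
    have h2 : 2 ≤ h := Nat.le_self_pow (by omega) 2
    have hne : ∀ i : ℕ, 1 ≤ i → i ≤ h → (i : ZMod (q E)) ≠ 0 :=
      fun i h1 h3 => natCast_ne_zero_of_lt h1 (by rw [hq2]; omega)
    have hneg : ∀ i j : ℕ, 1 ≤ i → i ≤ h → 1 ≤ j → j ≤ h →
        (((i : ZMod (q E)) = -(j : ZMod (q E))) ↔ (i = h ∧ j = h)) := by
      intro i j a1 a2 b1 b2
      rw [eq_neg_iff_add_eq_zero, ← Nat.cast_add, ZMod.natCast_eq_zero_iff, hq2]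
      constructor
      · intro hd
        have := Nat.le_of_dvd (by omega) hd
        omega
      · rintro ⟨rfl, rfl⟩
        exact ⟨1, by ring⟩
    have heq : ∀ i j : ℕ, i ≤ h → j ≤ h → ((i : ZMod (q E)) = (j : ZMod (q E)) ↔ i = j) := by
      intro i j a b
      refine ⟨fun e => ?_, fun e => by rw [e]⟩
      have := congrArg ZMod.val e
      rwa [ZMod.val_natCast_of_lt (by rw [hq2]; omega), ZMod.val_natCast_of_lt (by rw [hq2]; omega)]
        at this
    have hself : ∀ j, 1 ≤ j → j < h → ∑ χ, k j χ * k j χ = 3 := fun j h1 h3 => by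
      show ∑ χ, K E hS χ _ * K E hS χ _ = 3
      rw [sum_K_mul E hS _ _ (hne j h1 h3.le) (hne j h1 h3.le), if_pos rfl,
        if_neg fun e => absurd ((hneg j j h1 h3.le h1 h3.le).1 e).1 h3.ne]
      norm_num
    have htop : ∑ χ, k h χ * k h χ = 4 := by
      show ∑ χ, K E hS χ _ * K E hS χ _ = 4
      rw [sum_K_mul E hS _ _ (hne h (by omega) le_rfl) (hne h (by omega) le_rfl), if_pos rfl,
        if_pos ((hneg h h (by omega) le_rfl (by omega) le_rfl).2 ⟨rfl, rfl⟩)]
      norm_num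
    have hdot : ∀ i j, 1 ≤ i → i ≤ h → 1 ≤ j → j ≤ h → i ≠ j → ∑ χ, k i χ * k j χ = 2 :=
      fun i j a1 a2 b1 b2 hij => by
        show ∑ χ, K E hS χ _ * K E hS χ _ = 2
        rw [sum_K_mul E hS _ _ (hne i a1 a2) (hne j b1 b2),
          if_neg fun e => hij ((heq i j a2 b2).1 e),
          if_neg fun e => hij (((hneg i j a1 a2 b1 b2).1 e).1.trans ((hneg i j a1 a2 b1 b2).1 e).2.symm)]
        norm_num
    have hm : ∀ χ, mm E hS χ =
        2 * ∑ j ∈ Finset.Ico 1 h, (-1 : ℤ) ^ (j + 1) * k j χ - k h χ := by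
      intro χ
      rw [← fold_sum h2 (Nat.even_pow.2 ⟨even_two, by omega⟩) (fun j => k j χ)
        (by simp [k, K_zero]) fun j a b => ?_, ← hq2, mm,
        ← sum_zmod_range (q := q E) fun j => (-1 : ℤ) ^ j * k j χ]
      · simp only [k, ZMod.natCast_zmod_val]
      · show K E hS χ _ = K E hS χ _
        rw [Nat.cast_sub (by omega), ← hq2, ZMod.natCast_self, zero_sub, K_neg]
    obtain ⟨f, δ, hδ, hf, h7, hdvd, hGf⟩ :=
      CfsgLib.GW.Formula.exists_degree E.S E.d hk hone
    refine ThetaLattice.exists_small hh hx hself htop hdot (fun j _ _ => horth j) hm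
      (fun χ h => four_dvd_of_mm E hS hg h) hT hR hδ hf h7 ?_ ?_
    · have e : (2 * (h : ℤ)) = 2 ^ (E.d.k + 1) := by rw [hh_def]; push_cast; ring
      rw [e]; exact hdvd
    · rw [hRdef, show (q E : ℚ) ^ 3 = 2 ^ (3 * E.d.k + 3) by
        push_cast; rw [← pow_mul]; ring_nf]
      have e : (Nat.card G : ℚ) * ((f : ℚ) - δ) ^ 2 = f * ((f : ℚ) + δ) * 2 ^ (3 * E.d.k + 3) *
          (Nat.card E.U : ℚ) ^ 3 * (1 / (Nat.card (E.X E.d.a) : ℚ) +
            1 / (Nat.card (E.X (E.d.r * E.d.a)) : ℚ)) ^ 2 := hGf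
      rw [div_mul_eq_mul_div, div_eq_iff hG]
      linear_combination -e

end Main

/-- **The character lemma.** A non-principal `S`-invariant linear character of `U`, invariant on
each `C_U(V)` under an element cycling the four-group `V`, forces `U` to be abelian. -/
theorem isMulCommutative_U [Finite G] (E : Setup G) (θ : E.U →* ℂˣ) (hθ : θ ≠ 1)
    (hS : ∀ s (hs : s ∈ (E.S : Subgroup G)) (x : E.U),
      θ ⟨s * x * s⁻¹, E.conj_mem_U (E.S_le_H hs) x.2⟩ = θ x)
    (hg : ∀ b, E.Refl b → ∃ g, g * E.t * g⁻¹ = b ∧ g * b * g⁻¹ = b * E.t ∧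
      ∀ x y : E.U, (x : G) ∈ E.X b → (y : G) = g * x * g⁻¹ → θ y = θ x) :
    ∀ x ∈ E.U, ∀ y ∈ E.U, x * y = y * x := by
  haveI := Fintype.ofFinite G
  obtain ⟨χ, hne, hm, hle⟩ := exists_small_char E hS hg hθ
  exact comm_of_small hne (fun v => apply_of_mm E hS hg hm v) hle

end CfsgLib.GW.ThetaBlock
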