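import Cfsg.Agent.Lib.GW.CaseOneFourPrime
import Cfsg.Agent.Lib.GW.ThetaBlock

/-!
Gorenstein–Walter, quotient symmetric of degree four: if the outer reflection fixes nothing in the
prime cores of the odd core, it inverts the odd core, which is therefore abelian.
-/

set_option autoImplicit false
set_option linter.unusedSectionVars false
set_option linter.unusedVariables false
set_option linter.style.haveILetI false

namespace CfsgLib.GW.CaseOne

open Subgroup CfsgLib.RankOneInvol Equiv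

universe u

variable {G : Type u} [Group G] [Finite G]
variable {E : Setup G} {M : Subgroup G} {L : Subgroup (Tp M)} {b b₁ : G}

/-- The elements of `M` fixing a character of the odd core. -/
def fixChar (M : Subgroup G) (θ : ↥(coreIn M) →* ℂˣ) : Subgroup G where
  carrier := {m | ∃ hm : m ∈ M, ∀ w : ↥(coreIn M), θ ⟨m * w * m⁻¹, conj_mem_coreIn hm w.2⟩ = θ w}
  one_mem' := ⟨one_mem M, fun w => congrArg θ (Subtype.ext (by simp))⟩
  mul_mem' := fun {m n} hm hn => by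
    obtain ⟨hm, hθm⟩ := hm
    obtain ⟨hn, hθn⟩ := hn
    refine ⟨mul_mem hm hn, fun w => ?_⟩
    rw [← hθn w, ← hθm ⟨n * w * n⁻¹, conj_mem_coreIn hn w.2⟩]
    exact congrArg θ (Subtype.ext (by group))
  inv_mem' := fun {m} hm => by
    obtain ⟨hm, hθm⟩ := hm
    refine ⟨inv_mem hm, fun w => ?_⟩
    have h1 := hθm ⟨m⁻¹ * w * m⁻¹⁻¹, conj_mem_coreIn (inv_mem hm) w.2⟩
    refine h1.symm.trans (congrArg θ (Subtype.ext ?_))
    group

theorem mem_fixChar {θ : ↥(coreIn M) →* ℂˣ} {m : G} :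
    m ∈ fixChar M θ ↔ ∃ hm : m ∈ M,
      ∀ w : ↥(coreIn M), θ ⟨m * w * m⁻¹, conj_mem_coreIn hm w.2⟩ = θ w := Iff.rfl

theorem core_le_fixChar (θ : ↥(coreIn M) →* ℂˣ) : coreIn M ≤ fixChar M θ := fun v hv =>
  ⟨coreIn_le M hv, fun w => by
    rw [show (⟨v * w * v⁻¹, conj_mem_coreIn (coreIn_le M hv) w.2⟩ : ↥(coreIn M)) =
      ⟨v, hv⟩ * w * ⟨v, hv⟩⁻¹ from Subtype.ext (by simp), map_mul, map_mul, map_inv,
      mul_right_comm, mul_inv_cancel, one_mul]⟩

namespace Four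

variable (h : Four E M L b b₁)
variable (hfix : ∀ r : ℕ, r.Prime → Or M r ⊓ centralizer ({b} : Set G) = ⊥)
include h hfix

theorem Or_inv {r : ℕ} (hr : r.Prime) {x : G} (hx : x ∈ Or M r) : b * x * b = x⁻¹ :=
  h.Or_inverted (hfix r hr) hx

theorem Or_comm {p q : ℕ} (hp : p.Prime) (hq : q.Prime) {x y : G} (hx : x ∈ Or M p)
    (hy : y ∈ Or M q) : x * y = y * x := by
  by_cases hpq : p = q
  · subst hpq
    have e := h.Or_inv hfix hp (mul_mem hx hy)
    rw [conj_involution_mul h.refl.sq, h.Or_inv hfix hp hx, h.Or_inv hfix hp hy] at e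
    have := congrArg (·⁻¹) e
    simpa [mul_inv_rev] using this.symm
  · exact Or_commute hp hq hpq hx hy

/-- The conjugates of `b` act trivially on the quotient by the Fitting subgroup. -/
theorem act_trivial {σ : G} (hσ : σ ∈ M) {w : G} (hw : w ∈ coreIn M) :
    ∃ hu : w⁻¹ * ((σ * b * σ⁻¹) * w * (σ * b * σ⁻¹)⁻¹) ∈ coreIn M,
      (⟨_, hu⟩ : ↥(coreIn M)) ∈ Cfsg.fittingSubgroup ↥(coreIn M) := by
  set z := σ⁻¹ * w * σ with hz
  have hzW : z ∈ coreIn M := by simpa using conj_mem_coreIn (inv_mem hσ) hw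
  set u := z⁻¹ * (b * z * b) with hu
  have huW : u ∈ coreIn M :=
    mul_mem (inv_mem hzW) (conj_mem_of_inv h.refl.sq (h.refl_mem h.refl) hzW)
  have hcomm : ∀ r : ℕ, r.Prime → ∀ f ∈ Or M r, f * u = u * f := by
    intro r hr f hf
    have hf' : z * f * z⁻¹ ∈ Or M r := Or_conj (coreIn_le M hzW) hf
    have e := h.Or_inv hfix hr hf'
    rw [conj_involution_mul h.refl.sq, conj_involution_mul h.refl.sq,
      conj_involution_inv h.refl.sq, h.Or_inv hfix hr hf] at e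
    have e' : u * f⁻¹ = f⁻¹ * u := by
      calc u * f⁻¹ = z⁻¹ * (b * z * b * f⁻¹ * (b * z * b)⁻¹) * (b * z * b) := by rw [hu]; group
        _ = z⁻¹ * (z * f * z⁻¹)⁻¹ * (b * z * b) := by rw [e]
        _ = f⁻¹ * u := by rw [hu]; group
    exact ((show Commute u f⁻¹ from e').inv_right.symm.eq |> fun e2 => by simpa using e2)
  have he : w⁻¹ * ((σ * b * σ⁻¹) * w * (σ * b * σ⁻¹)⁻¹) = σ * u * σ⁻¹ := by
    rw [hu, hz, show (σ * b * σ⁻¹)⁻¹ = σ * b⁻¹ * σ⁻¹ by group, h.refl.inv]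
    group
  have hW' : σ * u * σ⁻¹ ∈ coreIn M := conj_mem_coreIn hσ huW
  refine ⟨he ▸ hW', ?_⟩
  refine mem_fitting (he ▸ hW') fun r hr x hx => ?_
  rw [he]
  have hx' : σ⁻¹ * x * σ ∈ Or M r := by simpa using Or_conj (inv_mem hσ) hx
  calc x * (σ * u * σ⁻¹) = σ * (σ⁻¹ * x * σ * u) * σ⁻¹ := by group
    _ = σ * (u * (σ⁻¹ * x * σ)) * σ⁻¹ := by rw [hcomm r hr _ hx']
    _ = σ * u * σ⁻¹ * x := by group

/-- A character trivial on the Fitting subgroup is fixed by `M`. -/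
theorem fixChar_eq {θ : ↥(coreIn M) →* ℂˣ}
    (hθ : ∀ w ∈ Cfsg.fittingSubgroup ↥(coreIn M), θ w = 1) : M ≤ fixChar M θ := by
  have hb : ∀ σ ∈ M, σ * b * σ⁻¹ ∈ fixChar M θ := by
    intro σ hσ
    refine ⟨mul_mem (mul_mem hσ (h.refl_mem h.refl)) (inv_mem hσ), fun w => ?_⟩
    obtain ⟨hu, hF⟩ := h.act_trivial hfix hσ w.2
    rw [← mul_one (θ w), ← hθ _ hF, ← map_mul]
    refine congrArg θ (Subtype.ext ?_)
    show σ * b * σ⁻¹ * w * (σ * b * σ⁻¹)⁻¹ =
      w * ((w : G)⁻¹ * (σ * b * σ⁻¹ * w * (σ * b * σ⁻¹)⁻¹))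
    rw [mul_inv_cancel_left]
  intro m hm
  have hbM := h.refl_mem h.refl
  obtain ⟨v1, v2⟩ := h.e_bar_involution hbM h.refl.orderOf_eq
  obtain ⟨σ', ρ', hpr⟩ := SymFour.conj_products _ (h.e (bar M m)) ⟨v1, h.sign_b⟩
  obtain ⟨σ, hσ, eσ⟩ := exists_bar (h.e.symm σ')
  obtain ⟨ρ, hρ, eρ⟩ := exists_bar (h.e.symm ρ')
  have hconj : ∀ {g : G} {p : Perm (Fin 4)}, g ∈ M → bar M g = h.e.symm p →
      h.e (bar M (g * b * g⁻¹)) = p * h.e (bar M b) * p⁻¹ := fun {g p} hg e => by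
    rw [bar_conj hg hbM, map_mul, map_mul, map_inv, e, MulEquiv.apply_symm_apply]
  set n := σ * b * σ⁻¹ * (ρ * b * ρ⁻¹)
  have hnN : n ∈ fixChar M θ := mul_mem (hb σ hσ) (hb ρ hρ)
  have hbN : b ∈ fixChar M θ := by simpa using hb 1 (one_mem M)
  have hσb : σ * b * σ⁻¹ ∈ M := mul_mem (mul_mem hσ hbM) (inv_mem hσ)
  have hρb : ρ * b * ρ⁻¹ ∈ M := mul_mem (mul_mem hρ hbM) (inv_mem hρ)
  have hn : h.e (bar M n) =
      σ' * h.e (bar M b) * σ'⁻¹ * (ρ' * h.e (bar M b) * ρ'⁻¹) := by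
    rw [bar_mul hσb hρb, map_mul, hconj hσ eσ, hconj hρ eρ]
  rcases hpr with e | e <;> rw [← hn] at e
  · have h1 := core_le_fixChar θ ((bar_eq_bar_iff hm (mul_mem hσb hρb)).1 (h.e.injective e))
    have h2 := mul_mem h1 hnN
    rwa [inv_mul_cancel_right] at h2
  · rw [← map_mul, ← bar_mul hm hbM] at e
    have h1 := core_le_fixChar θ
      ((bar_eq_bar_iff (mul_mem hm hbM) (mul_mem hσb hρb)).1 (h.e.injective e))
    have h2 := mul_mem (mul_mem h1 hnN) (inv_mem hbN)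
    rwa [inv_mul_cancel_right, mul_inv_cancel_right] at h2

/-- A nontrivial character fixed by `M` makes the odd core abelian. -/
theorem comm_of_fixChar {θ : ↥(coreIn M) →* ℂˣ} (hne : θ ≠ 1) (hM : M ≤ fixChar M θ) :
    ∀ x ∈ coreIn M, ∀ y ∈ coreIn M, x * y = y * x := by
  have hU := h.core_eq_U
  let ι : ↥E.U →* ↥(coreIn M) := Subgroup.inclusion hU.ge
  have hfx : ∀ {m : G}, m ∈ M → ∀ (x : ↥E.U) (y : ↥(coreIn M)), (y : G) = m * x * m⁻¹ →
      θ y = θ (ι x) := fun {m} hm x y e => by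
    obtain ⟨hm', hθ⟩ := hM hm
    rw [← hθ (ι x)]
    exact congrArg θ (Subtype.ext e)
  intro x hx y hy
  refine ThetaBlock.isMulCommutative_U E (θ.comp ι) (fun e => hne (MonoidHom.ext fun w => ?_))
    (fun s hs x => hfx (h.S_le hs) x _ rfl) (fun c hc => ?_) x (hU.le hx) y (hU.le hy)
  · exact DFunLike.congr_fun e ⟨w, hU.le w.2⟩
  obtain ⟨s, hs, e⟩ := h.refl_conj hc
  have hsM := h.S_le hs
  rcases e with e | e
  · obtain ⟨g, hgt, hgb, hgY⟩ := h.exists_rot_Y
    have hts : s * E.t = E.t * s := E.d.z_central hs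
    refine ⟨s⁻¹ * g * s, ?_, ?_, fun x y hx hy => ?_⟩
    · calc s⁻¹ * g * s * E.t * (s⁻¹ * g * s)⁻¹ = s⁻¹ * g * (s * E.t * s⁻¹) * g⁻¹ * s := by group
        _ = s⁻¹ * (g * E.t * g⁻¹) * s := by rw [hts, mul_inv_cancel_right]; group
        _ = c := by rw [hgt, ← e]; group
    · calc s⁻¹ * g * s * c * (s⁻¹ * g * s)⁻¹ = s⁻¹ * (g * (s * c * s⁻¹) * g⁻¹) * s := by group
        _ = s⁻¹ * (b * E.t) * s := by rw [e, hgb]
        _ = c * (s⁻¹ * (E.t * s)) := by rw [← e]; group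
        _ = c * E.t := by rw [← hts, inv_mul_cancel_left]
    · have hxc : (x : G) * c = c * x := mem_centralizer_singleton_iff.1 hx.2
      have hY : s * x * s⁻¹ ∈ E.X b := h.mem_Y.2 ⟨conj_mem_coreIn hsM (hU.ge x.2), by
        rw [← e, show s * x * s⁻¹ * (s * c * s⁻¹) = s * (x * c) * s⁻¹ by group, hxc]; group⟩
      have hgy := hgY _ hY
      refine congrArg _ (Subtype.ext (hy.trans ?_))
      calc s⁻¹ * g * s * x * (s⁻¹ * g * s)⁻¹ = s⁻¹ * (g * (s * x * s⁻¹)) * g⁻¹ * s := by group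
        _ = (x : G) := by rw [hgy]; group
  · have hcL : bar M c ∈ L := (h.conj_S_mem_iff hs (h.refl_mem hc)).1 (by rw [e]; exact h.inner)
    obtain ⟨g, hg, hgt, hgc⟩ := h.exists_rot_inner hc hcL
    exact ⟨g, hgt, hgc, fun x y _ hy => hfx hg x _ hy⟩

/-- Without fixed elements in the prime cores the odd core is abelian and inverted by `b`. -/
theorem inverted_of_no_fixed :
    (∀ x ∈ coreIn M, ∀ y ∈ coreIn M, x * y = y * x) ∧ ∀ w ∈ coreIn M, b * w * b = w⁻¹ := by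
  haveI := isSolvable_core M
  set W := coreIn M
  set F := Cfsg.fittingSubgroup ↥W
  haveI : F.Normal := Fitting.fitting_normal
  have htop : F = ⊤ := by
    by_contra hne
    obtain ⟨z, hz⟩ := SetLike.exists_not_mem_of_ne_top F hne rfl
    haveI : Nontrivial (↥W ⧸ F) :=
      ⟨⟨QuotientGroup.mk z, 1, fun e => hz ((QuotientGroup.eq_one_iff z).1 e)⟩⟩
    obtain ⟨q, hq⟩ := SetLike.exists_not_mem_of_ne_top (commutator (↥W ⧸ F))
      (Group.IsSolvable.commutator_lt_top_of_nontrivial (↥W ⧸ F)).ne rfl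
    obtain ⟨φ, hφ⟩ :=
      CommGroup.exists_apply_ne_one_of_hasEnoughRootsOfUnity (Abelianization (↥W ⧸ F)) ℂ
        (a := Abelianization.of q) fun e => hq ((QuotientGroup.eq_one_iff q).1 e)
    set θ : ↥W →* ℂˣ := (φ.comp Abelianization.of).comp (QuotientGroup.mk' F) with hθ
    have hθne : θ ≠ 1 := fun e => hφ (by
      obtain ⟨g, rfl⟩ := QuotientGroup.mk'_surjective F q
      exact DFunLike.congr_fun e g)
    have hθF : ∀ w ∈ F, θ w = 1 := fun w hw => by
      rw [hθ, MonoidHom.comp_apply, QuotientGroup.mk'_apply, (QuotientGroup.eq_one_iff w).2 hw,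
        map_one]
    have hab := h.comm_of_fixChar hfix hθne (h.fixChar_eq hfix hθF)
    refine hne (eq_top_iff.2 fun w _ => ?_)
    exact mem_fitting w.2 fun r _ x hx => hab x (Or_le M r hx) w w.2
  have hall : ∀ w : ↥W, (∀ r : ℕ, r.Prime → ∀ x ∈ Or M r, x * (w : G) = w * x) ∧
      b * (w : G) * b = (w : G)⁻¹ := by
    intro w
    have hw : w ∈ F := htop ▸ mem_top w
    rw [show F = Cfsg.fittingSubgroup ↥W from rfl, Fitting.fitting_eq_iSup_pCore] at hw
    induction hw using iSup_induction' with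
    | hp r x hx =>
      have hr := Nat.prime_of_mem_primeFactors r.2
      have hxO : (x : G) ∈ Or M r := ⟨x, hx, rfl⟩
      exact ⟨fun p hp y hy => h.Or_comm hfix hp hr hy hxO, h.Or_inv hfix hr hxO⟩
    | h1 => exact ⟨fun r _ x _ => by simp, by simp [h.refl.sq]⟩
    | hmul x y hx' hy' hx hy =>
      refine ⟨fun r hr z hz => ?_, ?_⟩
      · exact ((show Commute z x from hx.1 r hr z hz).mul_right
          (show Commute z y from hy.1 r hr z hz)).eq
      · have hxy : (x : G) * y = y * x := by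
          clear hy
          induction hy' using iSup_induction' with
          | hp r y hy2 => exact (hx.1 r (Nat.prime_of_mem_primeFactors r.2) _ ⟨y, hy2, rfl⟩).symm
          | h1 => simp
          | hmul y z _ _ iy iz =>
            exact ((show Commute (x : G) y from iy).mul_right (show Commute (x : G) z from iz)).eq
        rw [coe_mul, conj_involution_mul h.refl.sq, hx.2, hy.2, ← mul_inv_rev, hxy]
  refine ⟨fun x hx y hy => ?_, fun w hw => (hall ⟨w, hw⟩).2⟩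
  have e := (hall ⟨x * y, mul_mem hx hy⟩).2
  rw [conj_involution_mul h.refl.sq, (hall ⟨x, hx⟩).2, (hall ⟨y, hy⟩).2] at e
  simpa [mul_inv_rev] using (congrArg (·⁻¹) e).symm

end Four

end CfsgLib.GW.CaseOne
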