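import Cfsg.Agent.Lib.GW.CaseOneOuterTop

/-!
Gorenstein–Walter, a maximal subgroup whose quotient by the odd core has a normal `PSL₂(q)` missing
some reflection cannot exist.
-/

set_option autoImplicit false
set_option linter.unusedSectionVars false
set_option linter.unusedVariables false
set_option linter.style.haveILetI false
set_option maxHeartbeats 400000

namespace CfsgLib.GW.CaseOne

open Subgroup CfsgLib.RankOneInvol

universe u

theorem outer_divisors : ∀ q ∈ List.range 307, 7 ≤ q → q % 4 = 3 →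
    (q ∣ 30 → q = 15) ∧ (q ∣ 90 → q = 15) ∧ (q ∣ 182 → q = 7 ∨ q = 91) ∧
      (q ∣ 306 → q = 51 ∨ q = 153) := by
  decide +kernel

/-- The order formula against the number of points. -/
theorem outer_arith {k q τ i f : ℕ} {δ : ℤ} (hδ : δ = 1 ∨ δ = -1) (hf : 5 ≤ f) (hk : 1 ≤ k)
    (hfd : (2 ^ (k + 1) : ℤ) ∣ (f : ℤ) - δ) (hq7 : 7 ≤ q) (hτ : Odd τ)
    (hqτ : q + 1 = 2 ^ (k + 1) * τ) (hi : q * (q + 1) + 2 ≤ 2 * i)
    (heq : 4 * (i : ℤ) * q * ((q : ℤ) - 1) * ((f : ℤ) - δ) ^ 2 =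
      (f : ℤ) * ((f : ℤ) + δ) * ((q : ℤ) + 1) ^ 4) : False := by
  have hq : (7 : ℤ) ≤ q := by exact_mod_cast hq7
  have hf' : (5 : ℤ) ≤ f := by exact_mod_cast hf
  set A : ℤ := 2 * q * ((q : ℤ) - 1) * ((q : ℤ) ^ 2 + q + 2) with hA
  have hbig : A * ((f : ℤ) - δ) ^ 2 ≤ (f : ℤ) * ((f : ℤ) + δ) * ((q : ℤ) + 1) ^ 4 := by
    rw [← heq, hA]
    have h1 : ((q : ℤ) ^ 2 + q + 2) ≤ 2 * i := by
      have : (q : ℤ) * ((q : ℤ) + 1) + 2 ≤ 2 * i := by exact_mod_cast hi
      linarith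
    have h2 : (0 : ℤ) ≤ 2 * q * ((q : ℤ) - 1) * ((f : ℤ) - δ) ^ 2 :=
      mul_nonneg (mul_nonneg (by linarith) (by linarith)) (sq_nonneg _)
    nlinarith [mul_le_mul_of_nonneg_left h1 h2]
  have hdvd : (q : ℤ) ∣ (f : ℤ) * ((f : ℤ) + δ) := by
    have hc : IsCoprime (q : ℤ) (((q : ℤ) + 1) ^ 4) :=
      IsCoprime.pow_right ⟨-1, 1, by ring⟩
    refine hc.dvd_of_dvd_mul_right ?_
    rw [← heq]
    exact ⟨4 * (i : ℤ) * ((q : ℤ) - 1) * ((f : ℤ) - δ) ^ 2, by ring⟩
  rcases hδ with rfl | rfl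
  · have hlt : f ≤ 20 := by
      by_contra hc
      have hc' : (21 : ℤ) ≤ f := by exact_mod_cast (show 21 ≤ f by omega)
      have h1 : 400 * ((f : ℤ) * ((f : ℤ) + 1)) ≤ 462 * ((f : ℤ) - 1) ^ 2 := by nlinarith
      have h4 : (0 : ℤ) ≤ ((q : ℤ) + 1) ^ 4 := by positivity
      have h2 : 400 * A ≤ 462 * ((q : ℤ) + 1) ^ 4 := by
        have h5 : (0 : ℤ) < ((f : ℤ) - 1) ^ 2 := by nlinarith
        refine le_of_mul_le_mul_right ?_ h5
        nlinarith [mul_le_mul_of_nonneg_right h1 h4]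
      obtain ⟨s, hs, hqs⟩ : ∃ s : ℤ, 0 ≤ s ∧ (q : ℤ) = 7 + s := ⟨q - 7, by linarith, by ring⟩
      rw [hA, hqs] at h2
      nlinarith [pow_nonneg hs 2, pow_nonneg hs 3, pow_nonneg hs 4]
    have hdvd' : q ∣ f * (f + 1) := by exact_mod_cast hdvd
    have h4 : 4 ∣ 2 ^ (k + 1) := (pow_dvd_pow 2 (show 2 ≤ k + 1 by omega))
    have hf4 : (4 : ℤ) ∣ (f : ℤ) - 1 := (Int.natCast_dvd_natCast.2 h4).trans (by exact_mod_cast hfd)
    have hq4 : q % 4 = 3 := by
      have := hqτ ▸ dvd_mul_of_dvd_left h4 τ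
      omega
    have hτ1 : (q = 15 ∨ q = 7) → 2 ^ (k + 1) = q + 1 := fun hq' => by
      suffices τ = 1 by rw [hqτ, this, mul_one]
      refine Nat.eq_one_of_dvd_coprimes ((Nat.coprime_two_right.2 hτ).pow_right 4) dvd_rfl ?_
      have h8 : τ ∣ q + 1 := Dvd.intro_left _ hqτ.symm
      rcases hq' with rfl | rfl
      · simpa using h8
      · exact h8.trans (by norm_num)
    have hfd' : ∀ {N : ℕ}, 2 ^ (k + 1) = N → (N : ℤ) ∣ (f : ℤ) - 1 := fun e => by
      rw [← e]; exact_mod_cast hfd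
    obtain ⟨h30, h90, h182, h306⟩ : (q ∣ 30 → q = 15) ∧ (q ∣ 90 → q = 15) ∧
        (q ∣ 182 → q = 7 ∨ q = 91) ∧ (q ∣ 306 → q = 51 ∨ q = 153) := by
      refine outer_divisors q (List.mem_range.2 ?_) hq7 hq4
      have := Nat.le_of_dvd (by nlinarith) hdvd'
      obtain ⟨c, hc⟩ := hf4
      have : f ≤ 17 := by omega
      have := Nat.mul_le_mul this (show f + 1 ≤ 18 by omega)
      omega
    obtain ⟨c, hc⟩ := hf4
    have : f = 5 ∨ f = 9 ∨ f = 13 ∨ f = 17 := by omega
    rcases this with rfl | rfl | rfl | rfl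
    · have e := h30 hdvd'
      have := hfd' (hτ1 (Or.inl e))
      rw [e] at this; norm_num at this
    · have e := h90 hdvd'
      have := hfd' (hτ1 (Or.inl e))
      rw [e] at this; norm_num at this
    · rcases h182 hdvd' with e | e
      · have := hfd' (hτ1 (Or.inr e))
        rw [e] at this; norm_num at this
      · rw [hA, e] at hbig; norm_num at hbig
    · rcases h306 hdvd' with e | e <;> rw [hA, e] at hbig <;> norm_num at hbig
  · have h1 : (f : ℤ) * ((f : ℤ) + -1) < ((f : ℤ) - -1) ^ 2 := by nlinarith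
    have h2 : ((q : ℤ) + 1) ^ 4 ≤ A := by
      obtain ⟨s, hs, hqs⟩ : ∃ s : ℤ, 0 ≤ s ∧ (q : ℤ) = 7 + s := ⟨q - 7, by linarith, by ring⟩
      rw [hA, hqs]
      nlinarith [pow_nonneg hs 2, pow_nonneg hs 3, pow_nonneg hs 4]
    have h3 : (0 : ℤ) < ((q : ℤ) + 1) ^ 4 := by positivity
    nlinarith [mul_lt_mul_of_pos_right h1 h3, mul_le_mul_of_nonneg_right h2
      (sq_nonneg ((f : ℤ) - -1))]

variable {G : Type u} [Group G]

namespace Two

variable [Finite G] {E : Setup G} {M : Subgroup G} {L : Subgroup (Tp M)} {b b₁ : G}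
variable {F : Type} [Field F] [Fintype F]
variable (h : Two E M L b b₁)
include h

theorem card_X_conj {s c d : G} (hs : s ∈ (E.S : Subgroup G)) (hcd : s * c * s⁻¹ = d) :
    Nat.card (E.X c) = Nat.card (E.X d) := by
  subst hcd
  refine Nat.card_congr ((MulAut.conj s).toEquiv.subtypeEquiv fun x => ?_)
  show x ∈ E.U ∧ x ∈ centralizer ({c} : Set G) ↔
    s * x * s⁻¹ ∈ E.U ∧ s * x * s⁻¹ ∈ centralizer ({s * c * s⁻¹} : Set G)
  rw [mem_centralizer_singleton_iff, mem_centralizer_singleton_iff]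
  constructor
  · exact fun ⟨h1, h2⟩ => ⟨E.conj_mem_U (E.S_le_H hs) h1, Setup.commute_conj h2⟩
  · rintro ⟨h1, h2⟩
    refine ⟨?_, ?_⟩
    · have := E.conj_mem_U (E.S_le_H (inv_mem hs)) h1
      simpa [mul_assoc] using this
    · have := Setup.commute_conj (g := s⁻¹) h2
      simpa [mul_assoc] using this

variable (hL : Field.Psl L F)
include hL

theorem Tset_inj {c z z' : G} (hc : E.Refl c) (hz : z ∈ Tset E M c) (hz' : z' ∈ Tset E M c)
    (e : bar M z = bar M z') : z = z' := by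
  set w := z⁻¹ * z' with hw
  have hwW : w ∈ coreIn M := by
    refine (bar_eq_one_iff (mul_mem (inv_mem hz.1) hz'.1)).1 ?_
    rw [bar_mul (inv_mem hz.1) hz'.1, bar_inv hz.1, e, inv_mul_cancel]
  have hwt : E.t * w * E.t = w := (conj_eq_iff_commute E.t_sq).2 (h.core_le w hwW)
  have hwz : Commute w z⁻¹ := (show Commute w z from h.Tset_commute hL hc hz w hwW).inv_right
  have hwi : E.t * w * E.t = w⁻¹ := by
    rw [hwt]
    have e1 := hz'.2.2.2
    rw [show z' = z * w by rw [hw, mul_inv_cancel_left], conj_involution_mul E.t_sq, hz.2.2.2, hwt,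
      mul_inv_rev, ← hwz.eq] at e1
    exact mul_right_cancel e1
  exact inv_mul_eq_one.1 (eq_one_of_fixed_inverted (odd_card_coreIn M) hwW hwt hwi)

theorem exists_ne_one {c : G} (hc : E.Refl c) (hcL : bar M c ∉ L) :
    ∃ z ∈ Tset E M c, z ≠ 1 := by
  by_contra hno
  push Not at hno
  haveI : Subsingleton (Tset E M c) :=
    ⟨fun z z' => Subtype.ext ((hno _ z.2).trans (hno _ z'.2).symm)⟩
  have h1 := Finite.card_le_one_iff_subsingleton.2 (inferInstance : Subsingleton (Tset E M c))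
  rw [h.card_Tset hL hc hcL] at h1
  have := (h.outer_facts hL).2.1
  omega

/-- The quotient by the odd core cannot miss a reflection. -/
theorem false_of_psl_two : False := by
  classical
  haveI := h.normal
  have hb := h.refl_mem h.refl
  have hbt := h.refl.mul_t
  have hbtL : bar M (b * E.t) ∉ L := fun e => h.outer (by
    rw [bar_mul hb h.t_mem] at e
    exact (mul_mem_cancel_right h.t_inner).1 e)
  obtain ⟨g, hgt, hgb, hgbt⟩ := h.refl.exists_rot
  have hgi : g⁻¹ * b * g = E.t := by rw [← hgt]; group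
  have hgi' : g⁻¹ * E.t * g = b * E.t := by
    calc g⁻¹ * E.t * g = g⁻¹ * (g * (b * E.t) * g⁻¹) * g := by rw [hgbt]
      _ = b * E.t := by group
  have hgM : g ∉ M := fun hg => (h.not_conj hg).1 hgt
  -- the rotation carries the odd core into `M` both ways
  obtain ⟨z₀, hz₀, hz₀1⟩ := h.exists_ne_one hL hbt hbtL
  have ha₀ := h.rot_Tset hL hbt hbtL h.refl hgbt hgt hz₀
  have hC₀ := h.centralizer_le hL ha₀.1 (fun e => hz₀1 (conj_eq_one_iff.1 e)) ha₀.2
  have hWg : ∀ w ∈ coreIn M, g * w * g⁻¹ ∈ M := fun w hw =>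
    hC₀ (mem_centralizer_left.2 (Setup.commute_conj (h.Tset_commute hL hbt hz₀ w hw)))
  have hrotb : ∀ z ∈ Tset E M b, g⁻¹ * z * g ∈ inverted (coreIn M) b := fun z hz => by
    have h1 := h.rot_Tset hL h.refl h.outer hbt (g := g⁻¹) (by rw [inv_inv]; exact hgi)
      (by rw [inv_inv]; exact hgi') hz
    rw [inv_inv, h.inverted_mul_t] at h1
    exact h1
  set m := Nat.card (inverted (coreIn M) b)
  have hm : m = Nat.card (Field.torus L (bar M b)) := by
    refine le_antisymm ?_ (Nat.le_of_dvd ?_ (h.outer_dvd hL))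
    · rw [← h.card_Tset hL h.refl h.outer]
      refine Nat.card_le_card_of_injective (fun v : inverted (coreIn M) b =>
        (⟨g * (v : G) * g⁻¹, hWg _ v.2.1, odd_orderOf_conj
          (odd_orderOf_of_mem (odd_card_coreIn M) v.2.1) g, ?_, ?_⟩ : Tset E M b)) ?_
      · have e := Setup.commute_conj (g := g) (h.core_le _ v.2.1)
        rw [hgt] at e
        exact e
      · have e : b * E.t * (v : G) * (b * E.t) = (v : G)⁻¹ :=
          (h.inverted_mul_t.symm ▸ v.2 : (v : G) ∈ inverted (coreIn M) (b * E.t)).2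
        calc E.t * (g * v * g⁻¹) * E.t
            = g * (b * E.t) * g⁻¹ * (g * v * g⁻¹) * (g * (b * E.t) * g⁻¹) := by rw [hgbt]
          _ = g * (b * E.t * (v : G) * (b * E.t)) * g⁻¹ := by group
          _ = (g * v * g⁻¹)⁻¹ := by rw [e]; group
      · intro v v' e
        exact Subtype.ext (mul_left_cancel (mul_right_cancel (congrArg Subtype.val e :)))
    · haveI : Nonempty (inverted (coreIn M) b) :=
        ⟨⟨1, one_mem _, by rw [mul_one, h.refl.sq, inv_one]⟩⟩
      exact Nat.card_pos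
  -- the points `x⁻¹ g M`
  set p₀ : G ⧸ M := (g : G ⧸ M) with hp₀
  have hne : ∀ x ∈ M, x⁻¹ • p₀ ≠ ((1 : G) : G ⧸ M) := fun x hx e => by
    rw [hp₀, MulAction.Quotient.smul_coe, smul_eq_mul, QuotientGroup.eq, mul_one, mul_inv_rev,
      inv_inv] at e
    exact hgM (inv_mem_iff.1 ((M.mul_mem_cancel_right hx).1 e))
  obtain ⟨z₁, hz₁, hz₁1⟩ := h.exists_ne_one hL h.refl h.outer
  have hinv : ∀ x ∈ M, ∀ x' ∈ M, x⁻¹ • p₀ = x'⁻¹ • p₀ →
      (bar M x)⁻¹ * bar M b * bar M x = (bar M x')⁻¹ * bar M b * bar M x' := by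
    intro x hx x' hx' e
    rw [hp₀, MulAction.Quotient.smul_coe, MulAction.Quotient.smul_coe, smul_eq_mul, smul_eq_mul,
      QuotientGroup.eq] at e
    set d := x * x'⁻¹ with hd
    have hdM : d ∈ M := mul_mem hx (inv_mem hx')
    have hn : g⁻¹ * d * g ∈ M := by
      have e' : (x⁻¹ * g)⁻¹ * (x'⁻¹ * g) = g⁻¹ * d * g := by rw [hd]; group
      rwa [e'] at e
    have hdz : d * z₁ * d⁻¹ * b = b * (d * z₁ * d⁻¹) := by
      have h1 := h.core_le _ (conj_mem_coreIn hn (hrotb z₁ hz₁).1)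
      have h2 := Setup.commute_conj (g := g) h1
      rw [hgt] at h2
      have e1 : g * (g⁻¹ * d * g * (g⁻¹ * z₁ * g) * (g⁻¹ * d * g)⁻¹) * g⁻¹ = d * z₁ * d⁻¹ := by
        group
      rwa [e1] at h2
    have hz₁M := hz₁.1
    have h3 := commute_bar (mul_mem (mul_mem hdM hz₁M) (inv_mem hdM)) hb hdz
    rw [bar_conj hdM hz₁M] at h3
    set v := (bar M d)⁻¹ * bar M b * bar M d with hv
    have hvo : orderOf v = 2 := by
      have e1 := CfsgLib.Involutions.orderOf_conj_eq (bar M d)⁻¹ (bar M b)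
      rw [inv_inv] at e1
      rw [hv, e1, bar_involution hb h.refl.orderOf_eq]
    have hz₁T := h.Tset_bar hL h.refl hz₁
    have hz₁b : bar M z₁ ≠ 1 := fun e1 => hz₁1 (h.Tset_inj hL h.refl hz₁
      ⟨one_mem _, by rw [orderOf_one]; exact odd_one, by rw [one_mul, mul_one],
        by rw [mul_one, E.t_sq, inv_one]⟩ (by rw [e1, bar_one]))
    have hvb : v = bar M b := hL.eq_of_commute_torus (bar_involution hb h.refl.orderOf_eq) hvo
      hz₁T hz₁b (by
        calc bar M z₁ * v = (bar M d)⁻¹ * (bar M d * bar M z₁ * (bar M d)⁻¹ * bar M b) * bar M d := by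
              rw [hv]; group
          _ = v * bar M z₁ := by rw [h3, hv]; group)
    have hdb : bar M x * (bar M x')⁻¹ = bar M d := by
      rw [hd, bar_mul hx (inv_mem hx'), bar_inv hx']
    calc (bar M x)⁻¹ * bar M b * bar M x
        = (bar M x')⁻¹ * ((bar M d)⁻¹ * bar M b * bar M d) * bar M x' := by rw [← hdb]; group
      _ = (bar M x')⁻¹ * bar M b * bar M x' := by rw [← hv, hvb]
  -- the orbit
  set Cb := centralizer ({bar M b} : Set (Tp M))
  have horb : Cb.index + 1 ≤ M.index := by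
    rw [index_eq_card, index_eq_card, ← Finite.card_option]
    choose c hc hce using fun τ : Tp M => exists_bar (M := M) τ
    refine Nat.card_le_card_of_injective (fun o : Option (Tp M ⧸ Cb) =>
      o.elim ((1 : G) : G ⧸ M) fun o => (c o.out⁻¹)⁻¹ • p₀) ?_
    rintro (- | o) (- | o') e
    · rfl
    · exact absurd e.symm (hne _ (hc _))
    · exact absurd e (hne _ (hc _))
    · have h1 := hinv _ (hc _) _ (hc _) e
      rw [hce, hce, inv_inv, inv_inv] at h1
      refine congrArg some ?_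
      rw [← QuotientGroup.out_eq' o, ← QuotientGroup.out_eq' o', QuotientGroup.eq,
        mem_centralizer_singleton_iff]
      calc o.out⁻¹ * o'.out * bar M b
          = o.out⁻¹ * (o'.out * bar M b * o'.out⁻¹) * o'.out := by group
        _ = bar M b * (o.out⁻¹ * o'.out) := by rw [← h1]; group
  -- the fixed points
  set σ := E.d.t
  have hσM : σ ∈ M := h.S_le E.d.t_mem
  obtain ⟨hσt, hσb⟩ := h.refl.swap h.one_le_k
  have hσbt : σ * (b * E.t) * σ⁻¹ = b := by
    calc σ * (b * E.t) * σ⁻¹ = (σ * b * σ⁻¹) * (σ * E.t * σ⁻¹) := by group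
      _ = b := by rw [hσb, hσt, mul_assoc, E.t_sq, mul_one]
  let X : Option (Tset E M b) → G := fun o => o.elim 1 fun w => (w : G)⁻¹ * σ * w
  have hX : ∀ o, X o ∈ M := by
    rintro (- | w)
    · exact one_mem M
    · exact mul_mem (mul_mem (inv_mem w.2.1) hσM) w.2.1
  have htw : ∀ w : Tset E M b, (w : G)⁻¹ * E.t * (w : G) = E.t * ((w : G) * (w : G)) := fun w => by
    rw [← w.2.2.2.2]
    calc E.t * (w : G) * E.t * E.t * (w : G) = E.t * (w : G) * (E.t * E.t) * (w : G) := by group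
      _ = E.t * ((w : G) * (w : G)) := by rw [E.t_sq]; group
  have hconjw : ∀ w : Tset E M b,
      (w : G)⁻¹ * (b * E.t) * (w : G) = b * (E.t * ((w : G) * (w : G))) := fun w => by
    have hwb : Commute (w : G)⁻¹ b := (show Commute (w : G) b from w.2.2.2.1).inv_left
    calc (w : G)⁻¹ * (b * E.t) * (w : G) = ((w : G)⁻¹ * b) * E.t * (w : G) := by group
      _ = b * ((w : G)⁻¹ * E.t * (w : G)) := by rw [hwb.eq]; group
      _ = _ := by rw [htw]
  have hbw : ∀ w : Tset E M b, (w : G) * b * (w : G)⁻¹ = b := fun w => by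
    rw [w.2.2.2.1, mul_inv_cancel_right]
  have hXb : ∀ w : Tset E M b,
      X (some w) * b * (X (some w))⁻¹ = b * (E.t * ((w : G) * (w : G))) := fun w => by
    show (w : G)⁻¹ * σ * w * b * ((w : G)⁻¹ * σ * w)⁻¹ = _
    rw [show (w : G)⁻¹ * σ * w * b * ((w : G)⁻¹ * σ * w)⁻¹ =
      (w : G)⁻¹ * (σ * ((w : G) * b * (w : G)⁻¹) * σ⁻¹) * w by group, hbw, hσb, hconjw]
  have hXb' : ∀ w : Tset E M b,
      (X (some w))⁻¹ * b * X (some w) = b * (E.t * ((w : G) * (w : G))) := fun w => by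
    show ((w : G)⁻¹ * σ * w)⁻¹ * b * ((w : G)⁻¹ * σ * w) = _
    rw [show ((w : G)⁻¹ * σ * w)⁻¹ * b * ((w : G)⁻¹ * σ * w) =
      (w : G)⁻¹ * (σ⁻¹ * ((w : G) * b * (w : G)⁻¹) * σ) * w by group, hbw, ← hconjw]
    congr 2
    calc σ⁻¹ * b * σ = σ⁻¹ * (σ * (b * E.t) * σ⁻¹) * σ := by rw [hσbt]
      _ = b * E.t := by group
  have hfixpt : ∀ o, b • ((X o)⁻¹ • p₀) = (X o)⁻¹ • p₀ := by
    intro o
    rw [hp₀, MulAction.Quotient.smul_coe, MulAction.Quotient.smul_coe, smul_eq_mul, smul_eq_mul,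
      QuotientGroup.eq]
    have e1 : (b * ((X o)⁻¹ * g))⁻¹ * ((X o)⁻¹ * g) = g⁻¹ * (X o * b * (X o)⁻¹) * g := by
      rw [mul_inv_rev, h.refl.inv]; group
    rw [e1]
    rcases o with - | w
    · show g⁻¹ * (1 * b * 1⁻¹) * g ∈ M
      rw [one_mul, inv_one, mul_one, hgi]
      exact h.t_mem
    · rw [hXb]
      have h1 := coreIn_le M (hrotb _ w.2).1
      rw [show g⁻¹ * (b * (E.t * ((w : G) * (w : G)))) * g = g⁻¹ * b * g * (g⁻¹ * E.t * g) *
        (g⁻¹ * (w : G) * g * (g⁻¹ * (w : G) * g)) by group, hgi, hgi']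
      exact mul_mem (mul_mem h.t_mem (h.refl_mem hbt)) (mul_mem h1 h1)
  have hfix : Nat.card (Field.torus L (bar M b)) + 2 ≤
      Nat.card {p : G ⧸ M // b • p = p} := by
    rw [← h.card_Tset hL h.refl h.outer,
      show Nat.card (Tset E M b) + 2 = Nat.card (Option (Option (Tset E M b))) by
        rw [Finite.card_option, Finite.card_option]]
    refine Nat.card_le_card_of_injective (fun o : Option (Option (Tset E M b)) =>
      o.elim (⟨((1 : G) : G ⧸ M), ?_⟩ : {p : G ⧸ M // b • p = p})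
        fun o => ⟨(X o)⁻¹ • p₀, hfixpt o⟩) ?_
    · rw [MulAction.Quotient.smul_coe, smul_eq_mul, mul_one, QuotientGroup.eq, mul_one]
      exact inv_mem hb
    · rintro (- | o) (- | o') e
      · rfl
      · exact absurd (congrArg Subtype.val e).symm (hne _ (hX _))
      · exact absurd (congrArg Subtype.val e) (hne _ (hX _))
      · refine congrArg some ?_
        have h1 := hinv _ (hX o) _ (hX o') (congrArg Subtype.val e)
        rw [← bar_inv (hX o), ← bar_mul (inv_mem (hX o)) hb,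
          ← bar_mul (mul_mem (inv_mem (hX o)) hb) (hX o), ← bar_inv (hX o'),
          ← bar_mul (inv_mem (hX o')) hb,
          ← bar_mul (mul_mem (inv_mem (hX o')) hb) (hX o')] at h1
        have hww : ∀ w : Tset E M b, bar M (b * (E.t * ((w : G) * (w : G)))) =
            bar M b * (bar M E.t * (bar M (w : G) * bar M (w : G))) := fun w => by
          rw [bar_mul hb (mul_mem h.t_mem (mul_mem w.2.1 w.2.1)),
            bar_mul h.t_mem (mul_mem w.2.1 w.2.1), bar_mul w.2.1 w.2.1]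
        have hnone : ∀ w : Tset E M b,
            bar M b ≠ bar M b * (bar M E.t * (bar M (w : G) * bar M (w : G))) := fun w e1 => by
          have e2 := left_eq_mul.1 e1
          have h5 : bar M E.t ∈ Field.torus L (bar M b) := by
            rw [eq_inv_of_mul_eq_one_left e2]
            exact inv_mem (mul_mem (h.Tset_bar hL h.refl w.2) (h.Tset_bar hL h.refl w.2))
          have h7 := ((hL.mem_torus (bar_involution hb h.refl.orderOf_eq)).1 h5).2.2
          rw [bar_involution h.t_mem E.orderOf_t] at h7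
          exact absurd h7 (by decide)
        rcases o with - | w <;> rcases o' with - | w'
        · rfl
        · rw [show (X none)⁻¹ * b * X none = b by show (1 : G)⁻¹ * b * 1 = b; group, hXb', hww] at h1
          exact absurd h1 (hnone w')
        · rw [show (X none)⁻¹ * b * X none = b by show (1 : G)⁻¹ * b * 1 = b; group, hXb', hww] at h1
          exact absurd h1.symm (hnone w)
        · rw [hXb', hXb', hww, hww] at h1
          refine congrArg some (Subtype.ext (h.Tset_inj hL h.refl w.2 w'.2 ?_))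
          exact sq_inj_mem (hL.odd_card_torus (bar_involution hb h.refl.orderOf_eq))
            (h.Tset_bar hL h.refl w.2) (h.Tset_bar hL h.refl w'.2)
            (mul_left_cancel (mul_left_cancel h1))
  -- the sign
  obtain ⟨hτ', -, -⟩ := h.outer_facts hL
  have hfe := h.fixed_eq hL h.refl.orderOf_eq
  rw [show Nat.card (inverted (coreIn M) b) = m from rfl, hm] at hfe
  have heps : FieldModel.eps (Fintype.card F) = -1 := by
    rcases FieldModel.eps_cases (Fintype.card F) with e | e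
    · exfalso
      rw [e] at hτ' hfe
      have hfix' : (Nat.card (Field.torus L (bar M b)) : ℤ) + 2 ≤
          Nat.card {p : G ⧸ M // b • p = p} := by exact_mod_cast hfix
      have hq : (0 : ℤ) ≤ Fintype.card F := by positivity
      nlinarith
    · exact e
  rw [heps] at hτ'
  -- the order formula
  obtain ⟨hqodd, hq5, -⟩ := h.card_L_facts hL
  set q := Fintype.card F
  set τ := Nat.card (Field.torus L (bar M E.t))
  have hτeq := h.two_pow_torus hL
  rw [show Fintype.card F = q from rfl, heps, sub_neg_eq_add] at hτeq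
  have hqτ : q + 1 = 2 ^ (E.d.k + 1) * τ := by exact_mod_cast hτeq
  have hτodd : Odd τ := hL.odd_card_torus (bar_involution h.t_mem E.orderOf_t)
  have hq7 : 7 ≤ q := by
    have h4 : 4 ∣ q + 1 := hqτ ▸ dvd_mul_of_dvd_left
      (pow_dvd_pow 2 (show 2 ≤ E.d.k + 1 by have := h.one_le_k; omega)) τ
    omega
  have hcls := hL.two_mul_class_outer (bar_involution hb h.refl.orderOf_eq) h.outer
  rw [show Fintype.card F = q from rfl, heps, sub_neg_eq_add] at hcls
  have hidx : 2 * (Cb.index : ℤ) = (q : ℤ) * ((q : ℤ) + 1) := by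
    have h1 := congrArg (Nat.cast : ℕ → ℤ) Cb.card_mul_index
    push_cast at h1
    refine mul_left_cancel₀ (Int.natCast_ne_zero.2 (Nat.card_pos (α := Cb)).ne') ?_
    linear_combination 2 * h1 + hcls
  have hi : q * (q + 1) + 2 ≤ 2 * M.index := by
    have h1 : q * (q + 1) = 2 * Cb.index := by exact_mod_cast hidx.symm
    omega
  obtain ⟨f, δ, hδ, hf5, -, hfd, hG⟩ :=
    Formula.exists_degree E.S E.d h.one_le_k fun x hx => E.exists_conj hx
  refine outer_arith hδ hf5 h.one_le_k hfd hq7 hτodd hqτ hi ?_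
  have hfb := h.toOver.card_U_mul_fixed h.refl
  have hfb₁ := h.toOver.card_U_mul_fixed h.refl₁
  rw [h.toOver.card_inverted_img hL h.refl, h.core_inf_t] at hfb
  rw [h.toOver.card_inverted_img hL h.refl₁, h.core_inf_t,
    show coreIn M ⊓ centralizer ({b₁} : Set G) = coreIn M from
      inf_eq_left.2 fun w hw => mem_centralizer_left.2 (h.b₁_commute hw)] at hfb₁
  have hw := card_fixed_mul_inverted (odd_card_coreIn M) h.refl.sq
    fun x hx => conj_mem_of_inv h.refl.sq hb hx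
  have hU := h.toOver.card_U_mul
  rw [h.core_inf_t] at hU
  -- the two classes of reflections
  have hXsum : 1 / (Nat.card (E.X E.d.a) : ℚ) + 1 / (Nat.card (E.X (E.d.r * E.d.a)) : ℚ) =
      1 / (Nat.card (E.X b) : ℚ) + 1 / (Nat.card (E.X b₁) : ℚ) := by
    obtain ⟨s₀, hs₀, e₀⟩ := refl_cases h.refl
    obtain ⟨s₁, hs₁, e₁⟩ := refl_cases h.refl₁
    have hd : ∀ x, s₀ * b * s₀⁻¹ = x → s₁ * b₁ * s₁⁻¹ = x → False := fun x h1 h2 => by
      refine h.outer ((h.conj_S_mem_iff hs₀ hb).1 ?_)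
      rw [h1, ← h2]
      exact (h.conj_S_mem_iff hs₁ (h.refl_mem h.refl₁)).2 h.inner
    rcases e₀ with e₀ | e₀ <;> rcases e₁ with e₁ | e₁
    · exact (hd _ e₀ e₁).elim
    · rw [← h.card_X_conj hs₀ e₀, ← h.card_X_conj hs₁ e₁]
    · rw [← h.card_X_conj hs₀ e₀, ← h.card_X_conj hs₁ e₁]; ring
    · exact (hd _ e₀ e₁).elim
  have hcin := hL.two_mul_class_inner (bar_involution h.t_mem E.orderOf_t) h.t_inner
  rw [show Fintype.card F = q from rfl, heps] at hcin
  have hGi := h.toOver.index_mul_card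
  change (Nat.card G : ℚ) * ((f : ℚ) - δ) ^ 2 = f * ((f : ℚ) + δ) * 2 ^ (3 * E.d.k + 3) *
    (Nat.card E.U : ℚ) ^ 3 *
    (1 / (Nat.card (E.X E.d.a) : ℚ) + 1 / (Nat.card (E.X (E.d.r * E.d.a)) : ℚ)) ^ 2 at hG
  rw [hXsum] at hG
  have hfb' := congrArg (Nat.cast : ℕ → ℚ) hfb
  have hfb₁' := congrArg (Nat.cast : ℕ → ℚ) hfb₁
  have hw' := congrArg (Nat.cast : ℕ → ℚ) hw
  have hU' := congrArg (Nat.cast : ℕ → ℚ) hU
  have hcin' := congrArg (Int.cast : ℤ → ℚ) hcin
  have hGi' := congrArg (Nat.cast : ℕ → ℚ) hGi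
  have hτeq' := congrArg (Int.cast : ℤ → ℚ) hτeq
  have hτ'' := congrArg (Int.cast : ℤ → ℚ) hτ'
  change ((Nat.card E.U * Nat.card (coreIn M ⊓ centralizer ({b} : Set G) : Subgroup G) : ℕ) : ℚ) =
    ((Nat.card (E.X b) * Nat.card (coreIn M) * τ : ℕ) : ℚ) at hfb'
  change ((Nat.card E.U * Nat.card (coreIn M) : ℕ) : ℚ) =
    ((Nat.card (E.X b₁) * Nat.card (coreIn M) * τ : ℕ) : ℚ) at hfb₁'
  push_cast at hfb' hfb₁' hw' hU' hcin' hGi' hτeq' hτ''
  rw [show Nat.card (inverted (coreIn M) b) = m from rfl, hm] at hw'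
  set u : ℚ := (Nat.card E.U : ℚ)
  set xb : ℚ := (Nat.card (E.X b) : ℚ)
  set x1 : ℚ := (Nat.card (E.X b₁) : ℚ)
  set w0 : ℚ := (Nat.card (coreIn M) : ℚ)
  set y : ℚ := (Nat.card (coreIn M ⊓ centralizer ({b} : Set G) : Subgroup G) : ℚ)
  set Ct : ℚ := (Nat.card (centralizer ({bar M E.t} : Set (Tp M))) : ℚ)
  set τ' : ℚ := (Nat.card (Field.torus L (bar M b)) : ℚ)
  have hu : 0 < u := Nat.cast_pos.2 Nat.card_pos
  have hxb : 0 < xb := Nat.cast_pos.2 Nat.card_pos
  have hx1 : 0 < x1 := Nat.cast_pos.2 Nat.card_pos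
  have hy : 0 < y := Nat.cast_pos.2 Nat.card_pos
  have hw0 : 0 < w0 := Nat.cast_pos.2 Nat.card_pos
  have eb : u = xb * τ' * τ := by
    refine mul_right_cancel₀ hy.ne' ?_
    linear_combination hfb' + xb * (τ : ℚ) * hw'
  have e1 : u = x1 * τ := by
    refine mul_right_cancel₀ hw0.ne' ?_
    linear_combination hfb₁'
  have hs : u * (1 / xb + 1 / x1) = τ * (τ' + 1) := by
    rw [mul_add, mul_one_div, mul_one_div]
    nth_rewrite 1 [eb]
    nth_rewrite 1 [e1]
    rw [show xb * τ' * τ / xb = τ' * τ by field_simp, show x1 * (τ : ℚ) / x1 = τ by field_simp]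
    ring
  have key : 4 * (M.index : ℚ) * q * ((q : ℚ) - 1) * ((f : ℚ) - δ) ^ 2 =
      f * ((f : ℚ) + δ) * ((q : ℚ) + 1) ^ 4 := by
    refine mul_right_cancel₀ (mul_ne_zero hu.ne' (pow_ne_zero (E.d.k + 2) two_ne_zero)) ?_
    calc 4 * (M.index : ℚ) * q * ((q : ℚ) - 1) * ((f : ℚ) - δ) ^ 2 * (u * 2 ^ (E.d.k + 2))
        = 4 * (M.index : ℚ) * w0 * (Ct * (q * ((q : ℚ) + -1))) * ((f : ℚ) - δ) ^ 2 := by
          rw [hU']; ring
      _ = 8 * ((M.index : ℚ) * (w0 * (Nat.card (Tp M) : ℚ))) * ((f : ℚ) - δ) ^ 2 := by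
          rw [← hcin']; ring
      _ = 8 * (f * ((f : ℚ) + δ) * 2 ^ (3 * E.d.k + 3) * u ^ 3 * (1 / xb + 1 / x1) ^ 2) := by
          rw [hGi', mul_assoc, hG]
      _ = 8 * (f * ((f : ℚ) + δ) * 2 ^ (3 * E.d.k + 3) * u * (u * (1 / xb + 1 / x1)) ^ 2) := by ring
      _ = 4 * (f * ((f : ℚ) + δ)) * (2 ^ (E.d.k + 1) * (τ : ℚ)) ^ 2 * (τ' + 1) ^ 2 *
            (u * 2 ^ (E.d.k + 2)) := by
          rw [hs, show (2 : ℚ) ^ (3 * E.d.k + 3) = 2 ^ (E.d.k + 1) * 2 ^ (E.d.k + 1) * 2 ^ (E.d.k + 1) by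
            rw [← pow_add, ← pow_add]; ring_nf, pow_succ _ (E.d.k + 1)]
          ring
      _ = _ := by
          rw [← hτeq', show (τ' + 1) = ((q : ℚ) + 1) / 2 by linarith]
          ring
  exact_mod_cast key

end Two

end CfsgLib.GW.CaseOne
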