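import Cfsg.Agent.Lib.GW.CaseOneFourTI
import Cfsg.Agent.Lib.GW.CaseOneOuter
import Cfsg.Agent.Lib.Mitchell.RecogA7

/-!
Gorenstein–Walter, a maximal subgroup whose quotient by the odd core is symmetric of degree four and
whose abelian odd core is inverted by the outer reflection: the odd core has order three and the
group is the alternating group of degree seven.
-/

set_option autoImplicit false
set_option linter.unusedSectionVars false
set_option linter.unusedVariables false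
set_option linter.style.haveILetI false

namespace CfsgLib.GW.CaseOne

open Subgroup CfsgLib.RankOneInvol Equiv

universe u

namespace SymFour

set_option synthInstance.maxSize 1024 in
set_option synthInstance.maxHeartbeats 200000 in
theorem not_three_odd : ∀ u v : Perm (Fin 4),
    (u * u = 1 ∧ ¬ Perm.sign u = 1 ∧ v * v = 1 ∧ ¬ Perm.sign v = 1 ∧ u ≠ v ∧
      u * v * (u * v) = 1) →
      ∀ w : Perm (Fin 4), ¬ (w * w = 1 ∧ ¬ Perm.sign w = 1 ∧ u ≠ w ∧ v ≠ w ∧
        u * w * (u * w) = 1 ∧ v * w * (v * w) = 1) := by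
  decide +kernel

theorem card_even_involutions : Fintype.card
    {σ : Perm (Fin 4) // σ * σ = 1 ∧ σ ≠ 1 ∧ Perm.sign σ = 1} = 3 := by
  decide +kernel

end SymFour

variable {G : Type u} [Group G] [Finite G] {E : Setup G} {M : Subgroup G} {L : Subgroup (Tp M)}
  {b b₁ : G}

theorem smul_mk_eq_iff {v g : G} : v • (g : G ⧸ M) = g ↔ g⁻¹ * v * g ∈ M := by
  rw [MulAction.Quotient.smul_coe, smul_eq_mul, QuotientGroup.eq,
    show (v * g)⁻¹ * g = (g⁻¹ * v * g)⁻¹ by group, inv_mem_iff]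

theorem mk_ne_one_iff {g : G} : (g : G ⧸ M) ≠ ((1 : G) : G ⧸ M) ↔ g ∉ M := by
  rw [Ne, QuotientGroup.eq, mul_one, inv_mem_iff]

theorem card_fixed_ne {v : G} (hv : v ∈ M) :
    Nat.card {p : G ⧸ M // v • p = p ∧ p ≠ ((1 : G) : G ⧸ M)} + 1 =
      Nat.card {p : G ⧸ M // v • p = p} := by
  classical
  haveI : Fintype (G ⧸ M) := Fintype.ofFinite _
  have h1 : v • ((1 : G) : G ⧸ M) = ((1 : G) : G ⧸ M) :=
    smul_mk_eq_iff.2 (by rwa [inv_one, one_mul, mul_one])
  simp only [Nat.card_eq_fintype_card, Fintype.card_subtype]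
  rw [← Finset.card_erase_add_one (s := Finset.univ.filter fun p : G ⧸ M => v • p = p)
    (a := ((1 : G) : G ⧸ M)) (Finset.mem_filter.2 ⟨Finset.mem_univ _, h1⟩)]
  congr 2
  ext p
  simp [and_comm]

namespace Four

variable (h : Four E M L b b₁)
include h

/-- The image of a product with even sign and odd cube has odd order. -/
theorem odd_of_pow_three {x : G} (hx : x ∈ M) (hp : h.e (bar M x) ^ 3 = 1) : Odd (orderOf x) := by
  have h3 : x ^ 3 ∈ coreIn M := (bar_eq_one_iff (pow_mem hx 3)).1 (h.e.injective (by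
    rw [bar_pow hx, map_pow, hp, map_one]))
  refine Odd.of_dvd_nat (m := orderOf x) ((show Odd 3 by decide).mul
    (odd_orderOf_of_mem (odd_card_coreIn M) h3)) (orderOf_dvd_of_pow_eq_one ?_)
  rw [pow_mul, pow_orderOf_eq_one]

theorem card_M : Nat.card M = 24 * Nat.card (coreIn M) := by
  rw [card_eq_core_mul, Nat.card_congr h.e.toEquiv, Nat.card_perm, Nat.card_fin, mul_comm]
  rfl

theorem card_H : Nat.card E.H = 8 * Nat.card (coreIn M) := by
  rw [h.toTwo.card_H_eq, h.card_C_t, mul_comm]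

theorem X_b₁_eq : E.X b₁ = coreIn M := by
  show E.U ⊓ centralizer ({b₁} : Set G) = coreIn M
  rw [← h.core_eq_U]
  exact inf_eq_left.2 fun w hw => mem_centralizer_singleton_iff.2 (h.b₁_commute hw)

variable (hinv : ∀ w ∈ coreIn M, b * w * b = w⁻¹)
include hinv

theorem core_inf_b : coreIn M ⊓ centralizer ({b} : Set G) = ⊥ := by
  refine eq_bot_iff.2 fun x hx => mem_bot.2 ?_
  obtain ⟨hxW, hxb⟩ := mem_inf.1 hx
  have h1 := hinv x hxW
  rw [(conj_eq_iff_commute h.refl.sq).2 (mem_centralizer_singleton_iff.1 hxb)] at h1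
  refine eq_one_of_mem_of_sq (odd_card_coreIn M) hxW ?_
  nth_rewrite 1 [h1]
  rw [inv_mul_cancel]

theorem card_C_b_four : Nat.card (M ⊓ centralizer ({b} : Set G) : Subgroup G) = 4 := by
  rw [h.toTwo.card_C_b, h.core_inf_b hinv, Subgroup.card_bot, h.card_C_b_bar]

theorem card_fixed_eq {v : G} (hvM : v ∈ M) (hv : orderOf v = 2) :
    Nat.card {p : G ⧸ M // v • p = p ∧ p ≠ ((1 : G) : G ⧸ M)} = 2 * Nat.card (coreIn M) := by
  have h1 := h.toTwo.card_fixed hv
  rw [h.card_C_b_four hinv, h.card_H] at h1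
  have h2 := card_fixed_ne (M := M) hvM
  omega

/-- The index of `M` is bounded by the order formula. -/
theorem index_le : (M.index : ℚ) ≤ 5 * ((Nat.card (coreIn M) : ℚ) + 1) ^ 2 := by
  obtain ⟨F, -, hF, hG⟩ := exists_order E
  have hXb : E.X b = ⊥ := by rw [h.X_b, h.core_inf_b hinv]
  obtain ⟨s₀, hs₀, e₀⟩ := refl_cases h.refl
  obtain ⟨s₁, hs₁, e₁⟩ := refl_cases h.refl₁
  have hd : ∀ x, s₀ * b * s₀⁻¹ = x → s₁ * b₁ * s₁⁻¹ = x → False := fun x h1 h2 => by
    refine h.outer ((h.conj_S_mem_iff hs₀ (h.refl_mem h.refl)).1 ?_)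
    rw [h1, ← h2]
    exact (h.conj_S_mem_iff hs₁ (h.refl_mem h.refl₁)).2 h.inner
  have hsum : 1 / (Nat.card (E.X E.d.a) : ℚ) + 1 / (Nat.card (E.X (E.d.r * E.d.a)) : ℚ) =
      1 + 1 / (Nat.card (coreIn M) : ℚ) := by
    rcases e₀ with e₀ | e₀ <;> rcases e₁ with e₁ | e₁
    · exact (hd _ e₀ e₁).elim
    · rw [← h.toTwo.card_X_conj hs₀ e₀, ← h.toTwo.card_X_conj hs₁ e₁, hXb, h.X_b₁_eq, Subgroup.card_bot]
      norm_num
    · rw [← h.toTwo.card_X_conj hs₀ e₀, ← h.toTwo.card_X_conj hs₁ e₁, hXb, h.X_b₁_eq, Subgroup.card_bot]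
      norm_num [add_comm]
    · exact (hd _ e₀ e₁).elim
  rw [hsum, h.k_eq, ← h.core_eq_U] at hG
  have hM : (M.index : ℚ) * (24 * (Nat.card (coreIn M) : ℚ)) = Nat.card G := by
    rw [← M.index_mul_card, h.card_M]; push_cast; ring
  set w : ℚ := (Nat.card (coreIn M) : ℚ)
  have hw : 0 < w := Nat.cast_pos.2 Nat.card_pos
  rw [hG, show F * 2 ^ (3 * 1 + 3) * w ^ 3 * (1 + 1 / w) ^ 2 = F * 64 * (w * (w + 1) ^ 2) by
    field_simp; ring] at hM
  have h2 : (M.index : ℚ) * 24 = F * 64 * (w + 1) ^ 2 :=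
    mul_right_cancel₀ hw.ne' (by linear_combination hM)
  nlinarith [mul_le_mul_of_nonneg_right hF (sq_nonneg (w + 1))]

/-- An odd core of order three gives the alternating group of degree seven. -/
theorem a7_of_three (h3 : Nat.card (coreIn M) = 3) : IsPSLOrA7 G := by
  haveI := E.simple
  have hcomm : b * E.t = E.t * b := h.refl.comm
  have hb₁ := h.refl₁
  set x := b * b₁ with hx
  have hxr : x ∈ zpowers E.d.r :=
    E.d.refl_mul_refl h.refl.1 h.refl.2 hb₁.1 hb₁.2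
  have hxne : x ≠ 1 ∧ x ≠ E.t := by
    refine ⟨fun e => h.outer ?_, fun e => h.outer ?_⟩
    · rw [show b = b₁⁻¹ from mul_eq_one_iff_eq_inv.1 e, hb₁.inv]; exact h.inner
    · have e' : b = E.t * b₁ := by rw [← e, hx, mul_assoc, hb₁.sq, mul_one]
      rw [e', bar_mul h.t_mem (h.refl_mem hb₁)]
      exact mul_mem h.t_inner h.inner
  have hx4 : x * x * (x * x) = 1 := by
    have h1 := orderOf_dvd_of_mem_zpowers hxr
    rw [E.d.order, h.k_eq] at h1
    have h2 := orderOf_dvd_iff_pow_eq_one.1 h1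
    rw [show x * x * (x * x) = x ^ 4 by simp [pow_succ, mul_assoc]]
    exact h2
  have hxx : x * x = E.t := by
    rcases E.d.rot_sq_eq_one (mul_mem hxr hxr) hx4 with e | e
    · rcases E.d.rot_sq_eq_one hxr e with e' | e'
      · exact (hxne.1 e').elim
      · exact (hxne.2 e').elim
    · exact e
  have hconj : b * b₁ * b⁻¹ = E.t * b₁ := by
    rw [h.refl.inv]
    calc b * b₁ * b = b * b₁ * b * (b₁ * b₁) := by rw [hb₁.sq, mul_one]
      _ = x * x * b₁ := by rw [hx]; group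
      _ = E.t * b₁ := by rw [hxx]
  have hC : Nat.card (centralizer ({E.t} : Set G)) = 24 := by
    show Nat.card E.H = 24
    rw [h.card_H, h3]
  have hXb : E.X b = ⊥ := by rw [h.X_b, h.core_inf_b hinv]
  have hCs : Nat.card (centralizer ({E.t, b} : Set G)) = 4 := by
    refine (Formula.card_pair E.S E.d h.refl.1 h.refl.2).trans ?_
    show 4 * Nat.card (E.X b) = 4
    rw [hXb, Subgroup.card_bot]
  have hCz : Nat.card (centralizer ({E.t, b₁} : Set G)) = 12 := by
    refine (Formula.card_pair E.S E.d hb₁.1 hb₁.2).trans ?_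
    show 4 * Nat.card (E.X b₁) = 12
    rw [h.X_b₁_eq, h3]
  exact Or.inr (Mitchell.a7_of_centralizer E.t b b₁ E.orderOf_t h.refl.orderOf_eq hb₁.orderOf_eq
    hcomm hb₁.comm hb₁.ne_t hconj hC hCs hCz)

variable (hab : ∀ x ∈ coreIn M, ∀ y ∈ coreIn M, x * y = y * x)
include hab
variable (h5 : 5 ≤ Nat.card (coreIn M))
include h5

/-- Two outer involutions of `M` fixing another coset multiply to an inner one fixing it. -/
theorem pair_product {g v v' : G} (hg : g ∉ M) (hv : v ∈ M) (hvo : orderOf v = 2)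
    (hvL : bar M v ∉ L) (hv' : v' ∈ M) (hv'o : orderOf v' = 2) (hv'L : bar M v' ∉ L)
    (hfv : g⁻¹ * v * g ∈ M) (hfv' : g⁻¹ * v' * g ∈ M) (hne : v ≠ v') :
    (h.e (bar M v) ≠ h.e (bar M v') ∧
      h.e (bar M v) * h.e (bar M v') * (h.e (bar M v) * h.e (bar M v')) = 1) ∧
    v * v' ∈ M ∧ orderOf (v * v') = 2 ∧ bar M (v * v') ∈ L ∧ g⁻¹ * (v * v') * g ∈ M := by
  have hv2 := (CfsgLib.Involutions.orderOf_eq_two_iff_mul.1 hvo).2
  have hv'2 := (CfsgLib.Involutions.orderOf_eq_two_iff_mul.1 hv'o).2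
  set x := v * v' with hx
  have hxM : x ∈ M := mul_mem hv hv'
  have hxg : g⁻¹ * x * g ∈ M := by
    have := mul_mem hfv hfv'
    rwa [show g⁻¹ * v * g * (g⁻¹ * v' * g) = g⁻¹ * x * g by rw [hx]; group] at this
  have hxi : v * x * v = x⁻¹ := by
    rw [hx, mul_inv_rev, inv_eq_of_mul_eq_one_right hv2, inv_eq_of_mul_eq_one_right hv'2,
      ← mul_assoc, hv2, one_mul]
  have hx1 : x ≠ 1 := fun e => hne ((mul_eq_one_iff_eq_inv.1 e).trans
    (inv_eq_of_mul_eq_one_right hv'2))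
  have hex : h.e (bar M x) = h.e (bar M v) * h.e (bar M v') := by rw [hx, bar_mul hv hv', map_mul]
  have hkill : Odd (orderOf x) → False := fun ho =>
    hx1 (h.eq_one_of_inverted hab hinv h5 hg hv hvo hvL hxM hxg ho hxi)
  obtain ⟨a1, a2⟩ := h.e_bar_involution hv hvo
  obtain ⟨b1, b2⟩ := h.e_bar_involution hv' hv'o
  rcases SymFour.two_odd _ _ ⟨a1, fun e => hvL ((h.inner_iff hv hvo).2 e)⟩
    ⟨b1, fun e => hv'L ((h.inner_iff hv' hv'o).2 e)⟩ with e | ⟨e, -⟩ | ⟨e, e', e''⟩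
  · exact (hkill (h.odd_of_pow_three hxM (by rw [hex, e, b1, one_pow]))).elim
  · exact (hkill (h.odd_of_pow_three hxM (by rw [hex, e]))).elim
  · have hxx : x * x = 1 := by
      have hW : x * x ∈ coreIn M := (bar_eq_one_iff (mul_mem hxM hxM)).1 (h.e.injective (by
        rw [bar_mul hxM hxM, map_mul, hex, e, map_one]))
      refine h.eq_one_of_inverted hab hinv h5 hg hv hvo hvL (mul_mem hxM hxM) ?_
        (odd_orderOf_of_mem (odd_card_coreIn M) hW) ?_
      · have := mul_mem hxg hxg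
        rwa [show g⁻¹ * x * g * (g⁻¹ * x * g) = g⁻¹ * (x * x) * g by group] at this
      · calc v * (x * x) * v = v * x * v * (v * x * v) := conj_involution_mul hv2
          _ = (x * x)⁻¹ := by rw [hxi]; exact (mul_inv_rev _ _).symm
    have hxo : orderOf x = 2 := CfsgLib.Involutions.orderOf_eq_two_iff_mul.2 ⟨hx1, hxx⟩
    refine ⟨⟨fun e1 => e' (by rw [e1, b1]), e⟩, hxM, hxo, ?_, hxg⟩
    exact (h.inner_iff hxM hxo).2 (by rw [hex]; exact e'')

/-- Three outer involutions of `M` do not fix a common second coset. -/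
theorem not_three {g u v w : G} (hg : g ∉ M)
    (hu : u ∈ M ∧ orderOf u = 2 ∧ bar M u ∉ L) (hv : v ∈ M ∧ orderOf v = 2 ∧ bar M v ∉ L)
    (hw : w ∈ M ∧ orderOf w = 2 ∧ bar M w ∉ L) (fu : g⁻¹ * u * g ∈ M) (fv : g⁻¹ * v * g ∈ M)
    (fw : g⁻¹ * w * g ∈ M) (huv : u ≠ v) (huw : u ≠ w) (hvw : v ≠ w) : False := by
  obtain ⟨⟨n1, e1⟩, -⟩ := h.pair_product hinv hab h5 hg hu.1 hu.2.1 hu.2.2 hv.1 hv.2.1 hv.2.2 fu fv huv
  obtain ⟨⟨n2, e2⟩, -⟩ := h.pair_product hinv hab h5 hg hu.1 hu.2.1 hu.2.2 hw.1 hw.2.1 hw.2.2 fu fw huw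
  obtain ⟨⟨n3, e3⟩, -⟩ := h.pair_product hinv hab h5 hg hv.1 hv.2.1 hv.2.2 hw.1 hw.2.1 hw.2.2 fv fw hvw
  exact SymFour.not_three_odd _ _ ⟨(h.e_bar_involution hu.1 hu.2.1).1,
      fun e => hu.2.2 ((h.inner_iff hu.1 hu.2.1).2 e), (h.e_bar_involution hv.1 hv.2.1).1,
      fun e => hv.2.2 ((h.inner_iff hv.1 hv.2.1).2 e), n1, e1⟩ _
    ⟨(h.e_bar_involution hw.1 hw.2.1).1,
      fun e => hw.2.2 ((h.inner_iff hw.1 hw.2.1).2 e), n2, n3, e2, e3⟩

omit h5 in
theorem six_mul_le : 6 * Nat.card (coreIn M) ≤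
    Nat.card {v : G // v ∈ M ∧ orderOf v = 2 ∧ bar M v ∉ L} := by
  have hbM := h.refl_mem h.refl
  set C : Subgroup G := M ⊓ centralizer ({b} : Set G)
  set D : Subgroup M := C.subgroupOf M
  have hD : Nat.card D = 4 := by
    rw [Nat.card_congr (subgroupOfEquivOfLe (inf_le_left : C ≤ M)).toEquiv]
    exact h.card_C_b_four hinv
  have hidx : D.index = 6 * Nat.card (coreIn M) := by
    have := D.card_mul_index
    rw [hD, h.card_M] at this
    omega
  rw [← hidx, index_eq_card]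
  refine Nat.card_le_card_of_injective (fun q : M ⧸ D =>
    (⟨(q.out : G) * b * (q.out : G)⁻¹, mul_mem (mul_mem q.out.2 hbM) (inv_mem q.out.2),
      by rw [CfsgLib.Involutions.orderOf_conj_eq, h.refl.orderOf_eq], fun hL => h.outer ?_⟩ :
      {v : G // v ∈ M ∧ orderOf v = 2 ∧ bar M v ∉ L})) fun q q' e => ?_
  · rw [bar_conj q.out.2 hbM] at hL
    have := h.normal.conj_mem _ hL (bar M (q.out : G))⁻¹
    simpa [mul_assoc] using this
  · have e' : (q.out : G) * b * (q.out : G)⁻¹ = (q'.out : G) * b * (q'.out : G)⁻¹ :=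
      congrArg Subtype.val e
    rw [← QuotientGroup.out_eq' q, ← QuotientGroup.out_eq' q', QuotientGroup.eq]
    refine mem_subgroupOf.2 (mem_inf.2 ⟨SetLike.coe_mem _, mem_centralizer_singleton_iff.2 ?_⟩)
    push_cast
    calc (q.out : G)⁻¹ * (q'.out : G) * b
        = (q.out : G)⁻¹ * ((q'.out : G) * b * (q'.out : G)⁻¹) * (q'.out : G) := by group
      _ = b * ((q.out : G)⁻¹ * (q'.out : G)) := by rw [← e']; group

omit hinv hab h5 in
theorem inner_le_three : Nat.card {z : G // z ∈ M ∧ orderOf z = 2 ∧ bar M z ∈ L} ≤ 3 := by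
  rw [← SymFour.card_even_involutions, ← Nat.card_eq_fintype_card]
  refine Nat.card_le_card_of_injective (fun z => ⟨h.e (bar M z.1), ?_⟩) fun z z' e => ?_
  · obtain ⟨h1, h2⟩ := h.e_bar_involution z.2.1 z.2.2.1
    exact ⟨h1, h2, (h.inner_iff z.2.1 z.2.2.1).1 z.2.2.2⟩
  · exact Subtype.ext (h.inner_eq z'.2.2.1 z.2.2.1 z'.2.1 z.2.1 z'.2.2.2
      (h.e.injective (congrArg Subtype.val e)))

/-- An odd core of order at least five is impossible. -/
theorem false_of_five : False := by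
  classical
  haveI : Fintype G := Fintype.ofFinite _
  haveI : Fintype (G ⧸ M) := Fintype.ofFinite _
  set o : G ⧸ M := ((1 : G) : G ⧸ M)
  set w := Nat.card (coreIn M)
  let O := {v : G // v ∈ M ∧ orderOf v = 2 ∧ bar M v ∉ L}
  let Z := {z : G // z ∈ M ∧ orderOf z = 2 ∧ bar M z ∈ L}
  let F : G → Type _ := fun v => {p : G ⧸ M // v • p = p ∧ p ≠ o}
  have hO : Nat.card (Σ v : O, F v.1) = Nat.card O * (2 * w) := by
    rw [Nat.card_sigma, Finset.sum_congr rfl fun v _ => h.card_fixed_eq hinv v.2.1 v.2.2.1,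
      Finset.sum_const, Finset.card_univ, smul_eq_mul, Nat.card_eq_fintype_card (α := O)]
  have hZ : Nat.card (Σ z : Z, F z.1) = Nat.card Z * (2 * w) := by
    rw [Nat.card_sigma, Finset.sum_congr rfl fun z _ => h.card_fixed_eq hinv z.2.1 z.2.2.1,
      Finset.sum_const, Finset.card_univ, smul_eq_mul, Nat.card_eq_fintype_card (α := Z)]
  have hB : Nat.card {p : G ⧸ M // p ≠ o} + 1 = M.index := by
    have h1 : 0 < Fintype.card (G ⧸ M) := Fintype.card_pos_iff.2 ⟨o⟩
    rw [index_eq_card, Nat.card_eq_fintype_card, Nat.card_eq_fintype_card,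
      Fintype.card_subtype_compl, Fintype.card_subtype_eq]
    omega
  have hlift : ∀ p : G ⧸ M, p ≠ o → p.out ∉ M := fun p hp => mk_ne_one_iff.1 (by
    rwa [QuotientGroup.out_eq'])
  have hfix : ∀ {v : G} {p : G ⧸ M}, v • p = p → p.out⁻¹ * v * p.out ∈ M := fun {v p} e =>
    smul_mk_eq_iff.1 (by rwa [QuotientGroup.out_eq'])
  -- a chosen involution fixing each coset
  let first : ∀ p : G ⧸ M, (∃ v : O, v.1 • p = p) → O := fun p hp => hp.choose
  have hfirst : ∀ p hp, (first p hp).1 • p = p := fun p hp => Exists.choose_spec hp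
  have hex : ∀ x : Σ v : O, F v.1, ∃ v : O, v.1 • x.2.1 = x.2.1 := fun x => ⟨x.1, x.2.2.1⟩
  have hprod : ∀ x : Σ v : O, F v.1, x.1 ≠ first x.2.1 (hex x) →
      (x.1.1 * (first x.2.1 (hex x)).1 ∈ M ∧ orderOf (x.1.1 * (first x.2.1 (hex x)).1) = 2 ∧
        bar M (x.1.1 * (first x.2.1 (hex x)).1) ∈ L) ∧
      (x.1.1 * (first x.2.1 (hex x)).1) • x.2.1 = x.2.1 := by
    intro x hne
    set v₀ := first x.2.1 (hex x)
    obtain ⟨-, h1, h2, h3, h4⟩ := h.pair_product hinv hab h5 (hlift _ x.2.2.2) x.1.2.1 x.1.2.2.1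
      x.1.2.2.2 v₀.2.1 v₀.2.2.1 v₀.2.2.2 (hfix x.2.2.1) (hfix (hfirst _ (hex x)))
      fun e => hne (Subtype.ext e)
    exact ⟨⟨h1, h2, h3⟩, by rw [mul_smul, hfirst, x.2.2.1]⟩
  let φ : (Σ v : O, F v.1) → {p : G ⧸ M // p ≠ o} ⊕ (Σ z : Z, F z.1) := fun x =>
    if hx : x.1 = first x.2.1 (hex x) then Sum.inl ⟨x.2.1, x.2.2.2⟩
    else Sum.inr ⟨⟨_, (hprod x hx).1⟩, ⟨x.2.1, (hprod x hx).2, x.2.2.2⟩⟩
  have hφ : Function.Injective φ := by
    intro x y e
    have key : ∀ (hp : x.2.1 = y.2.1), x.1 = y.1 → x = y := by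
      rintro hp hv
      obtain ⟨v, p, hp'⟩ := x
      obtain ⟨v', q, hq'⟩ := y
      dsimp only at hp hv
      subst hv hp
      rfl
    by_cases hx : x.1 = first x.2.1 (hex x) <;> by_cases hy : y.1 = first y.2.1 (hex y) <;>
      simp only [φ, dif_pos, dif_neg, hx, hy, not_false_eq_true] at e
    · have hp : x.2.1 = y.2.1 := congrArg Subtype.val (Sum.inl.inj e)
      refine key hp (hx.trans (Eq.trans ?_ hy.symm))
      congr 1
    · exact absurd e (by simp)
    · exact absurd e (by simp)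
    · have hp : x.2.1 = y.2.1 := congrArg (fun s : Σ z : Z, F z.1 => s.2.1) (Sum.inr.inj e)
      refine key hp ?_
      by_contra hne
      set v₀ := first x.2.1 (hex x) with hv₀
      have hy₀ : y.1 ≠ v₀ := fun e' => hy (e'.trans (by rw [hv₀]; congr 1))
      exact h.not_three hinv hab h5 (hlift _ x.2.2.2) x.1.2 y.1.2 v₀.2 (hfix x.2.2.1)
        (hfix (by rw [hp]; exact y.2.2.1)) (hfix (hfirst _ (hex x)))
        (fun e' => hne (Subtype.ext e')) (fun e' => hx (Subtype.ext e'))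
        fun e' => hy₀ (Subtype.ext e')
  have hle := Nat.card_le_card_of_injective φ hφ
  rw [Nat.card_sum, hO, hZ] at hle
  have h1 := h.six_mul_le hinv hab
  have h2 := h.inner_le_three
  have h3 : 6 * w * (2 * w) ≤ Nat.card O * (2 * w) := Nat.mul_le_mul_right _ h1
  have h4 : Nat.card Z * (2 * w) ≤ 3 * (2 * w) := Nat.mul_le_mul_right _ h2
  have h6 : 12 * w * w + 1 ≤ M.index + 6 * w := by nlinarith
  have h7 : (12 : ℚ) * w * w + 1 ≤ M.index + 6 * w := by exact_mod_cast h6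
  have h8 := h.index_le hinv
  have h9 : (5 : ℚ) ≤ w := by exact_mod_cast h5
  nlinarith

omit h5 in
/-- The abelian odd core inverted by the outer reflection gives `A₇`. -/
theorem isPSLOrA7_of_inverted (hW : coreIn M ≠ ⊥) : IsPSLOrA7 G := by
  have h1 : Nat.card (coreIn M) ≠ 1 := fun e => hW (Subgroup.card_eq_one.1 e)
  obtain ⟨j, hj⟩ := odd_card_coreIn M
  rcases Nat.lt_or_ge (Nat.card (coreIn M)) 5 with h5 | h5
  · exact h.a7_of_three hinv (by omega)
  · exact (h.false_of_five hinv hab h5).elim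

end Four

end CfsgLib.GW.CaseOne
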