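import Cfsg.Agent.Lib.GW.CaseOneFourCorner

/-!
Gorenstein–Walter, quotient symmetric of degree four: the outer reflection fixes nothing in the
prime cores of the odd core.
-/

set_option autoImplicit false
set_option linter.unusedSectionVars false
set_option linter.unusedVariables false
set_option linter.style.haveILetI false

namespace CfsgLib.GW.CaseOne

open Subgroup CfsgLib.RankOneInvol

universe u

variable {G : Type u} [Group G] [Finite G]
variable {E : Setup G} {M : Subgroup G} {L : Subgroup (Tp M)} {b b₁ : G}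

namespace Four

variable (h : Four E M L b b₁)
include h

/-- Elements of the normaliser of the fixed points in a prime core. -/
theorem mem_span {n x : G} (hne : Or M 3 ⊓ centralizer ({b} : Set G) ≠ ⊥) (hn : n ∈ Or M 3)
    (hni : b * n * b = n⁻¹) (hn1 : n ≠ 1)
    (hnc : ∀ z ∈ Or M 3 ⊓ centralizer ({b} : Set G), n * z = z * n) (hx : x ∈ Or M 3)
    (hxN : ∀ z ∈ Or M 3 ⊓ centralizer ({b} : Set G),
      x * z * x⁻¹ ∈ Or M 3 ⊓ centralizer ({b} : Set G)) :
    ∃ y ∈ Or M 3 ⊓ centralizer ({b} : Set G), ∃ i : Fin 3, x = y * n ^ (i : ℕ) := by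
  obtain ⟨y, m, hy, hm, hmi, hmc, rfl⟩ := h.normalizer_Z hx hxN
  refine ⟨y, hy, ?_⟩
  have hn3 := h.inverted_pow_three (h.Z_le_Y 3) hne (Or_le M 3 hn) hni hnc
  rcases h.inverted_unique (h.Z_le_Y 3) hne (Or_le M 3 hn) hni hn1 hnc (Or_le M 3 hm) hmi hmc with
    e | e | e
  · exact ⟨0, by rw [e]; simp⟩
  · exact ⟨1, by rw [e]; simp⟩
  · exact ⟨2, by
      rw [e]
      congr 1
      calc n⁻¹ = n⁻¹ * n ^ 3 := by rw [hn3, mul_one]
        _ = n ^ ((2 : Fin 3) : ℕ) := by rw [show ((2 : Fin 3) : ℕ) = 2 from rfl]; group⟩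

/-- The 3-core has no element fixed by `b`. -/
theorem fixed_trivial_three : Or M 3 ⊓ centralizer ({b} : Set G) = ⊥ := by
  classical
  haveI : Fact (Nat.Prime 3) := ⟨Nat.prime_three⟩
  by_contra hne
  set R := Or M 3 with hR
  set Z := R ⊓ centralizer ({b} : Set G) with hZ
  obtain ⟨n, hn, hni, hn1, hnc⟩ := h.exists_inverted hne
  have hnW := Or_le M 3 hn
  have hbM := h.refl_mem h.refl
  have hn3 := h.inverted_pow_three (h.Z_le_Y 3) hne hnW hni hnc
  set A := R ⊓ normalizer (Z : Set G) with hA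
  have hZN : ∀ {x : G}, x ∈ normalizer (Z : Set G) → ∀ z ∈ Z, x * z * x⁻¹ ∈ Z :=
    fun {x} hx z hz => (mem_normalizer_iff.1 hx z).1 hz
  have hspan : ∀ x ∈ A, ∃ y ∈ Z, ∃ i : Fin 3, x = y * n ^ (i : ℕ) := fun x hx =>
    h.mem_span hne hn hni hn1 hnc hx.1 (hZN hx.2)
  have hnA : n ∈ A := ⟨hn, mem_normalizer_of_conj fun z hz => by
    rw [hnc z hz, mul_inv_cancel_right]; exact hz⟩
  have hZA : Z ≤ A := fun z hz => ⟨hz.1, mem_normalizer_of_conj fun y hy =>
    mul_mem (mul_mem hz hy) (inv_mem hz)⟩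
  have hAb : ∀ x ∈ A, b * x * b ∈ A := fun x hx => by
    obtain ⟨y, hy, i, rfl⟩ := hspan x hx
    rw [conj_involution_mul h.refl.sq, h.fixed_of_mem_Y (h.Z_le_Y 3 hy)]
    refine mul_mem (hZA hy) ?_
    rw [show b * n ^ (i : ℕ) * b = (b * n * b⁻¹) ^ (i : ℕ) by rw [conj_pow, h.refl.inv],
      h.refl.inv, hni]
    exact pow_mem (inv_mem hnA) _
  have hbNA : b ∈ normalizer (A : Set G) := mem_normalizer_of_conj fun x hx => by
    rw [h.refl.inv]; exact hAb x hx
  by_cases hbig : 3 < Nat.card Z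
  · -- every inverted element normalising `A` lies in it
    have key : ∀ w ∈ coreIn M, b * w * b = w⁻¹ → (∀ x ∈ A, w * x * w⁻¹ ∈ A) →
        w = 1 ∨ w = n ∨ w = n⁻¹ := by
      intro w hw hwi hwA
      set Z' := Z.map (MulAut.conj w).toMonoidHom
      have hZ'A : Z' ≤ A := by
        rintro _ ⟨z, hz, rfl⟩
        exact hwA z (hZA hz)
      have hcA : Nat.card A ≤ Nat.card Z * 3 := by
        have hf : Function.Surjective fun p : Z × Fin 3 => (⟨(p.1 : G) * n ^ (p.2 : ℕ),
            mul_mem (hZA p.1.2) (pow_mem hnA _)⟩ : A) := fun x => by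
          obtain ⟨y, hy, i, e⟩ := hspan x x.2
          exact ⟨⟨⟨y, hy⟩, i⟩, Subtype.ext e.symm⟩
        have := Nat.card_le_card_of_surjective _ hf
        rwa [Nat.card_prod, Nat.card_fin] at this
      have hidx : (Z'.subgroupOf A).index ≤ 3 := by
        have h1 := card_mul_index (Z'.subgroupOf A)
        rw [Nat.card_congr (subgroupOfEquivOfLe hZ'A).toEquiv,
          card_map_of_injective (MulAut.conj w).injective] at h1
        exact Nat.le_of_mul_le_mul_left (h1.trans_le hcA) Nat.card_pos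
      obtain ⟨u, v, huv, e⟩ : ∃ u v : Z, u ≠ v ∧
          (((⟨u, hZA u.2⟩ : A)) : A ⧸ Z'.subgroupOf A) = ((⟨v, hZA v.2⟩ : A)) := by
        by_contra hno
        push Not at hno
        have := Nat.card_le_card_of_injective
          (fun u : Z => (((⟨u, hZA u.2⟩ : A)) : A ⧸ Z'.subgroupOf A))
          (fun u v e => not_not.1 fun hne' => hno u v hne' e)
        rw [← index_eq_card] at this
        omega
      rw [QuotientGroup.eq, mem_subgroupOf] at e
      obtain ⟨z₁, hz₁, e'⟩ := e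
      push_cast at e'
      have e'' : w * z₁ * w⁻¹ = (u : G)⁻¹ * v := e'
      have he : (u : G)⁻¹ * v ∈ Z := mul_mem (inv_mem u.2) v.2
      have hcw : w * z₁ = z₁ * w := commute_of_normalizes (odd_card_coreIn M) h.refl.sq hw hwi
        (h.fixed_of_mem_Y (h.Z_le_Y 3 hz₁)) (e'' ▸ h.fixed_of_mem_Y (h.Z_le_Y 3 he))
      have hz₁ne : z₁ ≠ 1 := fun e1 => huv (Subtype.ext (inv_mul_eq_one.1
        (by rw [← e'', e1, mul_one, mul_inv_cancel])))
      exact h.inverted_unique (Z := zpowers z₁) (zpowers_le.2 (h.Z_le_Y 3 hz₁))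
        (fun e1 => hz₁ne (zpowers_eq_bot.1 e1)) hnW hni hn1
        (fun x hx => by
          obtain ⟨i, rfl⟩ := mem_zpowers_iff.1 hx
          exact ((show Commute n z₁ from hnc z₁ hz₁).zpow_right i).eq) hw hwi
        fun x hx => by
          obtain ⟨i, rfl⟩ := mem_zpowers_iff.1 hx
          exact ((show Commute w z₁ from hcw).zpow_right i).eq
    have hAR : A = R := eq_of_normalizer_inf_le (Or_isPGroup M 3) inf_le_left fun x hx hxN => by
      set B := R ⊓ normalizer (A : Set G)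
      obtain ⟨y, m, hyX, hyR, -, hmR, hmN, hmi, rfl⟩ := h.split_mem (A := B)
        (P := fun x => x ∈ normalizer (A : Set G)) (fun _ => mem_inf)
        (fun a ha => ⟨h.conj_b_mem_Or ha.1, mul_mem (mul_mem hbNA ha.2) hbNA⟩)
        (show x ∈ B from ⟨hx, mem_normalizer_of_conj hxN⟩)
      have hyA : y ∈ A := hZA ⟨hyR, mem_centralizer_right.2 (h.mem_Y.1 hyX).2⟩
      refine mul_mem hyA ?_
      rcases key m (Or_le M 3 hmR) hmi (fun a ha => (mem_normalizer_iff.1 hmN a).1 ha) with
        e | e | e <;> rw [e]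
      exacts [one_mem _, hnA, inv_mem hnA]
    exact h.false_of_inverted_three hne hn hni hn1 hnc fun w hw hwi =>
      key w hw hwi fun x hx => by
        rw [hAR] at hx ⊢
        exact Or_conj (coreIn_le M hw) hx
  -- the fixed points have order three
  have hZ3 : Nat.card Z = 3 := by
    obtain ⟨i, hi⟩ := IsPGroup.iff_card.1 ((Or_isPGroup M 3).to_le (inf_le_left : Z ≤ R))
    have h1 : 1 < Nat.card Z := by
      rw [Finite.one_lt_card_iff_nontrivial]; exact (Subgroup.nontrivial_iff_ne_bot Z).2 hne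
    have hc : Nat.card Z = 3 ^ i := hi
    rcases Nat.lt_trichotomy i 1 with hi' | hi' | hi'
    · exfalso
      have : i = 0 := by omega
      rw [this, pow_zero] at hc
      omega
    · rw [hc, hi']; rfl
    · exfalso
      have : 3 ^ 2 ≤ 3 ^ i := Nat.pow_le_pow_right (show 0 < 3 by norm_num) hi'
      rw [hc] at hbig
      norm_num at this
      omega
  obtain ⟨z, hz, hz1⟩ := (Subgroup.bot_or_exists_ne_one Z).resolve_left hne
  have hZz : zpowers z = Z := eq_of_le_of_card_ge (zpowers_le.2 hz) (by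
    rw [hZ3, Nat.card_zpowers]
    have hd : orderOf z ∣ 3 := by
      rw [← hZ3, ← Subgroup.orderOf_mk z hz]; exact orderOf_dvd_natCard _
    rcases (Nat.dvd_prime Nat.prime_three).1 hd with e | e
    · exact absurd (orderOf_eq_one_iff.1 e) hz1
    · rw [e])
  have hz3 : z ^ 3 = 1 := by
    rw [← orderOf_dvd_iff_pow_eq_one, ← hZ3, ← hZz, Nat.card_zpowers]
  have hzpow : ∀ x ∈ Z, ∃ i : ℕ, x = z ^ i := fun x hx => by
    obtain ⟨i, e⟩ := (mem_powers_iff_mem_zpowers.2 (hZz.symm ▸ hx : x ∈ zpowers z))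
    exact ⟨i, e.symm⟩
  have hzY := h.Z_le_Y 3 hz
  have hnz := hnc z hz
  have hAzn : ∀ x ∈ A, ∃ i j : ℕ, x = z ^ i * n ^ j := fun x hx => by
    obtain ⟨y, hy, i, rfl⟩ := hspan x hx
    obtain ⟨l, rfl⟩ := hzpow y hy
    exact ⟨l, i, rfl⟩
  have hzA := hZA hz
  have hAz : ∀ x ∈ A, x * z = z * x := fun x hx => by
    obtain ⟨i, j, rfl⟩ := hAzn x hx
    exact (((Commute.refl z).pow_left i).mul_left ((show Commute n z from hnz).pow_left j)).eq
  have hcz : ∀ x ∈ R, x * z = z * x → x ∈ A := fun x hx e =>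
    ⟨hx, mem_normalizer_of_conj fun y hy => by
      obtain ⟨i, rfl⟩ := hzpow y hy
      rw [((show Commute x z from e).pow_right i).eq, mul_inv_cancel_right]
      exact hy⟩
  have small : ∀ w ∈ coreIn M, b * w * b = w⁻¹ → w * z * w⁻¹ ∈ A →
      w * n = n * w ∧ ∃ j : ℕ, w * z * w⁻¹ = z * n ^ j := fun w hw hwi hwA =>
    h.small_action hzY hz3 hz1 hnW hni hn1 hnz hw hwi (hAzn _ hwA)
  -- elements of the odd core fixed by `b`
  have hY : ∀ y ∈ coreIn M, b * y * b = y → y * z = z * y ∧ y * n = n * y := by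
    intro y hy hyb
    have hyM := coreIn_le M hy
    have hyzy : y * z * y⁻¹ ∈ Z := ⟨Or_conj hyM hz.1, mem_centralizer_right.2
      ((conj_eq_iff_commute h.refl.sq).1 (by
        rw [conj_involution_mul h.refl.sq, conj_involution_mul h.refl.sq,
          conj_involution_inv h.refl.sq, hyb, h.fixed_of_mem_Y hzY]))⟩
    have hyz : y * z = z * y := by
      obtain ⟨i, hi⟩ := hzpow _ hyzy
      obtain ⟨i', hi', e⟩ : ∃ i', i % 3 = i' ∧ z ^ i = z ^ i' := ⟨i % 3, rfl, by
        conv_lhs => rw [← Nat.mod_add_div i 3, pow_add, pow_mul, hz3, one_pow, mul_one]⟩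
      rw [e] at hi
      have : i' < 3 := by omega
      interval_cases i'
      · rw [pow_zero] at hi; exact absurd (conj_eq_one_iff.1 hi) hz1
      · rw [pow_one] at hi; exact mul_inv_eq_iff_eq_mul.1 hi
      · rw [eq_inv_of_mul_eq_one_left (show z ^ 2 * z = 1 by rw [← pow_succ, hz3])] at hi
        exact absurd (eq_one_of_conj_inv (odd_card_coreIn M) (Or_le M 3 hz.1) hy hi) hz1
    refine ⟨hyz, ?_⟩
    have hi : b * (y * n * y⁻¹) * b = (y * n * y⁻¹)⁻¹ := by
      rw [conj_involution_mul h.refl.sq, conj_involution_mul h.refl.sq,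
        conj_involution_inv h.refl.sq, hyb, hni]
      group
    have hcy : ∀ x ∈ Z, y * n * y⁻¹ * x = x * (y * n * y⁻¹) := fun x hx => by
      obtain ⟨i, rfl⟩ := hzpow x hx
      have hy' : Commute y (z ^ i) := (show Commute y z from hyz).pow_right i
      exact (((hy'.mul_left ((show Commute n z from hnz).pow_right i)).mul_left hy'.inv_left)).eq
    rcases h.inverted_unique (h.Z_le_Y 3) hne hnW hni hn1 hnc (conj_mem_coreIn hyM hnW) hi hcy with
      e | e | e
    · exact absurd (conj_eq_one_iff.1 e) hn1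
    · exact mul_inv_eq_iff_eq_mul.1 e
    · exact absurd (eq_one_of_conj_inv (odd_card_coreIn M) hnW hy e) hn1
  by_cases hAR : A = R
  · -- the odd core is its 3-core
    have hall : ∀ x ∈ coreIn M, x * n = n * x ∧ ∃ j : ℕ, x * z * x⁻¹ = z * n ^ j := by
      intro x hx
      obtain ⟨y, w, hy, hyb, hw, hwi, rfl⟩ := exists_fixed_mul_inverted (odd_card_coreIn M) h.refl.sq
        (fun a ha => conj_mem_of_inv h.refl.sq hbM ha) hx
      obtain ⟨h1, j, h2⟩ := small w hw hwi (hAR ▸ Or_conj (coreIn_le M hw) hz.1)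
      obtain ⟨h3, h4⟩ := hY y hy hyb
      refine ⟨((show Commute y n from h4).mul_left (show Commute w n from h1)).eq, j, ?_⟩
      calc y * w * z * (y * w)⁻¹ = y * (w * z * w⁻¹) * y⁻¹ := by group
        _ = z * n ^ j := by
          rw [h2, ((show Commute y z from h3).mul_right ((show Commute y n from h4).pow_right j)).eq,
            mul_inv_cancel_right]
    have hcube : ∀ x ∈ coreIn M, x ^ 3 ∈ R := fun x hx => by
      obtain ⟨h1, j, h2⟩ := hall x hx
      have hnx : ∀ i : ℕ, x * n ^ i * x⁻¹ = n ^ i := fun i => by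
        rw [((show Commute x n from h1).pow_right i).eq, mul_inv_cancel_right]
      have e3 : x ^ 3 * z * (x ^ 3)⁻¹ = z := by
        rw [show x ^ 3 = x * x * x by rw [pow_succ, pow_two]]
        calc x * x * x * z * (x * x * x)⁻¹ = x * (x * (x * z * x⁻¹) * x⁻¹) * x⁻¹ := by group
          _ = x * (x * (z * n ^ j) * x⁻¹) * x⁻¹ := by rw [h2]
          _ = x * ((x * z * x⁻¹) * (x * n ^ j * x⁻¹)) * x⁻¹ := by group
          _ = x * (z * n ^ j * n ^ j) * x⁻¹ := by rw [h2, hnx]
          _ = (x * z * x⁻¹) * (x * n ^ j * x⁻¹) * (x * n ^ j * x⁻¹) := by group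
          _ = z * n ^ j * n ^ j * n ^ j := by rw [h2, hnx]
          _ = z := by
            rw [mul_assoc, mul_assoc, ← pow_add, ← pow_add,
              show j + (j + j) = 3 * j by ring, pow_mul, hn3, one_pow, mul_one]
      refine h.mem_Or_of_centralizes hne (pow_mem hx 3) fun r hr => ?_
      obtain ⟨i, l, rfl⟩ := hAzn r (hAR ▸ hr)
      have hcx : Commute (x ^ 3) z := mul_inv_eq_iff_eq_mul.1 e3
      exact (((hcx.pow_right i).mul_right
        (((show Commute x n from h1).pow_left 3).pow_right l))).eq.symm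
    have hWR : coreIn M ≤ R := by
      have hp : IsPGroup 3 ↥(coreIn M) := fun x => by
        obtain ⟨i, hi⟩ := Or_isPGroup M 3 ⟨_, hcube x x.2⟩
        refine ⟨i + 1, Subtype.ext ?_⟩
        rw [SubmonoidClass.coe_pow, pow_succ', pow_mul]
        exact congrArg Subtype.val hi
      intro x hx
      exact ⟨⟨x, hx⟩, Fitting.le_pCore (N := ⊤) inferInstance (hp.to_subgroup ⊤) (mem_top _), rfl⟩
    exact h.false_of_inverted_three hne hn hni hn1 hnc fun w hw hwi => by
      have hwA : w ∈ A := hAR ▸ hWR hw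
      refine h.inverted_unique (h.Z_le_Y 3) hne hnW hni hn1 hnc hw hwi fun x hx => ?_
      obtain ⟨i, rfl⟩ := hzpow x hx
      exact ((show Commute w z from hAz w hwA).pow_right i).eq
  -- a transvection
  have hinA : ∀ m ∈ R, b * m * b = m⁻¹ → m * z = z * m → m = 1 ∨ m = n ∨ m = n⁻¹ :=
    fun m hm hmi hmz => h.inverted_unique (h.Z_le_Y 3) hne hnW hni hn1 hnc (Or_le M 3 hm) hmi
      fun x hx => by
        obtain ⟨i, rfl⟩ := hzpow x hx
        exact ((show Commute m z from hmz).pow_right i).eq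
  obtain ⟨x, hxR, hxN, hxA⟩ : ∃ x ∈ R, (∀ a ∈ A, x * a * x⁻¹ ∈ A) ∧ x ∉ A := by
    by_contra hno
    push Not at hno
    exact hAR (eq_of_normalizer_inf_le (Or_isPGroup M 3) inf_le_left hno)
  obtain ⟨y, m, hyX, hyR, -, hmR, hmN, hmi, rfl⟩ := h.split_mem (A := R ⊓ normalizer (A : Set G))
    (P := fun x => x ∈ normalizer (A : Set G)) (fun _ => mem_inf)
    (fun a ha => ⟨h.conj_b_mem_Or ha.1, mul_mem (mul_mem hbNA ha.2) hbNA⟩)
    (show x ∈ R ⊓ normalizer (A : Set G) from ⟨hxR, mem_normalizer_of_conj hxN⟩)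
  have hyA : y ∈ A := hZA ⟨hyR, mem_centralizer_right.2 (h.mem_Y.1 hyX).2⟩
  have hmA : m ∉ A := fun e => hxA (mul_mem hyA e)
  obtain ⟨hmn, j, hmz⟩ := small m (Or_le M 3 hmR) hmi ((mem_normalizer_iff.1 hmN z).1 hzA)
  obtain ⟨n₂, hn₂R, hn₂z⟩ : ∃ n₂ ∈ R, n₂ * z * n₂⁻¹ = z * n := by
    have e : n ^ j = n ^ (j % 3) := by
      conv_lhs => rw [← Nat.mod_add_div j 3, pow_add, pow_mul, hn3, one_pow, mul_one]
    rw [e] at hmz
    have : j % 3 < 3 := Nat.mod_lt _ (by norm_num)
    interval_cases hj : j % 3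
    · rw [pow_zero, mul_one] at hmz
      exact absurd (hcz m hmR (mul_inv_eq_iff_eq_mul.1 hmz)) hmA
    · exact ⟨m, hmR, by rwa [pow_one] at hmz⟩
    · refine ⟨m * m, mul_mem hmR hmR, ?_⟩
      calc m * m * z * (m * m)⁻¹ = m * (m * z * m⁻¹) * m⁻¹ := by group
        _ = m * (z * n ^ 2) * m⁻¹ := by rw [hmz]
        _ = (m * z * m⁻¹) * (m * n ^ 2 * m⁻¹) := by group
        _ = z * n ^ 2 * n ^ 2 := by
          rw [hmz, ((show Commute m n from hmn).pow_right 2).eq, mul_inv_cancel_right]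
        _ = z * (n ^ 3 * n) := by group
        _ = z * n := by rw [hn3, one_mul]
  -- the centre of the 3-core
  set Cen := R ⊓ centralizer (R : Set G)
  have hCb : ∀ a ∈ Cen, b * a * b ∈ Cen := fun a ha => by
    refine ⟨h.conj_b_mem_Or ha.1, mem_centralizer_iff.2 fun r hr => ?_⟩
    have e1 := Setup.commute_conj (g := b) (mem_centralizer_iff.1 ha.2 _ (h.conj_b_mem_Or hr))
    rwa [h.refl.inv, show b * (b * r * b) * b = (b * b) * r * (b * b) by group, h.refl.sq,
      one_mul, mul_one] at e1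
  have hcen : ∀ a ∈ Cen, a = 1 ∨ a = n ∨ a = n⁻¹ := by
    intro a ha
    obtain ⟨y', m', hyX', hyR', hyc, hmR', hmc, hmi', rfl⟩ := h.split_mem (A := Cen)
      (P := fun x => x ∈ centralizer (R : Set G)) (fun _ => mem_inf) hCb ha
    have hy1 : y' = 1 := by
      by_contra hy1
      have hyZ : y' ∈ Z := ⟨hyR', mem_centralizer_right.2 (h.mem_Y.1 hyX').2⟩
      have hmy : m * y' = y' * m := mem_centralizer_iff.1 hyc m hmR
      rcases h.inverted_unique (Z := zpowers y') (zpowers_le.2 hyX')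
          (fun e1 => hy1 (zpowers_eq_bot.1 e1)) hnW hni hn1
          (fun x hx => by
            obtain ⟨i, rfl⟩ := mem_zpowers_iff.1 hx
            exact ((show Commute n y' from hnc y' hyZ).zpow_right i).eq) (Or_le M 3 hmR) hmi
          (fun x hx => by
            obtain ⟨i, rfl⟩ := mem_zpowers_iff.1 hx
            exact ((show Commute m y' from hmy).zpow_right i).eq) with e | e | e <;>
        apply hmA <;> rw [e]
      exacts [one_mem _, hnA, inv_mem hnA]
    rw [hy1, one_mul]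
    exact hinA m' hmR' hmi' (mem_centralizer_iff.1 hmc z hz.1).symm
  have hnR : ∀ r ∈ R, r * n = n * r := by
    haveI : Nontrivial R := (Subgroup.nontrivial_iff_ne_bot R).2 fun e =>
      hn1 (mem_bot.1 (e ▸ hn : n ∈ (⊥ : Subgroup G)))
    haveI := (Or_isPGroup M 3).center_nontrivial (G := R)
    obtain ⟨a, ha⟩ := exists_ne (1 : center R)
    have haC : ((a : R) : G) ∈ Cen := ⟨(a : R).2, mem_centralizer_iff.2 fun r hr =>
      congrArg Subtype.val (mem_center_iff.1 a.2 ⟨r, hr⟩)⟩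
    intro r hr
    have hc := mem_centralizer_iff.1 haC.2 r hr
    rcases hcen _ haC with e | e | e
    · exact absurd (Subtype.ext (Subtype.ext e)) ha
    · rw [e] at hc; exact hc
    · rw [e] at hc; exact (Commute.inv_right_iff.1 (show Commute r n⁻¹ from hc)).eq
  have hnM : ∀ m' ∈ M, m' * n * m'⁻¹ = n ∨ m' * n * m'⁻¹ = n⁻¹ := by
    intro m' hm'
    have h1 : m' * n * m'⁻¹ ∈ Cen := ⟨Or_conj hm' hn, mem_centralizer_iff.2 fun r hr => by
      have hr' : m'⁻¹ * r * m' ∈ R := by simpa using Or_conj (inv_mem hm') hr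
      have e1 := Setup.commute_conj (g := m') (hnR _ hr')
      rwa [show m' * (m'⁻¹ * r * m') * m'⁻¹ = r by group] at e1⟩
    exact (hcen _ h1).resolve_left fun e => hn1 (conj_eq_one_iff.1 e)
  have hncW : ∀ w ∈ coreIn M, w * n = n * w := fun w hw => by
    rcases hnM w (coreIn_le M hw) with e | e
    · exact mul_inv_eq_iff_eq_mul.1 e
    · exact absurd (eq_one_of_conj_inv (odd_card_coreIn M) hnW hw e) hn1
  exact h.false_of_corner hne hz hz1 hz3 hzpow hn hni hn1 hnz hncW hnM
    (fun r hr e => hAzn r (hcz r hr e)) hn₂R hn₂z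

/-- The outer reflection fixes nothing in the prime cores. -/
theorem fixed_trivial (r : ℕ) (hr : r.Prime) : Or M r ⊓ centralizer ({b} : Set G) = ⊥ := by
  by_cases h3 : r = 3
  · subst h3; exact h.fixed_trivial_three
  · exact h.fixed_trivial_ne_three hr h3

end Four

end CfsgLib.GW.CaseOne
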