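import Cfsg.Agent.Lib.GW.CaseOneCases
import Cfsg.Agent.Lib.GW.CaseOneFourFix
import Cfsg.Agent.Lib.GW.CaseOneFourAbelian
import Cfsg.Agent.Lib.GW.CaseOneFourFinal

/-!
Gorenstein–Walter: a maximal subgroup properly containing the centraliser of an involution.
-/

set_option autoImplicit false

namespace CfsgLib.GW.CaseOne

open Subgroup

universe u

/-- A maximal subgroup strictly above `C(t)` leaves only the known groups. -/
theorem isPSLOrA7_of_ne {G : Type u} [Group G] [Finite G] (E : Setup G) {M : Subgroup G}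
    (hM : IsCoatom M) (hHM : E.H ≤ M) (hne : M ≠ E.H)
    (hG1 : ∀ b, E.Refl b → (∀ g ∈ M, g * E.t * g⁻¹ ≠ b ∧ g * E.t * g⁻¹ ≠ b * E.t) →
      ∀ w ∈ coreIn M, w * E.t = E.t * w) : IsPSLOrA7 G := by
  by_cases hU : E.U = ⊥
  · exact E.isPSL_of_U_eq_bot hU
  have h : Over E M := ⟨hM, hHM, hne⟩
  rcases h.shape with hP | ⟨⟨e⟩⟩ | ⟨⟨e⟩⟩ | ⟨⟨e⟩⟩ | ⟨L, F, i1, i2, hL⟩
  · exact (h.false_of_isPGroup hP hG1).elim
  · exact (h.false_of_alt_four hU e).elim
  · obtain ⟨L, b, b₁, hF⟩ := h.exists_four_data hG1 e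
    obtain ⟨hab, hinv⟩ := hF.inverted_of_no_fixed hF.fixed_trivial
    exact hF.isPSLOrA7_of_inverted hinv hab fun e1 => hU (hF.core_eq_U ▸ e1)
  · exact (h.false_of_alt_seven e).elim
  · by_cases hS : (h.syl : Subgroup (Tp M)) ≤ L
    · exact (h.false_of_psl_odd hL hS).elim
    · obtain ⟨b, b₁, hT⟩ := h.exists_two hG1 hL hS
      exact (hT.false_of_psl_two hL).elim

end CfsgLib.GW.CaseOne
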