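import Cfsg.Agent.Lib.GW.Basic
import Cfsg.Agent.Lib.DihProduct.Dihedral
import Cfsg.Agent.Lib.Transfer.Basic
import Cfsg.Agent.Lib.Involutions.Fusion
import Cfsg.Agent.S0514
import Cfsg.Agent.S0508
import Cfsg.Agent.Lib.ClassicalGroups.SmallIso

/-!
Gorenstein–Walter: the standing hypotheses (a simple group with dihedral Sylow 2-subgroups all of
whose proper subgroups are known) and the centraliser of an involution.
-/

set_option autoImplicit false
set_option linter.style.haveILetI false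
set_option linter.unusedSectionVars false

namespace CfsgLib.GW

open Subgroup CfsgLib.DihProduct

universe u

variable (G : Type u) [Group G]

/-- A minimal counterexample to the Gorenstein–Walter theorem, with a chosen Sylow 2-subgroup. -/
structure Setup where
  S : Sylow 2 G
  d : Dih (S : Subgroup G)
  m : ℕ
  two_le : 2 ≤ m
  eS : Nonempty ((S : Subgroup G) ≃* DihedralGroup m)
  simple : IsSimpleGroup G
  good : ∀ K : Subgroup G, K ≠ ⊤ → Good K

variable {G}

/-- The odd core of the centraliser of `w`, in `G`. -/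
def core (w : G) : Subgroup G := coreIn (centralizer ({w} : Set G))

/-- The image of `M` under conjugation by `g`. -/
def conjBy (M : Subgroup G) (g : G) : Subgroup G := M.map (MulAut.conj g).toMonoidHom

theorem mem_conjBy {M : Subgroup G} {g x : G} : x ∈ conjBy M g ↔ g⁻¹ * x * g ∈ M := by
  constructor
  · rintro ⟨y, hy, rfl⟩
    simpa [mul_assoc] using hy
  · intro h
    exact ⟨_, h, by simp [mul_assoc]⟩

theorem conjBy_mul (M : Subgroup G) (g h : G) : conjBy (conjBy M h) g = conjBy M (g * h) := by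
  ext x
  simp only [mem_conjBy, mul_inv_rev, mul_assoc]

theorem conjBy_of_mem {M : Subgroup G} {h : G} (hh : h ∈ M) : conjBy M h = M := by
  ext x
  rw [mem_conjBy]
  constructor
  · intro hx
    have := mul_mem (mul_mem hh hx) (inv_mem hh)
    simpa [mul_assoc] using this
  · exact fun hx => mul_mem (mul_mem (inv_mem hh) hx) hh

namespace Setup

variable (E : Setup G)

/-- The central involution of the Sylow subgroup. -/
def t : G := E.d.z

/-- Its centraliser. -/
def H : Subgroup G := centralizer ({E.t} : Set G)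

/-- The odd core of the centraliser. -/
def U : Subgroup G := core E.t

/-- A reflection of the Sylow subgroup. -/
def Refl (b : G) : Prop := b ∈ (E.S : Subgroup G) ∧ b ∉ zpowers E.d.r

/-- The odd part of the centraliser of the four-group `⟨t, b⟩`. -/
def X (b : G) : Subgroup G := E.U ⊓ centralizer ({b} : Set G)

theorem t_mem_S : E.t ∈ (E.S : Subgroup G) := E.d.z_mem

theorem t_sq : E.t * E.t = 1 := E.d.z_sq

theorem t_inv : E.t⁻¹ = E.t := E.d.inv_z

theorem t_ne_one : E.t ≠ 1 := E.d.z_ne_one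

theorem orderOf_t : orderOf E.t = 2 :=
  CfsgLib.Involutions.orderOf_eq_two_iff_mul.2 ⟨E.t_ne_one, E.t_sq⟩

theorem S_le_H : (E.S : Subgroup G) ≤ E.H := fun _ hx =>
  mem_centralizer_singleton_iff.2 (E.d.z_central hx)

theorem mem_H {x : G} : x ∈ E.H ↔ x * E.t = E.t * x := mem_centralizer_singleton_iff

theorem refl_a : E.Refl E.d.a := ⟨E.d.a_mem, E.d.a_notMem⟩

variable {E}

theorem Refl.sq {b : G} (hb : E.Refl b) : b * b = 1 := E.d.refl_sq hb.1 hb.2

theorem Refl.inv {b : G} (hb : E.Refl b) : b⁻¹ = b := inv_eq_of_mul_eq_one_right hb.sq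

theorem Refl.comm {b : G} (hb : E.Refl b) : b * E.t = E.t * b := E.d.z_central hb.1

theorem Refl.ne_one {b : G} (hb : E.Refl b) : b ≠ 1 := fun h => hb.2 (h ▸ one_mem _)

theorem Refl.ne_t {b : G} (hb : E.Refl b) : b ≠ E.t := fun h => hb.2 (h ▸ E.d.z_rot)

theorem Refl.orderOf_eq {b : G} (hb : E.Refl b) : orderOf b = 2 :=
  CfsgLib.Involutions.orderOf_eq_two_iff_mul.2 ⟨hb.ne_one, hb.sq⟩

theorem Refl.mem_H {b : G} (hb : E.Refl b) : b ∈ E.H := E.S_le_H hb.1

theorem Refl.mul_t {b : G} (hb : E.Refl b) : E.Refl (b * E.t) :=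
  ⟨mul_mem hb.1 E.t_mem_S, fun h => hb.2 (by
    have := mul_mem h (inv_mem E.d.z_rot)
    rwa [Setup.t, mul_inv_cancel_right] at this)⟩

/-- An element of the Sylow subgroup commuting with a reflection `b` is in `⟨t, b⟩`. -/
theorem Refl.cases_of_commute {b s : G} (hb : E.Refl b) (hs : s ∈ (E.S : Subgroup G))
    (h : s * b = b * s) : s = 1 ∨ s = E.t ∨ s = b ∨ s = b * E.t := by
  have key : ∀ x ∈ zpowers E.d.r, x * b = b * x → x = 1 ∨ x = E.t := fun x hx hxb => by
    refine E.d.rot_sq_eq_one hx ?_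
    have h1 := E.d.refl_inv hb.1 hb.2 hx
    rw [← hxb, mul_inv_cancel_right] at h1
    nth_rewrite 1 [h1]
    rw [inv_mul_cancel]
  by_cases hr : s ∈ zpowers E.d.r
  · rcases key s hr h with h1 | h1
    · exact Or.inl h1
    · exact Or.inr (Or.inl h1)
  · have h1 : s * b ∈ zpowers E.d.r := E.d.refl_mul_refl hs hr hb.1 hb.2
    have h2 : s * b * b = b * (s * b) := by rw [← mul_assoc, ← h]
    have e : s = (s * b) * b := by rw [mul_assoc, hb.sq, mul_one]
    rcases key _ h1 h2 with h3 | h3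
    · rw [h3, one_mul] at e; exact Or.inr (Or.inr (Or.inl e))
    · rw [h3, ← hb.comm] at e; exact Or.inr (Or.inr (Or.inr e))

theorem eq_t_or_refl {s : G} (hs : s ∈ (E.S : Subgroup G)) (h2 : orderOf s = 2) :
    s = E.t ∨ E.Refl s := by
  by_cases hr : s ∈ zpowers E.d.r
  · obtain ⟨h1, h3⟩ := CfsgLib.Involutions.orderOf_eq_two_iff_mul.1 h2
    exact Or.inl ((E.d.rot_sq_eq_one hr h3).resolve_left h1)
  · exact Or.inr ⟨hs, hr⟩

variable (E)

theorem relIndex_rot : (zpowers E.d.r).relIndex (E.S : Subgroup G) = 2 := by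
  rw [relIndex, index_eq_two_iff]
  refine ⟨⟨E.d.a, E.d.a_mem⟩, fun x => ?_⟩
  simp only [mem_subgroupOf, Subgroup.coe_mul]
  rcases E.d.cases x x.2 with h | h
  · refine Or.inr ⟨h, fun h' => E.d.a_notMem ?_⟩
    exact (mul_mem_cancel_left h).1 h'
  · refine Or.inl ⟨h, fun h' => E.d.a_notMem ?_⟩
    exact (mul_mem_cancel_left h').1 h

theorem card_S : Nat.card (E.S : Subgroup G) = 2 ^ (E.d.k + 2) := by
  have h1 := card_mul_index ((zpowers E.d.r).subgroupOf (E.S : Subgroup G))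
  rw [Nat.card_congr (subgroupOfEquivOfLe E.d.rot_le).toEquiv, Nat.card_zpowers, E.d.order,
    show ((zpowers E.d.r).subgroupOf (E.S : Subgroup G)).index = 2 from E.relIndex_rot] at h1
  rw [← h1, ← pow_succ]

include E in
theorem four_dvd_card : 4 ∣ Nat.card G :=
  (Dvd.intro (2 ^ E.d.k) (by rw [card_S]; ring)).trans (card_subgroup_dvd_card (E.S : Subgroup G))

include E in
theorem eq_bot_or_top {N : Subgroup G} (hN : N.Normal) : N = ⊥ ∨ N = ⊤ :=
  haveI := E.simple
  hN.eq_bot_or_eq_top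

variable [Finite G]

/-- All involutions are conjugate. -/
theorem exists_conj {x : G} (hx : orderOf x = 2) : ∃ g : G, g * E.t * g⁻¹ = x := by
  haveI : Fact (Nat.Prime 2) := ⟨Nat.prime_two⟩
  suffices key : ∀ b, E.Refl b → ∃ g : G, g * E.t * g⁻¹ = b by
    obtain ⟨g, hg⟩ := CfsgLib.Involutions.exists_conj_le_sylow
      (CfsgLib.Involutions.isPGroup_two_zpowers hx) E.S
    have h1 : g * x * g⁻¹ ∈ (E.S : Subgroup G) := hg x (mem_zpowers x)
    rcases eq_t_or_refl h1 (by rw [CfsgLib.Involutions.orderOf_conj_eq, hx]) with h | h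
    · exact ⟨g⁻¹, by rw [← h]; group⟩
    · obtain ⟨c, hc⟩ := key _ h
      exact ⟨g⁻¹ * c, by
        rw [show g⁻¹ * c * E.t * (g⁻¹ * c)⁻¹ = g⁻¹ * (c * E.t * c⁻¹) * g by group, hc]; group⟩
  intro b hb
  by_contra hno
  push Not at hno
  obtain ⟨M, hM, hMi, hbM⟩ := CfsgLib.Transfer.thompson_transfer E.S (zpowers E.d.r)
    E.relIndex_rot b (by rw [pow_two, hb.sq]) fun g _ hgr => by
      obtain ⟨h1, h2⟩ := CfsgLib.Involutions.orderOf_eq_two_iff_mul.1
        ((CfsgLib.Involutions.orderOf_conj_eq g b).trans hb.orderOf_eq)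
      have h3 : g * b * g⁻¹ = E.t := (E.d.rot_sq_eq_one hgr h2).resolve_left h1
      exact hno g⁻¹ (by rw [← h3]; group)
  rcases E.eq_bot_or_top hM with rfl | rfl
  · rw [index_bot] at hMi
    have := E.four_dvd_card
    rw [hMi] at this
    norm_num at this
  · exact hbM (mem_top b)

theorem H_ne_top : E.H ≠ ⊤ := by
  intro h
  have hc : E.t ∈ center G := mem_center_iff.2 fun g => E.mem_H.1 (h ▸ mem_top g)
  obtain ⟨g, hg⟩ := E.exists_conj E.refl_a.orderOf_eq
  rw [mem_center_iff.1 hc g, mul_inv_cancel_right] at hg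
  exact E.refl_a.ne_t hg.symm

include E in
/-- Membership in the odd core of the centraliser of an involution. -/
theorem mem_core_iff {w : G} (hw : orderOf w = 2) {x : G} :
    x ∈ core w ↔ x * w = w * x ∧ Odd (orderOf x) := by
  haveI : Fact (Nat.Prime 2) := ⟨Nat.prime_two⟩
  constructor
  · intro hx
    exact ⟨mem_centralizer_singleton_iff.1 (coreIn_le _ hx),
      CfsgLib.RankOneInvol.odd_orderOf_of_mem (odd_card_coreIn _) hx⟩
  · rintro ⟨hc, hodd⟩
    obtain ⟨N, hN, hNodd, k, hk⟩ := Cfsg.Agent.S0514.result E.S E.m E.two_le E.eS w hw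
    let x' : centralizer ({w} : Set G) := ⟨x, mem_centralizer_singleton_iff.2 hc⟩
    have h1 : x' ∈ N := by
      rw [← QuotientGroup.eq_one_iff, ← orderOf_eq_one_iff]
      refine Nat.eq_one_of_dvd_coprimes ((Nat.coprime_two_left.2 hodd).pow_left k) ?_ ?_
      · rw [← hk, index_eq_card]; exact orderOf_dvd_natCard _
      · rw [← Subgroup.orderOf_mk x (mem_centralizer_singleton_iff.2 hc)]
        exact orderOf_map_dvd (QuotientGroup.mk' N) x'
    exact ⟨x', CfsgLib.PCore.le_pPrimeCore_of_not_dvd hN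
      (by rw [← even_iff_two_dvd, Nat.not_even_iff_odd]; exact hNodd) h1, rfl⟩

include E in
theorem conj_mem_core {w x : G} (hw : orderOf w = 2) (hx : x ∈ core w) (g : G) :
    g * x * g⁻¹ ∈ core (g * w * g⁻¹) := by
  rw [E.mem_core_iff hw] at hx
  rw [E.mem_core_iff ((CfsgLib.Involutions.orderOf_conj_eq g w).trans hw)]
  refine ⟨?_, CfsgLib.RankOneInvol.odd_orderOf_conj hx.2 g⟩
  rw [show g * x * g⁻¹ * (g * w * g⁻¹) = g * (x * w) * g⁻¹ by group, hx.1]
  group

theorem mem_U {x : G} : x ∈ E.U ↔ x * E.t = E.t * x ∧ Odd (orderOf x) :=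
  E.mem_core_iff E.orderOf_t

theorem U_le_H : E.U ≤ E.H := coreIn_le _

theorem odd_card_U : Odd (Nat.card E.U) := odd_card_coreIn _

theorem conj_mem_U {h x : G} (hh : h ∈ E.H) (hx : x ∈ E.U) : h * x * h⁻¹ ∈ E.U :=
  conj_mem_coreIn hh hx

theorem eq_one_of_mem_U_S {x : G} (hU : x ∈ E.U) (hS : x ∈ (E.S : Subgroup G)) : x = 1 := by
  haveI : Fact (Nat.Prime 2) := ⟨Nat.prime_two⟩
  obtain ⟨k, hk⟩ := IsPGroup.iff_orderOf.1 E.S.2 ⟨x, hS⟩
  rw [Subgroup.orderOf_mk] at hk
  have h1 := (E.mem_U.1 hU).2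
  rcases Nat.eq_zero_or_pos k with rfl | hk0
  · rwa [pow_zero, orderOf_eq_one_iff] at hk
  · rw [hk, ← Nat.not_even_iff_odd] at h1
    exact absurd (Nat.even_pow.2 ⟨even_two, hk0.ne'⟩) h1

/-- `H = US`. -/
theorem exists_mul {h : G} (hh : h ∈ E.H) :
    ∃ x ∈ E.U, ∃ s ∈ (E.S : Subgroup G), h = x * s := by
  haveI : Fact (Nat.Prime 2) := ⟨Nat.prime_two⟩
  obtain ⟨N, hN, hNodd, k, hk⟩ := Cfsg.Agent.S0514.result E.S E.m E.two_le E.eS E.t E.orderOf_t
  set T : Sylow 2 (centralizer ({E.t} : Set G)) := E.S.subtype E.S_le_H with hT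
  have htop : N ⊔ (T : Subgroup _) = ⊤ := by
    rw [← index_eq_one]
    refine Nat.eq_one_of_dvd_coprimes ((Nat.coprime_two_left.2
      (Nat.odd_iff.2 (Nat.two_dvd_ne_zero.1 T.not_dvd_index))).pow_left k) ?_
      (index_dvd_of_le le_sup_right)
    exact hk ▸ index_dvd_of_le le_sup_left
  haveI := hN
  have h1 : (⟨h, hh⟩ : centralizer ({E.t} : Set G)) ∈ ((N ⊔ (T : Subgroup _) : Subgroup _) : Set _) :=
    htop ▸ mem_top _
  rw [normal_mul] at h1
  obtain ⟨x, hx, s, hs, hxs⟩ := Set.mem_mul.1 h1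
  refine ⟨x, ?_, s, hs, congrArg Subtype.val hxs.symm⟩
  exact E.mem_U.2 ⟨mem_centralizer_singleton_iff.1 x.2,
    CfsgLib.RankOneInvol.odd_orderOf_of_mem (X := N.map (centralizer ({E.t} : Set G)).subtype)
      (by rwa [card_map_of_injective (centralizer ({E.t} : Set G)).subtype_injective])
      (mem_map_of_mem _ hx)⟩

theorem mul_inj {x y s s' : G} (hx : x ∈ E.U) (hy : y ∈ E.U) (hs : s ∈ (E.S : Subgroup G))
    (hs' : s' ∈ (E.S : Subgroup G)) (h : x * s = y * s') : x = y ∧ s = s' := by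
  have h1 : y⁻¹ * x = s' * s⁻¹ := by
    calc y⁻¹ * x = y⁻¹ * (x * s) * s⁻¹ := by group
      _ = s' * s⁻¹ := by rw [h]; group
  have h2 := E.eq_one_of_mem_U_S (mul_mem (inv_mem hy) hx) (h1 ▸ mul_mem hs' (inv_mem hs))
  rw [h2] at h1
  exact ⟨(inv_mul_eq_one.1 h2).symm, (mul_inv_eq_one.1 h1.symm).symm⟩

theorem card_H : Nat.card E.H = Nat.card E.U * Nat.card (E.S : Subgroup G) := by
  rw [← Nat.card_prod]
  refine (Nat.card_congr (Equiv.ofBijective
    (fun p : E.U × (E.S : Subgroup G) => (⟨p.1 * p.2, mul_mem (E.U_le_H p.1.2)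
      (E.S_le_H p.2.2)⟩ : E.H)) ⟨fun p q h => ?_, fun h => ?_⟩)).symm
  · obtain ⟨h1, h2⟩ := E.mul_inj p.1.2 q.1.2 p.2.2 q.2.2 (congrArg Subtype.val h)
    exact Prod.ext (Subtype.ext h1) (Subtype.ext h2)
  · obtain ⟨x, hx, s, hs, e⟩ := E.exists_mul h.2
    exact ⟨⟨⟨x, hx⟩, ⟨s, hs⟩⟩, Subtype.ext e.symm⟩

theorem odd_orderOf_mem_U {x : G} (hx : x ∈ E.H) (hodd : Odd (orderOf x)) : x ∈ E.U :=
  E.mem_U.2 ⟨E.mem_H.1 hx, hodd⟩

variable {E}

theorem Refl.mem_X {b x : G} (hb : E.Refl b) :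
    x ∈ E.X b ↔ x * E.t = E.t * x ∧ x * b = b * x ∧ Odd (orderOf x) := by
  show x ∈ E.U ∧ x ∈ centralizer ({b} : Set G) ↔ _
  rw [E.mem_U, mem_centralizer_singleton_iff]
  tauto

theorem Refl.X_mul_t {b : G} (hb : E.Refl b) : E.X (b * E.t) = E.X b := by
  ext x
  rw [hb.mem_X, hb.mul_t.mem_X]
  constructor
  · rintro ⟨h1, h2, h3⟩
    refine ⟨h1, ?_, h3⟩
    have h : Commute x b := by
      have := (show Commute x (b * E.t) from h2).mul_right (show Commute x E.t from h1)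
      rwa [mul_assoc, E.t_sq, mul_one] at this
    exact h
  · rintro ⟨h1, h2, h3⟩
    exact ⟨h1, ((show Commute x b from h2).mul_right (show Commute x E.t from h1)).eq, h3⟩

/-- The centraliser of a four-group `⟨t, b⟩` is `⟨t, b⟩ × X`. -/
theorem Refl.exists_eq_mul {b x : G} (hb : E.Refl b) (ht : x * E.t = E.t * x)
    (hxb : x * b = b * x) :
    ∃ v, (v = 1 ∨ v = E.t ∨ v = b ∨ v = b * E.t) ∧ ∃ y ∈ E.X b, x = v * y := by
  obtain ⟨y, hy, s, hs, rfl⟩ := E.exists_mul (E.mem_H.2 ht)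
  have e : (b * y * b⁻¹) * (b * s * b⁻¹) = y * s := by
    calc b * y * b⁻¹ * (b * s * b⁻¹) = b * (y * s) * b⁻¹ := by group
      _ = y * s := by rw [← hxb, mul_inv_cancel_right]
  obtain ⟨h1, h2⟩ := E.mul_inj (E.conj_mem_U hb.mem_H hy) hy
    (mul_mem (mul_mem hb.1 hs) (inv_mem hb.1)) hs e
  have hsb : s * b = b * s := (mul_inv_eq_iff_eq_mul.1 h2).symm
  have hyb : y * b = b * y := (mul_inv_eq_iff_eq_mul.1 h1).symm
  have hyX : y ∈ E.X b := hb.mem_X.2 ⟨(E.mem_U.1 hy).1, hyb, (E.mem_U.1 hy).2⟩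
  refine ⟨s, hb.cases_of_commute hs hsb, y, hyX, ?_⟩
  have hc : Commute y E.t := (E.mem_U.1 hy).1
  rcases hb.cases_of_commute hs hsb with rfl | rfl | rfl | rfl
  · rw [one_mul, mul_one]
  · exact hc.eq
  · exact hyb
  · exact ((show Commute y b from hyb).mul_right hc).eq

/-- An odd subgroup normalised by `⟨t, b⟩` is generated by its three fixed point subgroups. -/
theorem Refl.le_of_fixed {b : G} (hb : E.Refl b) {A L : Subgroup G} (hA : Odd (Nat.card A))
    (hnt : ∀ w ∈ A, E.t * w * E.t ∈ A) (hnb : ∀ w ∈ A, b * w * b ∈ A)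
    (h1 : ∀ w ∈ A, w * E.t = E.t * w → w ∈ L) (h2 : ∀ w ∈ A, w * b = b * w → w ∈ L)
    (h3 : ∀ w ∈ A, w * (b * E.t) = b * E.t * w → w ∈ L) : A ≤ L := by
  have key : ∀ {v : G}, v * v = 1 → ∀ {w : G}, v * w * v = w → w * v = v * w := fun {v} hv {w} h => by
    calc w * v = v * w * v * v := by rw [h]
      _ = v * w := by rw [mul_assoc, hv, mul_one]
  refine CfsgLib.RankOneInvol.le_of_fourGroup_fixed hA E.t_sq hb.sq hb.comm.symm hnt hnb
    (fun w hw h => h1 w hw (key E.t_sq h)) (fun w hw h => h2 w hw (key hb.sq h))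
    (fun w hw h => h3 w hw ?_)
  rw [hb.comm]
  refine key ?_ h
  rw [show E.t * b * (E.t * b) = E.t * (b * E.t) * b by group, hb.comm, ← mul_assoc E.t E.t b, E.t_sq,
    one_mul, hb.sq]

/-- For `|S| ≥ 8` the rotation of order 4 swaps `b` and `b * t`. -/
theorem Refl.swap {b : G} (hb : E.Refl b) (hk : 1 ≤ E.d.k) :
    E.d.t * E.t * E.d.t⁻¹ = E.t ∧ E.d.t * b * E.d.t⁻¹ = b * E.t :=
  ⟨by rw [Setup.t, E.d.z_central E.d.t_mem, mul_inv_cancel_right], E.d.t_conj_refl hk hb.1 hb.2⟩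

omit [Finite G] in
theorem commute_conj {g x w : G} (h : x * w = w * x) :
    g * x * g⁻¹ * (g * w * g⁻¹) = g * w * g⁻¹ * (g * x * g⁻¹) := by
  calc g * x * g⁻¹ * (g * w * g⁻¹) = g * (x * w) * g⁻¹ := by group
    _ = _ := by rw [h]; group

/-- Some element of `G` permutes the involutions of `⟨t, b⟩` cyclically. -/
theorem Refl.exists_rot {b : G} (hb : E.Refl b) :
    ∃ g : G, g * E.t * g⁻¹ = b ∧ g * b * g⁻¹ = b * E.t ∧ g * (b * E.t) * g⁻¹ = E.t := by
  haveI : Fact (Nat.Prime 2) := ⟨Nat.prime_two⟩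
  obtain ⟨c, hc⟩ := E.exists_conj hb.orderOf_eq
  have key : ∀ g : G, g * E.t * g⁻¹ = b → g * b * g⁻¹ = b * E.t → g * (b * E.t) * g⁻¹ = E.t := by
    intro g h1 h2
    calc g * (b * E.t) * g⁻¹ = (g * b * g⁻¹) * (g * E.t * g⁻¹) := by group
      _ = b * E.t * b := by rw [h1, h2]
      _ = E.t := by rw [hb.comm, mul_assoc, hb.sq, mul_one]
  have hCle : (E.S : Subgroup G).map (MulAut.conj c).toMonoidHom ≤ centralizer ({b} : Set G) := by
    rintro _ ⟨s, hs, rfl⟩
    rw [mem_centralizer_singleton_iff, ← hc]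
    exact commute_conj (E.d.z_central hs)
  have hp : IsPGroup 2 ((E.S : Subgroup G).map (MulAut.conj c).toMonoidHom) := E.S.2.map _
  have htC : E.t ∈ centralizer ({b} : Set G) := mem_centralizer_singleton_iff.2 hb.comm.symm
  obtain ⟨P, hP⟩ := hp.exists_le_sylow
  have hPeq : (P : Subgroup G) = (E.S : Subgroup G).map (MulAut.conj c).toMonoidHom := by
    refine (eq_of_le_of_card_ge hP ?_).symm
    rw [card_map_of_injective (MulAut.conj c).injective, Nat.card_congr (Sylow.equiv P E.S).toEquiv]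
  set T : Sylow 2 (centralizer ({b} : Set G)) := P.subtype (hPeq ▸ hCle) with hT
  rcases Nat.eq_zero_or_pos E.d.k with hk | hk
  · -- four-group Sylow subgroup
    have hSC : (E.S : Subgroup G) ≤ centralizer ({b} : Set G) := fun s hs =>
      mem_centralizer_singleton_iff.2 (E.d.comm_of_four hk hs hb.1)
    obtain ⟨y, hy⟩ := MulAction.exists_smul_eq (centralizer ({b} : Set G)) T (E.S.subtype hSC)
    set g : G := (y : G) * c with hg
    have hgt : g * E.t * g⁻¹ = b := by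
      rw [hg, show (y : G) * c * E.t * ((y : G) * c)⁻¹ = y * (c * E.t * c⁻¹) * (y : G)⁻¹ by group, hc,
        mem_centralizer_singleton_iff.1 y.2, mul_inv_cancel_right]
    have hgN : ∀ s ∈ (E.S : Subgroup G), g * s * g⁻¹ ∈ (E.S : Subgroup G) := by
      intro s hs
      have h1 : (⟨c * s * c⁻¹, hCle ⟨s, hs, rfl⟩⟩ : centralizer ({b} : Set G)) ∈ (T : Subgroup _) :=
        mem_subgroupOf.2 (hPeq ▸ ⟨s, hs, rfl⟩)
      have h2 : y * ⟨c * s * c⁻¹, hCle ⟨s, hs, rfl⟩⟩ * y⁻¹ ∈ ((y • T : Sylow 2 _) : Subgroup _) := by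
        rw [Sylow.coe_subgroup_smul]
        exact ⟨_, h1, rfl⟩
      rw [hy] at h2
      have h3 := mem_subgroupOf.1 h2
      rw [hg, show (y : G) * c * s * ((y : G) * c)⁻¹ = y * (c * s * c⁻¹) * (y : G)⁻¹ by group]
      exact h3
    refine ⟨g, hgt, ?_, ?_⟩
    swap
    · refine key g hgt ?_
      by_contra hne
      exact hne (aux g hgt hgN hk hne)
    · by_contra hne
      exact hne (aux g hgt hgN hk hne)
  · -- the general case
    obtain ⟨y, hy⟩ := CfsgLib.Involutions.exists_conj_le_sylow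
      (CfsgLib.Involutions.isPGroup_two_zpowers
        (x := (⟨E.t, htC⟩ : centralizer ({b} : Set G))) (by rw [Subgroup.orderOf_mk, E.orderOf_t])) T
    have h1 : (y : G) * E.t * (y : G)⁻¹ ∈ (P : Subgroup G) := mem_subgroupOf.1 (hy _ (mem_zpowers _))
    rw [hPeq] at h1
    obtain ⟨b2, hb2, hb2e⟩ := h1
    replace hb2e : c * b2 * c⁻¹ = (y : G) * E.t * (y : G)⁻¹ := hb2e
    set h : G := c⁻¹ * (y : G) with hh
    have hht : h * E.t * h⁻¹ = b2 := by
      rw [hh, show c⁻¹ * (y : G) * E.t * (c⁻¹ * (y : G))⁻¹ = c⁻¹ * (y * E.t * (y : G)⁻¹) * c by group,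
        ← hb2e]
      group
    have hhb : h * b * h⁻¹ = E.t := by
      rw [hh, show c⁻¹ * (y : G) * b * (c⁻¹ * (y : G))⁻¹ = c⁻¹ * (y * b * (y : G)⁻¹) * c by group,
        mem_centralizer_singleton_iff.1 y.2, mul_inv_cancel_right, ← hc]
      group
    have hb2' : E.Refl b2 := by
      refine (eq_t_or_refl hb2 ?_).resolve_left fun e => hb.ne_t ?_
      · rw [← hht, CfsgLib.Involutions.orderOf_conj_eq, E.orderOf_t]
      · exact (mul_left_cancel (mul_right_cancel (hht.trans (e.trans hhb.symm)))).symm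
    obtain ⟨hσt, hσb⟩ := hb.swap hk
    obtain ⟨hτt, hτb⟩ := hb2'.swap hk
    set τ : G := h⁻¹ * E.d.t * h with hτ
    have hτ1 : τ * E.t * τ⁻¹ = b * E.t := by
      rw [hτ, show h⁻¹ * E.d.t * h * E.t * (h⁻¹ * E.d.t * h)⁻¹ =
        h⁻¹ * (E.d.t * (h * E.t * h⁻¹) * E.d.t⁻¹) * h by group, hht, hτb, ← hb.comm.symm]
      rw [← hht]
      nth_rewrite 2 [← hhb]
      group
    have hτ2 : τ * b * τ⁻¹ = b := by
      rw [hτ, show h⁻¹ * E.d.t * h * b * (h⁻¹ * E.d.t * h)⁻¹ =
        h⁻¹ * (E.d.t * (h * b * h⁻¹) * E.d.t⁻¹) * h by group, hhb, hτt, ← hhb]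
      group
    set g : G := E.d.t * τ with hg
    have e : ∀ w, g * w * g⁻¹ = E.d.t * (τ * w * τ⁻¹) * E.d.t⁻¹ := fun w => by rw [hg]; group
    have hgt : g * E.t * g⁻¹ = b := by
      rw [e, hτ1, show E.d.t * (b * E.t) * E.d.t⁻¹ = (E.d.t * b * E.d.t⁻¹) * (E.d.t * E.t * E.d.t⁻¹) by
        group, hσt, hσb, mul_assoc, E.t_sq, mul_one]
    have hgb : g * b * g⁻¹ = b * E.t := by rw [e, hτ2, hσb]
    exact ⟨g, hgt, hgb, key g hgt hgb⟩
where
  aux (g : G) (hgt : g * E.t * g⁻¹ = b) (hgN : ∀ s ∈ (E.S : Subgroup G), g * s * g⁻¹ ∈ (E.S : Subgroup G))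
      (hk : E.d.k = 0) (hne : g * b * g⁻¹ ≠ b * E.t) : g * b * g⁻¹ = b * E.t := by
    haveI : Fact (Nat.Prime 2) := ⟨Nat.prime_two⟩
    exfalso
    have hgb : g * b * g⁻¹ = E.t := by
      rcases hb.cases_of_commute (hgN b hb.1) (E.d.comm_of_four hk (hgN b hb.1) hb.1) with h | h | h | h
      · exact absurd (conj_eq_one_iff.1 h) hb.ne_one
      · exact h
      · exact absurd (mul_left_cancel (mul_right_cancel (h.trans hgt.symm))) hb.ne_t
      · exact absurd h hne
    have hg2 : Commute (g * g) E.t := by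
      show g * g * E.t = E.t * (g * g)
      calc g * g * E.t = g * (g * E.t * g⁻¹) * g := by group
        _ = g * b * g⁻¹ * (g * g) := by rw [hgt]; group
        _ = E.t * (g * g) := by rw [hgb]
    obtain ⟨i, j, hj, hij⟩ := Nat.exists_eq_pow_mul_and_not_dvd (orderOf_pos g).ne' 2 (by norm_num)
    obtain ⟨l, rfl⟩ : ∃ l, j = 2 * l + 1 :=
      Nat.odd_iff.2 (Nat.two_dvd_ne_zero.1 hj)
    have hp : IsPGroup 2 (zpowers (g ^ (2 * l + 1))) := by
      obtain ⟨e, -, he⟩ := (Nat.dvd_prime_pow Nat.prime_two).1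
        (orderOf_dvd_of_pow_eq_one (x := g ^ (2 * l + 1)) (n := 2 ^ i)
          (by rw [← pow_mul, mul_comm, ← hij, pow_orderOf_eq_one]))
      exact IsPGroup.of_card (n := e) (by rw [Nat.card_zpowers, he])
    have hn : g ^ (2 * l + 1) ∈ normalizer ((E.S : Subgroup G) : Set G) := by
      refine pow_mem ?_ _
      rw [mem_normalizer_iff]
      refine fun s => ⟨fun hs => hgN s hs, fun hs => ?_⟩
      have hfin : (g * s * g⁻¹) ∈ ((E.S : Subgroup G).map (MulAut.conj g).toMonoidHom) := by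
        rw [eq_of_le_of_card_ge (H := (E.S : Subgroup G).map (MulAut.conj g).toMonoidHom)
          (K := (E.S : Subgroup G)) (by rintro _ ⟨w, hw, rfl⟩; exact hgN w hw)
          (by rw [card_map_of_injective (MulAut.conj g).injective])]
        exact hs
      obtain ⟨w, hw, hwe⟩ := hfin
      rwa [← (MulAut.conj g).injective (hwe : MulAut.conj g w = MulAut.conj g s)]
    have hS : g ^ (2 * l + 1) ∈ (E.S : Subgroup G) := by
      have := (IsPGroup.inf_normalizer_sylow hp E.S).le ⟨mem_zpowers _, hn⟩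
      exact this.2
    have h1 : g ^ (2 * l + 1) * E.t = E.t * g ^ (2 * l + 1) := E.d.z_central hS
    have h2 : g ^ (2 * l + 1) * E.t * (g ^ (2 * l + 1))⁻¹ = b := by
      rw [pow_succ', pow_mul, pow_two,
        show g * (g * g) ^ l * E.t * (g * (g * g) ^ l)⁻¹ =
          g * ((g * g) ^ l * E.t * ((g * g) ^ l)⁻¹) * g⁻¹ by group,
        (hg2.pow_left l).eq, mul_inv_cancel_right, hgt]
    rw [h1, mul_inv_cancel_right] at h2
    exact hb.ne_t h2.symm

/-- Conjugation by a normalising element of `⟨t, b⟩` preserves `X`. -/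
theorem Refl.conj_mem_X {b g x : G} (hb : E.Refl b) (hgt : g * E.t * g⁻¹ = b)
    (hgb : g * b * g⁻¹ = b * E.t) (hx : x ∈ E.X b) : g * x * g⁻¹ ∈ E.X b := by
  rw [hb.mem_X] at hx
  obtain ⟨h1, h2, h3⟩ := hx
  have e1 := commute_conj (g := g) h1
  have e2 := commute_conj (g := g) h2
  rw [hgt] at e1
  rw [hgb] at e2
  refine hb.mem_X.2 ⟨?_, e1, CfsgLib.RankOneInvol.odd_orderOf_conj h3 g⟩
  have := (show Commute (g * x * g⁻¹) b from e1).mul_right (show Commute _ (b * E.t) from e2)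
  rwa [← mul_assoc, hb.sq, one_mul] at this

variable (E)

/-- The conjugate of `M ≥ H` containing the centraliser of `g t g⁻¹` depends on that involution only. -/
theorem conjBy_eq {M : Subgroup G} (hM : E.H ≤ M) {g g' : G}
    (h : g * E.t * g⁻¹ = g' * E.t * g'⁻¹) : conjBy M g = conjBy M g' := by
  have h1 : g⁻¹ * g' ∈ M := hM (E.mem_H.2 (by
    calc g⁻¹ * g' * E.t = g⁻¹ * (g' * E.t * g'⁻¹) * g' := by group
      _ = E.t * (g⁻¹ * g') := by rw [← h]; group))
  rw [show g' = g * (g⁻¹ * g') by group, ← conjBy_mul, conjBy_of_mem h1]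

theorem centralizer_le_conjBy {M : Subgroup G} (hM : E.H ≤ M) (g : G) :
    centralizer ({g * E.t * g⁻¹} : Set G) ≤ conjBy M g := fun x hx => by
  rw [mem_conjBy]
  refine hM (E.mem_H.2 ?_)
  have := commute_conj (g := g⁻¹) (mem_centralizer_singleton_iff.1 hx)
  simpa [mul_assoc] using this

/-- `O(C(t)) = 1` gives `PSL₂(q)`. -/
theorem isPSL_of_U_eq_bot (hU : E.U = ⊥) : IsPSLOrA7 G := by
  classical
  haveI := E.simple
  have hcent : centralizer ((⊥ : Subgroup G) : Set G) = ⊤ :=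
    eq_top_iff.2 fun x _ => mem_centralizer_iff.2 fun y hy => by
      rw [SetLike.mem_coe, mem_bot] at hy; rw [hy, one_mul, mul_one]
  obtain ⟨F, i1, i2, hodd, ⟨f⟩⟩ := Cfsg.Agent.S0508.result E.S E.m E.two_le E.eS E.t E.orderOf_t
    E.t_mem_S (fun s hs => E.d.z_central hs) ⊥ hU.symm (fun h => absurd rfl h)
    (fun s _ hs => absurd (hcent.symm ▸ mem_top s) hs) (fun Y hY hY' => absurd (le_bot_iff.1 hY) hY')
  refine Or.inl ⟨F, i1, i2, hodd, ?_, ⟨f⟩⟩
  by_contra hcard
  have hF : Fintype.card F = 3 := by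
    have h2 := Fintype.one_lt_card (α := F)
    rcases hodd with ⟨l, hl⟩
    omega
  have hG : Nat.card G = 12 := by
    obtain ⟨e⟩ := CfsgLib.ClassicalGroups.psl_two_three_alternating (K := F) hF
    rw [Nat.card_congr (f.trans e).toEquiv, nat_card_alternatingGroup, Nat.card_fin]
    rfl
  have h1 := E.H.card_mul_index
  have h4 : 4 ≤ Nat.card E.H := by
    rw [E.card_H, hU, card_bot, one_mul, card_S, pow_add]
    exact Nat.le_mul_of_pos_left 4 (by positivity)
  have h5 : E.H.index ≤ 3 := by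
    rw [hG] at h1
    nlinarith
  have hinj : Function.Injective (MulAction.toPermHom G (G ⧸ E.H)) := by
    rw [← MonoidHom.ker_eq_bot_iff, ← normalCore_eq_ker]
    refine (E.eq_bot_or_top (normalCore_normal E.H)).resolve_right fun h => E.H_ne_top ?_
    exact top_le_iff.1 (h ▸ normalCore_le E.H)
  have h6 := Nat.card_le_card_of_injective _ hinj
  rw [Nat.card_perm, ← index_eq_card, hG] at h6
  have := h6.trans (Nat.factorial_le h5)
  norm_num [Nat.factorial] at this

end Setup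

end CfsgLib.GW
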