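/-
Gorenstein–Walter: reduction of the general statement to a simple minimal counterexample.
-/
import Cfsg.Agent.Lib.GW.Setup
import Cfsg.Agent.Lib.GWCons.DihedralModel
import Cfsg.Agent.Lib.GWCons.DihedralGenerated
import Cfsg.Agent.Lib.GWCons.CyclicSylow
import Cfsg.Agent.Lib.GWCons.QDNormalSL
import Cfsg.Agent.Lib.PF.OddOrder
import Cfsg.Agent.Lib.Structure.MinimalNormal
import Cfsg.Agent.Lib.InvChar.SmallSolvable

set_option autoImplicit false
set_option linter.all false

namespace CfsgLib.GW.Main

open Subgroup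

universe u v

/-- Every 2-subgroup is cyclic or dihedral. -/
def DC (X : Type u) [Group X] : Prop :=
  ∀ Q : Subgroup X, IsPGroup 2 Q →
    IsCyclic Q ∨ ∃ m : ℕ, 2 ≤ m ∧ Nonempty (Q ≃* DihedralGroup m)

theorem cyclic_of_equiv {A B : Type*} [Group A] [Group B] (e : A ≃* B) (h : IsCyclic A) :
    IsCyclic B := by
  haveI := h
  exact isCyclic_of_surjective e.toMonoidHom e.surjective

theorem DC.subgroup {X : Type u} [Group X] (h : DC X) (K : Subgroup X) : DC K := by
  intro Q hQ
  let e : Q ≃* Q.map K.subtype := Q.equivMapOfInjective K.subtype K.subtype_injective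
  rcases h _ (hQ.map K.subtype) with hc | ⟨m, hm, ⟨f⟩⟩
  · exact Or.inl (cyclic_of_equiv e.symm hc)
  · exact Or.inr ⟨m, hm, ⟨e.trans f⟩⟩

/-- A subgroup of a cyclic or dihedral 2-group is cyclic or dihedral. -/
theorem shape_subgroup {X : Type u} [Group X] [Finite X] {T Q : Subgroup X} (hQT : Q ≤ T)
    (hT : IsPGroup 2 T) {n : ℕ} (h : Nonempty (T ≃* DihedralGroup n) ∨ IsCyclic T) :
    IsCyclic Q ∨ ∃ m : ℕ, 2 ≤ m ∧ Nonempty (Q ≃* DihedralGroup m) := by
  haveI : Fact (Nat.Prime 2) := ⟨Nat.prime_two⟩
  by_cases hc : IsCyclic T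
  · haveI := hc
    exact Or.inl (isCyclic_of_injective _ (Subgroup.inclusion_injective hQT))
  obtain ⟨e⟩ := h.resolve_right hc
  have hn0 : n ≠ 0 := by
    rintro rfl
    have h1 : 0 < Nat.card (DihedralGroup 0) := by
      rw [← Nat.card_congr e.toEquiv]; exact Nat.card_pos
    rw [DihedralGroup.nat_card] at h1
    omega
  haveI : NeZero n := ⟨hn0⟩
  have hn : 2 ≤ n := by
    by_contra h2
    obtain rfl : n = 1 := by omega
    exact hc (isCyclic_of_prime_card (p := 2)
      (by rw [Nat.card_congr e.toEquiv, DihedralGroup.nat_card]))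
  by_cases hQc : IsCyclic Q
  · exact Or.inl hQc
  let R := (Q.subgroupOf T).map e.toMonoidHom
  let eR : Q ≃* R := (subgroupOfEquivOfLe hQT).symm.trans
    ((Q.subgroupOf T).equivMapOfInjective e.toMonoidHom e.injective)
  obtain ⟨m, hm, ⟨f⟩⟩ := CfsgLib.GWCons.DihedralModel.nonempty_dihedral (hT.of_equiv e) hn (R := R)
    fun hR => hQc (cyclic_of_equiv eR.symm hR)
  exact Or.inr ⟨m, hm, ⟨eR.trans f⟩⟩

theorem dc_of_sylow {X : Type u} [Group X] [Finite X] (S : Sylow 2 X) {n : ℕ}
    (h : Nonempty ((S : Subgroup X) ≃* DihedralGroup n) ∨ IsCyclic (S : Subgroup X)) : DC X := by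
  haveI : Fact (Nat.Prime 2) := ⟨Nat.prime_two⟩
  intro Q hQ
  obtain ⟨T, hQT⟩ := hQ.exists_le_sylow
  exact shape_subgroup hQT T.2 (h.imp (fun ⟨f⟩ => ⟨(Sylow.equiv T S).trans f⟩)
    fun hc => cyclic_of_equiv (Sylow.equiv S T) hc)

theorem dc_quotient {X : Type u} [Group X] [Finite X] (h : DC X) : DC (X ⧸ Cfsg.oddCore X) := by
  haveI : Fact (Nat.Prime 2) := ⟨Nat.prime_two⟩
  obtain ⟨S⟩ : Nonempty (Sylow 2 X) := inferInstance
  obtain ⟨S', ⟨e⟩⟩ := CfsgLib.InvChar.exists_sylow_quotient_equiv S
  rcases h _ S.2 with hc | ⟨m, -, ⟨f⟩⟩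
  · exact dc_of_sylow S' (n := 0) (Or.inr (cyclic_of_equiv e hc))
  · exact dc_of_sylow S' (Or.inl ⟨e.symm.trans f⟩)

theorem eq_bot_of_odd {X : Type u} [Group X] [Finite X] (hO : Cfsg.oddCore X = ⊥) (N : Subgroup X)
    (hN : N.Normal) (ho : Odd (Nat.card N)) : N = ⊥ := by
  haveI : Fact (Nat.Prime 2) := ⟨Nat.prime_two⟩
  exact eq_bot_iff.2 (hO ▸ CfsgLib.PCore.le_pPrimeCore_of_not_dvd hN
    (by rwa [← even_iff_two_dvd, Nat.not_even_iff_odd]))

/-- Burnside: cyclic Sylow 2-subgroups and trivial odd core give a 2-group. -/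
theorem isPGroup_of_cyclic {X : Type u} [Group X] [Finite X] (hO : Cfsg.oddCore X = ⊥)
    (S : Sylow 2 X) (hc : IsCyclic (S : Subgroup X)) : IsPGroup 2 X := by
  haveI : Fact (Nat.Prime 2) := ⟨Nat.prime_two⟩
  rcases Nat.even_or_odd (Nat.card X) with hev | hodd
  · have hnpc : Cfsg.HasNormalPComplement 2 X := by
      by_contra hn
      obtain ⟨H, hH⟩ := Cfsg.Agent.S0219.result hev S hc
      haveI := normal_of_index_eq_two hH
      have hle : (S : Subgroup X) ≤ H := (CfsgLib.GWCons.CyclicSylow.le_commutator S hc hn).trans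
        (by
          rw [_root_.commutator_def, commutator_le]
          intro a _ b _
          rw [← QuotientGroup.eq_one_iff (N := H), ← QuotientGroup.mk'_apply, map_commutatorElement,
            commutatorElement_eq_one_iff_mul_comm]
          haveI : IsCyclic (X ⧸ H) := isCyclic_of_prime_card (p := 2) hH
          exact mul_comm' _ _)
      have hd := index_dvd_of_le hle
      rw [hH] at hd
      exact S.not_dvd_index hd
    obtain ⟨P, N, hN, hc'⟩ := hnpc
    have ho : Odd (Nat.card N) := by
      rw [← hc'.index_eq_card, ← Nat.not_even_iff_odd, even_iff_two_dvd]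
      exact P.not_dvd_index
    rw [eq_bot_of_odd hO N hN ho, isComplement'_bot_left] at hc'
    exact (P.2.of_equiv ((MulEquiv.subgroupCongr hc').trans topEquiv))
  · have h := eq_bot_of_odd hO ⊤ inferInstance (by rwa [card_top])
    intro x
    exact ⟨0, by
      rw [pow_zero, pow_one]
      exact (mem_bot).1 (h ▸ mem_top x)⟩

/-! ### The simple groups in the conclusion -/

theorem isSimple_and_perfect {L : Type v} [Group L] [Finite L] (h : IsPSLOrA7 L) :
    IsSimpleGroup L ∧ Group.IsPerfect L := by
  have key : IsSimpleGroup L ∧ ¬ IsMulCommutative L := by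
    rcases h with ⟨F, i1, i2, hodd, h3, ⟨e⟩⟩ | ⟨⟨e⟩⟩
    · haveI hs : IsSimpleGroup (Matrix.ProjectiveSpecialLinearGroup (Fin 2) F) :=
        Matrix.ProjectiveSpecialLinearGroup.rank_two_simple (by rw [Nat.card_eq_fintype_card]; omega)
      refine ⟨e.isSimpleGroup, fun hc => ?_⟩
      haveI := (CfsgLib.GWCons.QDNormalSL.sl_quasisimple h3).1
      haveI : Group.IsPerfect (Matrix.ProjectiveSpecialLinearGroup (Fin 2) F) :=
        Group.IsPerfect.ofSurjective (f := QuotientGroup.mk' _) (QuotientGroup.mk'_surjective _)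
      have h1 : commutator (Matrix.ProjectiveSpecialLinearGroup (Fin 2) F) = ⊥ := by
        rw [eq_bot_iff, _root_.commutator_def, commutator_le]
        intro a _ b _
        rw [mem_bot, commutatorElement_eq_one_iff_mul_comm]
        apply e.symm.injective
        rw [map_mul, map_mul, hc.is_comm.comm]
      rw [Group.IsPerfect.commutator_eq_top] at h1
      exact top_ne_bot h1
    · haveI hs : IsSimpleGroup (alternatingGroup (Fin 7)) :=
        alternatingGroup.isSimpleGroup (by simp)
      refine ⟨e.isSimpleGroup, fun hc => ?_⟩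
      have : IsMulCommutative (alternatingGroup (Fin 7)) := ⟨⟨fun a b => e.symm.injective
        (by rw [map_mul, map_mul, hc.is_comm.comm])⟩⟩
      exact absurd (alternatingGroup.isMulCommutative_iff_card_le_three.1 this) (by simp)
  obtain ⟨hs, hna⟩ := key
  refine ⟨hs, ⟨?_⟩⟩
  refine ((inferInstance : (commutator L).Normal).eq_bot_or_eq_top).resolve_left fun hb => hna ?_
  exact ⟨⟨fun a b => commutatorElement_eq_one_iff_mul_comm.1 (by
    have := commutator_mem_commutator (mem_top a) (mem_top b)
    rwa [← _root_.commutator_def, hb, mem_bot] at this)⟩⟩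

/-- A nontrivial perfect group has a noncyclic Sylow 2-subgroup. -/
theorem not_isCyclic_sylow {L : Type v} [Group L] [Finite L] [Group.IsPerfect L] [Nontrivial L]
    (R : Sylow 2 L) : ¬ IsCyclic (R : Subgroup L) := by
  intro hc
  rcases Nat.even_or_odd (Nat.card L) with hev | hodd
  · obtain ⟨H, hH⟩ := Cfsg.Agent.S0219.result hev R hc
    exact CfsgLib.GWCons.RankOneCover.index_ne_two H hH
  · exact Group.IsPerfect.not_isSolvable L (CfsgLib.PF.oddSolvable.{v} L hodd)

/-- A normal noncyclic subgroup of a dihedral 2-group has index at most two. -/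
theorem index_le_two {n : ℕ} [NeZero n] (hD : IsPGroup 2 (DihedralGroup n)) (hn : 2 ≤ n)
    (R : Subgroup (DihedralGroup n)) [R.Normal] (hR : ¬ IsCyclic R) :
    R.index ≤ 2 := by
  obtain ⟨i, j, -, hi, -⟩ := CfsgLib.GWCons.DihedralModel.noncyclic_facts hD hn hR
  have h2 : (DihedralGroup.r (2 : ZMod n)) ∈ R := by
    have hc := (inferInstance : R.Normal).conj_mem _ hi (DihedralGroup.r 1)
    have := mul_mem hc hi
    rw [DihedralGroup.inv_r, DihedralGroup.r_mul_sr, DihedralGroup.sr_mul_r,
      DihedralGroup.sr_mul_sr] at this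
    convert this using 2
    ring
  have hcl : ∀ x : DihedralGroup n, x ∈ R ∨ (DihedralGroup.r 1)⁻¹ * x ∈ R := by
    have hr : ∀ a : ℕ, (DihedralGroup.r (a : ZMod n)) ∈ R ∨
        (DihedralGroup.r 1)⁻¹ * DihedralGroup.r (a : ZMod n) ∈ R := by
      intro a
      induction a using Nat.twoStepInduction with
      | zero =>
        refine Or.inl ?_
        rw [Nat.cast_zero, ← DihedralGroup.one_def]; exact one_mem R
      | one =>
        refine Or.inr ?_
        rw [Nat.cast_one, inv_mul_cancel]; exact one_mem R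
      | more a h _ =>
        have e : DihedralGroup.r ((a + 2 : ℕ) : ZMod n) =
            DihedralGroup.r (a : ZMod n) * DihedralGroup.r 2 := by
          rw [DihedralGroup.r_mul_r]; push_cast; rfl
        rcases h with h | h
        · exact Or.inl (e ▸ mul_mem h h2)
        · refine Or.inr ?_
          rw [e, ← mul_assoc]
          exact mul_mem h h2
    intro x
    rcases x with a | a
    · rw [← ZMod.natCast_zmod_val a]; exact hr _
    · have e : DihedralGroup.sr a = DihedralGroup.r (i - a) * DihedralGroup.sr i := by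
        rw [DihedralGroup.r_mul_sr]; congr 1; ring
      rw [e, ← mul_assoc, ← ZMod.natCast_zmod_val (i - a)]
      exact (hr _).imp (fun h => mul_mem h hi) (fun h => mul_mem h hi)
  rw [index_eq_card]
  have hsurj : Function.Surjective (fun b : Bool =>
      ((if b then 1 else DihedralGroup.r 1 : DihedralGroup n) : DihedralGroup n ⧸ R)) := by
    intro q
    obtain ⟨x, rfl⟩ := QuotientGroup.mk_surjective q
    rcases hcl x with h | h
    · exact ⟨true, by simpa using ((QuotientGroup.eq_one_iff x).2 h).symm⟩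
    · exact ⟨false, by simpa using (QuotientGroup.eq).2 h⟩
  refine (Nat.card_le_card_of_surjective _ hsurj).trans ?_
  simp

/-- A perfect group with dihedral Sylow 2-subgroups has no proper normal `PSL₂` or `A₇`. -/
theorem eq_top_of_perfect {N : Type u} [Group N] [Finite N] [Group.IsPerfect N] (hDC : DC N)
    (L : Subgroup N) [L.Normal] (hL : IsPSLOrA7 L) : L = ⊤ := by
  haveI : Fact (Nat.Prime 2) := ⟨Nat.prime_two⟩
  obtain ⟨hs, hp⟩ := isSimple_and_perfect hL
  haveI := hs
  haveI := hp
  obtain ⟨R⟩ : Nonempty (Sylow 2 L) := inferInstance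
  obtain ⟨T, hT⟩ := (R.2.map L.subtype).exists_le_sylow
  have hRc : ¬ IsCyclic ↥(((T : Subgroup N) ⊓ L : Subgroup N)) := by
    intro hc
    haveI := hc
    have hle : (R : Subgroup L).map L.subtype ≤ (T : Subgroup N) ⊓ L := le_inf hT (map_subtype_le _)
    exact not_isCyclic_sylow R (cyclic_of_equiv
      ((R : Subgroup L).equivMapOfInjective L.subtype L.subtype_injective).symm
      (isCyclic_of_injective _ (Subgroup.inclusion_injective hle)))
  have hTc : ¬ IsCyclic (T : Subgroup N) := fun hc => hRc (by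
    haveI := hc
    exact isCyclic_of_injective _ (Subgroup.inclusion_injective inf_le_left))
  obtain ⟨n, hn, ⟨e⟩⟩ := (hDC _ T.2).resolve_left hTc
  haveI : NeZero n := ⟨by omega⟩
  set R' := (L.subgroupOf (T : Subgroup N)).map e.toMonoidHom with hR'
  haveI : R'.Normal := Subgroup.Normal.map inferInstance _ e.surjective
  have hidx : (L.subgroupOf (T : Subgroup N)).index ≤ 2 := by
    rw [← Subgroup.index_map_equiv _ e]
    refine index_le_two (T.2.of_equiv e) hn R' fun hc => hRc ?_
    refine cyclic_of_equiv ((((L.subgroupOf (T : Subgroup N)).equivMapOfInjective e.toMonoidHom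
      e.injective).symm.trans (MulEquiv.subgroupCongr (inf_subgroupOf_left _ _).symm)).trans
      (subgroupOfEquivOfLe inf_le_left)) hc
  -- the Sylow subgroup of the quotient
  by_contra hne
  haveI : Nontrivial (N ⧸ L) := by
    rw [← Finite.one_lt_card_iff_nontrivial, ← index_eq_card]
    have h0 : L.index ≠ 0 := index_ne_zero_of_finite
    have h1 : L.index ≠ 1 := fun h => hne (index_eq_one.1 h)
    omega
  haveI : Group.IsPerfect (N ⧸ L) :=
    Group.IsPerfect.ofSurjective (f := QuotientGroup.mk' L) (QuotientGroup.mk'_surjective L)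
  let T' := T.mapSurjective (QuotientGroup.mk'_surjective L)
  refine not_isCyclic_sylow T' ?_
  set f := (QuotientGroup.mk' L).comp (T : Subgroup N).subtype with hf
  have hker : f.ker = L.subgroupOf (T : Subgroup N) := by
    ext x
    exact QuotientGroup.eq_one_iff (N := L) (x : N)
  have hrange : (T' : Subgroup (N ⧸ L)) = f.range := by
    rw [Sylow.coe_mapSurjective, hf, ← MonoidHom.map_range, range_subtype]
  have hcard : Nat.card (T' : Subgroup (N ⧸ L)) ≤ 2 := by
    rw [hrange, ← index_ker, hker]
    exact hidx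
  rcases Nat.lt_or_ge (Nat.card (T' : Subgroup (N ⧸ L))) 2 with h | h
  · haveI : Subsingleton (T' : Subgroup (N ⧸ L)) :=
      (Finite.card_le_one_iff_subsingleton).1 (by omega)
    exact isCyclic_of_subsingleton
  · exact isCyclic_of_prime_card (p := 2) (le_antisymm hcard h)

/-! ### A normal self-centralising four-group -/

theorem top_of_four {X : Type u} [Group X] [Finite X] (N : Subgroup X) [N.Normal]
    (hN : Nat.card N = 4) (hsq : ∀ x ∈ N, x * x = 1) (hC : centralizer (N : Set X) = N) :
    Top X := by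
  classical
  haveI : Fact (Nat.Prime 2) := ⟨Nat.prime_two⟩
  haveI : Fact (Nat.Prime 3) := ⟨Nat.prime_three⟩
  let α := {x : N // x ≠ 1}
  let act : X →* Equiv.Perm N :=
    { toFun := fun g => (MulAut.conjNormal g : MulAut N).toEquiv
      map_one' := by ext; simp
      map_mul' := fun g h => by ext; simp [MulAut.conjNormal_apply, mul_assoc] }
  have hinv : ∀ g, ∀ x : N, x ≠ 1 ↔ act g x ≠ 1 := fun g x => by
    simp [act]
  let φ : X →* Equiv.Perm α :=
    { toFun := fun g => (act g).subtypePerm (fun x => (hinv g x).symm)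
      map_one' := by ext x; simp
      map_mul' := fun g h => by ext x; simp }
  have hker : φ.ker = N := by
    rw [← hC]
    ext g
    constructor
    · intro hg
      refine mem_centralizer_iff.2 fun y hy => ?_
      by_cases hy1 : y = 1
      · simp [hy1]
      have := congrArg (fun π : Equiv.Perm α => (((π ⟨⟨y, hy⟩, fun e => hy1 (congrArg Subtype.val e)⟩ : α) : N) : X))
        (MonoidHom.mem_ker.1 hg)
      have h' : g * y * g⁻¹ = y := this
      exact (mul_inv_eq_iff_eq_mul.1 h').symm
    · intro hg
      refine MonoidHom.mem_ker.2 (Equiv.ext fun x => Subtype.ext (Subtype.ext ?_))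
      show g * ((x : N) : X) * g⁻¹ = ((x : N) : X)
      rw [← mem_centralizer_iff.1 hg _ (x : N).2, mul_inv_cancel_right]
  have hα : Nat.card α = 3 := by
    have h1 := Fintype.ofFinite N
    rw [Nat.card_eq_fintype_card, Fintype.card_subtype_compl, ← Nat.card_eq_fintype_card, hN]
    simp
  have hcard : Nat.card X = 4 * Nat.card φ.range := by
    rw [← N.card_mul_index, hN, ← hker, index_ker]
  have hd : Nat.card φ.range ∣ 6 := by
    have := card_subgroup_dvd_card φ.range
    rwa [Nat.card_perm, hα] at this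
  have hle := Nat.le_of_dvd (by norm_num) hd
  by_cases h3 : 3 ∣ Nat.card φ.range
  swap
  · refine Or.inl ?_
    have : Nat.card φ.range = 1 ∨ Nat.card φ.range = 2 := by
      interval_cases (Nat.card φ.range) <;> simp_all
    rcases this with h | h
    · exact IsPGroup.of_card (n := 2) (by rw [hcard, h]; rfl)
    · exact IsPGroup.of_card (n := 3) (by rw [hcard, h]; rfl)
  have h6 : ∀ g : X, orderOf g ≠ 6 := by
    intro g hg
    have h2 : orderOf (g ^ 2) = 3 := by rw [orderOf_pow' g two_ne_zero, hg]; rfl
    have h3' : orderOf (g ^ 3) = 2 := by rw [orderOf_pow' g three_ne_zero, hg]; rfl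
    have hgN : g ^ 2 ∉ N := fun h => by
      have h4 : (g ^ 2) ^ 2 = 1 := by rw [pow_two]; exact hsq _ h
      have := orderOf_dvd_of_pow_eq_one h4
      rw [h2] at this
      omega
    have hφ : orderOf (φ (g ^ 2)) = 3 := orderOf_eq_prime
      (by rw [← map_pow, ← h2, pow_orderOf_eq_one, map_one])
      (fun h => hgN (hker ▸ MonoidHom.mem_ker.2 h))
    have hcyc : ∀ π : Equiv.Perm α, π ^ 3 = 1 → π ≠ 1 → ∀ x, π x ≠ x := by
      intro π hπ hπ1 x hx
      apply hπ1
      have h1 := Fintype.ofFinite α
      have hsupp : π.support.card ≤ 2 := by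
        have : π.support ⊆ Finset.univ.erase x := fun y hy => Finset.mem_erase.2
          ⟨fun e => Equiv.Perm.mem_support.1 hy (e ▸ hx), Finset.mem_univ _⟩
        refine (Finset.card_le_card this).trans ?_
        rw [Finset.card_erase_of_mem (Finset.mem_univ _), Finset.card_univ,
          ← Nat.card_eq_fintype_card, hα]
      interval_cases hc : π.support.card
      · exact Equiv.Perm.support_eq_empty_iff.1 (Finset.card_eq_zero.1 hc)
      · exact absurd hc (Equiv.Perm.card_support_ne_one π)
      · obtain ⟨a, b, hab, rfl⟩ := Equiv.Perm.card_support_eq_two.1 hc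
        rw [pow_succ, pow_two, Equiv.swap_mul_self, one_mul] at hπ
        exact hπ
    -- the involution commutes with an element of order three
    by_cases hin : g ^ 3 ∈ N
    · have hne : (⟨g ^ 3, hin⟩ : N) ≠ 1 := fun h => by
        have h' : g ^ 3 = 1 := congrArg Subtype.val h
        rw [h', orderOf_one] at h3'
        norm_num at h3'
      refine hcyc (φ (g ^ 2)) (by rw [← hφ]; exact pow_orderOf_eq_one _)
        (fun h => by rw [h, orderOf_one] at hφ; norm_num at hφ) ⟨⟨g ^ 3, hin⟩, hne⟩ ?_
      refine Subtype.ext (Subtype.ext ?_)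
      show g ^ 2 * g ^ 3 * (g ^ 2)⁻¹ = g ^ 3
      group
    · have hφ2 : φ g ^ 3 ≠ 1 := fun h => hin (hker ▸ MonoidHom.mem_ker.2 (by rw [map_pow, h]))
      have h5 : φ g ^ 2 ≠ 1 := fun h => hgN (hker ▸ MonoidHom.mem_ker.2 (by rw [map_pow, h]))
      have h66 : φ g ^ 6 = 1 := by rw [← map_pow, ← hg, pow_orderOf_eq_one, map_one]
      have hno : ∀ π : Equiv.Perm (Fin 3), π ^ 2 = 1 ∨ π ^ 3 = 1 := by decide
      haveI := Fintype.ofFinite α
      let ee : Equiv.Perm α ≃* Equiv.Perm (Fin 3) :=
        (Finite.equivFinOfCardEq hα).permCongrHom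
      rcases hno (ee (φ g)) with h | h
      · exact h5 (ee.injective (by rw [map_pow, h, map_one]))
      · exact hφ2 (ee.injective (by rw [map_pow, h, map_one]))
  have hr : Nat.card φ.range = 3 ∨ Nat.card φ.range = 6 := by
    interval_cases (Nat.card φ.range) <;> simp_all
  rcases hr with h | h
  · exact Or.inr (Or.inl (CfsgLib.PSL2.nonempty_mulEquiv_alternating_four (by rw [hcard, h]) h6))
  · exact Or.inr (Or.inr (Or.inl (CfsgLib.PSL2.nonempty_mulEquiv_symm_four (by rw [hcard, h]) h6)))

/-! ### Minimal normal subgroups -/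

/-- The shape of a perfect core-free group. -/
theorem isPSLOrA7_of_top {N : Type u} [Group N] [Finite N] [Group.IsPerfect N] [Nontrivial N]
    (hDC : DC N) (h : Top N) : IsPSLOrA7 N := by
  haveI : Fact (Nat.Prime 2) := ⟨Nat.prime_two⟩
  have hns : ¬ Group.IsSolvable N := Group.IsPerfect.not_isSolvable N
  rcases h with h | ⟨⟨e⟩⟩ | ⟨⟨e⟩⟩ | ⟨L, hLn, -, hL⟩
  · haveI := h.isNilpotent
    exact absurd (inferInstance : Group.IsSolvable N) hns
  · haveI := CfsgLib.InvCharSmall.isSolvable_perm_four
    exact absurd (Group.isSolvable_of_isSolvable_injective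
      (f := (alternatingGroup (Fin 4)).subtype.comp e.toMonoidHom)
      ((alternatingGroup (Fin 4)).subtype_injective.comp e.injective)) hns
  · haveI := CfsgLib.InvCharSmall.isSolvable_perm_four
    exact absurd (Group.isSolvable_of_isSolvable_injective (f := e.toMonoidHom) e.injective) hns
  · haveI := hLn
    exact hL.of_equiv ((MulEquiv.subgroupCongr (eq_top_of_perfect hDC L hL)).trans topEquiv)

/-- Good groups with trivial odd core have a shape. -/
theorem top_of_good {X : Type u} [Group X] (hO : Cfsg.oddCore X = ⊥) (h : Good X) : Top X :=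
  Top.of_equiv h ((QuotientGroup.quotientMulEquivOfEq hO).trans QuotientGroup.quotientBot)

/-- A group all whose proper subgroups are good is good. -/
theorem top_step (hS : ∀ (G : Type u) [Group G] [Finite G], Setup G → IsPSLOrA7 G)
    {X : Type u} [Group X] [Finite X] (hDC : DC X) (hO : Cfsg.oddCore X = ⊥)
    (hgood : ∀ K : Subgroup X, K ≠ ⊤ → Good K) : Top X := by
  classical
  haveI : Fact (Nat.Prime 2) := ⟨Nat.prime_two⟩
  obtain ⟨T₀⟩ : Nonempty (Sylow 2 X) := inferInstance
  by_cases hT0 : IsCyclic (T₀ : Subgroup X)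
  · exact Or.inl (isPGroup_of_cyclic hO T₀ hT0)
  haveI : Nontrivial X := by
    by_contra h
    rw [not_nontrivial_iff_subsingleton] at h
    exact hT0 isCyclic_of_subsingleton
  obtain ⟨N, hmin⟩ := CfsgLib.Structure.exists_isMinNormal (G := X)
  haveI : N.Normal := hmin.normal
  have hN1 : N ≠ ⊥ := hmin.ne_bot
  have hev : 2 ∣ Nat.card N := by
    by_contra h
    exact hN1 (eq_bot_of_odd hO N inferInstance
      (Nat.not_even_iff_odd.1 fun he => h (even_iff_two_dvd.1 he)))
  obtain ⟨R₁⟩ : Nonempty (Sylow 2 N) := inferInstance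
  obtain ⟨T, hR₁T⟩ := (R₁.2.map N.subtype).exists_le_sylow
  obtain ⟨n, hn, ⟨e⟩⟩ := (hDC _ T.2).resolve_left
    fun hc => hT0 (cyclic_of_equiv (Sylow.equiv T T₀) hc)
  haveI : NeZero n := ⟨by omega⟩
  have hD : IsPGroup 2 (DihedralGroup n) := T.2.of_equiv e
  have hcent : ∀ R : Subgroup X, R ≤ (T : Subgroup X) → ¬ IsCyclic R →
      ∀ x ∈ (T : Subgroup X), (∀ y ∈ R, x * y = y * x) → x ∈ R := by
    intro R hR hRc x hx hxy
    have h := CfsgLib.GWCons.DihedralModel.mem_of_centralizes hD hn
      (R := (R.subgroupOf (T : Subgroup X)).map e.toMonoidHom)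
      (fun h => hRc (cyclic_of_equiv
        (((R.subgroupOf (T : Subgroup X)).equivMapOfInjective e.toMonoidHom e.injective).symm.trans
          (subgroupOfEquivOfLe hR)) h))
      (g := e ⟨x, hx⟩) ?_
    · obtain ⟨y, hy, hye⟩ := h
      have := e.injective hye
      rw [this] at hy
      exact hy
    · rintro _ ⟨y, hy, rfl⟩
      show e _ * e y = e y * e _
      rw [← map_mul, ← map_mul]
      exact congrArg e (Subtype.ext (hxy _ hy))
  by_cases hab : IsMulCommutative N
  · -- abelian: order two or a four-group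
    obtain ⟨p, hp, hel⟩ := hmin.exponent_prime hab
    have hexp : ∀ x : N, x ^ p = 1 := fun x => Subtype.ext (hel.2 x x.2)
    obtain ⟨z, hz⟩ := exists_prime_orderOf_dvd_card' 2 hev
    obtain rfl : 2 = p := by
      have h1 := orderOf_dvd_of_pow_eq_one (hexp z)
      rw [hz] at h1
      exact (Nat.prime_dvd_prime_iff_eq Nat.prime_two hp).1 h1
    have hsq : ∀ x ∈ N, x * x = 1 := fun x hx => by
      have := congrArg Subtype.val (hexp ⟨x, hx⟩)
      rwa [SubgroupClass.coe_pow, pow_two] at this
    have hcomm : ∀ x ∈ N, ∀ y ∈ N, x * y = y * x := fun x hx y hy =>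
      congrArg Subtype.val (hab.is_comm.comm ⟨x, hx⟩ ⟨y, hy⟩)
    have hNp : IsPGroup 2 N := fun a => ⟨1, by rw [pow_one]; exact hexp a⟩
    have hNT : N ≤ (T : Subgroup X) := hNp.le_sylow_of_normal T
    have h4 := CfsgLib.GWCons.DihedralGenerated.card_le_four T e N hcomm
      fun x hx => by rw [pow_two]; exact hsq x hx
    obtain ⟨k, hk⟩ := IsPGroup.iff_card.1 hNp
    have hk2 : k = 1 ∨ k = 2 := by
      rcases k with _ | _ | _ | k
      · rw [pow_zero] at hk; exact absurd (Subgroup.card_eq_one.1 hk) hN1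
      · exact Or.inl rfl
      · exact Or.inr rfl
      · exfalso
        rw [hk] at h4
        have : 2 ^ 3 ≤ 2 ^ (k + 1 + 1 + 1) := Nat.pow_le_pow_right two_pos (by omega)
        omega
    rcases hk2 with rfl | rfl
    · -- a central involution
      rw [pow_one] at hk
      have hz' : orderOf (z : X) = 2 := by rw [Subgroup.orderOf_coe, hz]
      have hzc : (z : X) ∈ center X := by
        rw [Subgroup.mem_center_iff]
        intro c
        have h1 := (inferInstance : N.Normal).conj_mem z z.2 c
        obtain ⟨w, hw, huniq⟩ := (Nat.card_eq_two_iff' (1 : N)).1 hk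
        have hz1 : (z : X) ≠ 1 := fun h => by rw [h, orderOf_one] at hz'; norm_num at hz'
        have e1 := huniq z (fun h => hz1 (congrArg Subtype.val h))
        have e2 := huniq ⟨_, h1⟩ (fun h => hz1 (conj_eq_one_iff.1 (congrArg Subtype.val h)))
        exact mul_inv_eq_iff_eq_mul.1 (congrArg Subtype.val (e2.trans e1.symm))
      have hF : CfsgLib.Transfer.FrobeniusCond 2 X :=
        CfsgLib.Transfer.frobeniusCond_of_le_sylow T fun Q hQ x hx hcop =>
          CfsgLib.GWCons.DihedralModel.commute_of_odd e T.2 hn (hNT z.2) hzc hz' hQ hx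
            (Nat.coprime_two_right.1 hcop)
      refine Or.inl ?_
      have hc := CfsgLib.Transfer.hasNormalPComplement_iff.1
        (CfsgLib.Transfer.hasNormalPComplement_of_frobeniusCond hF)
      haveI := CfsgLib.Transfer.pResidual_normal (G := X) (p := 2)
      have hb := eq_bot_of_odd hO _ inferInstance
        (Nat.not_even_iff_odd.1 fun h => hc (even_iff_two_dvd.1 h))
      exact (CfsgLib.Transfer.isPGroup_quotient_of_pResidual_le (p := 2) (Cfsg.pResidual 2 X)
        le_rfl).of_equiv ((QuotientGroup.quotientMulEquivOfEq hb).trans QuotientGroup.quotientBot)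
    · -- a four-group
      refine top_of_four N (by rw [hk]; rfl) hsq ?_
      have hNc : ¬ IsCyclic N := by
        intro h
        obtain ⟨a, ha⟩ := IsCyclic.exists_ofOrder_eq_natCard (α := N)
        rw [hk] at ha
        have := Nat.le_of_dvd two_pos (orderOf_dvd_of_pow_eq_one (hexp a))
        omega
      set C := centralizer (N : Set X) with hC
      haveI : C.Normal := by rw [hC]; infer_instance
      have hNC : N ≤ C := fun x hx => mem_centralizer_iff.2 fun y hy => hcomm y hy x hx
      obtain ⟨Q⟩ : Nonempty (Sylow 2 C) := inferInstance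
      obtain ⟨c, hc⟩ := CfsgLib.Involutions.exists_conj_le_sylow (Q.2.map C.subtype) T
      have hQN : ∀ x ∈ (Q : Subgroup C), (x : X) ∈ N := by
        intro x hx
        have h1 : c * (x : X) * c⁻¹ ∈ N := hcent N hNT hNc _ (hc _ (mem_map_of_mem _ hx))
          fun y hy => ((mem_centralizer_iff.1 ((inferInstance : C.Normal).conj_mem _ x.2 c)) y hy).symm
        have := (inferInstance : N.Normal).conj_mem _ h1 c⁻¹
        simpa [mul_assoc] using this
      have hb : CfsgLib.Transfer.FrobeniusCond 2 C :=
        CfsgLib.Transfer.frobeniusCond_of_le_sylow Q fun A hA x hx hcop => by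
          rw [mem_centralizer_iff]
          intro a ha
          exact Subtype.ext (mem_centralizer_iff.1 x.2 (a : X) (hQN a (hA ha)))
      have hc2 := CfsgLib.Transfer.hasNormalPComplement_iff.1
        (CfsgLib.Transfer.hasNormalPComplement_of_frobeniusCond hb)
      haveI := CfsgLib.Transfer.pResidual_normal (G := C) (p := 2)
      have hres : Cfsg.pResidual 2 C = ⊥ :=
        eq_bot_of_odd (CfsgLib.PCore.pPrimeCore_eq_bot_of_normal C hO) _ inferInstance
          (Nat.not_even_iff_odd.1 fun h => hc2 (even_iff_two_dvd.1 h))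
      refine le_antisymm (fun x hx => ?_) hNC
      have hp : IsPGroup 2 C := fun y => by
        obtain ⟨i, hi⟩ := CfsgLib.Transfer.exists_pow_mem_pResidual (p := 2) y
        rw [hres, mem_bot] at hi
        exact ⟨i, hi⟩
      have htop : (Q : Subgroup C) = ⊤ := (Q.is_maximal' (hp.of_equiv topEquiv.symm) le_top).symm
      exact hQN ⟨x, hx⟩ (htop ▸ mem_top _)
  · -- nonabelian: perfect with trivial centraliser
    have hperf : ⁅N, N⁆ = N := by
      refine hmin.eq_of_le (inferInstance : (⁅N, N⁆ : Subgroup X).Normal) (commutator_le_left N N)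
        fun h => hab ⟨⟨fun a b => Subtype.ext (commutatorElement_eq_one_iff_mul_comm.1 (by
          have := commutator_mem_commutator a.2 b.2
          rwa [h, mem_bot] at this))⟩⟩
    haveI hNp : Group.IsPerfect N := by
      rw [Group.isPerfect_def]
      refine map_injective N.subtype_injective ?_
      rw [map_subtype_commutator, hperf, ← MonoidHom.range_eq_map, range_subtype]
    haveI : Nontrivial N := (nontrivial_iff_ne_bot N).2 hN1
    have hRc : ¬ IsCyclic (R₁ : Subgroup N) := not_isCyclic_sylow R₁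
    have hCN : centralizer (N : Set X) = ⊥ := by
      set C := centralizer (N : Set X) with hC
      haveI : C.Normal := by rw [hC]; infer_instance
      by_contra hne
      have hCev : 2 ∣ Nat.card C := by
        by_contra h
        exact hne (eq_bot_of_odd hO C inferInstance
          (Nat.not_even_iff_odd.1 fun he => h (even_iff_two_dvd.1 he)))
      obtain ⟨c, hc⟩ := exists_prime_orderOf_dvd_card' 2 hCev
      rw [← Subgroup.orderOf_coe] at hc
      obtain ⟨d, hd⟩ := CfsgLib.Involutions.exists_conj_le_sylow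
        (IsPGroup.of_card (n := 1) (by rw [Nat.card_zpowers, hc, pow_one]) : IsPGroup 2 (zpowers (c : X))) T
      have hdC : d * c * d⁻¹ ∈ C := (inferInstance : C.Normal).conj_mem _ c.2 d
      obtain ⟨y, -, hy⟩ := hcent ((R₁ : Subgroup N).map N.subtype) hR₁T
        (fun h => hRc (cyclic_of_equiv
          ((R₁ : Subgroup N).equivMapOfInjective N.subtype N.subtype_injective).symm h))
        _ (hd _ (mem_zpowers _)) fun y hy => by
          obtain ⟨w, -, rfl⟩ := hy
          exact ((mem_centralizer_iff.1 hdC) _ w.2).symm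
      have h2 : C ⊓ N = ⊥ := by
        refine (hmin.inf_eq_bot_or_le (K := C) inferInstance).elim (fun h => by rw [inf_comm]; exact h)
          fun h => absurd ⟨⟨fun a b => Subtype.ext (mem_centralizer_iff.1 (h b.2) a a.2)⟩⟩ hab
      have h3 : d * c * d⁻¹ ∈ C ⊓ N := ⟨hdC, hy ▸ y.2⟩
      rw [h2, mem_bot, conj_eq_one_iff] at h3
      rw [h3, orderOf_one] at hc
      norm_num at hc
    by_cases hNtop : N = ⊤
    · -- `X` is simple
      subst hNtop
      haveI : IsSimpleGroup X := by
        refine ⟨fun M hM => ?_⟩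
        exact or_iff_not_imp_left.2 (hmin.eq_of_le hM le_top)
      obtain ⟨d⟩ := CfsgLib.DihProduct.nonempty_dih T.2 hn e
      have hI := hS X
        { S := T, d := d, m := n, two_le := hn, eS := ⟨e⟩, simple := inferInstance, good := hgood }
      refine Or.inr (Or.inr (Or.inr ⟨⊤, inferInstance, hCN, hI.of_equiv topEquiv.symm⟩))
    · have hI : IsPSLOrA7 N := isPSLOrA7_of_top (hDC.subgroup N)
        (top_of_good (CfsgLib.PCore.pPrimeCore_eq_bot_of_normal N hO) (hgood N hNtop))
      exact Or.inr (Or.inr (Or.inr ⟨N, inferInstance, hCN, hI⟩))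

theorem good_of_dc (hS : ∀ (G : Type u) [Group G] [Finite G], Setup G → IsPSLOrA7 G) :
    ∀ (k : ℕ) (X : Type u) [Group X] [Finite X], Nat.card X = k → DC X → Good X := by
  intro k
  induction k using Nat.strong_induction_on with
  | _ k ih =>
  intro X _ _ hk hDC
  haveI : Fact (Nat.Prime 2) := ⟨Nat.prime_two⟩
  refine top_step hS (dc_quotient hDC) CfsgLib.InvChar.oddCore_quotient_oddCore fun K hK => ?_
  refine ih _ ?_ K rfl ((dc_quotient hDC).subgroup K)
  rw [← hk]
  refine lt_of_lt_of_le ?_ (Nat.card_le_card_of_surjective _ (QuotientGroup.mk'_surjective (Cfsg.oddCore X)))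
  exact lt_of_le_of_ne (Subgroup.card_le_card_group K) fun h => hK (eq_top_of_card_eq K h)

/-- The reduction to a simple minimal counterexample. -/
theorem good_of_simple (hS : ∀ (G : Type u) [Group G] [Finite G], Setup G → IsPSLOrA7 G)
    (X : Type u) [Group X] [Finite X] (S : Sylow 2 X) (n : ℕ)
    (h : Nonempty ((S : Subgroup X) ≃* DihedralGroup n) ∨ IsCyclic (S : Subgroup X)) : Good X :=
  good_of_dc hS _ X rfl (dc_of_sylow S h)

/-- The classification of perfect groups with dihedral Sylow 2-subgroups. -/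
theorem classification (hS : ∀ (G : Type u) [Group G] [Finite G], Setup G → IsPSLOrA7 G) :
    CfsgLib.GWCons.RankOneCover.DihedralClassification.{u} := by
  intro X _ _ _ S n hn hSd
  haveI : Fact (Nat.Prime 2) := ⟨Nat.prime_two⟩
  haveI : Group.IsPerfect (X ⧸ Cfsg.oddCore X) :=
    Group.IsPerfect.ofSurjective (f := QuotientGroup.mk' _) (QuotientGroup.mk'_surjective _)
  have hDC : DC X := dc_of_sylow S (Or.inl hSd)
  obtain ⟨S', ⟨e⟩⟩ := CfsgLib.InvChar.exists_sylow_quotient_equiv S
  haveI : Nontrivial (X ⧸ Cfsg.oddCore X) := by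
    by_contra h
    rw [not_nontrivial_iff_subsingleton] at h
    obtain ⟨f⟩ := hSd
    haveI : Subsingleton (S : Subgroup X) := e.injective.subsingleton
    haveI : Subsingleton (DihedralGroup n) := f.symm.injective.subsingleton
    exact absurd (Subsingleton.elim (DihedralGroup.r (0 : ZMod n)) (DihedralGroup.sr 0)) (fun h => nomatch h)
  rcases isPSLOrA7_of_top (dc_quotient hDC) (good_of_simple hS X S n (Or.inl hSd)) with h | h
  · exact Or.inl h
  · exact Or.inr h

end CfsgLib.GW.Main
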