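/-
S3287 from the classification of simple groups with dihedral Sylow 2-subgroups: an involution
centraliser properly inside a component-free subgroup.
-/
import Cfsg.Agent.Lib.GW.Main
import Cfsg.Agent.Lib.Components.FStar
import Cfsg.Agent.Lib.ClassicalGroups.SmallIso
import Cfsg.Agent.S0811
import Cfsg.Agent.S0812

set_option autoImplicit false
set_option linter.all false

namespace CfsgLib.GW.ComponentFree

open Subgroup

universe u

theorem exists_central {n : ℕ} (hn : 2 ∣ n) (hn0 : n ≠ 0) :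
    ∃ z : DihedralGroup n, orderOf z = 2 ∧ ∀ x, x * z = z * x := by
  obtain ⟨j, hj⟩ := hn
  haveI : NeZero n := ⟨hn0⟩
  refine ⟨DihedralGroup.r (j : ZMod n), orderOf_eq_prime ?_ ?_, ?_⟩
  · rw [pow_two, DihedralGroup.r_mul_r, ← Nat.cast_add, ← two_mul, ← hj, ZMod.natCast_self,
      DihedralGroup.one_def]
  · intro h
    rw [DihedralGroup.one_def, DihedralGroup.r.injEq, ZMod.natCast_eq_zero_iff] at h
    have := Nat.le_of_dvd (by omega) h
    omega
  · have hneg : (j : ZMod n) + (j : ZMod n) = 0 := by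
      rw [← Nat.cast_add, ← two_mul, ← hj, ZMod.natCast_self]
    rintro (a | a)
    · rw [DihedralGroup.r_mul_r, DihedralGroup.r_mul_r, add_comm]
    · rw [DihedralGroup.sr_mul_r, DihedralGroup.r_mul_sr]
      congr 1
      linear_combination hneg

/-- A dihedral maximal subgroup with central involution makes every involution centraliser maximal. -/
theorem isCoatom_centralizer {G : Type u} [Group G] [Finite G] (E : Setup G) {P : Type*} [Group P]
    (f : G ≃* P) (H : Subgroup P) (hH : IsCoatom H) {n : ℕ} (e : H ≃* DihedralGroup n) (hn : 2 ∣ n)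
    (hn0 : n ≠ 0) (t : G) (ht : orderOf t = 2) : IsCoatom (centralizer ({t} : Set G)) := by
  obtain ⟨z, hz, hzc⟩ := exists_central hn hn0
  set w : G := f.symm ((e.symm z : H) : P) with hw
  have hwo : orderOf w = 2 := by
    rw [hw, MulEquiv.orderOf_eq, Subgroup.orderOf_coe, MulEquiv.orderOf_eq, hz]
  obtain ⟨g, hg⟩ := E.exists_conj hwo
  obtain ⟨c, hc⟩ := E.exists_conj ht
  set M : Subgroup G := H.map f.symm.toMonoidHom with hM
  have hMc : IsCoatom M := (MulEquiv.mapSubgroup f.symm).isCoatom_iff H |>.2 hH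
  have hle : M ≤ centralizer ({w} : Set G) := by
    rintro _ ⟨x, hx, rfl⟩
    rw [mem_centralizer_singleton_iff, hw]
    show f.symm x * _ = _ * f.symm x
    rw [← map_mul, ← map_mul]
    congr 1
    exact congrArg Subtype.val (e.injective (by
      rw [map_mul, map_mul, e.apply_symm_apply]; exact hzc _) : (⟨x, hx⟩ : H) * e.symm z = e.symm z * ⟨x, hx⟩)
  haveI := E.simple
  have hne : centralizer ({w} : Set G) ≠ ⊤ := by
    intro h
    refine E.H_ne_top (eq_top_iff.2 fun x _ => E.mem_H.2 ?_)
    have hh : g * x * g⁻¹ ∈ centralizer ({w} : Set G) := h ▸ mem_top _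
    have := mem_centralizer_singleton_iff.1 hh
    rw [← hg] at this
    exact mul_left_cancel (a := g) (mul_right_cancel (b := g⁻¹)
      (by calc g * (x * E.t) * g⁻¹ = g * x * g⁻¹ * (g * E.t * g⁻¹) := by group
            _ = g * E.t * g⁻¹ * (g * x * g⁻¹) := this
            _ = g * (E.t * x) * g⁻¹ := by group))
  rcases hMc.le_iff.1 hle with h | h
  · exact absurd h hne
  rw [← h] at hMc
  have hconj : ∀ a : G, IsCoatom ((centralizer ({w} : Set G)).map (MulAut.conj a).toMonoidHom) :=
    fun a => (MulEquiv.mapSubgroup (MulAut.conj a)).isCoatom_iff _ |>.2 hMc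
  convert hconj (c * g⁻¹) using 1
  ext x
  rw [mem_centralizer_singleton_iff, mem_map]
  constructor
  · intro hx
    refine ⟨(c * g⁻¹)⁻¹ * x * (c * g⁻¹), ?_, by simp [mul_assoc]⟩
    rw [mem_centralizer_singleton_iff, ← hg]
    have h2 := Setup.commute_conj (g := (c * g⁻¹)⁻¹) hx
    rw [← hc] at h2
    simpa [mul_assoc] using h2
  · rintro ⟨y, hy, rfl⟩
    have h2 := Setup.commute_conj (g := c * g⁻¹) (mem_centralizer_singleton_iff.1 hy)
    rw [← hg] at h2
    rw [← hc]
    simpa [mul_assoc] using h2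

theorem main (hS : ∀ (G : Type u) [Group G] [Finite G], Setup G → IsPSLOrA7 G)
    {G : Type u} [Group G] [Finite G] [IsSimpleGroup G] (S : Sylow 2 G) (m : ℕ)
    (eS : ↥(S : Subgroup G) ≃* DihedralGroup m) (t : G) (ht : orderOf t = 2) (K : Subgroup G)
    (hlt : centralizer ({t} : Set G) < K)
    (hK : Cfsg.generalizedFittingSubgroup ↥K = Cfsg.fittingSubgroup ↥K) :
    Nonempty (G ≃* ↥(alternatingGroup (Fin 5))) ∨ Nonempty (G ≃* ↥(alternatingGroup (Fin 7))) ∨
      (∃ (F : Type) (_ : Field F) (_ : Fintype F), Fintype.card F = 2 ∧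
        Nonempty (G ≃* Matrix.ProjectiveSpecialLinearGroup (Fin 3) F)) ∨
      (∃ (F : Type) (_ : Field F) (_ : Fintype F), Fintype.card F = 9 ∧
        Nonempty (G ≃* Matrix.ProjectiveSpecialLinearGroup (Fin 2) F)) := by
  classical
  haveI : Fact (Nat.Prime 2) := ⟨Nat.prime_two⟩
  have hm : 2 ≤ m := by
    by_contra h
    have hm1 : m = 1 := by
      rcases Nat.eq_zero_or_pos m with rfl | h0
      · exfalso
        have h1 : 0 < Nat.card (DihedralGroup 0) := by
          rw [← Nat.card_congr eS.toEquiv]; exact Nat.card_pos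
        rw [DihedralGroup.nat_card] at h1
        omega
      · omega
    subst hm1
    have hO : Cfsg.oddCore G = ⊥ := ((inferInstance : (Cfsg.oddCore G).Normal).eq_bot_or_eq_top).resolve_right
      fun h => by
        have h1 : ¬ 2 ∣ Nat.card (Cfsg.oddCore G) := CfsgLib.PCore.not_dvd_card_pPrimeCore
        rw [h, card_top] at h1
        exact h1 (ht ▸ orderOf_dvd_natCard t)
    haveI hp := Main.isPGroup_of_cyclic hO S (isCyclic_of_prime_card (p := 2)
      (by rw [Nat.card_congr eS.toEquiv, DihedralGroup.nat_card]))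
    haveI := hp.isNilpotent
    exact hlt.not_ge (fun x _ => mem_centralizer_singleton_iff.2
      (IsSimpleGroup.comm_iff_isSolvable.2 (inferInstance : Group.IsSolvable G) x t))
  obtain ⟨d⟩ := CfsgLib.DihProduct.nonempty_dih S.2 hm eS
  let E : Setup G :=
    { S := S, d := d, m := m, two_le := hm, eS := ⟨eS⟩, simple := inferInstance,
      good := fun L _ => Main.good_of_dc hS _ L rfl ((Main.dc_of_sylow S (Or.inl ⟨eS⟩)).subgroup L) }
  have hnc : ¬ IsCoatom (centralizer ({t} : Set G)) := by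
    intro hc
    have htop := hc.2 K hlt
    subst htop
    let e : (⊤ : Subgroup G) ≃* G := topEquiv
    haveI : IsSimpleGroup (⊤ : Subgroup G) := e.isSimpleGroup
    have hns : ¬ Group.IsSolvable (⊤ : Subgroup G) := fun hs => by
      refine hlt.not_ge fun x _ => mem_centralizer_singleton_iff.2 ?_
      exact congrArg Subtype.val (IsSimpleGroup.comm_iff_isSolvable.2 hs ⟨x, mem_top x⟩ ⟨t, mem_top t⟩)
    have hF : Cfsg.fittingSubgroup (⊤ : Subgroup G) = ⊥ := by
      refine sSup_eq_bot.2 fun N hN => ((hN.1).eq_bot_or_eq_top).resolve_right fun h => hns ?_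
      haveI := hN.2
      rw [h] at this
      let e2 : (⊤ : Subgroup (⊤ : Subgroup G)) ≃* (⊤ : Subgroup G) := topEquiv
      exact Group.isSolvable_of_surjective (f := e2.toMonoidHom) e2.surjective
    have h1 := CfsgLib.Components.centralizer_generalizedFitting_le (G := (⊤ : Subgroup G))
    rw [hK, hF] at h1
    refine hns (Group.isSolvable_of_top_eq_bot _ (eq_bot_iff.2 (le_trans ?_ h1)))
    exact fun x _ => mem_centralizer_iff.2 fun y hy => by
      rw [SetLike.mem_coe, mem_bot] at hy; rw [hy, one_mul, mul_one]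
  rcases hS G E with ⟨F, i1, i2, hodd, h3, ⟨f⟩⟩ | h7
  swap
  · exact Or.inr (Or.inl h7)
  by_cases h5 : Fintype.card F = 5
  · obtain ⟨e⟩ := CfsgLib.ClassicalGroups.psl_two_five_alternating (K := F) h5
    exact Or.inl ⟨f.trans e⟩
  by_cases h7 : Fintype.card F = 7
  · obtain ⟨e⟩ := CfsgLib.ClassicalGroups.psl_two_seven_psl_three_two (K := F) (L := ZMod 2) h7
      (ZMod.card 2)
    exact Or.inr (Or.inr (Or.inl ⟨ZMod 2, inferInstance, inferInstance, ZMod.card 2, ⟨f.trans e⟩⟩))
  by_cases h9 : Fintype.card F = 9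
  · exact Or.inr (Or.inr (Or.inr ⟨F, i1, i2, h9, ⟨f⟩⟩))
  exfalso
  obtain ⟨j, hj⟩ := hodd
  have hgcd : Nat.gcd 2 (Fintype.card F - 1) = 2 :=
    Nat.gcd_eq_left (by omega)
  rcases Nat.even_or_odd j with ⟨l, hl⟩ | ⟨l, hl⟩
  · obtain ⟨H, hH, ⟨e⟩⟩ := Cfsg.Agent.S0812.result (F := F) rfl
      (by simp only [Finset.mem_insert, Finset.mem_singleton]; omega)
    rw [hgcd] at e
    exact hnc (isCoatom_centralizer E f H hH e (by omega) (by omega) t ht)
  · obtain ⟨H, hH, ⟨e⟩⟩ := Cfsg.Agent.S0811.result (F := F) rfl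
      (by simp only [Finset.mem_insert, Finset.mem_singleton]; omega)
    rw [hgcd] at e
    exact hnc (isCoatom_centralizer E f H hH e (by omega) (by omega) t ht)

end CfsgLib.GW.ComponentFree
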