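import Cfsg.Agent.Lib.GW.FormulaBase
import Cfsg.Agent.Lib.Blocks12.DihedralOrder
import Cfsg.Agent.Lib.Blocks12.KleinOrder
import Cfsg.Agent.Lib.Blocks.Knorr
import Cfsg.Agent.S0948

/-!
Gorenstein–Walter: the order formula for a finite group with dihedral Sylow 2-subgroups and one
class of involutions, `|G| = F · 2^(3n-3) · u^3 · (1/x₁ + 1/x₂)^2`.
-/

set_option autoImplicit false
set_option linter.style.haveILetI false
set_option linter.unusedSectionVars false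

namespace CfsgLib.GW.Formula

open Subgroup CfsgLib.DihProduct Cfsg CfsgLib.Characters CfsgLib.Chars17
open scoped Classical

universe u

variable {G : Type u} [Group G]

theorem det_three (A : Matrix (Fin 3) (Fin 3) ℂ) :
    6 * A.det = A.trace ^ 3 - 3 * A.trace * (A * A).trace + 2 * (A * A * A).trace := by
  simp only [Matrix.det_fin_three, Matrix.trace_fin_three, Matrix.mul_apply, Fin.sum_univ_three]
  ring

/-- A character of degree three that takes the value `-1` on three successive powers has the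
determinant `-1` there, so some involution is not fused. -/
theorem not_degree_three [Finite G] (χ : IrrCharacter G) (h3 : (χ : G → ℂ) 1 = 3) {r a : G}
    (hr : ∀ l : ℕ, 0 < l → l < 4 → (χ : G → ℂ) (r ^ l) = -1) (hc : IsConj a (r * a)) : False := by
  obtain ⟨χ, hχ⟩ := χ
  obtain ⟨n, ρ, hρ, rfl⟩ := hχ
  have hn : n = 3 := by
    have h := h3
    simp only [Representation.char_one, Module.finrank_fin_fun] at h
    exact_mod_cast h
  subst hn
  let D : G →* ℂˣ := (LinearMap.det.comp ρ).toHomUnits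
  have h1 : D r = 1 := by
    obtain ⟨c, hc⟩ := isConj_iff.1 hc
    have e := congrArg D hc
    rw [map_mul, map_mul, map_inv, mul_right_comm, mul_inv_cancel, one_mul, map_mul] at e
    exact mul_eq_right.1 e.symm
  have h1' : LinearMap.det (ρ r) = 1 := congrArg Units.val h1
  have htr : ∀ g, (LinearMap.toMatrix' (ρ g)).trace = ρ.character g := fun g =>
    (LinearMap.trace_eq_matrix_trace ℂ (Pi.basisFun ℂ (Fin 3)) (ρ g)).symm
  have h := det_three (LinearMap.toMatrix' (ρ r))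
  rw [LinearMap.det_toMatrix', h1', ← LinearMap.toMatrix'_mul, ← LinearMap.toMatrix'_mul,
    ← map_mul, ← map_mul, htr, htr, htr] at h
  have v1 := hr 1 one_pos (by norm_num)
  have v2 := hr 2 two_pos (by norm_num)
  have v3 := hr 3 three_pos (by norm_num)
  rw [pow_one] at v1
  rw [pow_two] at v2
  rw [pow_succ, pow_two] at v3
  simp only at v1 v2 v3
  rw [v1, v2, v3] at h
  norm_num at h

variable [Finite G]

/-- The sum of a character over the cyclic group of a rotation. -/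
theorem dvd_sub (χ : IrrCharacter G) {r : G} {q : ℕ} (hq : orderOf r = q) (hq1 : 0 < q) (δ : ℤ)
    (hr : ∀ l : ℕ, 0 < l → l < q → (χ : G → ℂ) (r ^ l) = δ) :
    (q : ℤ) ∣ (charDegree (χ : G → ℂ) : ℤ) - δ := by
  letI := Fintype.ofFinite G
  obtain ⟨m, hm⟩ := CfsgLib.ClassCount.exists_mult χ (zpowers r)
  rw [Nat.card_zpowers, hq] at hm
  have e : ∑ t : zpowers r, (χ : G → ℂ) ((t : G)⁻¹) =
      ∑ l ∈ Finset.range q, (χ : G → ℂ) (r ^ l) := by
    rw [Finset.sum_range fun l => (χ : G → ℂ) (r ^ l)]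
    refine (Fintype.sum_equiv (Equiv.inv _) (fun t : zpowers r => (χ : G → ℂ) ((t : G)⁻¹))
      (fun t : zpowers r => (χ : G → ℂ) (t : G)) (fun t => rfl)).trans ?_
    exact (Fintype.sum_equiv ((finCongr hq.symm).trans (finEquivZPowers (isOfFinOrder_of_finite r)))
      (fun l : Fin q => (χ : G → ℂ) (r ^ (l : ℕ))) _ (fun l => rfl)).symm
  rw [e, Finset.range_eq_Ico, Finset.sum_eq_sum_Ico_succ_bot hq1, pow_zero, ← cast_irrDegree χ,
    Finset.sum_congr rfl (fun l hl => hr l (by simp at hl; omega) (Finset.mem_Ico.1 hl).2),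
    Finset.sum_const, Nat.card_Ico, nsmul_eq_mul] at hm
  have hz : (charDegree (χ : G → ℂ) : ℤ) + ((q - (0 + 1) : ℕ) : ℤ) * δ = q * m := by
    exact_mod_cast hm
  refine ⟨m - δ, ?_⟩
  rw [zero_add, Nat.cast_sub hq1] at hz
  push_cast at hz
  linear_combination hz

theorem conj_a {S : Sylow 2 G} {d : Dih (S : Subgroup G)}
    (hone : ∀ x : G, orderOf x = 2 → ∃ g : G, g * d.z * g⁻¹ = x) :
    IsConj d.z d.a ∧ IsConj d.z (d.r * d.a) := by
  have key : ∀ b, b ∈ (S : Subgroup G) → b ∉ zpowers d.r → IsConj d.z b := fun b hb hbr =>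
    isConj_iff.2 (hone b (CfsgLib.Involutions.orderOf_eq_two_iff_mul.2
      ⟨fun h => hbr (h ▸ one_mem _), d.refl_sq hb hbr⟩))
  exact ⟨key _ d.a_mem d.a_notMem, key _ (refl_mul_a d).1 (refl_mul_a d).2⟩

/-- Sylow subgroups of order at least eight: the labelled principal block, with the formula and
the congruence on the degree of its character `c`. -/
theorem exists_labels_degree [Fintype G] (S : Sylow 2 G) (d : Dih (S : Subgroup G)) (hk : 1 ≤ d.k)
    (hone : ∀ x : G, orderOf x = 2 → ∃ g : G, g * d.z * g⁻¹ = x) :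
    ∃ (M : Ideal AlgInt) (ζ : ℂ) (c a b : IrrCharacter G) (L : ℕ → IrrCharacter G)
      (δ δ₂ δ₃ : ℤ), IsPModular 2 M ∧ IsPrimitiveRoot ζ (2 ^ (d.k + 2 - 1)) ∧
      CfsgLib.DihedralBlock.Labels M (d.k + 2) d.r ζ c a b L δ δ₂ δ₃ ∧
      5 ≤ charDegree (c : G → ℂ) ∧ (δ = -1 → 7 ≤ charDegree (c : G → ℂ)) ∧
      (2 ^ (d.k + 1) : ℤ) ∣ (charDegree (c : G → ℂ) : ℤ) - δ ∧
      (Nat.card G : ℚ) * ((charDegree (c : G → ℂ) : ℚ) - δ) ^ 2 =
        charDegree (c : G → ℂ) * ((charDegree (c : G → ℂ) : ℚ) + δ) * 2 ^ (3 * d.k + 3) *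
        (Nat.card (core d.z) : ℚ) ^ 3 *
        (1 / (Nat.card (X S d d.a) : ℚ) + 1 / (Nat.card (X S d (d.r * d.a)) : ℚ)) ^ 2 := by
  haveI : Fact (Nat.Prime 2) := ⟨Nat.prime_two⟩
  obtain ⟨hca, hcb⟩ := conj_a hone
  obtain ⟨M, hM⟩ := CfsgLib.Blocks.exists_isPModular (p := 2)
  obtain ⟨ζ, hζ⟩ : ∃ ζ : ℂ, IsPrimitiveRoot ζ (2 ^ (d.k + 2 - 1)) :=
    ⟨_, Complex.isPrimitiveRoot_exp (2 ^ (d.k + 2 - 1)) (Nat.two_pow_pos (d.k + 2 - 1)).ne'⟩
  obtain ⟨c, a, b, L, δ, δ₂, δ₃, B⟩ := CfsgLib.DihedralBlock.exists_labels hM (by omega)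
    (CfsgLib.DihedralSigma.sigmaFacts S (d.k + 2) (by omega) (exists_iso d) d.r_mem d.order) hζ
  have hne : (c : G → ℂ) ≠ (fun _ => 1) := fun e => B.ne_c (Subtype.ext e)
  obtain ⟨hfδ, heq⟩ := CfsgLib.DihedralOrder.order_formula hM (n := d.k + 2) (by omega) S
    (σ := d.r) (τ := d.a) d.r_mem d.order
    (CfsgLib.Involutions.orderOf_eq_two_iff_mul.2
      ⟨fun h => d.a_notMem (h ▸ one_mem _), d.sq⟩)
    d.inv (closure_eq d) ⟨hca, hcb⟩ c ((B.mem c).2 (Or.inr (Or.inl rfl))) hne δ B.sign₁ B.val_c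
  rw [show d.r ^ (2 ^ (d.k + 2 - 2)) = d.z from rfl, card_centralizer S d,
    card_pair S d d.a_mem d.a_notMem, card_pair S d (refl_mul_a d).1 (refl_mul_a d).2,
    ← cast_irrDegree c] at heq
  rw [← cast_irrDegree c] at hfδ
  set f := charDegree (c : G → ℂ) with hf
  have hdvd : (2 ^ (d.k + 1) : ℤ) ∣ (f : ℤ) - δ := by
    exact_mod_cast dvd_sub c d.order (by positivity) δ B.val_c
  have h4 : (4 : ℤ) ∣ (f : ℤ) - δ :=
    (pow_dvd_pow (2 : ℤ) (show 2 ≤ d.k + 1 by omega)).trans hdvd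
  have hfne : (f : ℤ) ≠ δ := fun e => hfδ (by exact_mod_cast e)
  have hpos : 0 < f := irrDegree_pos c
  have h7 : δ = -1 → 7 ≤ f := by
    intro e
    by_contra hlt
    have h3 : f = 3 := by omega
    have hk1 : d.k = 1 := by
      by_contra hk1
      have := (pow_dvd_pow (2 : ℤ) (show 3 ≤ d.k + 1 by omega)).trans hdvd
      rw [h3, e] at this
      norm_num at this
    refine not_degree_three c (r := d.r) (a := d.a) (by rw [← cast_irrDegree c, ← hf, h3]; norm_num)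
      (fun l h0 hl => ?_) (hca.symm.trans hcb)
    rw [B.val_c l h0 (by rw [hk1]; exact hl), e]
    norm_num
  refine ⟨M, ζ, c, a, b, L, δ, δ₂, δ₃, hM, hζ, B, ?_, h7, hdvd, ?_⟩
  · show 5 ≤ f
    rcases B.sign₁ with e | e <;> omega
  have key : (((Nat.card G : ℚ) * ((f : ℚ) - δ) ^ 2 : ℚ) : ℂ) =
      ((f * ((f : ℚ) + δ) * 2 ^ (3 * d.k + 3) * (Nat.card (core d.z) : ℚ) ^ 3 *
        (1 / (Nat.card (X S d d.a) : ℚ) + 1 / (Nat.card (X S d (d.r * d.a)) : ℚ)) ^ 2 : ℚ) : ℂ) := by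
    push_cast at heq ⊢
    rw [heq]
    simp only [one_div, mul_inv, mul_pow, pow_add, ← pow_mul]
    ring
  exact_mod_cast key

/-- Sylow subgroups of order at least eight: the formula and the congruence on the degree. -/
theorem exists_degree (S : Sylow 2 G) (d : Dih (S : Subgroup G)) (hk : 1 ≤ d.k)
    (hone : ∀ x : G, orderOf x = 2 → ∃ g : G, g * d.z * g⁻¹ = x) :
    ∃ (f : ℕ) (δ : ℤ), (δ = 1 ∨ δ = -1) ∧ 5 ≤ f ∧ (δ = -1 → 7 ≤ f) ∧
      (2 ^ (d.k + 1) : ℤ) ∣ (f : ℤ) - δ ∧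
      (Nat.card G : ℚ) * ((f : ℚ) - δ) ^ 2 = f * ((f : ℚ) + δ) * 2 ^ (3 * d.k + 3) *
        (Nat.card (core d.z) : ℚ) ^ 3 *
        (1 / (Nat.card (X S d d.a) : ℚ) + 1 / (Nat.card (X S d (d.r * d.a)) : ℚ)) ^ 2 := by
  letI := Fintype.ofFinite G
  obtain ⟨M, ζ, c, a, b, L, δ, δ₂, δ₃, -, -, B, h5, h7, hdvd, h⟩ :=
    exists_labels_degree S d hk hone
  exact ⟨_, δ, B.sign₁, h5, h7, hdvd, h⟩

/-- The value of the factor. -/
theorem factor_bounds {f : ℕ} {δ : ℤ} (hδ : δ = 1 ∨ δ = -1) (hf : 5 ≤ f) (h7 : δ = -1 → 7 ≤ f) :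
    (13 : ℚ) / 20 ≤ f * ((f : ℚ) + δ) / ((f : ℚ) - δ) ^ 2 ∧
      f * ((f : ℚ) + δ) / ((f : ℚ) - δ) ^ 2 ≤ 15 / 8 := by
  have h5 : (5 : ℚ) ≤ f := by exact_mod_cast hf
  rcases hδ with rfl | rfl
  · push_cast
    constructor
    · rw [div_le_div_iff₀ (by norm_num) (by nlinarith)]; nlinarith
    · rw [div_le_div_iff₀ (by nlinarith) (by norm_num)]; nlinarith
  · have : (7 : ℚ) ≤ f := by exact_mod_cast h7 rfl
    push_cast
    constructor
    · rw [div_le_div_iff₀ (by norm_num) (by nlinarith)]; nlinarith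
    · rw [div_le_div_iff₀ (by nlinarith) (by norm_num)]; nlinarith

/-! ### Sylow four-groups -/

theorem eq_principal_of_perfect (hperf : commutator G = ⊤) (χ : IrrCharacter G)
    (h : charDegree (χ : G → ℂ) = 1) : (χ : G → ℂ) = fun _ => 1 := by
  letI := Fintype.ofFinite G
  obtain ⟨χ, hχ⟩ := χ
  obtain ⟨n, ρ, hρ, rfl⟩ := hχ
  have hn : n = 1 := by
    have e : charDegree ρ.character = n := CfsgLib.LinearTwist.charDegree_eq_of_apply_one
      (by simp [Representation.char_one])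
    exact e.symm.trans h
  subst hn
  let D : G →* ℂˣ := (LinearMap.det.comp ρ).toHomUnits
  have hD : ∀ g, D g = 1 := fun g =>
    MonoidHom.mem_ker.1 (Abelianization.commutator_subset_ker D (hperf ▸ mem_top g))
  funext g
  have h1 : LinearMap.det (ρ g) = 1 := congrArg Units.val (hD g)
  rw [← LinearMap.det_toMatrix', Matrix.det_fin_one] at h1
  show LinearMap.trace ℂ _ (ρ g) = 1
  rw [LinearMap.trace_eq_matrix_trace ℂ (Pi.basisFun ℂ (Fin 1)) (ρ g), Matrix.trace_fin_one]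
  exact h1

theorem isKleinFour {S : Sylow 2 G} (d : Dih (S : Subgroup G)) (hk : d.k = 0) :
    IsKleinFour (S : Subgroup G) := by
  have hcard : Nat.card (S : Subgroup G) = 4 := by rw [card_dih d, hk]; rfl
  refine ⟨hcard, ?_⟩
  have h2 : Monoid.exponent (S : Subgroup G) ∣ 2 := Monoid.exponent_dvd_of_forall_pow_eq_one
    fun g => Subtype.ext (by
      rw [SubmonoidClass.coe_pow, pow_two]
      by_cases hr : (g : G) ∈ zpowers d.r
      · rcases d.rot_cases hk hr with e | e <;> rw [e]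
        · simp
        · exact d.z_sq
      · exact d.refl_sq g.2 hr)
  refine ((Nat.dvd_prime Nat.prime_two).1 h2).resolve_left fun h1 => ?_
  haveI := Monoid.exp_eq_one_iff.mp h1
  have := Finite.card_le_one_iff_subsingleton.mpr (inferInstance : Subsingleton (S : Subgroup G))
  omega

theorem alpha_bounds_pos {a b c : ℚ} (ha : 5 ≤ a) (hb : 5 ≤ b) (hc : c = a + b + 1) :
    13 / 20 ≤ a * b * c / ((a + 1) * (b + 1) * (c - 1)) ∧
      a * b * c / ((a + 1) * (b + 1) * (c - 1)) ≤ 15 / 8 := by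
  subst hc
  have hp : 0 < (a + 1) * (b + 1) * (a + b + 1 - 1) :=
    mul_pos (mul_pos (by linarith) (by linarith)) (by linarith)
  constructor
  · rw [le_div_iff₀ hp]
    nlinarith [mul_nonneg (sub_nonneg.2 ha) (sub_nonneg.2 hb),
      mul_nonneg (mul_nonneg (sub_nonneg.2 ha) (sub_nonneg.2 hb)) (add_nonneg (sub_nonneg.2 ha)
        (sub_nonneg.2 hb)), sq_nonneg (a - b)]
  · rw [div_le_iff₀ hp]
    nlinarith [mul_nonneg (sub_nonneg.2 ha) (sub_nonneg.2 hb),
      mul_nonneg (mul_nonneg (sub_nonneg.2 ha) (sub_nonneg.2 hb)) (add_nonneg (sub_nonneg.2 ha)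
        (sub_nonneg.2 hb)), sq_nonneg (a - b)]

theorem alpha_bounds_neg {a b c : ℚ} (hb : 3 ≤ b) (hc : 3 ≤ c) (ha : a + 1 = b + c) :
    13 / 20 ≤ a * b * c / ((a + 1) * (b - 1) * (c - 1)) ∧
      a * b * c / ((a + 1) * (b - 1) * (c - 1)) ≤ 15 / 8 := by
  obtain rfl : a = b + c - 1 := by linarith
  have hp : 0 < (b + c - 1 + 1) * (b - 1) * (c - 1) :=
    mul_pos (mul_pos (by linarith) (by linarith)) (by linarith)
  constructor
  · rw [le_div_iff₀ hp]
    nlinarith [mul_nonneg (sub_nonneg.2 hb) (sub_nonneg.2 hc),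
      mul_nonneg (mul_nonneg (sub_nonneg.2 hb) (sub_nonneg.2 hc)) (add_nonneg (sub_nonneg.2 hb)
        (sub_nonneg.2 hc)), sq_nonneg (b - c)]
  · rw [div_le_iff₀ hp]
    nlinarith [mul_nonneg (sub_nonneg.2 hb) (sub_nonneg.2 hc),
      mul_nonneg (mul_nonneg (sub_nonneg.2 hb) (sub_nonneg.2 hc)) (add_nonneg (sub_nonneg.2 hb)
        (sub_nonneg.2 hc)), sq_nonneg (b - c)]

/-- Sylow four-groups: the two shapes of the principal block. With two positive signs the factor is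
`f(f-1)/(f+1)^2`; with two negative signs a degree three belongs to a character that is constant
`±1` on `z O(C(z))`. -/
theorem exists_alpha' (S : Sylow 2 G) (d : Dih (S : Subgroup G)) (hk : d.k = 0)
    (hone : ∀ x : G, orderOf x = 2 → ∃ g : G, g * d.z * g⁻¹ = x) (hperf : commutator G = ⊤) :
    ∃ a b c : ℕ, a % 4 = 1 ∧ c % 4 = 3 ∧ 5 ≤ a ∧ 3 ≤ c ∧
      ((b % 4 = 1 ∧ 5 ≤ b ∧ c = a + b + 1 ∧
          (Nat.card G : ℚ) * ((c : ℚ) + 1) ^ 2 = c * ((c : ℚ) - 1) * 2 ^ (3 * d.k + 3) *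
            (Nat.card (core d.z) : ℚ) ^ 3 * (2 / (Nat.card (X S d d.a) : ℚ)) ^ 2) ∨
        (b % 4 = 3 ∧ 3 ≤ b ∧ a + 1 = b + c ∧
          (Nat.card G : ℚ) = (a : ℚ) * b * c / (((a : ℚ) + 1) * ((b : ℚ) - 1) * ((c : ℚ) - 1)) *
            2 ^ (3 * d.k + 3) * (Nat.card (core d.z) : ℚ) ^ 3 *
            (2 / (Nat.card (X S d d.a) : ℚ)) ^ 2 ∧
          (b = 3 ∨ c = 3 → ∃ χ : IrrCharacter G, charDegree (χ : G → ℂ) = 3 ∧
            ∀ v ∈ core d.z, (χ : G → ℂ) (d.z * v) = -1))) := by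
  letI := Fintype.ofFinite G
  haveI : Fact (Nat.Prime 2) := ⟨Nat.prime_two⟩
  obtain ⟨M, hM⟩ := CfsgLib.Blocks.exists_isPModular (p := 2)
  have hK := isKleinFour d hk
  have hone' : ∀ s t : G, orderOf s = 2 → orderOf t = 2 → IsConj s t := fun s t hs ht =>
    (isConj_iff.2 (hone s hs)).symm.trans (isConj_iff.2 (hone t ht))
  obtain ⟨x, y, w, ε, hε, h2, h3, hxy, hxw, hyw, hB, hval, dx, dy, dw, hrel⟩ :=
    Cfsg.Agent.S0948.result M hM S hK hone'
  have hz := orderOf_z S d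
  obtain ⟨v1, v2, v3⟩ := hval d.z hz
  have h4 : (w : G → ℂ) ≠ fun _ => 1 := fun e => by
    rw [e] at v3
    norm_num at v3
  have hrel1 := hrel 1 (by rw [orderOf_one]; exact odd_one)
  rw [← cast_irrDegree x, ← cast_irrDegree y, ← cast_irrDegree w] at hrel1
  have hsum : (1 : ℤ) + charDegree (x : G → ℂ) + ε * charDegree (y : G → ℂ) -
      charDegree (w : G → ℂ) = 0 := by exact_mod_cast hrel1
  have hlin : ∀ χ : IrrCharacter G, (χ : G → ℂ) ≠ (fun _ => 1) → charDegree (χ : G → ℂ) ≠ 1 :=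
    fun χ hne h => hne (eq_principal_of_perfect hperf χ h)
  have hx1 := hlin x h2
  have hy1 := hlin y h3
  have hx0 : 0 < charDegree (x : G → ℂ) := irrDegree_pos x
  have hy0 : 0 < charDegree (y : G → ℂ) := irrDegree_pos y
  have hw0 : 0 < charDegree (w : G → ℂ) := irrDegree_pos w
  have hC := card_centralizer S d
  rw [hk] at hC
  have hP : Nat.card (centralizer ((S : Subgroup G) : Set G)) = 4 * Nat.card (X S d d.a) := by
    rw [← card_pair S d d.a_mem d.a_notMem]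
    have e : centralizer ((S : Subgroup G) : Set G) = centralizer ({d.z, d.a} : Set G) := by
      refine le_antisymm (centralizer_le ?_) fun g hg => ?_
      · rintro v (rfl | rfl)
        exacts [d.z_mem, d.a_mem]
      · rw [mem_centralizer_iff] at hg ⊢
        intro v hv
        rcases cases_of_commute d d.a_mem d.a_notMem hv (d.comm_of_four hk hv d.a_mem) with
          rfl | rfl | rfl | rfl
        · rw [one_mul, mul_one]
        · exact hg _ (Or.inl rfl)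
        · exact hg _ (Or.inr rfl)
        · exact ((show Commute d.a g from hg _ (Or.inr rfl)).mul_left
            (show Commute d.z g from hg _ (Or.inl rfl))).eq
    rw [e]
  have hX : (Nat.card (X S d d.a) : ℚ) ≠ 0 := Nat.cast_ne_zero.2 Nat.card_pos.ne'
  refine ⟨charDegree (x : G → ℂ), charDegree (y : G → ℂ), charDegree (w : G → ℂ),
    by omega, by omega, by omega, by omega, ?_⟩
  rcases hε with rfl | rfl
  · left
    have h := CfsgLib.KleinOrder.dihedral_case S hK hone' hM d.z_mem hz hB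
      ⟨h2, h3, h4, hxy, hxw, hyw⟩ ⟨Or.inl rfl, Or.inl rfl, Or.inr rfl⟩
      (ε₁ := 1) (ε₂ := 1) (ε₃ := -1) ⟨by simpa using v1, by simpa using v2, by simpa using v3⟩
      (by norm_num) rfl
    obtain ⟨m, hm1, hm2⟩ := h
    rw [hC, hP] at hm1
    rw [hP] at hm2
    set f := charDegree (w : G → ℂ)
    refine ⟨by omega, by omega, by omega, ?_⟩
    rw [hk]
    have hf : f ≤ f ^ 3 := Nat.le_self_pow (by norm_num) _
    have e1 : (4 : ℚ) * (2 ^ 2 * (Nat.card (core d.z) : ℚ)) =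
        m * (4 * (Nat.card (X S d d.a) : ℚ)) * ((f : ℚ) + 1) := by exact_mod_cast hm1
    have e2 : (8 : ℚ) * Nat.card G =
        (m : ℚ) ^ 3 * (4 * (Nat.card (X S d d.a) : ℚ)) * ((f : ℚ) ^ 3 - f) := by
      have := congrArg (fun n : ℕ => (n : ℚ)) hm2
      push_cast [Nat.cast_sub hf] at this
      exact this
    have hG : (Nat.card G : ℚ) =
        (m : ℚ) ^ 3 * (Nat.card (X S d d.a) : ℚ) * ((f : ℚ) ^ 3 - f) / 2 := by
      linear_combination (1 / 8 : ℚ) * e2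
    have hu : (Nat.card (core d.z) : ℚ) = m * (Nat.card (X S d d.a) : ℚ) * ((f : ℚ) + 1) / 4 := by
      linear_combination (1 / 16 : ℚ) * e1
    rw [hG, hu]
    field_simp
    ring
  · right
    have h := CfsgLib.KleinOrder.order_formula S hK hone' hM d.z_mem hz hB
      ⟨h2, h3, h4, hxy, hxw, hyw⟩ ⟨Or.inl rfl, Or.inr rfl, Or.inr rfl⟩
      (ε₁ := 1) (ε₂ := -1) (ε₃ := -1) ⟨by simpa using v1, by simpa using v2, by simpa using v3⟩
    rw [hC, hP] at h
    refine ⟨by omega, by omega, by omega, ?_⟩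
    refine ⟨?_, fun hbc => ?_⟩
    · rw [h, hk]
      push_cast
      field_simp
      ring
    have hval' : ∀ χ : IrrCharacter G, χ ∈ principalBlock M G → (χ : G → ℂ) d.z = -1 →
        ∀ v ∈ core d.z, (χ : G → ℂ) (d.z * v) = -1 := by
      rintro χ hχ e _ ⟨v, hv, rfl⟩
      haveI : (oddCore (centralizer ({d.z} : Set G))).Normal :=
        Cfsg.pPrimeCore_normal 2 _
      rw [← e]
      refine CfsgLib.Blocks.principal_apply_mul hM (u := d.z) ⟨1, by rw [hz, pow_one]⟩ ?_ hv hχ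
      have := odd_card_coreIn (centralizer ({d.z} : Set G))
      rw [← even_iff_two_dvd, Nat.not_even_iff_odd]
      rwa [coreIn, card_map_of_injective (Subgroup.subtype_injective _)] at this
    rcases hbc with e | e
    · exact ⟨y, e, hval' y (by rw [hB]; exact Or.inr (Or.inr (Or.inl rfl))) (by simpa using v2)⟩
    · exact ⟨w, e, hval' w (by rw [hB]; exact Or.inr (Or.inr (Or.inr rfl))) v3⟩

/-- Sylow four-groups: the two shapes of the principal block. With two positive signs the factor is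
`f(f-1)/(f+1)^2`. -/
theorem exists_alpha (S : Sylow 2 G) (d : Dih (S : Subgroup G)) (hk : d.k = 0)
    (hone : ∀ x : G, orderOf x = 2 → ∃ g : G, g * d.z * g⁻¹ = x) (hperf : commutator G = ⊤) :
    ∃ a b c : ℕ, a % 4 = 1 ∧ c % 4 = 3 ∧ 5 ≤ a ∧ 3 ≤ c ∧
      ((b % 4 = 1 ∧ 5 ≤ b ∧ c = a + b + 1 ∧
          (Nat.card G : ℚ) * ((c : ℚ) + 1) ^ 2 = c * ((c : ℚ) - 1) * 2 ^ (3 * d.k + 3) *
            (Nat.card (core d.z) : ℚ) ^ 3 * (2 / (Nat.card (X S d d.a) : ℚ)) ^ 2) ∨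
        (b % 4 = 3 ∧ 3 ≤ b ∧ a + 1 = b + c ∧
          (Nat.card G : ℚ) = (a : ℚ) * b * c / (((a : ℚ) + 1) * ((b : ℚ) - 1) * ((c : ℚ) - 1)) *
            2 ^ (3 * d.k + 3) * (Nat.card (core d.z) : ℚ) ^ 3 *
            (2 / (Nat.card (X S d d.a) : ℚ)) ^ 2)) := by
  obtain ⟨a, b, c, h1, h2, h3, h4, h | ⟨h5, h6, h7, h8, -⟩⟩ := exists_alpha' S d hk hone hperf
  · exact ⟨a, b, c, h1, h2, h3, h4, Or.inl h⟩
  · exact ⟨a, b, c, h1, h2, h3, h4, Or.inr ⟨h5, h6, h7, h8⟩⟩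

/-- The uniform form. -/
theorem exists_factor (S : Sylow 2 G) (d : Dih (S : Subgroup G))
    (hone : ∀ x : G, orderOf x = 2 → ∃ g : G, g * d.z * g⁻¹ = x)
    (hperf : d.k = 0 → commutator G = ⊤) :
    ∃ F : ℚ, 13 / 20 ≤ F ∧ F ≤ 15 / 8 ∧ (Nat.card G : ℚ) = F * 2 ^ (3 * d.k + 3) *
      (Nat.card (core d.z) : ℚ) ^ 3 *
      (1 / (Nat.card (X S d d.a) : ℚ) + 1 / (Nat.card (X S d (d.r * d.a)) : ℚ)) ^ 2 := by
  rcases Nat.eq_zero_or_pos d.k with hk | hk
  · have hX : X S d (d.r * d.a) = X S d d.a := by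
      rw [show d.r = d.z by rw [Dih.z, hk, pow_zero, pow_one], ← d.z_central d.a_mem, X_mul_z]
    rw [hX, show ∀ t : ℚ, 1 / t + 1 / t = 2 / t from fun t => by ring]
    obtain ⟨a, b, c, -, -, ha, hc, ⟨-, hb, hc', h⟩ | ⟨-, hb, hc', h⟩⟩ :=
      exists_alpha S d hk hone (hperf hk)
    · have h2 : ((c : ℚ) + 1) ^ 2 ≠ 0 := by positivity
      obtain ⟨l, u⟩ := factor_bounds (δ := -1) (f := c) (Or.inr rfl) (by omega) (fun _ => by omega)
      push_cast at l u
      rw [sub_neg_eq_add, ← sub_eq_add_neg] at l u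
      refine ⟨_, l, u, ?_⟩
      rw [div_mul_eq_mul_div, div_mul_eq_mul_div, div_mul_eq_mul_div, eq_div_iff h2, h]
    · obtain ⟨l, u⟩ := alpha_bounds_neg (a := (a : ℚ)) (b := (b : ℚ)) (c := (c : ℚ))
        (by exact_mod_cast hb) (by exact_mod_cast hc) (by exact_mod_cast hc')
      exact ⟨_, l, u, h⟩
  · obtain ⟨f, δ, hδ, hf, h7, -, h⟩ := exists_degree S d hk hone
    obtain ⟨l, u⟩ := factor_bounds hδ hf h7
    have h2 : ((f : ℚ) - δ) ^ 2 ≠ 0 := by
      have : (5 : ℚ) ≤ f := by exact_mod_cast hf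
      rcases hδ with rfl | rfl <;> push_cast <;> nlinarith
    refine ⟨_, l, u, ?_⟩
    rw [div_mul_eq_mul_div, div_mul_eq_mul_div, div_mul_eq_mul_div, eq_div_iff h2, h]

end CfsgLib.GW.Formula
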