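import Cfsg.Agent.Lib.GW.LeCfg
import Cfsg.Agent.Lib.GW.Formula
import Cfsg.Agent.Lib.Components.Local

/-!
Gorenstein–Walter, Step 3.1 (d): `O_r(C(t))` is not contained in the maximal subgroup attached to a
central element of order `r`.
-/

set_option autoImplicit false
set_option linter.style.haveILetI false
set_option linter.unusedSectionVars false

namespace CfsgLib.GW.Max31.Le

open Subgroup

universe u

variable {G : Type u} [Group G] [Finite G]

/-- `H ≤ K` only for `K = H`, which has no perfect subgroup through `t`. -/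
theorem exists_out {E : Setup G} {b : G} {r : ℕ} {K P : Subgroup G} (h : Cfg E b r K P) :
    ∃ y ∈ E.H, y ∉ K := by
  by_contra hno
  push Not at hno
  haveI := Local.isSolvable_H E
  rcases h.hH.le_iff.1 (show E.H ≤ K from hno) with e | e
  · exact h.coatom.1 e
  · have hPH : P ≤ E.H := e ▸ h.P_le
    haveI : Group.IsSolvable P :=
      Group.isSolvable_of_isSolvable_injective (f := inclusion hPH) (inclusion_injective hPH)
    have := CfsgLib.Tech46.eq_bot_of_perfect_of_isSolvable h.perfect inferInstance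
    exact E.t_ne_one (mem_bot.1 (this ▸ h.t_mem))

theorem odd_card_of_forall {Y : Type*} [Group Y] [Finite Y] {A : Subgroup Y}
    (hA : ∀ a ∈ A, Odd (orderOf a)) : Odd (Nat.card A) := by
  haveI : Fact (Nat.Prime 2) := ⟨Nat.prime_two⟩
  by_contra hne
  obtain ⟨a, ha⟩ := exists_prime_orderOf_dvd_card' (G := A) 2
    (even_iff_two_dvd.1 (Nat.not_odd_iff_even.1 hne))
  have := hA a a.2
  rw [Subgroup.orderOf_coe, ha] at this
  exact absurd this (by decide)

theorem mem_normalizer_of_conj {e g : G} (h : g * e * g⁻¹ ∈ zpowers e) :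
    g ∈ normalizer (zpowers e : Set G) := by
  have hle : (zpowers e).map (MulAut.conj g).toMonoidHom ≤ zpowers e := by
    rw [MonoidHom.map_zpowers]
    exact zpowers_le.2 h
  have heq := eq_of_le_of_card_ge hle (by rw [card_map_of_injective (MulAut.conj g).injective])
  rw [mem_normalizer_iff]
  refine fun x => ⟨fun hx => hle ⟨x, hx, rfl⟩, fun hx => ?_⟩
  rw [← heq] at hx
  obtain ⟨y, hy, hyx⟩ := hx
  rwa [← (MulAut.conj g).injective (hyx : MulAut.conj g y = MulAut.conj g x)]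

/-- The arithmetic at the end. -/
theorem final_arith {q N A ρ : ℚ} (hρ : 3 ≤ ρ) (hρq : 4 * ρ ≤ q + 1) (hA : A ≤ q + 1)
    (hA0 : 0 ≤ A) (hN : q * (q - 1) ≤ 2 * N)
    (h : 16 * N * (1 + (ρ - 1) * N) ≤ 15 * ρ ^ 3 * A ^ 2) : False := by
  have hq : 11 ≤ q := by linarith
  have hw : 0 ≤ q * (q - 1) := by nlinarith
  have hN0 : 0 ≤ N := by linarith
  have h1 : 4 * (ρ - 1) * (q * (q - 1)) ^ 2 ≤ 16 * N * (1 + (ρ - 1) * N) := by
    have h2 : (q * (q - 1)) ^ 2 ≤ (2 * N) ^ 2 := by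
      exact pow_le_pow_left₀ hw hN 2
    have h3 := mul_le_mul_of_nonneg_left h2 (show (0 : ℚ) ≤ 4 * (ρ - 1) by linarith)
    calc _ ≤ 4 * (ρ - 1) * (2 * N) ^ 2 := h3
      _ ≤ 16 * N * (1 + (ρ - 1) * N) := by nlinarith
  have h4 : 15 * ρ ^ 3 * A ^ 2 ≤ 15 * ρ * ((q + 1) ^ 4 / 16) := by
    have h5 : ρ ^ 2 ≤ ((q + 1) / 4) ^ 2 := pow_le_pow_left₀ (by linarith) (by linarith) 2
    have h6 : A ^ 2 ≤ (q + 1) ^ 2 := pow_le_pow_left₀ hA0 hA 2
    calc 15 * ρ ^ 3 * A ^ 2 = 15 * ρ * (ρ ^ 2 * A ^ 2) := by ring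
      _ ≤ 15 * ρ * (((q + 1) / 4) ^ 2 * (q + 1) ^ 2) :=
          mul_le_mul_of_nonneg_left (mul_le_mul h5 h6 (by positivity) (by positivity)) (by linarith)
      _ = _ := by ring
  have h7 : 3 * (q + 1) ^ 2 + 1 ≤ 5 * (q * (q - 1)) := by nlinarith
  have h8 : (3 * (q + 1) ^ 2 + 1) ^ 2 ≤ (5 * (q * (q - 1))) ^ 2 :=
    pow_le_pow_left₀ (by positivity) h7 2
  have h9 : 8 / 3 * ρ * (q * (q - 1)) ^ 2 ≤ 4 * (ρ - 1) * (q * (q - 1)) ^ 2 :=
    mul_le_mul_of_nonneg_right (by linarith) (sq_nonneg _)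
  have h10 : ρ * (8 / 3 * (q * (q - 1)) ^ 2) ≤ ρ * (15 / 16 * (q + 1) ^ 4) := by
    calc _ = 8 / 3 * ρ * (q * (q - 1)) ^ 2 := by ring
      _ ≤ 15 * ρ * ((q + 1) ^ 4 / 16) := h9.trans (h1.trans (h.trans h4))
      _ = _ := by ring
  have h11 := le_of_mul_le_mul_left h10 (by linarith)
  nlinarith [sq_nonneg (q + 1)]

/-- The data of `Central` used here. -/
structure Dat (E : Setup G) (b : G) (r : ℕ) (K P : Subgroup G) (e : G) : Prop where
  cfg : Cfg E b r K P
  hU : E.U ≠ ⊥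
  orderOf_e : orderOf e = r
  e_mem : e ∈ E.R r
  e_b : e * b = b * e
  e_cent : centralizer ({e} : Set G) ≤ K
  e_norm : normalizer (zpowers e : Set G) ≤ K

variable {E : Setup G} {b : G} {r : ℕ} {K P : Subgroup G} {e : G}
  {L : Subgroup (K ⧸ Cfsg.oddCore K)} {F : Type} [Field F] [Fintype F]
  (D : Dat E b r K P e) (hL : (P.subgroupOf K).map (bar K) = L) (hpsl : Field.Psl L F)
include D hL hpsl

theorem Dat.e_core : e ∈ GW.coreIn K := D.cfg.mem_core hL hpsl D.e_mem D.e_b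

theorem Dat.e_ne_one : e ≠ 1 := fun e' => by
  have := D.orderOf_e
  rw [e', orderOf_one] at this
  exact D.cfg.prime.ne_one this.symm

/-- `O_r(C(t)) ∩ O(K)` is cyclic. -/
theorem Dat.cyclic_E : IsCyclic ↥(E.R r ⊓ GW.coreIn K) := by
  obtain ⟨y, hy, hyK⟩ := exists_out D.cfg
  have hconj : ∀ x : ↥(E.R r ⊓ GW.coreIn K), y * (x : G) * y⁻¹ ∈ K := fun x =>
    D.cfg.R_le (conj_mem_pCoreIn E hy x.2.1)
  let ψ : ↥(E.R r ⊓ GW.coreIn K) →* K :=
    ((MulAut.conj y).toMonoidHom.comp (E.R r ⊓ GW.coreIn K).subtype).codRestrict K hconj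
  have hmem : ∀ x, bar K (ψ x) ∈ Field.torus L (bar K ⟨E.t, D.cfg.tK⟩) := fun x => by
    obtain ⟨c, z, -, -, -, -, -, -, hT⟩ :=
      D.cfg.R_decomp hL hpsl (conj_mem_pCoreIn E hy x.2.1)
    exact hT
  haveI := hpsl.isCyclic_torus D.cfg.orderOf_bar_t
  refine isCyclic_of_injective (((bar K).comp ψ).codRestrict _ hmem)
    ((injective_iff_map_eq_one _).2 fun x hx => ?_)
  have h1 : y * (x : G) * y⁻¹ ∈ GW.coreIn K :=
    bar_eq_one.1 (congrArg Subtype.val hx : bar K (ψ x) = 1)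
  have h2 := D.cfg.inter_trivial D.hU D.e_mem D.e_b D.e_cent D.cfg.prime hy hyK
    (x := y * (x : G) * y⁻¹) (conj_mem_pCoreIn E hy x.2.1) h1
    (by simpa [mul_assoc] using x.2.2)
  exact Subtype.ext (conj_eq_one_iff.1 h2)

theorem Dat.mem_zpowers_e {x : G} (hx : x ∈ E.R r) (hxO : x ∈ GW.coreIn K) (hxr : x ^ r = 1) :
    x ∈ zpowers e := by
  haveI := D.cyclic_E hL hpsl
  haveI := Fact.mk D.cfg.prime
  by_cases hx1 : x = 1
  · exact hx1 ▸ one_mem _
  have heq := GWCons.CyclicSylow.eq_of_card_eq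
    (A := zpowers (⟨x, hx, hxO⟩ : ↥(E.R r ⊓ GW.coreIn K)))
    (B := zpowers (⟨e, D.e_mem, D.e_core hL hpsl⟩ : ↥(E.R r ⊓ GW.coreIn K)))
    (by
      rw [Nat.card_zpowers, Nat.card_zpowers]
      exact (Subgroup.orderOf_mk x _).trans (((orderOf_eq_prime hxr hx1).trans
        D.orderOf_e.symm).trans (Subgroup.orderOf_mk e _).symm))
  obtain ⟨i, hi⟩ := heq.le (mem_zpowers _)
  exact ⟨i, congrArg Subtype.val hi⟩

theorem Dat.conj_pow_e {y : G} : (y * e * y⁻¹) ^ r = 1 := by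
  rw [conj_pow, ← D.orderOf_e, pow_orderOf_eq_one, mul_one, mul_inv_cancel]

/-- `h ∈ C(t)` with `e^h ∈ O(K)` lies in `K`. -/
theorem Dat.mem_K {y : G} (hy : y ∈ E.H) (hye : y * e * y⁻¹ ∈ GW.coreIn K) : y ∈ K :=
  D.e_norm (mem_normalizer_of_conj
    (D.mem_zpowers_e hL hpsl (conj_mem_pCoreIn E hy D.e_mem) hye (D.conj_pow_e hL hpsl)))

/-- An involution of `C(t) ∩ K` other than `t` centralises only `O(K)` in `O_r(C(t))`. -/
theorem Dat.fixed_core {v : G} (hvK : v ∈ K) (hv : v * v = 1) (hv1 : v ≠ 1)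
    (hvt : v * E.t = E.t * v) (hne : v ≠ E.t) {x : G} (hx : x ∈ E.R r) (hxv : x * v = v * x) :
    x ∈ GW.coreIn K := by
  obtain ⟨c, z, -, -, -, -, -, -, hT⟩ := D.cfg.R_decomp hL hpsl hx
  refine (bar_eq_one (x := (⟨x, D.cfg.R_le hx⟩ : K))).1 ?_
  set ξ := bar K ⟨x, D.cfg.R_le hx⟩
  have h1 := hpsl.inverts_torus D.cfg.orderOf_bar_t (w := bar K ⟨v, hvK⟩)
    (D.cfg.orderOf_bar_invol (v := ⟨v, hvK⟩) (Subtype.ext hv)
      fun e' => hv1 (congrArg Subtype.val e'))
    (D.cfg.bar_commute (y := ⟨E.t, D.cfg.tK⟩) hvt) (D.cfg.bar_ne_t (v := ⟨v, hvK⟩) hv hne) hT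
  rw [← D.cfg.bar_commute (x := ⟨x, D.cfg.R_le hx⟩) (y := ⟨v, hvK⟩) hxv, mul_inv_cancel_right] at h1
  refine CfsgLib.RankOneInvol.eq_one_of_sq_of_odd ?_ ?_
  · exact odd_bar (CfsgLib.RankOneInvol.odd_orderOf_of_mem D.cfg.odd_R hx)
  · exact mul_eq_one_iff_eq_inv.2 h1

/-- The Sylow subgroup lies in `K`. -/
theorem Dat.S_le : (E.S : Subgroup G) ≤ K := by
  haveI : Fact (Nat.Prime 2) := ⟨Nat.prime_two⟩
  haveI : Group.IsNilpotent (E.S : Subgroup G) := E.S.2.isNilpotent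
  by_contra hle
  have hlt : K.subgroupOf (E.S : Subgroup G) < ⊤ :=
    lt_top_iff_ne_top.2 fun e' => hle (subgroupOf_eq_top.1 e')
  obtain ⟨s, hs, hsK⟩ := SetLike.exists_of_lt (Group.normalizerCondition_of_isNilpotent _ hlt)
  refine hsK (mem_subgroupOf.2 ?_)
  have hbS : (⟨b, D.cfg.refl.1⟩ : (E.S : Subgroup G)) ∈ K.subgroupOf (E.S : Subgroup G) :=
    mem_subgroupOf.2 D.cfg.bK
  have hb' : (s : G) * b * (s : G)⁻¹ ∈ K := mem_subgroupOf.1 ((mem_normalizer_iff.1 hs _).1 hbS)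
  have hsH : (s : G) ∈ E.H := E.S_le_H s.2
  refine D.mem_K hL hpsl hsH (D.fixed_core hL hpsl hb' ?_ ?_ ?_ ?_
    (conj_mem_pCoreIn E hsH D.e_mem) (Setup.commute_conj D.e_b))
  · rw [show (s : G) * b * (s : G)⁻¹ * ((s : G) * b * (s : G)⁻¹) = s * (b * b) * (s : G)⁻¹ by group,
      D.cfg.refl.sq, mul_one, mul_inv_cancel]
  · exact fun e' => D.cfg.refl.ne_one (conj_eq_one_iff.1 e')
  · exact E.mem_H.1 (mul_mem (mul_mem hsH D.cfg.refl.mem_H) (inv_mem hsH))
  · intro e'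
    refine D.cfg.refl.ne_t ?_
    calc b = (s : G)⁻¹ * ((s : G) * b * (s : G)⁻¹) * s := by group
      _ = E.t := by rw [e', mul_assoc, ← E.mem_H.1 hsH, inv_mul_cancel_left]

/-- No reflection centralises `O_r(C(t))`. -/
theorem Dat.refl_not_central {s : G} (hs : E.Refl s) (hc : ∀ x ∈ E.R r, x * s = s * x) : False :=
  D.cfg.not_le fun x hx => D.cfg.core_le_X (D.fixed_core hL hpsl (D.S_le hL hpsl hs.1) hs.sq
    hs.ne_one hs.comm hs.ne_t hx (hc x hx))

/-- `r` divides the order of the torus. -/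
theorem Dat.dvd_torus : r ∣ Nat.card (Field.torus L (bar K ⟨E.t, D.cfg.tK⟩)) := by
  haveI := Fact.mk D.cfg.prime
  obtain ⟨x, hx, hxO⟩ : ∃ x ∈ E.R r, x ∉ GW.coreIn K := by
    by_contra hno
    push Not at hno
    exact D.cfg.not_le fun x hx => D.cfg.core_le_X (hno x hx)
  obtain ⟨c, z, -, -, -, -, -, -, hT⟩ := D.cfg.R_decomp hL hpsl hx
  obtain ⟨j, hj⟩ := IsPGroup.iff_orderOf.1
    ((D.cfg.R_isPGroup.comap_subtype (K := K)).map (bar K))
    ⟨_, mem_map_of_mem (bar K) (show (⟨x, D.cfg.R_le hx⟩ : K) ∈ (E.R r).comap K.subtype from hx)⟩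
  rw [Subgroup.orderOf_mk] at hj
  have hj0 : j ≠ 0 := by
    rintro rfl
    rw [pow_zero, orderOf_eq_one_iff, bar_eq_one] at hj
    exact hxO hj
  refine (dvd_pow_self r hj0).trans ?_
  rw [← hj, ← Subgroup.orderOf_mk _ hT]
  exact orderOf_dvd_natCard _

/-- An involution of `C(t) ∩ K` inverting `e` inverts every element of order `r` of `O_r(C(t))`. -/
theorem Dat.inverts {v : G} (hvK : v ∈ K) (hv : v * v = 1) (hv1 : v ≠ 1)
    (hvt : v * E.t = E.t * v) (hne : v ≠ E.t) (hve : v * e * v = e⁻¹) {a : G} (ha : a ∈ E.R r)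
    (har : a ^ r = 1) : v * a * v = a⁻¹ := by
  obtain ⟨c, z, hc, hcO, hz, hzP, hzb, rfl, -⟩ := D.cfg.R_decomp hL hpsl ha
  have hvi : v⁻¹ = v := inv_eq_of_mul_eq_one_right hv
  have hbi : b⁻¹ = b := D.cfg.refl.inv
  have hcz : Commute c z := (D.cfg.commute_P hzP hcO).symm
  rw [hcz.mul_pow] at har
  have hbc : b * c * b = c := by
    rw [(show Commute c b from (D.cfg.commute_P D.cfg.b_mem hcO).symm).eq.symm, mul_assoc,
      D.cfg.refl.sq, mul_one]
  have hzr : z ^ r = 1 := by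
    have h1 : b * z ^ r * b = (z ^ r)⁻¹ := by
      calc b * z ^ r * b = (b * z * b⁻¹) ^ r := by rw [conj_pow, hbi]
        _ = (z ^ r)⁻¹ := by rw [hbi, hzb, inv_pow]
    have h2 : b * z ^ r * b = z ^ r := by
      rw [eq_inv_of_mul_eq_one_right har]
      calc b * (c ^ r)⁻¹ * b = ((b * c * b⁻¹) ^ r)⁻¹ := by
            rw [conj_pow, mul_inv_rev, mul_inv_rev, inv_inv, hbi, mul_assoc]
        _ = (c ^ r)⁻¹ := by rw [hbi, hbc]
    rw [h2] at h1
    refine CfsgLib.RankOneInvol.eq_one_of_mem_of_sq D.cfg.odd_R (pow_mem hz r) ?_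
    nth_rw 1 [h1]
    exact inv_mul_cancel _
  rw [hzr, mul_one] at har
  have hvH : v ∈ E.H := E.mem_H.2 hvt
  have hinvE : ∀ w ∈ zpowers e, v * w * v = w⁻¹ := by
    rintro _ ⟨i, rfl⟩
    have h0 : v * e * v⁻¹ = e⁻¹ := by rw [hvi]; exact hve
    calc v * e ^ i * v = v * e ^ i * v⁻¹ := by rw [hvi]
      _ = (v * e * v⁻¹) ^ i := conj_zpow.symm
      _ = (e ^ i)⁻¹ := by rw [h0, inv_zpow]
  have hvz : v * z * v ∈ E.R r := by
    have := conj_mem_pCoreIn E hvH hz
    rwa [hvi] at this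
  set o := z * (v * z * v) with ho
  have hvzP : v * z * v ∈ P := by
    have := D.cfg.P_conj hvK hzP
    rwa [hvi] at this
  have hoO : o ∈ GW.coreIn K := by
    refine (bar_eq_one (x := (⟨z, D.cfg.R_le hz⟩ : K) * (⟨v, hvK⟩ * ⟨z, D.cfg.R_le hz⟩ * ⟨v, hvK⟩))).1 ?_
    obtain ⟨c', z', -, -, -, -, -, -, hT⟩ := D.cfg.R_decomp hL hpsl hz
    have h1 := hpsl.inverts_torus D.cfg.orderOf_bar_t (w := bar K ⟨v, hvK⟩)
      (D.cfg.orderOf_bar_invol (v := ⟨v, hvK⟩) (Subtype.ext hv)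
        fun e' => hv1 (congrArg Subtype.val e'))
      (D.cfg.bar_commute (y := ⟨E.t, D.cfg.tK⟩) hvt) (D.cfg.bar_ne_t (v := ⟨v, hvK⟩) hv hne) hT
    rw [← map_inv, show (⟨v, hvK⟩ : K)⁻¹ = ⟨v, hvK⟩ from Subtype.ext hvi, ← map_mul, ← map_mul]
      at h1
    rw [map_mul, h1, mul_inv_cancel]
  have hzo : Commute z o := D.cfg.commute_P hzP hoO
  have hvzo : v * z * v = z⁻¹ * o := by rw [ho, inv_mul_cancel_left]
  have hor : o ^ r = 1 := by
    have h1 : (v * z * v) ^ r = 1 := by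
      calc (v * z * v) ^ r = (v * z * v⁻¹) ^ r := by rw [hvi]
        _ = 1 := by rw [conj_pow, hzr, mul_one, mul_inv_cancel]
    rwa [hvzo, (hzo.inv_left).mul_pow, inv_pow, hzr, inv_one, one_mul] at h1
  have ho1 : o = 1 := by
    have hin := hinvE o (D.mem_zpowers_e hL hpsl (mul_mem hz hvz) hoO hor)
    have hfix : v * o * v = o := by
      calc v * o * v = (v * z * v) * (v * (v * z * v) * v) := by
            rw [ho, show v * (z * (v * z * v)) * v = v * z * (v * v) * (v * z * v) * v by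
              rw [hv]; group]
            group
        _ = (v * z * v) * z := by
            rw [show v * (v * z * v) * v = (v * v) * z * (v * v) by group, hv, one_mul, mul_one]
        _ = z⁻¹ * (o * z) := by rw [hvzo, mul_assoc]
        _ = o := by rw [hzo.eq.symm, inv_mul_cancel_left]
    rw [hfix] at hin
    refine CfsgLib.RankOneInvol.eq_one_of_mem_of_sq (odd_card_coreIn K) hoO ?_
    nth_rw 1 [hin]
    exact inv_mul_cancel _
  rw [ho1, mul_one] at hvzo
  calc v * (c * z) * v = (v * c * v) * (v * z * v) := by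
        rw [show (v * c * v) * (v * z * v) = v * c * (v * v) * z * v by group, hv]; group
    _ = c⁻¹ * z⁻¹ := by rw [hinvE c (D.mem_zpowers_e hL hpsl hc hcO har), hvzo]
    _ = (c * z)⁻¹ := by rw [hcz.eq, mul_inv_rev]

/-- All reflections map into the top. -/
theorem Dat.refl_inner {s : G} (hs : E.Refl s) : bar K ⟨s, D.S_le hL hpsl hs.1⟩ ∈ L := by
  by_contra hout
  haveI := Fact.mk D.cfg.prime
  set sK : K := ⟨s, D.S_le hL hpsl hs.1⟩
  set tK : K := ⟨E.t, D.cfg.tK⟩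
  have hs2 : orderOf (bar K sK) = 2 := D.cfg.orderOf_bar_invol (v := sK) (Subtype.ext hs.sq)
    fun e' => hs.ne_one (congrArg Subtype.val e')
  have hts : bar K tK * bar K sK = bar K sK * bar K tK := D.cfg.bar_commute hs.comm.symm
  obtain ⟨hcyc, -, hone, hcop, -⟩ := hpsl.outer_torus D.cfg.orderOf_bar_t hs2
    (D.cfg.bar_mem hL (x := tK) D.cfg.t_mem) hout hts
  obtain ⟨g, hg1, -, hg3⟩ := hs.exists_rot
  have hv3 : g⁻¹ * E.t * g = s * E.t := by
    calc g⁻¹ * E.t * g = g⁻¹ * (g * (s * E.t) * g⁻¹) * g := by rw [hg3]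
      _ = s * E.t := by group
  have toH : ∀ w : G, w * s = s * w → g⁻¹ * w * g ∈ E.H := fun w hw => E.mem_H.2 (by
    calc g⁻¹ * w * g * E.t = g⁻¹ * (w * (g * E.t * g⁻¹)) * g := by group
      _ = g⁻¹ * ((g * E.t * g⁻¹) * w) * g := by rw [hg1, hw]
      _ = E.t * (g⁻¹ * w * g) := by group)
  have hse : s * e * s = e⁻¹ := by
    have hsH := hs.mem_H
    have he'R : s * e * s ∈ E.R r := by
      have := conj_mem_pCoreIn E hsH D.e_mem
      rwa [hs.inv] at this
    have he'O : s * e * s ∈ GW.coreIn K := by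
      have := conj_mem_coreIn (D.S_le hL hpsl hs.1) (D.e_core hL hpsl)
      rwa [hs.inv] at this
    have hpow : (s * e * s) ^ r = 1 := by
      have := D.conj_pow_e hL hpsl (y := s)
      rwa [hs.inv] at this
    obtain ⟨i, hi⟩ := D.mem_zpowers_e hL hpsl he'R he'O hpow
    simp only at hi
    set y := e * (s * e * s)
    have hcomm : Commute e (s * e * s) := by rw [← hi]; exact Commute.self_zpow e i
    have hyfix : y * s = s * y := by
      calc y * s = e * (s * e) := by simp only [y, mul_assoc, hs.sq, mul_one]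
        _ = s * (s * e * s) * e := by
            rw [show s * (s * e * s) * e = (s * s) * e * (s * e) by group, hs.sq, one_mul]
        _ = s * y := by rw [mul_assoc, ← hcomm.eq]
    by_cases hy1 : y = 1
    · exact eq_inv_of_mul_eq_one_right hy1
    exfalso
    -- `e` commutes with `s`
    have hyz : y ∈ zpowers e := mul_mem (mem_zpowers e) (hi ▸ ⟨i, rfl⟩)
    have hze : zpowers y = zpowers e := by
      refine eq_of_le_of_card_ge (zpowers_le.2 hyz) (le_of_eq ?_)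
      rw [Nat.card_zpowers, Nat.card_zpowers, D.orderOf_e]
      refine (orderOf_eq_prime ?_ hy1).symm
      rw [hcomm.mul_pow, hpow, ← D.orderOf_e, pow_orderOf_eq_one, one_mul]
    obtain ⟨j, hj⟩ : e ∈ zpowers y := hze ▸ mem_zpowers e
    have hes : e * s = s * e := by
      rw [← hj]; exact ((show Commute y s from hyfix).zpow_left j).eq
    -- then `t` centralises a conjugate of `R`
    set R2 := conjBy (E.R r) g with hR2
    have hR2p : IsPGroup r R2 := D.cfg.R_isPGroup.map _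
    have hn : ∀ w : G, w * s = s * w → w ∈ normalizer (R2 : Set G) := fun w hw => by
      rw [mem_normalizer_iff]
      intro u
      rw [hR2, mem_conjBy, mem_conjBy,
        show g⁻¹ * (w * u * w⁻¹) * g = (g⁻¹ * w * g) * (g⁻¹ * u * g) * (g⁻¹ * w * g)⁻¹ by group]
      exact mem_normalizer_iff.1 (Cfsg.Tech46.Bender.coreIn_le_normalizer r E.H (toH w hw)) _
    have hR2s : ∀ w ∈ R2, w * s = s * w := fun w hw => by
      rw [hR2, mem_conjBy] at hw
      have := Setup.commute_conj (g := g) (E.mem_H.1 (D.cfg.R_le_H hw))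
      rw [hg1] at this
      simpa [mul_assoc] using this
    have htcent : E.t ∈ centralizer (R2 : Set G) := by
      refine CfsgLib.Components.mem_centralizer_of_AxB hR2p
        (IsPGroup.of_card (n := 1) (by rw [Nat.card_zpowers, D.orderOf_e, pow_one]) :
          IsPGroup r (zpowers e))
        (zpowers_le.2 (hn e hes)) (hn _ hs.comm.symm) ?_ ?_ ?_
      · rw [mem_centralizer_iff]
        rintro _ ⟨k, rfl⟩
        exact ((show Commute e E.t from E.mem_H.1 (D.cfg.R_le_H D.e_mem)).zpow_left k).eq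
      · rw [E.orderOf_t]
        exact (Nat.coprime_primes Nat.prime_two D.cfg.prime).2 (Ne.symm D.cfg.ne_two)
      intro w hw hwc
      set A := R2 ⊓ centralizer ({e} : Set G)
      have hwA : w ∈ A := ⟨hw, mem_centralizer_singleton_iff.2
        (mem_centralizer_iff.1 hwc e (mem_zpowers e)).symm⟩
      have hAodd : Odd (Nat.card A) :=
        Local.odd_card_of_isPGroup D.cfg.prime D.cfg.ne_two (hR2p.to_le inf_le_left)
      have het : Commute e E.t := E.mem_H.1 (D.cfg.R_le_H D.e_mem)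
      have hAn : ∀ u ∈ A, E.t * u * E.t ∈ A := fun u hu => by
        refine mem_inf.2 ⟨?_, ?_⟩
        · have := (mem_normalizer_iff.1 (hn _ hs.comm.symm) u).1 hu.1
          rwa [E.t_inv] at this
        · rw [mem_centralizer_singleton_iff]
          exact ((het.symm.mul_left (show Commute u e from
            mem_centralizer_singleton_iff.1 hu.2)).mul_left het.symm).eq
      obtain ⟨y', z, -, hy't, hz, hzt, rfl⟩ :=
        CfsgLib.RankOneInvol.exists_fixed_mul_inverted hAodd E.t_sq hAn hwA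
      have hzK : z ∈ K := D.e_cent hz.2
      have hzodd : Odd (orderOf z) := CfsgLib.RankOneInvol.odd_orderOf_of_mem hAodd hz
      have hT := LeTop.inverted_mem_torus hpsl hs2 (v := bar K tK)
        (x := bar K ⟨z, hzK⟩) (by rw [← map_mul, show tK * tK = 1 from Subtype.ext E.t_sq, map_one])
        (D.cfg.bar_commute (y := sK) (hR2s z hz.1))
        (by rw [← map_mul, ← map_mul, ← map_inv]; exact congrArg _ (Subtype.ext hzt))
        (odd_bar hzodd)
      have hz1 : bar K ⟨z, hzK⟩ = 1 := by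
        obtain ⟨j, hj⟩ := IsPGroup.iff_orderOf.1 hR2p ⟨z, hz.1⟩
        rw [Subgroup.orderOf_mk] at hj
        rw [← orderOf_eq_one_iff]
        refine Nat.eq_one_of_dvd_coprimes
          (Nat.Coprime.pow_right j (Nat.Coprime.coprime_dvd_right (D.dvd_torus hL hpsl) hcop)) ?_ ?_
        · rw [← Subgroup.orderOf_mk _ hT]; exact orderOf_dvd_natCard _
        · rw [← hj, ← Subgroup.orderOf_mk z hzK]; exact orderOf_map_dvd _ _
      have hzO : z ∈ GW.coreIn K := bar_eq_one.1 hz1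
      have hzfix : E.t * z = z * E.t := D.cfg.commute_P D.cfg.t_mem hzO
      have hz1' : z = 1 := by
        rw [hzfix, mul_assoc, E.t_sq, mul_one] at hzt
        refine CfsgLib.RankOneInvol.eq_one_of_sq_of_odd hzodd ?_
        nth_rw 1 [hzt]
        exact inv_mul_cancel z
      rw [hz1', mul_one]
      calc E.t * y' = E.t * y' * (E.t * E.t) := by rw [E.t_sq, mul_one]
        _ = (E.t * y' * E.t) * E.t := by group
        _ = y' * E.t := by rw [hy't]
    refine D.refl_not_central hL hpsl hs.mul_t fun x hx => ?_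
    have hgx : g * x * g⁻¹ ∈ R2 := by rw [hR2, mem_conjBy]; simpa [mul_assoc] using hx
    have h1 := Setup.commute_conj (g := g⁻¹) (mem_centralizer_iff.1 htcent _ hgx)
    rw [inv_inv, hv3, show g⁻¹ * (g * x * g⁻¹) * g = x by group] at h1
    exact h1
  -- an element of the outer torus, inverted by `t`, fixed by `s`
  obtain ⟨l, hl, hld⟩ := Nat.exists_prime_and_dvd hone.ne'
  haveI := Fact.mk hl
  obtain ⟨y0, hy0⟩ := exists_prime_orderOf_dvd_card' (G := Field.torus L (bar K sK)) l hld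
  set A := ((Field.torus L (bar K sK)).comap (bar K)).map K.subtype with hA
  have hAodd : Odd (Nat.card A) := odd_card_of_forall (by
    rintro _ ⟨w, hw, rfl⟩
    exact odd_of_bar ((hpsl.mem_torus hs2).1 hw).2.2)
  have hAn : ∀ v : K, (v : G) * v = 1 → bar K v * bar K sK = bar K sK * bar K v →
      ∀ w ∈ A, (v : G) * w * v ∈ A := by
    rintro v hv hvs _ ⟨w, hw, rfl⟩
    refine ⟨v * w * v, ?_, rfl⟩
    show bar K (v * w * v) ∈ Field.torus L (bar K sK)
    have h1 := hpsl.conj_mem_torus hs2 hvs (x := bar K w) hw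
    rwa [← map_inv, show (v : K)⁻¹ = v from inv_eq_of_mul_eq_one_right (Subtype.ext hv),
      ← map_mul, ← map_mul] at h1
  obtain ⟨w0, hw0⟩ := bar_surjective K (y0 : K ⧸ Cfsg.oddCore K)
  have hw0A : (w0 : G) ∈ A := ⟨w0, show bar K w0 ∈ _ from hw0 ▸ y0.2, rfl⟩
  obtain ⟨a1, a2, ha1, ha1s, ha2, ha2s, hw0eq⟩ :=
    CfsgLib.RankOneInvol.exists_fixed_mul_inverted hAodd hs.sq (hAn sK hs.sq rfl) hw0A
  have hAK : A ≤ K := map_subtype_le _
  have hAT : ∀ w (hw : w ∈ A), bar K ⟨w, hAK hw⟩ ∈ Field.torus L (bar K sK) := by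
    rintro _ ⟨w', hw', rfl⟩
    exact hw'
  have hbar2 : bar K ⟨a2, hAK ha2⟩ = 1 := by
    have h1 : bar K sK * bar K ⟨a2, hAK ha2⟩ * bar K sK = (bar K ⟨a2, hAK ha2⟩)⁻¹ := by
      rw [← map_mul, ← map_mul, ← map_inv]; exact congrArg _ (Subtype.ext ha2s)
    obtain ⟨-, hc, ho⟩ := (hpsl.mem_torus hs2).1 (hAT a2 ha2)
    rw [← hc, mul_assoc, (CfsgLib.Involutions.orderOf_eq_two_iff_mul.1 hs2).2, mul_one] at h1
    refine CfsgLib.RankOneInvol.eq_one_of_sq_of_odd ho ?_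
    nth_rw 1 [h1]
    exact inv_mul_cancel _
  have hbar1 : bar K ⟨a1, hAK ha1⟩ = y0 := by
    rw [← hw0, show w0 = ⟨a1, hAK ha1⟩ * ⟨a2, hAK ha2⟩ from Subtype.ext hw0eq, map_mul, hbar2,
      mul_one]
  set A2 := A ⊓ centralizer ({s} : Set G)
  have ha1A : a1 ∈ A2 := ⟨ha1, mem_centralizer_singleton_iff.2 (by
    calc a1 * s = s * a1 * s * s := by rw [ha1s]
      _ = s * a1 := by rw [mul_assoc, hs.sq, mul_one])⟩
  have hA2odd : Odd (Nat.card A2) := hAodd.of_dvd_nat (card_dvd_of_le inf_le_left)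
  have hst : Commute s E.t := hs.comm
  have hA2n : ∀ w ∈ A2, E.t * w * E.t ∈ A2 := fun w hw => by
    refine mem_inf.2 ⟨hAn tK E.t_sq hts w hw.1, ?_⟩
    rw [mem_centralizer_singleton_iff]
    exact ((hst.symm.mul_left (show Commute w s from
      mem_centralizer_singleton_iff.1 hw.2)).mul_left hst.symm).eq
  obtain ⟨c1, c2, hc1, hc1t, hc2, hc2t, ha1eq⟩ :=
    CfsgLib.RankOneInvol.exists_fixed_mul_inverted hA2odd E.t_sq hA2n ha1A
  have hbc1 : bar K ⟨c1, hAK hc1.1⟩ = 1 := by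
    have h1 := hpsl.inverts_torus hs2 D.cfg.orderOf_bar_t hts
      (fun e' => hout (e' ▸ D.cfg.bar_mem hL (x := tK) D.cfg.t_mem)) (hAT c1 hc1.1)
    rw [← map_inv, show (⟨E.t, D.cfg.tK⟩ : K)⁻¹ = tK from Subtype.ext E.t_inv, ← map_mul, ← map_mul,
      show (⟨E.t, D.cfg.tK⟩ : K) * ⟨c1, hAK hc1.1⟩ * tK = ⟨c1, hAK hc1.1⟩ from Subtype.ext hc1t]
      at h1
    refine CfsgLib.RankOneInvol.eq_one_of_sq_of_odd
      ((hpsl.mem_torus hs2).1 (hAT c1 hc1.1)).2.2 ?_
    nth_rw 1 [h1]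
    exact inv_mul_cancel _
  have hbc2 : bar K ⟨c2, hAK hc2.1⟩ = y0 := by
    rw [← hbar1, show (⟨a1, hAK ha1⟩ : K) = ⟨c1, hAK hc1.1⟩ * ⟨c2, hAK hc2.1⟩ from
      Subtype.ext ha1eq, map_mul, hbc1, one_mul]
  obtain ⟨a, m, hm, hom⟩ := Nat.exists_eq_pow_mul_and_not_dvd (orderOf_pos c2).ne' l hl.ne_one
  set p := c2 ^ m with hp
  have hpK : p ∈ K := pow_mem (hAK hc2.1) m
  have hp1 : bar K ⟨p, hpK⟩ ≠ 1 := by
    rw [show (⟨p, hpK⟩ : K) = ⟨c2, hAK hc2.1⟩ ^ m from rfl, map_pow, hbc2]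
    intro e'
    refine hm ?_
    rw [← hy0, ← Subgroup.orderOf_coe]
    exact orderOf_dvd_of_pow_eq_one e'
  have hpl : p ^ l ^ a = 1 := by rw [hp, ← pow_mul, mul_comm, ← hom, pow_orderOf_eq_one]
  have hpodd : Odd (orderOf p) :=
    CfsgLib.RankOneInvol.odd_orderOf_of_mem hA2odd (pow_mem hc2 m)
  have hps : p * s = s * p :=
    ((show Commute c2 s from mem_centralizer_singleton_iff.1 hc2.2).pow_left m).eq
  have hpt : E.t * p * E.t = p⁻¹ := by
    calc E.t * p * E.t = (E.t * c2 * E.t⁻¹) ^ m := by rw [conj_pow, E.t_inv]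
      _ = p⁻¹ := by rw [E.t_inv, hc2t, inv_pow]
  -- its conjugate in `C(t)`
  set x := g⁻¹ * p * g with hx
  set v := s * E.t with hvdef
  have hvrefl : E.Refl v := hs.mul_t
  have hxH : x ∈ E.H := toH p hps
  have hxodd : Odd (orderOf x) := by
    have := CfsgLib.RankOneInvol.odd_orderOf_conj hpodd g⁻¹
    rwa [inv_inv] at this
  have hxl : x ^ l ^ a = 1 := by
    rw [hx, show g⁻¹ * p * g = g⁻¹ * p * g⁻¹⁻¹ by rw [inv_inv], conj_pow, hpl, mul_one,
      mul_inv_cancel]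
  have hxv : v * x * v = x⁻¹ := by
    rw [← hv3, hx, show g⁻¹ * E.t * g * (g⁻¹ * p * g) * (g⁻¹ * E.t * g) =
      g⁻¹ * (E.t * p * E.t) * g by group, hpt]
    group
  have hve : v * e * v = e⁻¹ := by
    have het : e * E.t = E.t * e := E.mem_H.1 (D.cfg.R_le_H D.e_mem)
    calc v * e * v = s * E.t * e * (s * E.t) := rfl
      _ = s * E.t * e * (E.t * s) := by rw [hs.comm]
      _ = s * (E.t * e * E.t) * s := by group
      _ = e⁻¹ := by rw [← het, mul_assoc e, E.t_sq, mul_one, hse]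
  have hvK : v ∈ K := D.S_le hL hpsl hvrefl.1
  have hinv : ∀ w ∈ E.R r, w ^ r = 1 → v * w * v = w⁻¹ := fun w hw hwr =>
    D.inverts hL hpsl hvK hvrefl.sq hvrefl.ne_one hvrefl.comm hvrefl.ne_t hve hw hwr
  have hxfix : ∀ w ∈ E.R r, w ^ r = 1 → x * w = w * x := by
    intro w hw hwr
    have h1 := hinv _ (conj_mem_pCoreIn E hxH hw) (by rw [conj_pow, hwr, mul_one, mul_inv_cancel])
    have h2 : v * (x * w * x⁻¹) * v = x⁻¹ * w⁻¹ * x := by
      have hxiv : v * x⁻¹ * v = x := by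
        have := congrArg (·⁻¹) hxv
        simpa [mul_inv_rev, hvrefl.inv, mul_assoc] using this
      calc v * (x * w * x⁻¹) * v = (v * x * v) * (v * w * v) * (v * x⁻¹ * v) := by
            rw [show (v * x * v) * (v * w * v) * (v * x⁻¹ * v) =
              v * x * (v * v) * w * (v * v) * x⁻¹ * v by group, hvrefl.sq]
            group
        _ = x⁻¹ * w⁻¹ * x := by rw [hxv, hinv w hw hwr, hxiv]
    rw [h2] at h1
    have h3 : Commute (x * x) w⁻¹ := by
      calc x * x * w⁻¹ = x * (x * w * x⁻¹)⁻¹ * x := by group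
        _ = x * (x⁻¹ * w⁻¹ * x) * x := by rw [← h1]
        _ = w⁻¹ * (x * x) := by group
    obtain ⟨k, hk⟩ := CfsgLib.RankOneInvol.exists_pow_sq_eq hxodd
    have h4 := (h3.inv_right.pow_left k)
    rw [inv_inv, (Commute.refl x).mul_pow, hk] at h4
    exact h4.eq
  have her : e ^ r = 1 := D.orderOf_e ▸ pow_orderOf_eq_one e
  have torus_trivial : ∀ u : G, u * e = e * u → u ∈ E.H → u ^ l ^ a = 1 →
      Odd (orderOf u) → (∃ w : G, w ∈ K ∧ w * w = 1 ∧ w * u * w = u⁻¹) → u ∈ GW.coreIn K := by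
    rintro u hue huH hul huodd ⟨w, hwK, hw, hwu⟩
    have huK : u ∈ K := D.e_cent (mem_centralizer_singleton_iff.2 hue)
    have hT := D.cfg.bar_mem_torus hL hpsl hwK hw (z := ⟨u, huK⟩) (E.mem_H.1 huH) hwu huodd
    refine (bar_eq_one (x := (⟨u, huK⟩ : K))).1 (orderOf_eq_one_iff.1 ?_)
    refine Nat.eq_one_of_dvd_coprimes ((Nat.Coprime.coprime_dvd_left hld hcop).pow_left a) ?_ ?_
    · exact (orderOf_map_dvd _ _).trans
        ((Subgroup.orderOf_mk u huK).symm ▸ orderOf_dvd_of_pow_eq_one hul)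
    · rw [← Subgroup.orderOf_mk _ hT]; exact orderOf_dvd_natCard _
  have hxO : x ∈ GW.coreIn K :=
    torus_trivial x (hxfix e D.e_mem her) hxH hxl hxodd ⟨v, hvK, hvrefl.sq, hxv⟩
  obtain ⟨y, hy, hyK⟩ := exists_out D.cfg
  have hye := conj_mem_pCoreIn E hy D.e_mem
  have hxye := hxfix _ hye (D.conj_pow_e hL hpsl)
  set w := y⁻¹ * v * y with hw
  have hwe : w * e * w = e⁻¹ := by
    calc w * e * w = y⁻¹ * (v * (y * e * y⁻¹) * v) * y := by rw [hw]; group
      _ = e⁻¹ := by rw [hinv _ hye (D.conj_pow_e hL hpsl)]; group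
  have hwsq : w * w = 1 := by
    rw [hw, show y⁻¹ * v * y * (y⁻¹ * v * y) = y⁻¹ * (v * v) * y by group, hvrefl.sq, mul_one,
      inv_mul_cancel]
  have hwK : w ∈ K := D.e_norm (mem_normalizer_of_conj (by
    rw [inv_eq_of_mul_eq_one_right hwsq, hwe]; exact inv_mem (mem_zpowers e)))
  have hxy : y⁻¹ * x * y ∈ GW.coreIn K := by
    refine torus_trivial _ ?_ (mul_mem (mul_mem (inv_mem hy) hxH) hy) ?_ ?_ ⟨w, hwK, hwsq, ?_⟩
    · calc y⁻¹ * x * y * e = y⁻¹ * (x * (y * e * y⁻¹)) * y := by group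
        _ = e * (y⁻¹ * x * y) := by rw [hxye]; group
    · rw [show y⁻¹ * x * y = y⁻¹ * x * y⁻¹⁻¹ by rw [inv_inv], conj_pow, hxl, mul_one, mul_inv_cancel]
    · have := CfsgLib.RankOneInvol.odd_orderOf_conj hxodd y⁻¹
      rwa [inv_inv] at this
    · rw [hw, show y⁻¹ * v * y * (y⁻¹ * x * y) * (y⁻¹ * v * y) = y⁻¹ * (v * x * v) * y by group,
        hxv]
      group
  have hxF : ∀ q : ℕ, q.Prime → ∀ f ∈ pCoreIn q E.H, x * f = f * x := by
    intro q hq f hf
    by_cases hq2 : q = 2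
    · subst hq2; exact two_commute_U E (D.cfg.core_le_U hxO) hf
    have hfK := D.cfg.fit_le q hq hf
    have hd1 : x * f * x⁻¹ * f⁻¹ ∈ pCoreIn q E.H :=
      mul_mem (conj_mem_pCoreIn E hxH hf) (inv_mem hf)
    have hd2 : x * f * x⁻¹ * f⁻¹ ∈ GW.coreIn K := by
      have := mul_mem hxO (conj_mem_coreIn hfK (inv_mem hxO))
      simpa only [mul_assoc] using this
    have hd3 : y⁻¹ * (x * f * x⁻¹ * f⁻¹) * y ∈ GW.coreIn K := by
      have hf' : y⁻¹ * f * y⁻¹⁻¹ ∈ pCoreIn q E.H := conj_mem_pCoreIn E (inv_mem hy) hf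
      rw [inv_inv] at hf'
      have := mul_mem hxy (conj_mem_coreIn (D.cfg.fit_le q hq hf') (inv_mem hxy))
      simpa [mul_assoc] using this
    have h1 := D.cfg.inter_trivial D.hU D.e_mem D.e_b D.e_cent hq hy hyK hd1 hd2 hd3
    rw [mul_inv_eq_one, mul_inv_eq_iff_eq_mul] at h1
    exact h1
  have hxm := mem_pCore_of_commute E hxH hl hxl hxF
  have hx1 := D.cfg.inter_trivial D.hU D.e_mem D.e_b D.e_cent hl hy hyK hxm hxO hxy
  refine hp1 ?_
  have : p = 1 := by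
    calc p = g * x * g⁻¹ := by rw [hx]; group
      _ = 1 := by rw [hx1, mul_one, mul_inv_cancel]
  rw [show (⟨p, hpK⟩ : K) = 1 from Subtype.ext this, map_one]

theorem Dat.refl_mem_P {s : G} (hs : E.Refl s) : s ∈ P :=
  D.cfg.involution_mem_P hL (v := ⟨s, D.S_le hL hpsl hs.1⟩) (Subtype.ext hs.sq)
    (D.refl_inner hL hpsl hs)

theorem Dat.S_le_P : (E.S : Subgroup G) ≤ P := by
  intro s hs
  by_cases hr' : s ∈ zpowers E.d.r
  · have hr1 : E.Refl (E.d.r * E.d.a) := ⟨mul_mem E.d.r_mem E.d.a_mem,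
      E.d.mul_refl (mem_zpowers _) E.d.a_notMem⟩
    have h1 : E.d.r ∈ P := by
      have := mul_mem (D.refl_mem_P hL hpsl hr1) (D.refl_mem_P hL hpsl E.refl_a)
      rwa [mul_assoc, E.d.sq, mul_one] at this
    exact zpowers_le.2 h1 hr'
  · exact D.refl_mem_P hL hpsl ⟨hs, hr'⟩

/-- Inverted elements are determined by their image in the top. -/
theorem Dat.eq_of_inverted {s z z' : G} (hs : s ∈ P) (hsq : s * s = 1) (hz : z ∈ K) (hz' : z' ∈ K)
    (hzo : Odd (orderOf z)) (h : s * z * s = z⁻¹) (h' : s * z' * s = z'⁻¹)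
    (he : bar K ⟨z, hz⟩ = bar K ⟨z', hz'⟩) : z = z' := by
  set o := z⁻¹ * z' with ho
  have hoO : o ∈ GW.coreIn K :=
    (bar_eq_one (x := (⟨z, hz⟩ : K)⁻¹ * ⟨z', hz'⟩)).1 (by rw [map_mul, map_inv, he, inv_mul_cancel])
  have hso : s * o * s = o := by rw [D.cfg.commute_P hs hoO, mul_assoc, hsq, mul_one]
  have hz'e : z' = z * o := by rw [ho, mul_inv_cancel_left]
  have h1 : z⁻¹ * o = o⁻¹ * z⁻¹ := by
    calc z⁻¹ * o = (s * z * s) * (s * o * s) := by rw [h, hso]
      _ = s * (z * o) * s := by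
          rw [show (s * z * s) * (s * o * s) = s * z * (s * s) * o * s by group, hsq]; group
      _ = o⁻¹ * z⁻¹ := by rw [← hz'e, h', hz'e, mul_inv_rev]
  have ho1 : o = 1 := CfsgLib.RankOneInvol.eq_one_of_conj_eq_inv (g := z⁻¹)
    (by rwa [orderOf_inv]) (CfsgLib.RankOneInvol.odd_orderOf_of_mem (odd_card_coreIn K) hoO)
    (by rw [inv_inv, h1, inv_mul_cancel_right])
  rw [hz'e, ho1, mul_one]

/-- `|U ∩ K| ≤ |X_s| |T|`. -/
theorem Dat.card_UK {s : G} (hs : E.Refl s) : Nat.card ↥(E.U ⊓ K) ≤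
    Nat.card (E.X s) * Nat.card (Field.torus L (bar K ⟨E.t, D.cfg.tK⟩)) := by
  classical
  have hodd : Odd (Nat.card ↥(E.U ⊓ K)) := E.odd_card_U.of_dvd_nat (card_dvd_of_le inf_le_left)
  have hsK := D.S_le hL hpsl hs.1
  have hn : ∀ w ∈ E.U ⊓ K, s * w * s ∈ E.U ⊓ K := fun w hw => by
    refine ⟨?_, mul_mem (mul_mem hsK hw.2) hsK⟩
    have := E.conj_mem_U hs.mem_H hw.1
    rwa [hs.inv] at this
  have hdec : ∀ a : ↥(E.U ⊓ K), ∃ (c : E.X s) (τ : Field.torus L (bar K ⟨E.t, D.cfg.tK⟩)) (z : G)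
      (hz : z ∈ E.U ⊓ K), s * z * s = z⁻¹ ∧ (a : G) = c * z ∧
        (τ : K ⧸ Cfsg.oddCore K) = bar K ⟨z, hz.2⟩ := fun a => by
    obtain ⟨c, z, hc, hct, hz, hzt, e'⟩ :=
      CfsgLib.RankOneInvol.exists_fixed_mul_inverted hodd hs.sq hn a.2
    obtain ⟨h1, h2⟩ := E.mem_U.1 hc.1
    obtain ⟨h3, h4⟩ := E.mem_U.1 hz.1
    have hcs : c * s = s * c := by
      calc c * s = s * c * s * s := by rw [hct]
        _ = s * c := by rw [mul_assoc, hs.sq, mul_one]
    exact ⟨⟨c, hs.mem_X.2 ⟨h1, hcs, h2⟩⟩,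
      ⟨_, D.cfg.bar_mem_torus hL hpsl hsK hs.sq (z := ⟨z, hz.2⟩) h3 hzt h4⟩, z, hz, hzt, e', rfl⟩
  choose c τ z hz hzt hdec' hτ using hdec
  rw [← Nat.card_prod]
  refine Nat.card_le_card_of_injective (fun a => (c a, τ a)) fun a a' hh => ?_
  obtain ⟨h1, h2⟩ := Prod.mk.injEq .. ▸ hh
  refine Subtype.ext ?_
  rw [hdec' a, hdec' a', h1]
  congr 1
  refine D.eq_of_inverted hL hpsl (D.refl_mem_P hL hpsl hs) hs.sq (hz a).2 (hz a').2
    (E.mem_U.1 (hz a).1).2 (hzt a) (hzt a') ?_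
  rw [← hτ a, ← hτ a', h2]

theorem Dat.card_HK :
    Nat.card ↥(E.H ⊓ K) = Nat.card ↥(E.U ⊓ K) * Nat.card (E.S : Subgroup G) := by
  rw [← Nat.card_prod]
  refine (Nat.card_congr (Equiv.ofBijective
    (fun p : ↥(E.U ⊓ K) × (E.S : Subgroup G) => (⟨p.1 * p.2, mul_mem (E.U_le_H p.1.2.1)
      (E.S_le_H p.2.2), mul_mem p.1.2.2 (D.S_le hL hpsl p.2.2)⟩ : ↥(E.H ⊓ K)))
    ⟨fun p q h => ?_, fun h => ?_⟩)).symm
  · obtain ⟨h1, h2⟩ := E.mul_inj p.1.2.1 q.1.2.1 p.2.2 q.2.2 (congrArg Subtype.val h)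
    exact Prod.ext (Subtype.ext h1) (Subtype.ext h2)
  · obtain ⟨x, hx, s, hs, e'⟩ := E.exists_mul h.2.1
    have hxK : x ∈ K := by
      rw [show x = (h : G) * s⁻¹ by rw [e', mul_inv_cancel_right]]
      exact mul_mem h.2.2 (inv_mem (D.S_le hL hpsl hs))
    exact ⟨⟨⟨x, hx, hxK⟩, ⟨s, hs⟩⟩, Subtype.ext e'.symm⟩

/-- `ρ = |H : H ∩ K|` is at most `r + 1`. -/
theorem Dat.relIndex_le : K.relIndex E.H ≤ r + 1 := by
  classical
  haveI := Fact.mk D.cfg.prime
  set T := Field.torus L (bar K ⟨E.t, D.cfg.tK⟩)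
  haveI := hpsl.isCyclic_torus D.cfg.orderOf_bar_t
  haveI : Fintype T := Fintype.ofFinite _
  set W := {a : G // a ∈ E.R r ∧ a ^ r = 1}
  have hdec : ∀ a : W, ∃ (c : zpowers e) (τ : {τ : T // τ ^ r = 1}) (z : G) (hz : z ∈ E.R r),
      z ∈ P ∧ b * z * b = z⁻¹ ∧ a.1 = c * z ∧
        ((τ : T) : K ⧸ Cfsg.oddCore K) = bar K ⟨z, D.cfg.R_le hz⟩ := fun a => by
    obtain ⟨c, z, hc, hcO, hz, hzP, hzb, e', hT⟩ := D.cfg.R_decomp hL hpsl a.2.1
    have hcz : Commute c z := (D.cfg.commute_P hzP hcO).symm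
    have h1 : c ^ r * z ^ r = 1 := by rw [← hcz.mul_pow, ← e', a.2.2]
    have hcb : Commute c b := (D.cfg.commute_P D.cfg.b_mem hcO).symm
    have hzr : z ^ r = 1 := by
      have h2 : Commute (z ^ r) b := by
        rw [eq_inv_of_mul_eq_one_right h1]
        exact (hcb.pow_left r).inv_left
      have h3 : b * z ^ r * b⁻¹ = (z ^ r)⁻¹ := by
        rw [← conj_pow, D.cfg.refl.inv, hzb, inv_pow]
      rw [← h2.eq, mul_inv_cancel_right] at h3
      refine CfsgLib.RankOneInvol.eq_one_of_mem_of_sq D.cfg.odd_R (pow_mem hz r) ?_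
      nth_rw 1 [h3]
      exact inv_mul_cancel _
    rw [hzr, mul_one] at h1
    have hbz : bar K ⟨z, D.cfg.R_le hz⟩ = bar K ⟨a.1, D.cfg.R_le a.2.1⟩ := by
      rw [show (⟨a.1, D.cfg.R_le a.2.1⟩ : K) = ⟨c, D.cfg.R_le hc⟩ * ⟨z, D.cfg.R_le hz⟩ from
        Subtype.ext e', map_mul,
        bar_eq_one.2 (show ((⟨c, D.cfg.R_le hc⟩ : K) : G) ∈ GW.coreIn K from hcO), one_mul]
    refine ⟨⟨c, D.mem_zpowers_e hL hpsl hc hcO h1⟩,
      ⟨⟨bar K ⟨z, D.cfg.R_le hz⟩, by rw [hbz]; exact hT⟩, Subtype.ext ?_⟩, z, hz, hzP, hzb, e', rfl⟩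
    show bar K ⟨z, D.cfg.R_le hz⟩ ^ r = 1
    rw [← map_pow, show (⟨z, D.cfg.R_le hz⟩ : K) ^ r = 1 from Subtype.ext hzr, map_one]
  choose c τ z hz hzP hzb hdec' hτ using hdec
  have hW : Nat.card W ≤ r * r := by
    have h1 : Nat.card {τ : T // τ ^ r = 1} ≤ r := by
      rw [Nat.card_eq_fintype_card, Fintype.card_subtype]
      exact IsCyclic.card_pow_eq_one_le D.cfg.prime.pos
    calc Nat.card W ≤ Nat.card (zpowers e × {τ : T // τ ^ r = 1}) := by
          refine Nat.card_le_card_of_injective (fun a => (c a, τ a)) fun a a' hh => ?_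
          obtain ⟨h2, h3⟩ := Prod.mk.injEq .. ▸ hh
          refine Subtype.ext ?_
          rw [hdec' a, hdec' a', h2]
          congr 1
          refine D.eq_of_inverted hL hpsl D.cfg.b_mem D.cfg.refl.sq (D.cfg.R_le (hz a))
            (D.cfg.R_le (hz a')) (CfsgLib.RankOneInvol.odd_orderOf_of_mem D.cfg.odd_R (hz a))
            (hzb a) (hzb a') ?_
          rw [← hτ a, ← hτ a', h3]
      _ ≤ r * r := by
          rw [Nat.card_prod, Nat.card_zpowers, D.orderOf_e]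
          exact Nat.mul_le_mul_left r h1
  haveI : Fintype W := Fintype.ofFinite _
  haveI : Fintype (zpowers e) := Fintype.ofFinite _
  let one : W := ⟨1, one_mem _, one_pow r⟩
  have her : e ^ r = 1 := D.orderOf_e ▸ pow_orderOf_eq_one e
  let f : (E.H ⧸ K.subgroupOf E.H) × {a : zpowers e // a ≠ 1} → {a : W // a ≠ one} := fun p =>
    ⟨⟨((p.1.out : E.H) : G) * (p.2.1 : G) * ((p.1.out : E.H) : G)⁻¹,
      conj_mem_pCoreIn E p.1.out.2 (zpowers_le.2 D.e_mem p.2.1.2), by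
        obtain ⟨i, hi⟩ := mem_zpowers_iff.1 p.2.1.2
        rw [conj_pow, ← hi, ← zpow_natCast, ← zpow_mul, mul_comm, zpow_mul, zpow_natCast, her,
          one_zpow, mul_one, mul_inv_cancel]⟩,
      fun e' => p.2.2 (Subtype.ext (conj_eq_one_iff.1 (congrArg Subtype.val e')))⟩
  have hf : Function.Injective f := by
    rintro ⟨q1, a1⟩ ⟨q2, a2⟩ hh
    have hh' := congrArg (fun w => w.1.1) hh
    simp only [f] at hh'
    set u := ((q2.out : E.H) : G)⁻¹ * ((q1.out : E.H) : G)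
    have hu : u * (a1.1 : G) * u⁻¹ = a2.1 := by
      calc u * (a1.1 : G) * u⁻¹ = ((q2.out : E.H) : G)⁻¹ *
            (((q1.out : E.H) : G) * (a1.1 : G) * ((q1.out : E.H) : G)⁻¹) * ((q2.out : E.H) : G) := by
            simp only [u]; group
        _ = a2.1 := by rw [hh']; group
    have hgen : zpowers (a1.1 : G) = zpowers e := by
      refine eq_of_le_of_card_ge (zpowers_le.2 a1.1.2) (le_of_eq ?_)
      rw [Nat.card_zpowers, Nat.card_zpowers, D.orderOf_e]
      refine (orderOf_eq_prime ?_ fun e' => a1.2 (Subtype.ext e')).symm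
      obtain ⟨i, hi⟩ := mem_zpowers_iff.1 a1.1.2
      rw [← hi, ← zpow_natCast, ← zpow_mul, mul_comm, zpow_mul, zpow_natCast, her, one_zpow]
    have huK : u ∈ K := D.e_norm (hgen ▸ mem_normalizer_of_conj (hgen.symm ▸ hu.symm ▸ a2.1.2))
    obtain rfl : q1 = q2 := by
      have h1 : ((q2.out : E.H) : E.H ⧸ K.subgroupOf E.H) = (q1.out : E.H) :=
        QuotientGroup.eq.2 (mem_subgroupOf.2 huK)
      rw [QuotientGroup.out_eq', QuotientGroup.out_eq'] at h1
      exact h1.symm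
    have h2 : (a1.1 : G) = a2.1 := mul_left_cancel (mul_right_cancel hh')
    rw [show a1 = a2 from Subtype.ext (Subtype.ext h2)]
  have hcard := Nat.card_le_card_of_injective f hf
  rw [Nat.card_prod, ← index_eq_card] at hcard
  change K.relIndex E.H * _ ≤ _ at hcard
  rw [Nat.card_eq_fintype_card (α := {a : zpowers e // a ≠ 1}),
    Nat.card_eq_fintype_card (α := {a : W // a ≠ one}), Fintype.card_subtype_compl,
    Fintype.card_subtype_compl, Fintype.card_subtype_eq, Fintype.card_subtype_eq,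
    ← Nat.card_eq_fintype_card, ← Nat.card_eq_fintype_card, Nat.card_zpowers, D.orderOf_e] at hcard
  refine Nat.le_of_mul_le_mul_right (hcard.trans ?_)
    (show 0 < r - 1 by have := D.cfg.prime.two_le; omega)
  calc Nat.card W - 1 ≤ r * r - 1 := Nat.sub_le_sub_right hW 1
    _ = (r + 1) * (r - 1) := by rw [← Nat.mul_self_sub_mul_self_eq r 1]

/-- The conjugates of `t` in `P` lie outside `K` after translation by `C(t) - K`. -/
theorem Dat.count : 1 + (K.relIndex E.H - 1) * E.H.relIndex P ≤ K.index := by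
  classical
  haveI : Fintype (E.H ⧸ K.subgroupOf E.H) := Fintype.ofFinite _
  let q0 : E.H ⧸ K.subgroupOf E.H := ((1 : E.H) : E.H ⧸ K.subgroupOf E.H)
  let f : Option ((P ⧸ E.H.subgroupOf P) × {q : E.H ⧸ K.subgroupOf E.H // q ≠ q0}) → G ⧸ K := fun
    | none => ((1 : G) : G ⧸ K)
    | some (a, q) => ((((a.out : P) : G) * ((q.1.out : E.H) : G) : G) : G ⧸ K)
  have hout : ∀ q : {q : E.H ⧸ K.subgroupOf E.H // q ≠ q0}, ((q.1.out : E.H) : G) ∉ K := fun q hq =>
    q.2 (by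
      rw [← QuotientGroup.out_eq' q.1]
      exact QuotientGroup.eq.2 (mem_subgroupOf.2 (by simpa using inv_mem hq)))
  have hf : Function.Injective f := by
    intro x y hxy
    rcases x with - | ⟨a, q⟩ <;> rcases y with - | ⟨a', q'⟩
    · rfl
    · simp only [f, QuotientGroup.eq, inv_one, one_mul] at hxy
      exact absurd ((mul_mem_cancel_left (D.cfg.P_le (a'.out : P).2)).1 hxy) (hout q')
    · simp only [f, QuotientGroup.eq, mul_one, inv_mem_iff] at hxy
      exact absurd ((mul_mem_cancel_left (D.cfg.P_le (a.out : P).2)).1 hxy) (hout q)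
    · simp only [f, QuotientGroup.eq] at hxy
      set p1 : G := ((a.out : P) : G)
      set p2 : G := ((a'.out : P) : G)
      set h1 : G := ((q.1.out : E.H) : G)
      set h2 : G := ((q'.1.out : E.H) : G)
      set p := p2⁻¹ * p1 with hp
      have hpP : p ∈ P := mul_mem (inv_mem (a'.out : P).2) (a.out : P).2
      set k := (p1 * h1)⁻¹ * (p2 * h2)
      have hph : p * h1 = h2 * k⁻¹ := by simp only [k, hp]; group
      set t' := p * E.t * p⁻¹ with ht'
      have ht'P : t' ∈ P := mul_mem (mul_mem hpP D.cfg.t_mem) (inv_mem hpP)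
      have hh1t : h1⁻¹ * E.t * h1 = E.t := by
        rw [mul_assoc, ← E.mem_H.1 (q.1.out : E.H).2, inv_mul_cancel_left]
      have hconj : h2⁻¹ * t' * h2 = k⁻¹ * E.t * k⁻¹⁻¹ := by
        calc h2⁻¹ * t' * h2 = h2⁻¹ * (p * h1) * (h1⁻¹ * E.t * h1) * (p * h1)⁻¹ * h2 := by
              rw [ht']; group
          _ = k⁻¹ * E.t * k⁻¹⁻¹ := by rw [hph, hh1t]; group
      have hvP : h2⁻¹ * t' * h2 ∈ P := hconj ▸ D.cfg.P_conj (inv_mem hxy) D.cfg.t_mem
      have hye := conj_mem_pCoreIn E (q'.1.out : E.H).2 D.e_mem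
      have het' : (h2 * e * h2⁻¹) * t' = t' * (h2 * e * h2⁻¹) := by
        have := Setup.commute_conj (g := h2) (D.cfg.commute_P hvP (D.e_core hL hpsl)).symm
        simpa [mul_assoc] using this
      have hnotO : h2 * e * h2⁻¹ ∉ GW.coreIn K := fun hh =>
        hout q' (D.mem_K hL hpsl (q'.1.out : E.H).2 hh)
      obtain ⟨c, z, -, -, -, -, -, -, hT⟩ := D.cfg.R_decomp hL hpsl hye
      have ht'2 : t' * t' = 1 := by
        rw [ht', show p * E.t * p⁻¹ * (p * E.t * p⁻¹) = p * (E.t * E.t) * p⁻¹ by group, E.t_sq,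
          mul_one, mul_inv_cancel]
      have ht'K : t' ∈ K := D.cfg.P_le ht'P
      have hbar := hpsl.eq_of_commute_torus D.cfg.orderOf_bar_t
        (D.cfg.orderOf_bar_invol (v := ⟨t', ht'K⟩) (Subtype.ext ht'2) fun e' =>
          E.t_ne_one (conj_eq_one_iff.1 (congrArg Subtype.val e')))
        hT (fun e' => hnotO (bar_eq_one.1 e')) (D.cfg.bar_commute (y := ⟨t', ht'K⟩) het')
      have hteq : t' = E.t := congrArg Subtype.val (eq_of_bar (v := (⟨t', ht'K⟩ : K))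
        (w := ⟨E.t, D.cfg.tK⟩) (Subtype.ext ht'2) (Subtype.ext E.t_sq)
        (fun _ ho => D.cfg.commute_P D.cfg.t_mem ho) hbar)
      have hpH : p ∈ E.H := E.mem_H.2 (mul_inv_eq_iff_eq_mul.1 hteq)
      obtain rfl : a = a' := by
        rw [← QuotientGroup.out_eq' a, ← QuotientGroup.out_eq' a', eq_comm, QuotientGroup.eq]
        exact mem_subgroupOf.2 hpH
      obtain rfl : q = q' := by
        apply Subtype.ext
        rw [← QuotientGroup.out_eq' q.1, ← QuotientGroup.out_eq' q'.1, QuotientGroup.eq]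
        refine mem_subgroupOf.2 ?_
        have h' : (p1 * h1)⁻¹ * (p1 * h2) ∈ K := hxy
        rw [mul_inv_rev, mul_assoc, inv_mul_cancel_left] at h'
        exact h'
      rfl
  have h1 := Nat.card_le_card_of_injective f hf
  rw [Finite.card_option, Nat.card_prod, ← index_eq_card, ← index_eq_card,
    Nat.card_eq_fintype_card (α := {q : E.H ⧸ K.subgroupOf E.H // q ≠ q0}),
    Fintype.card_subtype_compl, Fintype.card_subtype_eq, ← Nat.card_eq_fintype_card,
    ← index_eq_card] at h1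
  change E.H.relIndex P * (K.relIndex E.H - 1) + 1 ≤ _ at h1
  rw [add_comm, mul_comm]
  exact h1

/-- The conjugates of `t` in the top are no more than those in `P`. -/
theorem Dat.relIndex_top_le :
    (centralizer ({bar K ⟨E.t, D.cfg.tK⟩} : Set (K ⧸ Cfsg.oddCore K))).relIndex L ≤
      E.H.relIndex P := by
  classical
  set C := centralizer ({bar K ⟨E.t, D.cfg.tK⟩} : Set (K ⧸ Cfsg.oddCore K))
  have hlift : ∀ l : L, ∃ p : P, bar K ⟨(p : G), D.cfg.P_le p.2⟩ = l := fun l => by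
    obtain ⟨p, hp, e'⟩ : (l : K ⧸ Cfsg.oddCore K) ∈ (P.subgroupOf K).map (bar K) := hL ▸ l.2
    exact ⟨⟨p, hp⟩, e'⟩
  choose f hf using hlift
  refine Nat.card_le_card_of_injective
    (fun a : L ⧸ C.subgroupOf L => ((f a.out : P) : P ⧸ E.H.subgroupOf P)) fun a a' hh => ?_
  have h1 := mem_subgroupOf.1 (QuotientGroup.eq.1 hh)
  rw [← QuotientGroup.out_eq' a, ← QuotientGroup.out_eq' a', QuotientGroup.eq]
  refine mem_subgroupOf.2 (mem_centralizer_singleton_iff.2 ?_)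
  rw [Subgroup.coe_mul, Subgroup.coe_inv, ← hf, ← hf, ← map_inv, ← map_mul]
  exact D.cfg.bar_commute (x := (⟨((f a.out : P) : G), D.cfg.P_le (f a.out).2⟩ : K)⁻¹ *
    ⟨((f a'.out : P) : G), D.cfg.P_le (f a'.out).2⟩) (y := ⟨E.t, D.cfg.tK⟩) (E.mem_H.1 h1)

/-- `|S| |T|` divides the order of the centraliser of `t` in the top. -/
theorem Dat.dvd_cent : Nat.card (E.S : Subgroup G) *
    Nat.card (Field.torus L (bar K ⟨E.t, D.cfg.tK⟩)) ∣ Nat.card
      ↥(L ⊓ centralizer ({bar K ⟨E.t, D.cfg.tK⟩} : Set (K ⧸ Cfsg.oddCore K))) := by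
  classical
  set C := L ⊓ centralizer ({bar K ⟨E.t, D.cfg.tK⟩} : Set (K ⧸ Cfsg.oddCore K))
  have hT : Field.torus L (bar K ⟨E.t, D.cfg.tK⟩) ≤ C := fun x hx => by
    obtain ⟨h1, h2, -⟩ := (hpsl.mem_torus D.cfg.orderOf_bar_t).1 hx
    exact ⟨h1, mem_centralizer_singleton_iff.2 h2⟩
  let ι : (E.S : Subgroup G) →* K ⧸ Cfsg.oddCore K :=
    (bar K).comp (inclusion (D.S_le hL hpsl))
  have hι : Function.Injective ι := (injective_iff_map_eq_one _).2 fun x hx =>
    Subtype.ext (E.eq_one_of_mem_U_S (D.cfg.core_le_U (bar_eq_one.1 hx)) x.2)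
  have hS : ι.range ≤ C := by
    rintro _ ⟨x, rfl⟩
    exact ⟨D.cfg.bar_mem hL (x := inclusion (D.S_le hL hpsl) x) (D.S_le_P hL hpsl x.2),
      mem_centralizer_singleton_iff.2
        (D.cfg.bar_commute (y := ⟨E.t, D.cfg.tK⟩) (E.mem_H.1 (E.S_le_H x.2)))⟩
  refine Nat.Coprime.mul_dvd_of_dvd_of_dvd ?_ ?_ (card_dvd_of_le hT)
  · rw [E.card_S]
    exact (Nat.coprime_two_left.2 (hpsl.odd_card_torus D.cfg.orderOf_bar_t)).pow_left _
  · rw [Nat.card_congr (MonoidHom.ofInjective hι).toEquiv]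
    exact card_dvd_of_le hS

theorem Dat.false : False := by
  classical
  haveI := E.simple
  set tb := bar K ⟨E.t, D.cfg.tK⟩
  set T := Nat.card (Field.torus L tb)
  set ρ := K.relIndex E.H
  set uK := Nat.card ↥(E.U ⊓ K)
  set q := Fintype.card F
  set N := (centralizer ({tb} : Set (K ⧸ Cfsg.oddCore K))).relIndex L
  have htb : orderOf tb = 2 := D.cfg.orderOf_bar_t
  have htL : tb ∈ L := D.cfg.bar_mem hL (x := ⟨E.t, D.cfg.tK⟩) D.cfg.t_mem
  -- `|U| = ρ |U ∩ K|`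
  have hU : Nat.card E.U = ρ * uK := by
    have h1 := relIndex_mul_relIndex ⊥ (E.H ⊓ K) E.H bot_le inf_le_left
    rw [relIndex_bot_left, relIndex_bot_left, inf_comm E.H K, inf_relIndex_right,
      inf_comm K E.H, D.card_HK hL hpsl, E.card_H] at h1
    refine (Nat.eq_of_mul_eq_mul_right (Nat.card_pos (α := (E.S : Subgroup G))) ?_).symm
    rw [← h1]; ring
  -- `ρ`
  have hρodd : Odd ρ := E.odd_card_U.of_dvd_nat ⟨uK, hU⟩
  have hρ1 : ρ ≠ 1 := fun e' => by
    obtain ⟨y, hy, hyK⟩ := exists_out D.cfg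
    exact hyK (relIndex_eq_one.1 e' hy)
  have hρ3 : 3 ≤ ρ := by
    have := Nat.odd_iff.1 hρodd
    omega
  have hρr : ρ ≤ r := by
    have h1 : ρ ≤ r + 1 := D.relIndex_le hL hpsl
    have := Nat.odd_iff.1 hρodd
    have := Nat.odd_iff.1 D.cfg.r_odd
    omega
  have hrT : r ≤ T := Nat.le_of_dvd Nat.card_pos (D.dvd_torus hL hpsl)
  have h4T := hpsl.four_mul_card_torus htb htL
  -- the torus bound
  have hA : ((Nat.card (E.S : Subgroup G) * T : ℕ) : ℤ) ≤ (q : ℤ) + 1 := by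
    have h1 := Nat.le_of_dvd Nat.card_pos (D.dvd_cent hL hpsl)
    have h2 := hpsl.card_centralizer htb htL
    have h3 : ((Nat.card (E.S : Subgroup G) * T : ℕ) : ℤ) ≤ _ := Int.ofNat_le.2 h1
    rw [h2] at h3
    refine h3.trans ?_
    rcases FieldModel.eps_cases q with e' | e' <;> rw [e'] <;> omega
  have hNq : ((q : ℤ)) * ((q : ℤ) - 1) ≤ 2 * (N : ℤ) := by
    have h1 := hpsl.two_mul_relIndex htb htL
    rw [h1]
    refine mul_le_mul_of_nonneg_left ?_ (Int.natCast_nonneg q)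
    rcases FieldModel.eps_cases q with e' | e' <;> rw [e'] <;> omega
  -- the count
  have hcount : 1 + (ρ - 1) * N ≤ K.index := le_trans
    (Nat.add_le_add_left (Nat.mul_le_mul_left _ (D.relIndex_top_le hL hpsl)) 1) (D.count hL hpsl)
  have hK : uK * Nat.card (E.S : Subgroup G) * N ≤ Nat.card K := by
    have h1 := relIndex_mul_relIndex ⊥ (E.H ⊓ K) K bot_le inf_le_right
    rw [relIndex_bot_left, relIndex_bot_left, inf_relIndex_right, D.card_HK hL hpsl] at h1
    rw [← h1]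
    refine Nat.mul_le_mul_left _ ((D.relIndex_top_le hL hpsl).trans ?_)
    exact relIndex_le_of_le_right D.cfg.P_le index_ne_zero_of_finite
  have hlow : uK * Nat.card (E.S : Subgroup G) * N * (1 + (ρ - 1) * N) ≤ Nat.card G := by
    rw [← K.card_mul_index]
    exact Nat.mul_le_mul hK hcount
  -- the order formula
  have hperf : E.d.k = 0 → commutator G = ⊤ := fun _ => by
    refine ((inferInstance : (commutator G).Normal).eq_bot_or_eq_top).resolve_left fun e' =>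
      E.H_ne_top (eq_top_iff.2 fun x _ => E.mem_H.2 (commutatorElement_eq_one_iff_mul_comm.1
        (mem_bot.1 (e' ▸ commutator_mem_commutator (mem_top x) (mem_top E.t)))))
  obtain ⟨Φ, -, hΦ, hG⟩ := Formula.exists_factor E.S E.d
    (fun x hx => E.exists_conj hx) hperf
  have hra : E.Refl (E.d.r * E.d.a) := ⟨mul_mem E.d.r_mem E.d.a_mem,
    E.d.mul_refl (mem_zpowers _) E.d.a_notMem⟩
  set x1 := Nat.card (Formula.X E.S E.d E.d.a)
  set x2 := Nat.card (Formula.X E.S E.d (E.d.r * E.d.a))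
  set u := Nat.card (core E.d.z)
  have hux : ∀ x : ℕ, 0 < x → uK ≤ x * T → (1 : ℚ) / x ≤ (ρ : ℚ) * T / u := by
    intro x hx hle
    have hu : (u : ℚ) = ρ * uK := by
      rw [show u = Nat.card E.U from rfl, hU]; push_cast; ring
    have hupos : (0 : ℚ) < u := by
      have : 0 < u := Nat.card_pos
      exact_mod_cast this
    have hxpos : (0 : ℚ) < x := by exact_mod_cast hx
    rw [div_le_div_iff₀ hxpos hupos, one_mul, hu]
    have hle' : (uK : ℚ) ≤ x * T := by exact_mod_cast hle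
    calc (ρ : ℚ) * uK ≤ ρ * (x * T) := mul_le_mul_of_nonneg_left hle' (by positivity)
      _ = ρ * T * x := by ring
  have hx1 := hux x1 Nat.card_pos (D.card_UK hL hpsl E.refl_a)
  have hx2 := hux x2 Nat.card_pos (D.card_UK hL hpsl hra)
  have hup : (Nat.card G : ℚ) ≤ 15 / 8 * 2 ^ (3 * E.d.k + 3) * (u : ℚ) ^ 3 *
      (2 * ((ρ : ℚ) * T / u)) ^ 2 := by
    rw [hG]
    refine mul_le_mul ?_ (pow_le_pow_left₀ (by positivity) (by linarith) 2) (by positivity)
      (by positivity)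
    refine mul_le_mul_of_nonneg_right ?_ (by positivity)
    exact mul_le_mul_of_nonneg_right hΦ (by positivity)
  have hlow' : ((uK * Nat.card (E.S : Subgroup G) * N * (1 + (ρ - 1) * N) : ℕ) : ℚ) ≤
      (Nat.card G : ℚ) := by exact_mod_cast hlow
  have h := hlow'.trans hup
  rw [show u = Nat.card E.U from rfl, hU, E.card_S] at h
  push_cast [Nat.cast_sub (show 1 ≤ ρ by omega)] at h
  have huK : (0 : ℚ) < uK := by
    have : 0 < uK := Nat.card_pos
    exact_mod_cast this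
  have hρpos : (0 : ℚ) < ρ := by exact_mod_cast (show 0 < ρ by omega)
  refine final_arith (q := q) (N := N) (A := 2 ^ (E.d.k + 2) * T) (ρ := ρ)
    (by exact_mod_cast hρ3) ?_ ?_ (by positivity) ?_ ?_
  · have : 4 * ρ ≤ q + 1 := by omega
    exact_mod_cast this
  · rw [E.card_S] at hA
    exact_mod_cast hA
  · exact_mod_cast hNq
  refine le_of_mul_le_mul_left ?_ (mul_pos huK (show (0 : ℚ) < 2 ^ (E.d.k + 2) by positivity))
  rw [show (2 : ℚ) ^ (3 * E.d.k + 3) = 2 ^ (2 * E.d.k + 1) * 2 ^ (E.d.k + 2) by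
    rw [← pow_add]; congr 1; ring] at h
  have e1 : (2 : ℚ) ^ (2 * E.d.k + 1) = (2 ^ (E.d.k + 2)) ^ 2 / 8 := by
    rw [← pow_mul, eq_div_iff (by norm_num), show (8 : ℚ) = 2 ^ 3 by norm_num, ← pow_add]
    congr 1
    ring
  rw [e1] at h
  generalize (2 : ℚ) ^ (E.d.k + 2) = Z at h ⊢
  have e2 : 15 / 8 * (Z ^ 2 / 8 * Z) * ((ρ : ℚ) * uK) ^ 3 *
      (2 * ((ρ : ℚ) * T / ((ρ : ℚ) * uK))) ^ 2 * 16 =
      (uK : ℚ) * Z * (15 * (ρ : ℚ) ^ 3 * (Z * T) ^ 2) := by
    field_simp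
    ring
  calc (uK : ℚ) * Z * (16 * N * (1 + ((ρ : ℚ) - 1) * N))
      = (uK : ℚ) * Z * N * (1 + ((ρ : ℚ) - 1) * N) * 16 := by ring
    _ ≤ _ := mul_le_mul_of_nonneg_right h (by norm_num)
    _ = _ := e2

end CfsgLib.GW.Max31.Le

namespace CfsgLib.GW.Max31

open Subgroup

universe u

variable {G : Type u} [Group G] [Finite G]

/-- Step 3.1 (d): `O_r(C(t))` is not contained in the maximal subgroup of a `Central` datum. -/
theorem false_of_le (E : Setup G) (hH : IsCoatom E.H) (hU : E.U ≠ ⊥) {b : G} (hb : E.Refl b)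
    {r : ℕ} (hr : r.Prime) (hr2 : r ≠ 2) (hR : ¬ E.R r ≤ E.X b) (C : Central E b r)
    (hle : E.R r ≤ C.K) : False := by
  have hcent : centralizer ({C.e} : Set G) ≤ C.K := fun x hx => C.normalizer_le
    (Le.mem_normalizer_of_conj (by
      rw [mem_centralizer_singleton_iff.1 hx, mul_inv_cancel_right]
      exact mem_zpowers _))
  have hfit : ∀ m : ℕ, m.Prime → pCoreIn m E.H ≤ C.K := fun m hm => by
    by_cases hmr : m = r
    · subst hmr; exact hle
    · exact fun w hw => hcent (mem_centralizer_singleton_iff.2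
        (Le.pCoreIn_commute E hm hr hmr hw C.e_mem.1))
  have hc : Le.Cfg E b r C.K C.P :=
    { hH := hH
      prime := hr
      ne_two := hr2
      refl := hb
      not_le := hR
      coatom := C.isCoatom
      P_le := C.P_le
      perfect := C.perfect
      t_mem := C.t_mem
      b_mem := C.b_mem
      fit_le := hfit
      centre := C.core_commute
      le_P := C.le_P }
  obtain ⟨L, F, i1, i2, hpsl, hL⟩ := hc.exists_psl
  exact Le.Dat.false
    (D := ⟨hc, hU, C.orderOf_e, C.e_mem.1, (hb.mem_X.1 C.e_mem.2).2.1, hcent, C.normalizer_le⟩)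
    hL hpsl

end CfsgLib.GW.Max31
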