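import Cfsg.Agent.Lib.GW.Final
import Cfsg.Agent.Lib.GW.Max31Le
import Cfsg.Agent.Lib.GW.ComponentFree
import Cfsg.Agent.Lib.GW.CaseOne

/-!
Gorenstein–Walter: the classification of groups with dihedral Sylow 2-subgroups.
-/

set_option autoImplicit false

namespace CfsgLib.GW.Done

open Subgroup

universe u

theorem caseOneHyp : CaseOneHyp.{u} := fun G _ _ E M hM hHM hne hG1 =>
  CaseOne.isPSLOrA7_of_ne E hM hHM hne hG1

theorem isPSLOrA7 (G : Type u) [Group G] [Finite G] (E : Setup G) : IsPSLOrA7 G :=
  isPSLOrA7_setup (fun _ _ _ E hH hU r hr hr2 b hb hR C =>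
    fun hle => Max31.false_of_le E hH hU hb hr hr2 hR C hle) caseOneHyp G E

/-- The Gorenstein–Walter theorem. -/
theorem classification : CfsgLib.GWCons.RankOneCover.DihedralClassification.{u} :=
  Main.classification isPSLOrA7

end CfsgLib.GW.Done
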