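import Cfsg.Agent.Lib.GW.FieldBase

/-!
Gorenstein–Walter: facts on the centraliser of an inner involution `t` of a group over `PSL₂(q)`
with dihedral Sylow 2-subgroups, in particular on odd field automorphisms.
-/

set_option autoImplicit false
set_option linter.unusedSectionVars false
set_option linter.style.haveILetI false

open Subgroup

namespace CfsgLib.GW.Field

open CfsgLib.PSL2 CfsgLib.AutPSL CfsgLib.GW.TopModel CfsgLib.GW.FieldModel CfsgLib.FieldGalois

universe u

variable {Y : Type u} [Group Y] {F : Type*} [Field F] [Fintype F] {L : Subgroup Y}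

local notation "PSL" => Matrix.ProjectiveSpecialLinearGroup (Fin 2) F
local notation "PGL" => Matrix.ProjGenLinGroup (Fin 2) F

theorem four_mul_dvd {d : ℕ} (hd : Odd d) {N : ℤ} (h1 : (d : ℤ) ∣ N) (h4 : (4 : ℤ) ∣ N) :
    4 * (d : ℤ) ∣ N := by
  refine IsCoprime.mul_dvd ?_ h4 h1
  rw [show (4 : ℤ) = ((4 : ℕ) : ℤ) from rfl, Nat.isCoprime_iff_coprime,
    show (4 : ℕ) = 2 ^ 2 from rfl]
  exact Nat.Coprime.pow_left 2 (Nat.coprime_two_left.2 hd)

theorem conj_iterate {x w z : Y} (hconj : x * w * x⁻¹ = w * z) (hfix : x * z * x⁻¹ = z) (n : ℕ) :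
    x ^ n * w * (x ^ n)⁻¹ = w * z ^ n := by
  induction n with
  | zero => simp
  | succ n ih =>
    calc x ^ (n + 1) * w * (x ^ (n + 1))⁻¹ = x * (x ^ n * w * (x ^ n)⁻¹) * x⁻¹ := by
          rw [pow_succ']; group
      _ = (x * w * x⁻¹) * (x * z ^ n * x⁻¹) := by rw [ih]; group
      _ = w * z ^ (n + 1) := by rw [hconj, ← conj_pow, hfix, pow_succ', mul_assoc]

namespace Psl

variable [Finite Y] (h : Psl L F)
include h

/-! ### Orders -/

theorem eps_four : (4 : ℤ) ∣ (Fintype.card F : ℤ) - eps (Fintype.card F) := four_dvd_sub_eps h.odd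

theorem four_mul_card_torus {t : Y} (ht : orderOf t = 2) (htL : t ∈ L) :
    4 * Nat.card (torus L t) ≤ Fintype.card F + 1 := by
  have := h.three
  have h1 := Int.le_of_dvd ?_
    (four_mul_dvd (h.odd_card_torus ht) (h.card_torus_inner ht htL).1 h.eps_four)
  · rcases eps_cases (Fintype.card F) with e | e <;> rw [e] at h1 <;> omega
  · rcases eps_cases (Fintype.card F) with e | e <;> rw [e] <;> omega

theorem two_mul_card : 2 * (Nat.card L : ℤ) =
    (Fintype.card F : ℤ) * ((Fintype.card F : ℤ) ^ 2 - 1) := by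
  have h1 := card_psl (F := F)
  rw [gcd_eq_two h.odd, ← Nat.card_congr h.e.toEquiv] at h1
  have h3 := congrArg (Nat.cast : ℕ → ℤ) h1
  push_cast [Nat.cast_sub (show 1 ≤ Fintype.card F by have := h.three; omega)] at h3
  rw [h3]; ring

theorem card_centralizer {t : Y} (ht : orderOf t = 2) (htL : t ∈ L) :
    (Nat.card (L ⊓ centralizer ({t} : Set Y) : Subgroup Y) : ℤ) =
      (Fintype.card F : ℤ) - eps (Fintype.card F) := by
  have hi : orderOf (h.e ⟨t, htL⟩) = 2 := by rw [MulEquiv.orderOf_eq, Subgroup.orderOf_mk, ht]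
  have h1 := card_centralizer_involution h.odd hi
  have e : Nat.card (L ⊓ centralizer ({t} : Set Y) : Subgroup Y) =
      Nat.card (centralizer {h.e ⟨t, htL⟩} : Subgroup PSL) := by
    refine Nat.card_congr (Equiv.ofBijective (fun x => ⟨h.e ⟨x.1, x.2.1⟩, ?_⟩) ⟨?_, ?_⟩)
    · rw [mem_centralizer_singleton_iff, ← map_mul, ← map_mul]
      exact congrArg h.e (Subtype.ext (mem_centralizer_singleton_iff.1 x.2.2))
    · intro x y hxy
      exact Subtype.ext (congrArg (fun u : L => (u : Y)) (h.e.injective (congrArg Subtype.val hxy)) :)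
    · rintro ⟨z, hz⟩
      obtain ⟨w, rfl⟩ := h.e.surjective z
      rw [mem_centralizer_singleton_iff, ← map_mul, ← map_mul] at hz
      exact ⟨⟨w, w.2, mem_centralizer_singleton_iff.2
        (congrArg Subtype.val (h.e.injective hz) : (w : Y) * t = t * w)⟩, rfl⟩
  rw [e, h1]
  have := h.three
  have := Nat.odd_iff.1 h.odd
  unfold eps
  split_ifs <;> omega

theorem two_mul_relIndex {t : Y} (ht : orderOf t = 2) (htL : t ∈ L) :
    2 * ((centralizer ({t} : Set Y)).relIndex L : ℤ) =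
      (Fintype.card F : ℤ) * ((Fintype.card F : ℤ) + eps (Fintype.card F)) := by
  have h1 : Nat.card (L ⊓ centralizer ({t} : Set Y) : Subgroup Y) *
      (centralizer ({t} : Set Y)).relIndex L = Nat.card L := by
    rw [inf_comm, ← Subgroup.inf_relIndex_right]
    have := relIndex_mul_relIndex ⊥ (centralizer ({t} : Set Y) ⊓ L) L bot_le inf_le_right
    rwa [relIndex_bot_left, relIndex_bot_left] at this
  have h2 := h.two_mul_card
  rw [← h1] at h2
  push_cast at h2
  rw [h.card_centralizer ht htL] at h2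
  have hne : (Fintype.card F : ℤ) - eps (Fintype.card F) ≠ 0 := by
    have := h.three
    rcases eps_cases (Fintype.card F) with e | e <;> rw [e] <;> omega
  refine mul_left_cancel₀ hne ?_
  calc _ = 2 * (((Fintype.card F : ℤ) - eps (Fintype.card F)) *
        ((centralizer ({t} : Set Y)).relIndex L : ℤ)) := by ring
    _ = _ := h2
    _ = _ := by rcases eps_cases (Fintype.card F) with e | e <;> rw [e] <;> ring

/-! ### The centraliser of a four-group -/

theorem eq_one_of_fp {t b x : Y} (ht : orderOf t = 2) (hb : orderOf b = 2) (hne : t ≠ b)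
    (htb : t * b = b * t) (hxt : x * t = t * x) (hxb : x * b = b * x) (hx : Odd (orderOf x))
    (hfp : h.fp x = 1) : x = 1 := by
  obtain ⟨g, hg⟩ := h.exists_rep hfp
  obtain ⟨M, hd, hM, hrt, -⟩ := h.exists_matrix_rep ht
  obtain ⟨N, hN, hNt, hrb, -⟩ := h.exists_matrix_rep hb
  have h2 := h.two_ne_zero
  have e := sq_eq_one_of_two h2 (pmk_mul_self hM hd) (pmk_ne_one h2 hM hd) (pmk_mul_self hNt hN)
    (pmk_ne_one h2 hNt hN) ((h.commute_rep hrt hrb).1 htb)
    (fun e => hne (h.phi_injective (hrt.trans ((congrArg (aut F) e).trans hrb.symm))))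
    ((h.commute_rep hg hrt).1 hxt) ((h.commute_rep hg hrb).1 hxb)
  rw [← orderOf_eq_one_iff, ← h.orderOf_rep hg]
  rw [← h.orderOf_rep hg] at hx
  exact Nat.eq_one_of_dvd_coprimes (Nat.coprime_two_left.2 hx)
    (orderOf_dvd_of_pow_eq_one (by rw [pow_two]; exact e)) dvd_rfl

theorem eq_one_of_mem {t b x : Y} (ht : orderOf t = 2) (hb : orderOf b = 2) (hne : t ≠ b)
    (htb : t * b = b * t) (hxt : x * t = t * x) (hxb : x * b = b * x) (hx : Odd (orderOf x))
    (hxL : x ∈ L) : x = 1 :=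
  h.eq_one_of_fp ht hb hne htb hxt hxb hx (h.fp_of_mem hxL)

theorem commute_odd {t b x y : Y} (ht : orderOf t = 2) (hb : orderOf b = 2) (hne : t ≠ b)
    (htb : t * b = b * t) (hxt : x * t = t * x) (hxb : x * b = b * x) (hx : Odd (orderOf x))
    (hyt : y * t = t * y) (hyb : y * b = b * y) : x * y = y * x := by
  set z := y⁻¹ * x * y * x⁻¹
  have hzt : z * t = t * z :=
    ((((show Commute y t from hyt).inv_left.mul_left hxt).mul_left hyt).mul_left
      (show Commute x t from hxt).inv_left).eq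
  have hzb : z * b = b * z :=
    ((((show Commute y b from hyb).inv_left.mul_left hxb).mul_left hyb).mul_left
      (show Commute x b from hxb).inv_left).eq
  have hfz : h.fp z = 1 := by
    simp only [z, map_mul, map_inv]
    rw [mul_assoc (h.fp y)⁻¹, (commute_ringAut (h.fp x) (h.fp y)).eq, ← mul_assoc,
      inv_mul_cancel, one_mul, mul_inv_cancel]
  obtain ⟨g, hg⟩ := h.exists_rep hfz
  obtain ⟨M, hd, hM, hrt, -⟩ := h.exists_matrix_rep ht
  obtain ⟨N, hN, hNt, hrb, -⟩ := h.exists_matrix_rep hb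
  have h2 := h.two_ne_zero
  have e := sq_eq_one_of_two h2 (pmk_mul_self hM hd) (pmk_ne_one h2 hM hd) (pmk_mul_self hNt hN)
    (pmk_ne_one h2 hNt hN) ((h.commute_rep hrt hrb).1 htb)
    (fun e => hne (h.phi_injective (hrt.trans ((congrArg (aut F) e).trans hrb.symm))))
    ((h.commute_rep hg hrt).1 hzt) ((h.commute_rep hg hrb).1 hzb)
  have hz2 : z * z = 1 := h.phi_injective (by rw [map_mul, hg, ← map_mul, e, map_one, map_one])
  rw [Involutions.orderOf_eq_two_iff_mul] at ht hb
  -- `z` lies in the four-group, hence commutes with `x`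
  have hzx : x * z = z * x := by
    by_cases h1 : z = 1
    · rw [h1, one_mul, mul_one]
    by_cases h2' : z = t
    · rw [h2']; exact hxt
    by_cases h3 : z = b
    · rw [h3]; exact hxb
    by_cases h4 : z = t * b
    · rw [h4, ← mul_assoc, hxt, mul_assoc, hxb, mul_assoc]
    exact (h.no_eight ht.2 hb.2 hz2 htb hzt.symm hzb.symm ht.1 hb.1 hne h1 h2' h3 h4).elim
  have hconj : y⁻¹ * x * y = z * x := by simp [z, mul_assoc]
  have hn : z ^ orderOf x = 1 := by
    have : (y⁻¹ * x * y) ^ orderOf x = 1 := by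
      conv_lhs => rw [show y⁻¹ * x * y = y⁻¹ * x * y⁻¹⁻¹ by rw [inv_inv]]
      rw [conj_pow, pow_orderOf_eq_one, mul_one, mul_inv_cancel]
    rwa [hconj, (show Commute z x from hzx.symm).mul_pow, pow_orderOf_eq_one, mul_one] at this
  have hz : z = 1 := orderOf_eq_one_iff.1 (Nat.eq_one_of_dvd_coprimes (Nat.coprime_two_left.2 hx)
    (orderOf_dvd_of_pow_eq_one (by rw [pow_two]; exact hz2)) (orderOf_dvd_of_pow_eq_one hn))
  rw [hz, one_mul] at hconj
  calc x * y = y * (y⁻¹ * x * y) := by group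
    _ = y * x := by rw [hconj]

/-- The elements of odd order centralising a four-group form a cyclic group. -/
theorem exists_cyclic_odd {t b : Y} (ht : orderOf t = 2) (hb : orderOf b = 2) (hne : t ≠ b)
    (htb : t * b = b * t) :
    ∃ Φ : Subgroup Y, IsCyclic Φ ∧ Odd (Nat.card Φ) ∧
      ∀ x, x ∈ Φ ↔ x * t = t * x ∧ x * b = b * x ∧ Odd (orderOf x) := by
  let Φ : Subgroup Y :=
    { carrier := {x | x * t = t * x ∧ x * b = b * x ∧ Odd (orderOf x)}
      one_mem' := ⟨by rw [one_mul, mul_one], by rw [one_mul, mul_one], by simp⟩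
      mul_mem' := fun {x y} hx hy => ⟨((show Commute x t from hx.1).mul_left hy.1).eq,
        ((show Commute x b from hx.2.1).mul_left hy.2.1).eq,
        (hx.2.2.mul hy.2.2).of_dvd_nat
          (show Commute x y from
            h.commute_odd ht hb hne htb hx.1 hx.2.1 hx.2.2 hy.1 hy.2.1).orderOf_mul_dvd_mul_orderOf⟩
      inv_mem' := fun {x} hx => ⟨((show Commute x t from hx.1).inv_left).eq,
        ((show Commute x b from hx.2.1).inv_left).eq,
        show Odd (orderOf x⁻¹) by rw [orderOf_inv]; exact hx.2.2⟩ }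
  have hcyc : IsCyclic Φ := by
    haveI := isCyclic_ringAut (F := F)
    refine isCyclic_of_injective (h.fp.comp Φ.subtype) ((injective_iff_map_eq_one _).2 fun x hx => ?_)
    exact Subtype.ext (h.eq_one_of_fp ht hb hne htb x.2.1 x.2.2.1 x.2.2.2 hx)
  refine ⟨Φ, hcyc, ?_, fun x => Iff.rfl⟩
  obtain ⟨g, hg⟩ := hcyc.exists_ofOrder_eq_natCard
  rw [← hg, ← Subgroup.orderOf_coe]
  exact g.2.2.2

/-- Odd elements centralising a four-group of `L` are conjugate to field automorphisms. -/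
theorem exists_field_rep {t b x : Y} (ht : orderOf t = 2) (hb : orderOf b = 2) (hne : t ≠ b)
    (htb : t * b = b * t) (hxt : x * t = t * x) (hxb : x * b = b * x) (hx : Odd (orderOf x)) :
    ∃ (k : Matrix.GeneralLinearGroup (Fin 2) F) (σ : F ≃+* F), Odd (orderOf σ) ∧
      orderOf σ = orderOf x ∧
      ∀ z : L, x * z = z * x ↔
        fieldAut σ ((conjAut k)⁻¹ (h.e z)) = (conjAut k)⁻¹ (h.e z) := by
  obtain ⟨M, hd, hM, hrt, -⟩ := h.exists_matrix_rep ht
  obtain ⟨N, hN, hNt, hrb, -⟩ := h.exists_matrix_rep hb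
  have h2 := h.two_ne_zero
  obtain ⟨k, σ, hσ, hk⟩ := exists_field_form h2 (τ := h.phi x)
    (by rw [orderOf_injective _ h.phi_injective]; exact hx)
    (pmk_mul_self hM hd) (pmk_ne_one h2 hM hd) (pmk_mul_self hNt hN) (pmk_ne_one h2 hNt hN)
    ((h.commute_rep hrt hrb).1 htb)
    (fun e => hne (h.phi_injective (hrt.trans ((congrArg (aut F) e).trans hrb.symm))))
    (by rw [← hrt]; exact (show Commute x t from hxt).map h.phi)
    (by rw [← hrb]; exact (show Commute x b from hxb).map h.phi)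
  refine ⟨k, σ, hσ, ?_, fun z => ?_⟩
  · rw [← orderOf_injective _ h.phi_injective x, hk, orderOf_conj_field]
  · rw [h.commute_iff, hk, MulAut.mul_apply, MulAut.mul_apply]
    constructor
    · intro e
      have := congrArg ((conjAut k)⁻¹ : MulAut PSL) e
      rwa [MulAut.inv_apply_self] at this
    · intro e
      rw [e, MulAut.apply_inv_self]

/-- Torus elements fixed by a field automorphism of order `n` have order dividing `q₀ - ε`. -/
theorem exists_fixed_dvd {t b x : Y} (ht : orderOf t = 2) (hb : orderOf b = 2) (hne : t ≠ b)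
    (htb : t * b = b * t) (htL : t ∈ L) (hxt : x * t = t * x) (hxb : x * b = b * x)
    (hx : Odd (orderOf x)) :
    ∃ q0 : ℕ, Odd q0 ∧ 3 ≤ q0 ∧ Fintype.card F = q0 ^ orderOf x ∧
      ∀ τ ∈ torus L t, x * τ = τ * x → (orderOf τ : ℤ) ∣ (q0 : ℤ) - eps q0 := by
  obtain ⟨k, σ, hσ, hord, hfix⟩ := h.exists_field_rep ht hb hne htb hxt hxb hx
  have hq := natCard_fixedSub σ
  rw [Nat.card_eq_fintype_card, hord] at hq
  have hodd : Odd (Nat.card (fixedSub σ)) := by
    have := h.odd
    rw [hq, Nat.odd_pow_iff (orderOf_pos x).ne'] at this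
    exact this
  have h1 : 1 < Nat.card (fixedSub σ) := Finite.one_lt_card
  refine ⟨_, hodd, by have := Nat.odd_iff.1 hodd; omega, hq, fun τ hτ hc => ?_⟩
  obtain ⟨hτL, hτt, hτo⟩ := (h.mem_torus ht).1 hτ
  have ho : ∀ z : L, orderOf ((conjAut k)⁻¹ (h.e z)) = orderOf (z : Y) := fun z => by
    rw [MulEquiv.orderOf_eq, MulEquiv.orderOf_eq, Subgroup.orderOf_coe]
  have := orderOf_dvd_fixed h.two_ne_zero hσ (a := (conjAut k)⁻¹ (h.e ⟨t, htL⟩))
    (z := (conjAut k)⁻¹ (h.e ⟨τ, hτL⟩)) (by rw [ho]; exact ht) ?_ (by rw [ho]; exact hτo)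
    ((hfix _).1 hxt) ((hfix _).1 hc)
  · rwa [ho] at this
  · exact ((show Commute (⟨τ, hτL⟩ : L) ⟨t, htL⟩ from Subtype.ext hτt).map h.e.toMonoidHom).map
      ((conjAut k)⁻¹ : MulAut PSL).toMonoidHom

/-- An element of the centraliser of a four-group of prime order dividing the torus. -/
theorem field_element {t b x : Y} (ht : orderOf t = 2) (hb : orderOf b = 2) (hne : t ≠ b)
    (htb : t * b = b * t) (htL : t ∈ L) (hxt : x * t = t * x) (hxb : x * b = b * x) {r : ℕ}
    (hr : r.Prime) (hrT : r ∣ Nat.card (torus L t)) (hxr : orderOf x = r) :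
    r ^ 2 ∣ Nat.card (torus L t) ∧
    (∀ τ ∈ torus L t, τ ^ r = 1 → x * τ = τ * x) ∧
    (∀ τ ∈ torus L t, (∃ j, τ ^ r ^ j = 1) → (x * τ * x⁻¹ * τ⁻¹) ^ r = 1) ∧
    ∀ ω ∈ torus L t, ω ^ r = 1 →
      ∃ τ ∈ torus L t, (∃ j, τ ^ r ^ j = 1) ∧ x * τ * x⁻¹ * τ⁻¹ = ω := by
  haveI : Fact r.Prime := ⟨hr⟩
  haveI := h.isCyclic_torus ht
  have hoT := h.odd_card_torus ht
  have hro : Odd r := hoT.of_dvd_nat hrT
  have hxo : Odd (orderOf x) := hxr ▸ hro
  obtain ⟨g, hg⟩ := IsCyclic.exists_ofOrder_eq_natCard (α := torus L t)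
  rw [← Subgroup.orderOf_coe] at hg
  obtain ⟨a, o, hro', hao⟩ :=
    Nat.exists_eq_pow_mul_and_not_dvd (Nat.card_pos (α := torus L t)).ne' r hr.ne_one
  rw [← hg] at hao
  set z : Y := (g : Y) ^ o
  have hzT : z ∈ torus L t := pow_mem g.2 o
  have ho0 : o ≠ 0 := by rintro rfl; exact hro' (dvd_zero r)
  have hzo : orderOf z = r ^ a := by
    rw [orderOf_pow_of_dvd ho0 ⟨r ^ a, by rw [hao, mul_comm]⟩, hao, Nat.mul_div_cancel _ (by omega)]
  -- every `r`-element of the torus is a power of `z`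
  have hgen : ∀ τ ∈ torus L t, (∃ j, τ ^ r ^ j = 1) → ∃ i : ℕ, τ = z ^ i := by
    rintro τ hτ ⟨j, hj⟩
    have hmem : τ ∈ zpowers (g : Y) := by
      have hle : zpowers (g : Y) = torus L t := Subgroup.eq_of_le_of_card_ge (zpowers_le.2 g.2)
        (by rw [Nat.card_zpowers, hg])
      rw [hle]; exact hτ
    obtain ⟨i, hi⟩ := (isOfFinOrder_of_finite (g : Y)).mem_powers_iff_mem_zpowers.2 hmem
    subst hi
    rw [← pow_mul, ← orderOf_dvd_iff_pow_eq_one, hao] at hj
    obtain ⟨i', rfl⟩ : o ∣ i := ((Nat.Prime.coprime_iff_not_dvd hr).2 hro' |>.symm.pow_right j).dvd_of_dvd_mul_right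
      ((dvd_mul_left o _).trans hj)
    exact ⟨i', pow_mul _ _ _⟩
  have ha : a ≠ 0 := by
    rintro rfl
    rw [pow_zero, one_mul] at hao
    rw [← hg, hao] at hrT
    exact hro' hrT
  -- `x` does not centralise the `r`-part
  have hnfix : x * z ≠ z * x := by
    intro hc
    obtain ⟨q0, hq0, h30, hq, hdvd⟩ := h.exists_fixed_dvd ht hb hne htb htL hxt hxb hxo
    have hd := hdvd z hzT hc
    rw [hzo] at hd
    obtain ⟨S, hS, -, hrS, -⟩ := exists_factor hq0 hro
    rw [← hxr, ← hq] at hS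
    have hr0 : (r : ℤ) ∣ (q0 : ℤ) - eps q0 :=
      (Int.natCast_dvd_natCast.2 (dvd_pow_self r ha)).trans hd
    have h1 : ((r ^ (a + 1) : ℕ) : ℤ) ∣ (Fintype.card F : ℤ) - eps (Fintype.card F) := by
      rw [hS, pow_succ, Nat.cast_mul]
      exact mul_dvd_mul hd (hrS hr0)
    have h2 := (h.card_torus_inner ht htL).2 _ hro.pow h1
    rw [← hg, hao, pow_succ] at h2
    exact hro' (Nat.dvd_of_mul_dvd_mul_left (pow_pos hr.pos a) h2)
  obtain ⟨m, hm⟩ := hgen _ (h.conj_mem_torus ht hxt hzT)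
    ⟨a, by rw [conj_pow, ← hzo, pow_orderOf_eq_one, mul_one, mul_inv_cancel]⟩
  have hiter : ∀ n : ℕ, x ^ n * z * (x ^ n)⁻¹ = z ^ (m ^ n) := by
    intro n
    induction n with
    | zero => simp
    | succ n ih =>
      calc x ^ (n + 1) * z * (x ^ (n + 1))⁻¹ = x * (x ^ n * z * (x ^ n)⁻¹) * x⁻¹ := by
            rw [pow_succ']; group
        _ = z ^ (m ^ (n + 1)) := by rw [ih, ← conj_pow, hm, ← pow_mul, pow_succ']
  have hmr : ((r ^ a : ℕ) : ℤ) ∣ (m : ℤ) ^ r - 1 := by
    have := hiter r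
    rw [show x ^ r = 1 from hxr ▸ pow_orderOf_eq_one x, one_mul, inv_one, mul_one] at this
    have h' : z ^ (((m : ℤ) ^ r) - 1) = 1 := by
      rw [zpow_sub, zpow_one, ← Nat.cast_pow, zpow_natCast, ← this, mul_inv_cancel]
    rw [← hzo]
    exact orderOf_dvd_iff_zpow_eq_one.2 h'
  have hm1 : (r : ℤ) ∣ (m : ℤ) - 1 := by
    rw [← ZMod.intCast_zmod_eq_zero_iff_dvd]
    have h0 : ((((m : ℤ) ^ r - 1 : ℤ)) : ZMod r) = 0 := by
      rw [ZMod.intCast_zmod_eq_zero_iff_dvd]
      exact (Int.natCast_dvd_natCast.2 (dvd_pow_self r ha)).trans hmr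
    push_cast at h0 ⊢
    rwa [ZMod.pow_card] at h0
  have hfz : ∀ i : ℕ, x * z ^ i * x⁻¹ * (z ^ i)⁻¹ = z ^ (((m : ℤ) - 1) * i) := fun i => by
    rw [← conj_pow, hm, ← pow_mul, ← zpow_natCast, ← zpow_natCast, ← zpow_neg, ← zpow_add]
    congr 1; push_cast; ring
  have hc0 : (z ^ ((m : ℤ) - 1)) ^ r = 1 := by
    rw [← zpow_natCast, ← zpow_mul, ← orderOf_dvd_iff_zpow_eq_one, hzo]
    exact dvd_mult hr hro hm1 hmr
  have hc1 : z ^ ((m : ℤ) - 1) ≠ 1 := fun e => hnfix (by
    have := hfz 1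
    rw [Nat.cast_one, mul_one, e, pow_one, mul_inv_eq_one] at this
    exact mul_inv_eq_iff_eq_mul.1 this)
  refine ⟨?_, ?_, ?_, ?_⟩
  · have ha2 : 2 ≤ a := by
      by_contra hlt
      have : a = 1 := by omega
      subst this
      refine hc1 (orderOf_dvd_iff_zpow_eq_one.1 ?_)
      rw [hzo, pow_one]; exact hm1
    rw [← hg, hao]
    exact Dvd.dvd.mul_right (pow_dvd_pow r ha2) o
  · intro τ hτ hτr
    obtain ⟨i, rfl⟩ := hgen τ hτ ⟨1, by rwa [pow_one]⟩
    rw [← mul_inv_eq_iff_eq_mul, ← mul_inv_eq_one, hfz]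
    obtain ⟨u, hu⟩ := hm1
    rw [hu, show (r : ℤ) * u * i = i * r * u by ring, zpow_mul, zpow_mul, zpow_natCast, zpow_natCast,
      hτr, one_zpow]
  · intro τ hτ hj
    obtain ⟨i, rfl⟩ := hgen τ hτ hj
    rw [hfz, zpow_mul, zpow_natCast, ← pow_mul, mul_comm, pow_mul, hc0, one_pow]
  · intro ω hω hωr
    set c := z ^ ((m : ℤ) - 1)
    have hcT : c ∈ torus L t := zpow_mem hzT _
    have hco : orderOf c = r := orderOf_eq_prime hc0 hc1
    -- `c` generates the elements of order dividing `r`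
    have hmem : (⟨ω, hω⟩ : torus L t) ∈ zpowers (⟨c, hcT⟩ : torus L t) := by
      classical
      haveI : Fintype (torus L t) := Fintype.ofFinite _
      have hsub : (Finset.univ.filter fun y : torus L t => y ∈ zpowers (⟨c, hcT⟩ : torus L t)) ⊆
          Finset.univ.filter fun y : torus L t => y ^ r = 1 := by
        intro y hy
        rw [Finset.mem_filter] at hy ⊢
        obtain ⟨j, rfl⟩ := hy.2
        refine ⟨Finset.mem_univ _, ?_⟩
        rw [← zpow_natCast, ← zpow_mul, mul_comm, zpow_mul, zpow_natCast,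
          show (⟨c, hcT⟩ : torus L t) ^ r = 1 from Subtype.ext hc0, one_zpow]
      have heq := Finset.eq_of_subset_of_card_le hsub ((IsCyclic.card_pow_eq_one_le hr.pos).trans
        (le_of_eq (by rw [← Fintype.card_subtype, ← Nat.card_eq_fintype_card]
                      exact ((Nat.card_zpowers _).trans ((Subgroup.orderOf_mk _ _).trans hco)).symm)))
      have : (⟨ω, hω⟩ : torus L t) ∈ Finset.univ.filter fun y : torus L t => y ^ r = 1 :=
        Finset.mem_filter.2 ⟨Finset.mem_univ _, Subtype.ext hωr⟩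
      rw [← heq] at this
      exact (Finset.mem_filter.1 this).2
    obtain ⟨i, hi⟩ := (isOfFinOrder_of_finite (⟨c, hcT⟩ : torus L t)).mem_powers_iff_mem_zpowers.2 hmem
    refine ⟨z ^ i, pow_mem hzT i, ⟨a, by rw [← hzo, ← pow_mul, mul_comm, pow_mul, pow_orderOf_eq_one, one_pow]⟩, ?_⟩
    rw [hfz, zpow_mul, zpow_natCast]
    exact (congrArg Subtype.val hi :)

/-- A field element fixing a nontrivial torus element centralises a perfect subgroup through `t`, `b`. -/
theorem exists_perfect {t b x τ : Y} (ht : orderOf t = 2) (hb : orderOf b = 2) (hne : t ≠ b)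
    (htb : t * b = b * t) (htL : t ∈ L) (hbL : b ∈ L) (hxt : x * t = t * x) (hxb : x * b = b * x)
    (hx : Odd (orderOf x)) (hτ : τ ∈ torus L t) (hτ1 : τ ≠ 1) (hxτ : x * τ = τ * x) :
    ∃ Q : Subgroup Y, Q ≤ L ∧ ⁅Q, Q⁆ = Q ∧ t ∈ Q ∧ b ∈ Q ∧ ∀ y ∈ Q, x * y = y * x := by
  obtain ⟨k, σ, hσ, hord, hfix⟩ := h.exists_field_rep ht hb hne htb hxt hxb hx
  haveI : Fintype (fixedSub σ) := Fintype.ofFinite _
  obtain ⟨q0, hq0, h30, hq, hdvd⟩ := h.exists_fixed_dvd ht hb hne htb htL hxt hxb hx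
  have hK : Fintype.card (fixedSub σ) = q0 := by
    have h1 := natCard_fixedSub σ
    rw [Nat.card_eq_fintype_card, hord, hq, Nat.card_eq_fintype_card] at h1
    exact (Nat.pow_left_injective (orderOf_pos x).ne' h1).symm
  have h4 : 4 ≤ q0 := by
    by_contra hlt
    have : q0 = 3 := by omega
    subst this
    have h1 := hdvd τ hτ hxτ
    rw [show ((3 : ℕ) : ℤ) - eps 3 = ((4 : ℕ) : ℤ) from rfl, Int.natCast_dvd_natCast] at h1
    obtain ⟨-, -, ho⟩ := (h.mem_torus ht).1 hτ
    refine hτ1 (orderOf_eq_one_iff.1 (Nat.eq_one_of_dvd_coprimes ?_ h1 dvd_rfl))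
    rw [show (4 : ℕ) = 2 ^ 2 from rfl]
    exact (Nat.Coprime.pow_left 2 (Nat.coprime_two_left.2 ho))
  let ψ : Matrix.ProjectiveSpecialLinearGroup (Fin 2) (fixedSub σ) →* Y :=
    L.subtype.comp (h.e.symm.toMonoidHom.comp
      ((conjAut k : MulAut PSL).toMonoidHom.comp (embed (fixedSub σ).subtype)))
  have hmem : ∀ z : L, x * z = z * x → (z : Y) ∈ ψ.range := by
    intro z hz
    obtain ⟨w, hw⟩ := exists_embed h.two_ne_zero hσ ((hfix z).1 hz)
    refine ⟨w, ?_⟩
    show ((h.e.symm (conjAut k (embed (fixedSub σ).subtype w)) : L) : Y) = z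
    rw [hw, MulAut.apply_inv_self, MulEquiv.symm_apply_apply]
  refine ⟨ψ.range, ?_, ?_, hmem ⟨t, htL⟩ hxt, hmem ⟨b, hbL⟩ hxb, ?_⟩
  · rintro _ ⟨w, rfl⟩; exact SetLike.coe_mem _
  · obtain ⟨-, hs, hnc⟩ := psl_not_solvable (K := fixedSub σ) (by omega)
    have hperf : commutator (Matrix.ProjectiveSpecialLinearGroup (Fin 2) (fixedSub σ)) = ⊤ := by
      rcases hs.eq_bot_or_eq_top_of_normal
        (commutator (Matrix.ProjectiveSpecialLinearGroup (Fin 2) (fixedSub σ))) inferInstance with e | e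
      · refine absurd ⟨⟨fun a c => ?_⟩⟩ hnc
        exact commutatorElement_eq_one_iff_mul_comm.1
          (mem_bot.1 (e ▸ commutator_mem_commutator (mem_top a) (mem_top c)))
      · exact e
    rw [commutator_def] at hperf
    rw [MonoidHom.range_eq_map, ← map_commutator, hperf]
  · rintro _ ⟨w, rfl⟩
    refine (hfix _).2 ?_
    show fieldAut σ ((conjAut k)⁻¹ (h.e (h.e.symm (conjAut k (embed (fixedSub σ).subtype w))))) = _
    rw [MulEquiv.apply_symm_apply, MulAut.inv_apply_self, fieldAut_embed]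
    show embed (fixedSub σ).subtype w =
      (conjAut k)⁻¹ (h.e (h.e.symm (conjAut k (embed (fixedSub σ).subtype w))))
    rw [MulEquiv.apply_symm_apply, MulAut.inv_apply_self]

/-- A rotation of `⟨t, b⟩` commuting with all its odd centraliser. -/
theorem exists_rot {t b : Y} (ht : orderOf t = 2) (hb : orderOf b = 2) (hne : t ≠ b)
    (htb : t * b = b * t) (htL : t ∈ L) (hbL : b ∈ L) :
    ∃ g ∈ L, (∀ x, x * t = t * x → x * b = b * x → Odd (orderOf x) → g * x = x * g) ∧
      g * t * g⁻¹ = b ∧ g * b * g⁻¹ = b * t := by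
  obtain ⟨Φ, hcyc, -, hΦ⟩ := h.exists_cyclic_odd ht hb hne htb
  obtain ⟨x0, hx0⟩ := DGroup.exists_gen hcyc
  have hx0' := (hΦ x0).1 (hx0 ▸ mem_zpowers x0)
  obtain ⟨k, σ, hσ, -, hfix⟩ := h.exists_field_rep ht hb hne htb hx0'.1 hx0'.2.1 hx0'.2.2
  obtain ⟨a', ha'⟩ := exists_embed h.two_ne_zero hσ ((hfix ⟨t, htL⟩).1 hx0'.1)
  obtain ⟨b', hb'⟩ := exists_embed h.two_ne_zero hσ ((hfix ⟨b, hbL⟩).1 hx0'.2.1)
  haveI : Fintype (fixedSub σ) := Fintype.ofFinite _
  set ι := (fixedSub σ).subtype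
  have hinj := embed_injective ι
  have ho : ∀ (w : Matrix.ProjectiveSpecialLinearGroup (Fin 2) (fixedSub σ)) (z : L),
      embed ι w = (conjAut k)⁻¹ (h.e z) → orderOf w = orderOf (z : Y) := fun w z e => by
    rw [← orderOf_injective _ hinj w, e, MulEquiv.orderOf_eq, MulEquiv.orderOf_eq, Subgroup.orderOf_coe]
  obtain ⟨g', hg1, hg2⟩ := exists_rotation (two_ne_zero_sub ι h.two_ne_zero)
    (by rw [ho a' _ ha']; exact ht) (by rw [ho b' _ hb']; exact hb)
    (hinj (by rw [map_mul, map_mul, ha', hb']; exact (((show Commute (⟨t, htL⟩ : L) ⟨b, hbL⟩ from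
      Subtype.ext htb).map h.e.toMonoidHom).map ((conjAut k)⁻¹ : MulAut PSL).toMonoidHom).eq))
    (fun e => hne (congrArg Subtype.val (h.e.injective (((conjAut k)⁻¹ : MulAut PSL).injective
      (ha'.symm.trans ((congrArg (embed ι) e).trans hb'))))))
  let g : L := h.e.symm (conjAut k (embed ι g'))
  have hgk : (conjAut k)⁻¹ (h.e g) = embed ι g' := by
    simp only [g, MulEquiv.apply_symm_apply, MulAut.inv_apply_self]
  have hconj : ∀ (u : L) (u' : Matrix.ProjectiveSpecialLinearGroup (Fin 2) (fixedSub σ)),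
      embed ι u' = (conjAut k)⁻¹ (h.e u) →
        (conjAut k)⁻¹ (h.e (g * u * g⁻¹)) = embed ι (g' * u' * g'⁻¹) := fun u u' e => by
    simp only [map_mul, map_inv, hgk, e]
  have hkinj : ∀ u v : L, (conjAut k)⁻¹ (h.e u) = (conjAut k)⁻¹ (h.e v) → u = v := fun u v e =>
    h.e.injective (((conjAut k)⁻¹ : MulAut PSL).injective e)
  refine ⟨g, g.2, fun x h1 h2 h3 => ?_, ?_, ?_⟩
  · have hc : x0 * g = g * x0 := (hfix g).2 (by rw [hgk, fieldAut_embed])
    obtain ⟨j, rfl⟩ := mem_zpowers_iff.1 (hx0 ▸ (hΦ x).2 ⟨h1, h2, h3⟩ : x ∈ zpowers x0)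
    exact ((show Commute (g : Y) x0 from hc.symm).zpow_right j).eq
  · exact congrArg Subtype.val (hkinj _ ⟨b, hbL⟩ (by rw [hconj ⟨t, htL⟩ a' ha', hg1, hb']))
  · rw [← htb]
    exact congrArg Subtype.val (hkinj _ (⟨t, htL⟩ * ⟨b, hbL⟩)
      (by rw [hconj ⟨b, hbL⟩ b' hb', hg2, map_mul, map_mul, map_mul, ha', hb']))

/-- `t` is the only involution of `L` commuting with a nontrivial element of its torus. -/
theorem eq_of_commute_torus {t v x : Y} (ht : orderOf t = 2) (hv : orderOf v = 2)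
    (hx : x ∈ torus L t) (hx1 : x ≠ 1) (hc : x * v = v * x) : v = t := by
  obtain ⟨M, hd, hM, hrt, -⟩ := h.exists_matrix_rep ht
  obtain ⟨N, hN, hNt, hrv, -⟩ := h.exists_matrix_rep hv
  have h2 := h.two_ne_zero
  obtain ⟨hxL, -, hxo⟩ := (h.mem_torus ht).1 hx
  have hrx := h.phi_coe ⟨x, hxL⟩
  have hp := InTorus.of_commute h2 hM hd (g := pmk N hN) (h.inTorus_pg ht hM hrt hx) (fun e => hx1 ?_)
    ((h.commute_rep hrx hrv).1 hc).symm
  · have e := hp.involution h2 hM hd (pmk_mul_self hNt hN) (pmk_ne_one h2 hNt hN)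
    exact h.phi_injective (hrv.trans ((congrArg (aut F) e).trans hrt.symm))
  · rw [← orderOf_eq_one_iff, ← h.orderOf_rep hrx]
    rw [← h.orderOf_rep hrx] at hxo
    exact Nat.eq_one_of_dvd_coprimes (Nat.coprime_two_left.2 hxo)
      (orderOf_dvd_of_pow_eq_one (by rw [pow_two]; exact e)) dvd_rfl

/-- An odd element of `C(t)` centralising the torus lies in it. -/
theorem mem_torus_of_centralizes {t b x : Y} (ht : orderOf t = 2) (hb : orderOf b = 2)
    (hne : t ≠ b) (htb : t * b = b * t) (htL : t ∈ L) (hbL : b ∈ L) (hxt : x * t = t * x)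
    (hx : Odd (orderOf x)) (hfix : ∀ τ ∈ torus L t, x * τ = τ * x) : x ∈ torus L t := by
  obtain ⟨M, hd, hM, hrt, hiff⟩ := h.exists_matrix_rep ht
  have h2 := h.two_ne_zero
  have ht' := Involutions.orderOf_eq_two_iff_mul.1 ht
  have hb' := Involutions.orderOf_eq_two_iff_mul.1 hb
  -- `x` centralises the whole torus in `L`
  have key : ∀ (i o : ℕ), Odd o → ∀ z : L, orderOf (z : Y) = 2 ^ i * o →
      InTorus M (h.pg z) → x * z = z * x := by
    intro i
    induction i with
    | zero =>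
      intro o ho z hz hT
      rw [pow_zero, one_mul] at hz
      refine hfix _ ((h.mem_torus ht).2 ⟨z.2, ?_, hz ▸ ho⟩)
      exact (h.commute_rep (h.phi_coe z) hrt).2 (hT.commute (InTorus.self M hd)).eq
    | succ i ih =>
      intro o ho z hz hT
      have hzt : (z : Y) * t = t * z :=
        (h.commute_rep (h.phi_coe z) hrt).2 (hT.commute (InTorus.self M hd)).eq
      by_cases hz2 : h.pg z * h.pg z = 1
      · by_cases hz1 : h.pg z = 1
        · have : (z : Y) = 1 := h.phi_injective (by rw [h.phi_coe, hz1, map_one, map_one])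
          rw [this, mul_one, one_mul]
        · have : (z : Y) = t := h.phi_injective (by
            rw [h.phi_coe, hT.involution h2 hM hd hz2 hz1, hrt])
          rw [this]; exact hxt
      have hsq : x * (z * z : L) = (z * z : L) * x := by
        refine ih o ho (z * z) ?_ (by rw [map_mul]; exact hT.mul hM hT)
        rw [Subgroup.coe_mul, ← pow_two, orderOf_pow_of_dvd (by norm_num), hz, pow_succ',
          mul_assoc, Nat.mul_div_cancel_left _ two_pos]
        exact hz ▸ Dvd.dvd.mul_right (dvd_pow_self 2 (Nat.succ_ne_zero i)) o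
      rw [Subgroup.coe_mul] at hsq
      let w : L := ⟨x * z * x⁻¹, h.normal.conj_mem _ z.2 x⟩
      have hwt : (w : Y) * t = t * w :=
        (((show Commute x t from hxt).mul_left hzt).mul_left (show Commute x t from hxt).inv_left).eq
      have hzx : x * z * x⁻¹ * (x * z * x⁻¹) = z * z := by
        calc x * z * x⁻¹ * (x * z * x⁻¹) = x * ((z : Y) * z) * x⁻¹ := by group
          _ = z * z := by rw [hsq, mul_inv_cancel_right]
      have hwT : InTorus M (h.pg w) := by
        rcases cent_cases h2 hM hd ((h.commute_rep (h.phi_coe w) hrt).1 hwt) with e | ⟨N, hN, e, hNt, -⟩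
        · exact e
        · refine absurd ?_ hz2
          have e' : h.pg (w * w) = 1 := by rw [map_mul, e, pmk_mul_self hNt hN]
          rw [← map_mul, show (z * z : L) = w * w from Subtype.ext hzx.symm]
          exact e'
      set δ : L := w * z⁻¹
      have hδT : InTorus M (h.pg δ) := by
        rw [map_mul, map_inv]; exact hwT.mul hM (hT.inv hM)
      have hcz : Commute w z := h.e.injective (Matrix.ProjectiveSpecialLinearGroup.toPGL_injective (by
        rw [← h.pg_apply, ← h.pg_apply, map_mul, map_mul]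
        exact (hwT.commute hT).eq))
      have hδ2 : δ * δ = 1 := by
        show w * z⁻¹ * (w * z⁻¹) = 1
        rw [mul_assoc, ← mul_assoc z⁻¹, ← hcz.inv_right.eq, mul_assoc w z⁻¹, ← mul_assoc,
          show w * w = z * z from Subtype.ext hzx]
        group
      have hδ : (δ : Y) = 1 ∨ (δ : Y) = t := by
        by_cases h1 : h.pg δ = 1
        · exact Or.inl (h.phi_injective (by rw [h.phi_coe, h1, map_one, map_one]))
        · refine Or.inr (h.phi_injective (by rw [h.phi_coe, hrt,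
            hδT.involution h2 hM hd (by rw [← map_mul, hδ2, map_one]) h1]))
      have hw : x * z * x⁻¹ = z * δ := by
        have : w = z * δ := by
          show w = z * (w * z⁻¹)
          rw [← mul_assoc, ← hcz.eq, mul_inv_cancel_right]
        exact congrArg Subtype.val this
      rcases hδ with e | e
      · rw [e, mul_one] at hw; exact mul_inv_eq_iff_eq_mul.1 hw
      · exfalso
        have h1 := conj_iterate hw (by rw [e, hxt, mul_inv_cancel_right]) (orderOf x)
        rw [pow_orderOf_eq_one, one_mul, inv_one, mul_one, eq_comm, mul_eq_left, e,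
          ← orderOf_dvd_iff_pow_eq_one, ht] at h1
        have := Nat.odd_iff.1 hx
        omega
  -- the element `c = b (x b x⁻¹)`
  have hbt : b * t = t * b := htb.symm
  let bx : L := ⟨x * b * x⁻¹, h.normal.conj_mem _ hbL x⟩
  have hbxt : (bx : Y) * t = t * bx :=
    (((show Commute x t from hxt).mul_left hbt).mul_left (show Commute x t from hxt).inv_left).eq
  set c : L := ⟨b, hbL⟩ * bx
  have hanti : ∀ u : L, orderOf (u : Y) = 2 → (u : Y) * t = t * u → (u : Y) ≠ t →
      ∀ a, InTorus M a → h.pg u * a * (h.pg u)⁻¹ = a⁻¹ := by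
    intro u hu hut hne'
    have hu' := Involutions.orderOf_eq_two_iff_mul.1 hu
    rcases cent_cases h2 hM hd ((h.commute_rep (h.phi_coe u) hrt).1 hut) with hT | ⟨N, hN, e, hNt, ha⟩
    · refine absurd (h.phi_injective ?_) hne'
      rw [h.phi_coe, hrt, hT.involution h2 hM hd
        (by rw [← map_mul, show u * u = 1 from Subtype.ext hu'.2, map_one])
        (fun e => hu'.1 (h.phi_injective (by rw [h.phi_coe, e, map_one, map_one])))]
    · rw [e]; exact (anti_facts h2 hM hd hNt hN ha).2.2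
  have hcT : InTorus M (h.pg c) := by
    haveI := torus_cyclic h2 hM hd
    obtain ⟨w, hw⟩ := IsCyclic.exists_ofOrder_eq_natCard (α := TopModel.torus M hM)
    have hwne : (w : PGL) * w ≠ 1 := by
      intro e
      have h1 := Nat.le_of_dvd two_pos (orderOf_dvd_of_pow_eq_one (x := w) (Subtype.ext (by
        rw [Subgroup.coe_pow, pow_two]; exact e)))
      rw [hw] at h1
      have h4 := card_torus_square h2 hM hd (hiff.1 htL)
      have := h.three
      rcases eps_cases (Fintype.card F) with e' | e' <;> rw [e'] at h4 <;> omega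
    refine InTorus.of_commute h2 hM hd w.2 hwne ?_
    have i1 := hanti ⟨b, hbL⟩ hb hbt (Ne.symm hne) _ (InTorus.inv hM w.2)
    have i2 := hanti bx (by
        show orderOf (x * b * x⁻¹) = 2
        rw [← MulAut.conj_apply, MulEquiv.orderOf_eq, hb]) hbxt (fun e => hne (by
      have e' : x * b * x⁻¹ = t := e
      rw [mul_inv_eq_iff_eq_mul, ← hxt, mul_right_inj] at e'
      exact e'.symm)) _ w.2
    rw [inv_inv] at i1
    show _ * _ = _ * _
    have : h.pg c * (w : PGL) * (h.pg c)⁻¹ = w := by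
      rw [map_mul]
      calc h.pg ⟨b, hbL⟩ * h.pg bx * w * (h.pg ⟨b, hbL⟩ * h.pg bx)⁻¹
          = h.pg ⟨b, hbL⟩ * (h.pg bx * w * (h.pg bx)⁻¹) * (h.pg ⟨b, hbL⟩)⁻¹ := by group
        _ = w := by rw [i2, i1]
    exact mul_inv_eq_iff_eq_mul.1 this
  have hcfix : x * (c : Y) = c * x := by
    obtain ⟨i, o, ho2, ho⟩ :=
      Nat.exists_eq_pow_mul_and_not_dvd (orderOf_pos (c : Y)).ne' 2 (by norm_num)
    exact key i o (Nat.odd_iff.2 (Nat.two_dvd_ne_zero.1 ho2)) c ho hcT
  have hxb : x * b * x⁻¹ = b * c := by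
    show x * b * x⁻¹ = b * (b * (x * b * x⁻¹))
    rw [← mul_assoc b b, hb'.2, one_mul]
  have hcn : (c : Y) ^ orderOf x = 1 := by
    have h1 := conj_iterate hxb (by rw [hcfix, mul_inv_cancel_right]) (orderOf x)
    rwa [pow_orderOf_eq_one, one_mul, inv_one, mul_one, eq_comm, mul_eq_left] at h1
  have hco : Odd (orderOf (c : Y)) := hx.of_dvd_nat (orderOf_dvd_of_pow_eq_one hcn)
  have hct : (c : Y) ∈ torus L t := (h.mem_torus ht).2
    ⟨c.2, (h.commute_rep (h.phi_coe c) hrt).2 (hcT.commute (InTorus.self M hd)).eq, hco⟩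
  obtain ⟨j, hj⟩ := hco
  set d : Y := (c : Y) ^ (j + 1)
  have hdd : d * d = c := by
    rw [← pow_add, show j + 1 + (j + 1) = orderOf (c : Y) + 1 by omega, pow_succ, pow_orderOf_eq_one,
      one_mul]
  have hdT : d ∈ torus L t := pow_mem hct _
  obtain ⟨-, hdt, hdo⟩ := (h.mem_torus ht).1 hdT
  have hcom : x * d = d * x := hfix d hdT
  set y : Y := d * x
  have hyo : Odd (orderOf y) :=
    (hdo.mul hx).of_dvd_nat (show Commute d x from hcom.symm).orderOf_mul_dvd_mul_orderOf
  have hyt : y * t = t * y := ((show Commute d t from hdt).mul_left hxt).eq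
  have hyb : y * b = b * y := by
    have hbd : b * d * b⁻¹ = d⁻¹ := h.inverts_torus ht hb hbt (Ne.symm hne) hdT
    have e : y * b * y⁻¹ = b := by
      calc d * x * b * (d * x)⁻¹ = d * (x * b * x⁻¹) * d⁻¹ := by group
        _ = b * (b⁻¹ * d * b) * (d * d) * d⁻¹ := by rw [hxb, hdd]; group
        _ = b := by
          rw [inv_eq_of_mul_eq_one_right hb'.2] at hbd ⊢
          rw [hbd]; group
    exact mul_inv_eq_iff_eq_mul.1 e
  have hyfix : ∀ τ ∈ torus L t, y * τ = τ * y := fun τ hτ =>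
    ((show Commute d τ from h.torus_commute ht hdT hτ).mul_left (hfix τ hτ)).eq
  by_cases hy1 : y = 1
  · rw [eq_inv_of_mul_eq_one_right hy1]
    exact inv_mem hdT
  exfalso
  obtain ⟨r, hr, hrd⟩ := Nat.exists_prime_and_dvd (orderOf_eq_one_iff.not.2 hy1)
  set y' := y ^ (orderOf y / r)
  have hy'o : orderOf y' = r := orderOf_pow_orderOf_div (orderOf_pos y).ne' hrd
  have hro : Odd r := hyo.of_dvd_nat hrd
  obtain ⟨q0, hq0, h30, hq, hdvd⟩ := h.exists_fixed_dvd ht hb hne htb htL (x := y')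
    ((show Commute y t from hyt).pow_left _).eq ((show Commute y b from hyb).pow_left _).eq
    (hy'o ▸ hro)
  haveI := h.isCyclic_torus ht
  obtain ⟨g, hg⟩ := IsCyclic.exists_ofOrder_eq_natCard (α := torus L t)
  rw [← Subgroup.orderOf_coe] at hg
  have h0 := hdvd g g.2 ((show Commute y g from hyfix g g.2).pow_left _).eq
  rw [hg] at h0
  obtain ⟨S, hS, hS1, -, hSo⟩ := exists_factor hq0 hro
  rw [← hy'o, ← hq] at hS
  have h1 : ((Nat.card (torus L t) * S.natAbs : ℕ) : ℤ) ∣ (Fintype.card F : ℤ) - eps (Fintype.card F) := by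
    rw [hS, Nat.cast_mul]
    exact mul_dvd_mul h0 Int.natAbs_dvd_self
  have h3 := (h.card_torus_inner ht htL).2 _
    ((h.odd_card_torus ht).mul (Int.natAbs_odd.2 hSo)) h1
  have h4 : S.natAbs = 1 := by
    refine Nat.dvd_one.1 (Nat.dvd_of_mul_dvd_mul_left (Nat.card_pos (α := torus L t)) ?_)
    rwa [mul_one]
  have h5 := hS1 hr.one_lt h30
  rcases Int.natAbs_eq_iff.1 h4 with e | e
  · exact h5.1 (by simpa using e)
  · exact h5.2 (by simpa using e)

/-- The odd torus of an outer involution commuting with `t`. -/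
theorem outer_torus {t v : Y} (ht : orderOf t = 2) (hv : orderOf v = 2) (htL : t ∈ L)
    (hvL : v ∉ L) (htv : t * v = v * t) :
    IsCyclic (torus L v) ∧
      2 * (Nat.card (torus L v) : ℤ) = (Fintype.card F : ℤ) + eps (Fintype.card F) ∧
      1 < Nat.card (torus L v) ∧ (Nat.card (torus L v)).Coprime (Nat.card (torus L t)) ∧
      ∀ x ∈ torus L v, t * x * t⁻¹ = x⁻¹ := by
  have h1 := h.card_torus_outer hv hvL
  have := h.three
  have := Nat.odd_iff.1 h.odd
  refine ⟨h.isCyclic_torus hv, h1, ?_, ?_, fun x hx =>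
    h.inverts_torus hv ht htv (fun e => hvL (by rw [← e]; exact htL)) hx⟩
  · rcases eps_cases (Fintype.card F) with e | e <;> rw [e] at h1 <;> omega
  · set d := Nat.gcd (Nat.card (torus L v)) (Nat.card (torus L t))
    have d1 : (d : ℤ) ∣ (Fintype.card F : ℤ) - eps (Fintype.card F) :=
      (Int.natCast_dvd_natCast.2 (Nat.gcd_dvd_right _ _)).trans (h.card_torus_inner ht htL).1
    have d2 : (d : ℤ) ∣ (Fintype.card F : ℤ) + eps (Fintype.card F) :=
      h1 ▸ Dvd.dvd.mul_left (Int.natCast_dvd_natCast.2 (Nat.gcd_dvd_left _ _)) 2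
    have d3 : (d : ℤ) ∣ ((2 : ℕ) : ℤ) := by
      have := dvd_sub d2 d1
      rcases eps_cases (Fintype.card F) with e | e <;> rw [e] at this
      · simpa [show ((Fintype.card F : ℤ) + 1 - ((Fintype.card F : ℤ) - 1)) = 2 by ring] using this
      · rw [show ((Fintype.card F : ℤ) + -1 - ((Fintype.card F : ℤ) - -1)) = -2 by ring] at this
        exact Int.dvd_neg.1 this
    exact Nat.eq_one_of_dvd_coprimes (Nat.coprime_two_left.2 (h.odd_card_torus ht))
      (Int.natCast_dvd_natCast.1 d3) (Nat.gcd_dvd_right _ _)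

end Psl

end CfsgLib.GW.Field
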