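import Cfsg.Agent.Lib.GW.CaseOneOdd
import Cfsg.Agent.Lib.GW.Main
import Cfsg.Agent.Lib.GW.Formula

/-!
Gorenstein–Walter, maximal subgroups over an involution centraliser: the quotient by the odd core,
lifts of centralisers, orders of centralisers in both, the order formula, fixed cosets.
-/

set_option autoImplicit false
set_option linter.unusedSectionVars false
set_option linter.style.haveILetI false

namespace CfsgLib.GW.CaseOne

open Subgroup CfsgLib.RankOneInvol

universe u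

variable {G : Type u} [Group G]

/-- A maximal subgroup properly above the centraliser of the central involution. -/
structure Over (E : Setup G) (M : Subgroup G) : Prop where
  coatom : IsCoatom M
  le : E.H ≤ M
  ne : M ≠ E.H

/-- The quotient by the odd core. -/
abbrev Tp (M : Subgroup G) : Type u := ↥M ⧸ Cfsg.oddCore ↥M

open Classical in
/-- The image in the quotient by the odd core (trivial outside `M`). -/
noncomputable def bar (M : Subgroup G) (x : G) : Tp M :=
  if h : x ∈ M then QuotientGroup.mk ⟨x, h⟩ else 1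

section bar

variable {M : Subgroup G} {x y : G}

theorem bar_of_mem (hx : x ∈ M) : bar M x = QuotientGroup.mk ⟨x, hx⟩ := dif_pos hx

theorem bar_one : bar M (1 : G) = 1 := by
  rw [bar_of_mem (one_mem M)]; rfl

theorem bar_mul (hx : x ∈ M) (hy : y ∈ M) : bar M (x * y) = bar M x * bar M y := by
  rw [bar_of_mem hx, bar_of_mem hy, bar_of_mem (mul_mem hx hy)]; rfl

theorem bar_inv (hx : x ∈ M) : bar M x⁻¹ = (bar M x)⁻¹ := by
  rw [bar_of_mem hx, bar_of_mem (inv_mem hx)]; rfl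

theorem bar_conj (hx : x ∈ M) (hy : y ∈ M) :
    bar M (x * y * x⁻¹) = bar M x * bar M y * (bar M x)⁻¹ := by
  rw [bar_mul (mul_mem hx hy) (inv_mem hx), bar_mul hx hy, bar_inv hx]

theorem bar_pow (hx : x ∈ M) (n : ℕ) : bar M (x ^ n) = bar M x ^ n := by
  rw [bar_of_mem hx, bar_of_mem (pow_mem hx n)]; rfl

theorem bar_eq_one_iff (hx : x ∈ M) : bar M x = 1 ↔ x ∈ coreIn M := by
  rw [bar_of_mem hx, QuotientGroup.eq_one_iff]
  exact ⟨fun h => ⟨_, h, rfl⟩, fun ⟨y, hy, e⟩ => (show y = ⟨x, hx⟩ from Subtype.ext e) ▸ hy⟩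

theorem bar_of_mem_coreIn (hx : x ∈ coreIn M) : bar M x = 1 :=
  (bar_eq_one_iff (coreIn_le M hx)).2 hx

theorem bar_eq_bar_iff (hx : x ∈ M) (hy : y ∈ M) : bar M x = bar M y ↔ x * y⁻¹ ∈ coreIn M := by
  rw [← bar_eq_one_iff (mul_mem hx (inv_mem hy)), bar_mul hx (inv_mem hy), bar_inv hy, mul_inv_eq_one]

theorem bar_commute_iff (hx : x ∈ M) (hy : y ∈ M) :
    bar M x * bar M y = bar M y * bar M x ↔ x * y * x⁻¹ * y⁻¹ ∈ coreIn M := by
  rw [← bar_eq_bar_iff (mul_mem (mul_mem hx hy) (inv_mem hx)) hy, bar_conj hx hy, mul_inv_eq_iff_eq_mul]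

theorem exists_bar (τ : Tp M) : ∃ x ∈ M, bar M x = τ := by
  obtain ⟨⟨x, hx⟩, rfl⟩ := QuotientGroup.mk_surjective τ
  exact ⟨x, hx, bar_of_mem hx⟩

theorem commute_bar (hx : x ∈ M) (hy : y ∈ M) (h : x * y = y * x) :
    bar M x * bar M y = bar M y * bar M x := by rw [← bar_mul hx hy, h, bar_mul hy hx]

end bar

variable [Finite G] {E : Setup G} {M : Subgroup G}

/-! ### Involutions and lifts -/

theorem orderOf_dvd_two {x : G} (hx : x * x = 1) : orderOf x ∣ 2 :=
  orderOf_dvd_of_pow_eq_one (by rw [pow_two]; exact hx)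

theorem sq_mem_coreIn_imp {v : G} (hv : v * v = 1) (h : v ∈ coreIn M) : v = 1 :=
  eq_one_of_mem_of_sq (odd_card_coreIn M) h hv

theorem bar_involution {v : G} (hvM : v ∈ M) (hv : orderOf v = 2) : orderOf (bar M v) = 2 := by
  obtain ⟨h1, h2⟩ := CfsgLib.Involutions.orderOf_eq_two_iff_mul.1 hv
  refine CfsgLib.Involutions.orderOf_eq_two_iff_mul.2 ⟨fun h => h1 ?_, ?_⟩
  · exact sq_mem_coreIn_imp h2 ((bar_eq_one_iff hvM).1 h)
  · rw [← bar_mul hvM hvM, h2, bar_one]

theorem conj_mem_of_inv {v x : G} (hv : v * v = 1) (hvM : v ∈ M) (hx : x ∈ coreIn M) :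
    v * x * v ∈ coreIn M := by
  have := conj_mem_coreIn hvM hx
  rwa [inv_eq_of_mul_eq_one_right hv] at this

/-- Involutions with the same image are conjugate under the odd core. -/
theorem exists_conj_of_bar_eq {v v' : G} (hv : v * v = 1) (hv' : v' * v' = 1) (hvM : v ∈ M)
    (hv'M : v' ∈ M) (h : bar M v' = bar M v) : ∃ c ∈ coreIn M, c * v * c⁻¹ = v' := by
  refine exists_conj_of_congr (odd_card_coreIn M) hv hv' ?_
  have := (bar_eq_bar_iff hv'M hvM).1 h
  rwa [inv_eq_of_mul_eq_one_right hv] at this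

/-- Involutions of `M` centralised by the odd core are determined by their image. -/
theorem eq_of_bar_eq {v v' : G} (hv : v * v = 1) (hv' : v' * v' = 1) (hvM : v ∈ M)
    (hv'M : v' ∈ M) (hc : ∀ w ∈ coreIn M, w * v = v * w) (h : bar M v' = bar M v) : v' = v := by
  obtain ⟨c, hc', e⟩ := exists_conj_of_bar_eq hv hv' hvM hv'M h
  rw [← e, hc c hc', mul_inv_cancel_right]

/-- Centralisers of involutions lift. -/
theorem exists_lift_commute {v x : G} (hv : v * v = 1) (hvM : v ∈ M) (hx : x ∈ M)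
    (h : bar M x * bar M v = bar M v * bar M x) :
    ∃ c ∈ coreIn M, c * x * v = v * (c * x) := by
  obtain ⟨c, hc, e⟩ := exists_conj_of_bar_eq (v := v) (v' := x * v * x⁻¹) hv
    (by rw [show x * v * x⁻¹ * (x * v * x⁻¹) = x * (v * v) * x⁻¹ by group, hv, mul_one, mul_inv_cancel])
    hvM (mul_mem (mul_mem hx hvM) (inv_mem hx)) (by rw [bar_conj hx hvM, h, mul_inv_cancel_right])
  refine ⟨c⁻¹, inv_mem hc, ?_⟩
  calc c⁻¹ * x * v = c⁻¹ * (x * v * x⁻¹) * x := by group
    _ = c⁻¹ * (c * v * c⁻¹) * x := by rw [e]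
    _ = v * (c⁻¹ * x) := by group

/-- Centralisers of four-groups lift. -/
theorem exists_lift_commute_two {v v' x : G} (hv : v * v = 1) (hv' : v' * v' = 1)
    (hvv : v * v' = v' * v) (hvM : v ∈ M) (hv'M : v' ∈ M) (hx : x ∈ M)
    (h : bar M x * bar M v = bar M v * bar M x) (h' : bar M x * bar M v' = bar M v' * bar M x) :
    ∃ c ∈ coreIn M, c * x * v = v * (c * x) ∧ c * x * v' = v' * (c * x) := by
  obtain ⟨c, hc, e⟩ := exists_lift_commute hv hvM hx h
  set y := c * x with hy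
  have hyM : y ∈ M := mul_mem (coreIn_le M hc) hx
  have hbar : bar M (y * v' * y⁻¹) = bar M v' := by
    rw [bar_conj hyM hv'M, hy, bar_mul (coreIn_le M hc) hx, bar_of_mem_coreIn hc, one_mul, h',
      mul_inv_cancel_right]
  have hyvM : y * v' * y⁻¹ ∈ M := mul_mem (mul_mem hyM hv'M) (inv_mem hyM)
  have hsq : y * v' * y⁻¹ * (y * v' * y⁻¹) = 1 := by
    rw [show y * v' * y⁻¹ * (y * v' * y⁻¹) = y * (v' * v') * y⁻¹ by group, hv', mul_one, mul_inv_cancel]
  obtain ⟨d, hd, ed⟩ := exists_conj_of_congr (W := coreIn M ⊓ centralizer ({v} : Set G))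
    ((odd_card_coreIn M).of_dvd_nat (card_dvd_of_le inf_le_left)) hv' hsq ⟨by
      have := (bar_eq_bar_iff hyvM hv'M).1 hbar
      rwa [inv_eq_of_mul_eq_one_right hv'] at this, mem_centralizer_singleton_iff.2
      ((((show Commute y v from e).mul_left (show Commute v' v from hvv.symm)).mul_left
        (show Commute y v from e).inv_left).mul_left (show Commute v' v from hvv.symm)).eq⟩
  refine ⟨d⁻¹ * c, mul_mem (inv_mem hd.1) hc, ?_, ?_⟩
  · rw [mul_assoc d⁻¹ c x, ← hy]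
    exact ((show Commute d v from mem_centralizer_singleton_iff.1 hd.2).inv_left.mul_left e).eq
  · rw [mul_assoc d⁻¹ c x, ← hy]
    calc d⁻¹ * y * v' = d⁻¹ * (y * v' * y⁻¹) * y := by group
      _ = d⁻¹ * (d * v' * d⁻¹) * y := by rw [ed]
      _ = v' * (d⁻¹ * y) := by group

/-- The homomorphism `C_M(v) → T`. -/
theorem card_centralizer_bar {v : G} (hv : v * v = 1) (hvM : v ∈ M) :
    Nat.card (M ⊓ centralizer ({v} : Set G) : Subgroup G) =
      Nat.card (coreIn M ⊓ centralizer ({v} : Set G) : Subgroup G) *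
        Nat.card (centralizer ({bar M v} : Set (Tp M))) := by
  set A : Subgroup G := M ⊓ centralizer ({v} : Set G)
  let f : A →* Tp M := (QuotientGroup.mk' _).comp (inclusion (inf_le_left : A ≤ M))
  have hf : ∀ a : A, f a = bar M a := fun a => (bar_of_mem a.2.1).symm
  have hk : f.ker = (coreIn M ⊓ centralizer ({v} : Set G)).subgroupOf A := by
    ext a
    rw [MonoidHom.mem_ker, hf, bar_eq_one_iff a.2.1, mem_subgroupOf, mem_inf]
    exact ⟨fun h => ⟨h, a.2.2⟩, fun h => h.1⟩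
  have hr : f.range = centralizer ({bar M v} : Set (Tp M)) := by
    ext τ
    rw [mem_centralizer_singleton_iff]
    constructor
    · rintro ⟨a, rfl⟩
      rw [hf]
      exact commute_bar a.2.1 hvM (mem_centralizer_singleton_iff.1 a.2.2)
    · intro h
      obtain ⟨x, hx, rfl⟩ := exists_bar τ
      obtain ⟨c, hc, e⟩ := exists_lift_commute hv hvM hx h
      refine ⟨⟨c * x, mul_mem (coreIn_le M hc) hx, mem_centralizer_singleton_iff.2 e⟩, ?_⟩
      rw [hf, bar_mul (coreIn_le M hc) hx, bar_of_mem_coreIn hc, one_mul]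
  rw [← f.ker.card_mul_index, index_ker, hk, hr,
    Nat.card_congr (subgroupOfEquivOfLe (inf_le_inf_right _ (coreIn_le M) :
      coreIn M ⊓ centralizer ({v} : Set G) ≤ A)).toEquiv]

theorem card_centralizer_bar_two {v v' : G} (hv : v * v = 1) (hv' : v' * v' = 1)
    (hvv : v * v' = v' * v) (hvM : v ∈ M) (hv'M : v' ∈ M) :
    Nat.card (M ⊓ centralizer ({v, v'} : Set G) : Subgroup G) =
      Nat.card (coreIn M ⊓ centralizer ({v} : Set G) ⊓ centralizer ({v'} : Set G) : Subgroup G) *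
        Nat.card (centralizer ({bar M v, bar M v'} : Set (Tp M))) := by
  set A : Subgroup G := M ⊓ centralizer ({v, v'} : Set G)
  let f : A →* Tp M := (QuotientGroup.mk' _).comp (inclusion (inf_le_left : A ≤ M))
  have hf : ∀ a : A, f a = bar M a := fun a => (bar_of_mem a.2.1).symm
  have hmem : ∀ {H : Type u} [Group H] (a b y : H),
      y ∈ centralizer ({a, b} : Set H) ↔ y * a = a * y ∧ y * b = b * y := fun a b y => by
    rw [Subgroup.mem_centralizer_iff]
    refine ⟨fun h => ⟨(h a (by simp)).symm, (h b (by simp)).symm⟩, fun h z hz => ?_⟩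
    rcases hz with rfl | rfl
    exacts [h.1.symm, h.2.symm]
  have hk : f.ker =
      (coreIn M ⊓ centralizer ({v} : Set G) ⊓ centralizer ({v'} : Set G)).subgroupOf A := by
    ext a
    rw [MonoidHom.mem_ker, hf, bar_eq_one_iff a.2.1, mem_subgroupOf, mem_inf, mem_inf,
      mem_centralizer_singleton_iff, mem_centralizer_singleton_iff, and_assoc]
    exact ⟨fun h => ⟨h, (hmem v v' _).1 a.2.2⟩, fun h => h.1⟩
  have hr : f.range = centralizer ({bar M v, bar M v'} : Set (Tp M)) := by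
    ext τ
    rw [hmem]
    constructor
    · rintro ⟨a, rfl⟩
      rw [hf]
      exact ⟨commute_bar a.2.1 hvM ((hmem v v' _).1 a.2.2).1,
        commute_bar a.2.1 hv'M ((hmem v v' _).1 a.2.2).2⟩
    · intro h
      obtain ⟨x, hx, rfl⟩ := exists_bar τ
      obtain ⟨c, hc, e⟩ := exists_lift_commute_two hv hv' hvv hvM hv'M hx h.1 h.2
      refine ⟨⟨c * x, mul_mem (coreIn_le M hc) hx, (hmem v v' _).2 e⟩, ?_⟩
      rw [hf, bar_mul (coreIn_le M hc) hx, bar_of_mem_coreIn hc, one_mul]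
  have hle : coreIn M ⊓ centralizer ({v} : Set G) ⊓ centralizer ({v'} : Set G) ≤ A := fun x hx => by
    obtain ⟨⟨h1, h2⟩, h3⟩ := hx
    exact ⟨coreIn_le M h1, (hmem v v' x).2
      ⟨mem_centralizer_singleton_iff.1 h2, mem_centralizer_singleton_iff.1 h3⟩⟩
  rw [← f.ker.card_mul_index, index_ker, hk, hr,
    Nat.card_congr (subgroupOfEquivOfLe hle).toEquiv]

theorem card_eq_core_mul : Nat.card M = Nat.card (coreIn M) * Nat.card (Tp M) := by
  rw [← (Cfsg.oddCore ↥M).card_mul_index, coreIn, card_map_of_injective M.subtype_injective,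
    index_eq_card]

/-! ### The Sylow 2-subgroup -/

namespace Over

variable (h : Over E M)
include h

theorem S_le : (E.S : Subgroup G) ≤ M := E.S_le_H.trans h.le

theorem t_mem : E.t ∈ M := h.S_le E.t_mem_S

theorem refl_mem {b : G} (hb : E.Refl b) : b ∈ M := h.S_le hb.1

theorem ne_top : M ≠ ⊤ := h.coatom.1

theorem top : Top (Tp M) := E.good M h.ne_top

theorem bar_injOn {s s' : G} (hs : s ∈ (E.S : Subgroup G)) (hs' : s' ∈ (E.S : Subgroup G))
    (e : bar M s = bar M s') : s = s' := by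
  haveI : Fact (Nat.Prime 2) := ⟨Nat.prime_two⟩
  have h1 := (bar_eq_bar_iff (h.S_le hs) (h.S_le hs')).1 e
  obtain ⟨j, hj⟩ := IsPGroup.iff_orderOf.1 E.S.2 ⟨s * s'⁻¹, mul_mem hs (inv_mem hs')⟩
  rw [Subgroup.orderOf_mk] at hj
  rw [← mul_inv_eq_one, ← orderOf_eq_one_iff]
  exact Nat.eq_one_of_dvd_coprimes
    ((Nat.coprime_two_left.2 (odd_orderOf_of_mem (odd_card_coreIn M) h1)).pow_left j)
    (hj ▸ dvd_rfl) dvd_rfl

/-- The Sylow subgroup of `M`. -/
noncomputable def sylM : Sylow 2 ↥M := E.S.subtype h.S_le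

/-- Its image in the quotient by the odd core. -/
noncomputable def syl : Sylow 2 (Tp M) :=
  h.sylM.mapSurjective (QuotientGroup.mk'_surjective _)

theorem mem_syl {τ : Tp M} :
    τ ∈ (h.syl : Subgroup (Tp M)) ↔ ∃ s ∈ (E.S : Subgroup G), bar M s = τ := by
  rw [syl, Sylow.coe_mapSurjective, mem_map]
  constructor
  · rintro ⟨s, hs, rfl⟩
    exact ⟨s, mem_subgroupOf.1 hs, bar_of_mem s.2⟩
  · rintro ⟨s, hs, rfl⟩
    exact ⟨⟨s, h.S_le hs⟩, mem_subgroupOf.2 hs, (bar_of_mem (h.S_le hs)).symm⟩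

theorem nonempty_equiv_syl : Nonempty ((E.S : Subgroup G) ≃* (h.syl : Subgroup (Tp M))) := by
  let f : (E.S : Subgroup G) →* (h.syl : Subgroup (Tp M)) :=
    { toFun := fun s => ⟨bar M s, h.mem_syl.2 ⟨s, s.2, rfl⟩⟩
      map_one' := Subtype.ext bar_one
      map_mul' := fun a b => Subtype.ext (bar_mul (h.S_le a.2) (h.S_le b.2)) }
  refine ⟨MulEquiv.ofBijective f ⟨fun a b e => ?_, fun τ => ?_⟩⟩
  · exact Subtype.ext (h.bar_injOn a.2 b.2 (congrArg Subtype.val e))
  · obtain ⟨s, hs, e⟩ := h.mem_syl.1 τ.2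
    exact ⟨⟨s, hs⟩, Subtype.ext e⟩

theorem card_syl : Nat.card (h.syl : Subgroup (Tp M)) = 2 ^ (E.d.k + 2) := by
  obtain ⟨e⟩ := h.nonempty_equiv_syl
  rw [← Nat.card_congr e.toEquiv, E.card_S]

theorem dihedral (P : Sylow 2 (Tp M)) :
    Nonempty ((P : Subgroup (Tp M)) ≃* DihedralGroup E.m) := by
  haveI : Fact (Nat.Prime 2) := ⟨Nat.prime_two⟩
  obtain ⟨e⟩ := h.nonempty_equiv_syl
  obtain ⟨f⟩ := E.eS
  exact ⟨((Sylow.equiv P h.syl).trans e.symm).trans f⟩

/-- Every 2-subgroup of `M` is conjugate into `S` inside `M`. -/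
theorem exists_conj_S {Q : Subgroup G} (hQ : IsPGroup 2 Q) (hQM : Q ≤ M) :
    ∃ m ∈ M, ∀ x ∈ Q, m * x * m⁻¹ ∈ (E.S : Subgroup G) := by
  haveI : Fact (Nat.Prime 2) := ⟨Nat.prime_two⟩
  obtain ⟨m, hm⟩ := CfsgLib.Involutions.exists_conj_le_sylow
    (hQ.comap_subtype (K := M)) h.sylM
  exact ⟨m, m.2, fun x hx => mem_subgroupOf.1 (hm ⟨x, hQM hx⟩ hx)⟩

theorem exists_conj_mem_S {v : G} (hvM : v ∈ M) (hv : orderOf v = 2) :
    ∃ m ∈ M, m * v * m⁻¹ ∈ (E.S : Subgroup G) ∧ orderOf (m * v * m⁻¹) = 2 := by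
  obtain ⟨m, hm, hQ⟩ := h.exists_conj_S (CfsgLib.Involutions.isPGroup_two_zpowers hv)
    (zpowers_le.2 hvM)
  exact ⟨m, hm, hQ v (mem_zpowers v), by rw [CfsgLib.Involutions.orderOf_conj_eq, hv]⟩

/-- Every involution of the quotient lifts to an involution. -/
theorem exists_involution {τ : Tp M} (hτ : orderOf τ = 2) :
    ∃ v ∈ M, orderOf v = 2 ∧ bar M v = τ := by
  haveI : Fact (Nat.Prime 2) := ⟨Nat.prime_two⟩
  obtain ⟨g, hg⟩ := CfsgLib.Involutions.exists_conj_le_sylow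
    (CfsgLib.Involutions.isPGroup_two_zpowers hτ) h.syl
  obtain ⟨s, hs, e⟩ := h.mem_syl.1 (hg τ (mem_zpowers τ))
  obtain ⟨m, hm, rfl⟩ := exists_bar g
  have ho : orderOf (bar M s) = 2 := by rw [e, CfsgLib.Involutions.orderOf_conj_eq, hτ]
  rw [CfsgLib.Involutions.orderOf_eq_two_iff_mul, ← bar_mul (h.S_le hs) (h.S_le hs),
    bar_eq_one_iff (h.S_le (mul_mem hs hs))] at ho
  refine ⟨m⁻¹ * s * m⁻¹⁻¹, mul_mem (mul_mem (inv_mem hm) (h.S_le hs)) (inv_mem (inv_mem hm)), ?_, ?_⟩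
  · rw [CfsgLib.Involutions.orderOf_conj_eq, CfsgLib.Involutions.orderOf_eq_two_iff_mul]
    exact ⟨fun e1 => ho.1 (by rw [e1, bar_one]), h.bar_injOn (mul_mem hs hs) (one_mem _)
      (by rw [bar_one]; exact (bar_eq_one_iff (h.S_le (mul_mem hs hs))).2 ho.2)⟩
  · rw [bar_conj (inv_mem hm) (h.S_le hs), bar_inv hm, e]; group

/-! ### Orders -/

theorem M_inf_centralizer_t : M ⊓ centralizer ({E.t} : Set G) = E.H :=
  inf_eq_right.2 h.le

/-- `|U| = |C_W(t)| · |odd part of C_T(t)|`. -/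
theorem card_U_mul : Nat.card E.U * 2 ^ (E.d.k + 2) =
    Nat.card (coreIn M ⊓ centralizer ({E.t} : Set G) : Subgroup G) *
      Nat.card (centralizer ({bar M E.t} : Set (Tp M))) := by
  rw [← E.card_S, ← E.card_H, ← h.M_inf_centralizer_t, card_centralizer_bar E.t_sq h.t_mem]

theorem centralizer_pair_eq (b : G) :
    M ⊓ centralizer ({E.t, b} : Set G) = centralizer ({E.t, b} : Set G) := by
  refine inf_eq_right.2 fun x hx => h.le (E.mem_H.2 ?_)
  simp only [Subgroup.mem_centralizer_iff, Set.mem_insert_iff, Set.mem_singleton_iff,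
    forall_eq_or_imp, forall_eq] at hx
  exact hx.1.symm

theorem four_mul_card_X {b : G} (hb : E.Refl b) : 4 * Nat.card (E.X b) =
    Nat.card (coreIn M ⊓ centralizer ({E.t} : Set G) ⊓ centralizer ({b} : Set G) : Subgroup G) *
      Nat.card (centralizer ({bar M E.t, bar M b} : Set (Tp M))) := by
  rw [← card_centralizer_bar_two E.t_sq hb.sq hb.comm.symm h.t_mem (h.refl_mem hb),
    h.centralizer_pair_eq b]
  exact (Formula.card_pair E.S E.d hb.1 hb.2).symm

theorem index_mul_card : M.index * (Nat.card (coreIn M) * Nat.card (Tp M)) = Nat.card G := by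
  rw [← card_eq_core_mul, mul_comm, M.card_mul_index]

end Over

/-! ### The ambient simple group -/

include E in
theorem commutator_eq_top : commutator G = ⊤ := by
  refine (E.eq_bot_or_top (N := commutator G) inferInstance).resolve_left fun hb => E.H_ne_top ?_
  refine eq_top_iff.2 fun x _ => E.mem_H.2 (commutatorElement_eq_one_iff_mul_comm.1 ?_)
  rw [← mem_bot, ← hb, _root_.commutator_def]
  exact commutator_mem_commutator (mem_top x) (mem_top E.t)

include E in
theorem card_dvd_factorial {K : Subgroup G} (hK : K ≠ ⊤) : Nat.card G ∣ K.index.factorial := by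
  have hinj : Function.Injective (MulAction.toPermHom G (G ⧸ K)) := by
    rw [← MonoidHom.ker_eq_bot_iff, ← normalCore_eq_ker]
    exact (E.eq_bot_or_top (normalCore_normal K)).resolve_right fun h =>
      hK (top_le_iff.1 (h ▸ normalCore_le K))
  have := Subgroup.card_dvd_of_injective _ hinj
  rwa [Nat.card_perm, ← index_eq_card] at this

variable (E) in
/-- The order formula. -/
theorem exists_order : ∃ F : ℚ, 13 / 20 ≤ F ∧ F ≤ 15 / 8 ∧ (Nat.card G : ℚ) =
    F * 2 ^ (3 * E.d.k + 3) * (Nat.card E.U : ℚ) ^ 3 *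
      (1 / (Nat.card (E.X E.d.a) : ℚ) + 1 / (Nat.card (E.X (E.d.r * E.d.a)) : ℚ)) ^ 2 :=
  Formula.exists_factor E.S E.d (fun _ hx => E.exists_conj hx) fun _ => commutator_eq_top (E := E)

theorem refl_ra : E.Refl (E.d.r * E.d.a) := Formula.refl_mul_a E.d

/-- For `|S| ≥ 8` a reflection is conjugate in `S` to `a` or to `r a`. -/
theorem refl_cases {b : G} (hb : E.Refl b) :
    ∃ s ∈ (E.S : Subgroup G), s * b * s⁻¹ = E.d.a ∨ s * b * s⁻¹ = E.d.r * E.d.a := by
  have hx : b * E.d.a ∈ zpowers E.d.r :=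
    E.d.refl_mul_refl hb.1 hb.2 E.d.a_mem E.d.a_notMem
  obtain ⟨i, hi⟩ := hx
  replace hi : E.d.r ^ i = b * E.d.a := hi
  have hb' : b = E.d.r ^ i * E.d.a := by rw [hi, mul_assoc, E.d.sq, mul_one]
  have hconj : ∀ j l : ℤ, E.d.r ^ j * (E.d.r ^ l * E.d.a) * (E.d.r ^ j)⁻¹ =
      E.d.r ^ (l + 2 * j) * E.d.a := fun j l => by
    have e : E.d.a * (E.d.r ^ j)⁻¹ = E.d.r ^ j * E.d.a := by
      have := E.d.refl_inv E.d.a_mem E.d.a_notMem (inv_mem (zpow_mem (mem_zpowers E.d.r) j))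
      rw [inv_inv] at this
      rw [mul_inv_eq_iff_eq_mul] at this
      exact this
    rw [← mul_assoc, mul_assoc _ E.d.a, e, ← mul_assoc, ← zpow_add, ← zpow_add]
    congr 2; ring
  rcases Int.even_or_odd i with ⟨j, rfl⟩ | ⟨j, rfl⟩
  · refine ⟨E.d.r ^ (-j), E.S.1.zpow_mem E.d.r_mem _, Or.inl ?_⟩
    rw [hb', hconj, show j + j + 2 * -j = 0 by ring, zpow_zero, one_mul]
  · refine ⟨E.d.r ^ (-j), E.S.1.zpow_mem E.d.r_mem _, Or.inr ?_⟩
    rw [hb', hconj, show 2 * j + 1 + 2 * -j = 1 by ring, zpow_one]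

variable (E) in
/-- Counting fixed cosets of an involution. -/
theorem card_fixed_mul (K : Subgroup G) {v : G} (hv : orderOf v = 2) :
    Nat.card {p : G ⧸ K // v • p = p} * E.H.index =
      K.index * Nat.card {x : G // orderOf x = 2 ∧ x ∈ K} := by
  classical
  have hconj : ∀ (g x : G) (p : G ⧸ K), x • p = p → (g * x * g⁻¹) • (g • p) = g • p :=
    fun g x p hp => by rw [← mul_smul, inv_mul_cancel_right, mul_smul, hp]
  let Ω := {x : G // orderOf x = 2}
  have hcardΩ : Nat.card Ω = E.H.index := by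
    have hex : ∀ x : Ω, ∃ g : G, g * E.t * g⁻¹ = x.1 := fun x => E.exists_conj x.2
    rw [index_eq_card]
    refine Nat.card_eq_of_bijective (fun x : Ω => ((hex x).choose : G ⧸ E.H)) ⟨?_, ?_⟩
    · intro x y e
      rw [QuotientGroup.eq, E.mem_H] at e
      refine Subtype.ext ((hex x).choose_spec.symm.trans ?_)
      rw [← (hex y).choose_spec]
      set g := (hex x).choose
      set g' := (hex y).choose
      calc g * E.t * g⁻¹ = g * (E.t * (g⁻¹ * g')) * g'⁻¹ := by group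
        _ = g' * E.t * g'⁻¹ := by rw [← e]; group
    · intro q
      obtain ⟨g, rfl⟩ := QuotientGroup.mk_surjective q
      let x : Ω := ⟨g * E.t * g⁻¹, by rw [CfsgLib.Involutions.orderOf_conj_eq, E.orderOf_t]⟩
      refine ⟨x, QuotientGroup.eq.2 (E.mem_H.2 ?_)⟩
      have e := (hex x).choose_spec
      set g' := (hex x).choose
      calc g'⁻¹ * g * E.t = g'⁻¹ * (g * E.t * g⁻¹) * g := by group
        _ = E.t * (g'⁻¹ * g) := by rw [show g * E.t * g⁻¹ = x.1 from rfl, ← e]; group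
  -- pairs, by involution
  have h1 : Nat.card (Σ x : Ω, {p : G ⧸ K // x.1 • p = p}) =
      E.H.index * Nat.card {p : G ⧸ K // v • p = p} := by
    rw [← hcardΩ, Nat.card_congr ((Equiv.sigmaCongrRight fun x : Ω => ?_).trans
      (Equiv.sigmaEquivProd Ω {p : G ⧸ K // v • p = p})), Nat.card_prod]
    have hex : ∃ g : G, g * x.1 * g⁻¹ = v := by
      obtain ⟨g, hg⟩ := E.exists_conj x.2
      obtain ⟨c, hc⟩ := E.exists_conj hv
      exact ⟨c * g⁻¹, by rw [← hc, ← hg]; group⟩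
    refine (MulAction.toPerm hex.choose).subtypeEquiv fun p => ⟨fun hp => ?_, fun hp => ?_⟩
    · have e := hconj hex.choose x.1 p hp
      rwa [hex.choose_spec] at e
    · have e := hconj hex.choose⁻¹ v _ hp
      rw [MulAction.toPerm_apply, inv_smul_smul,
        show hex.choose⁻¹ * v * hex.choose⁻¹⁻¹ = x.1 by
          conv_lhs => arg 1; arg 2; rw [← hex.choose_spec]
          group] at e
      exact e
  -- pairs, by coset
  have h2 : Nat.card (Σ x : Ω, {p : G ⧸ K // x.1 • p = p}) =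
      K.index * Nat.card {x : G // orderOf x = 2 ∧ x ∈ K} := by
    rw [index_eq_card, ← Nat.card_prod]
    refine Nat.card_congr ?_
    refine Equiv.trans (?_ : _ ≃ Σ p : G ⧸ K, {x : Ω // x.1 • p = p})
      ((Equiv.sigmaCongrRight fun p => ?_).trans (Equiv.sigmaEquivProd _ _))
    · exact ⟨fun y => ⟨y.2.1, ⟨y.1, y.2.2⟩⟩, fun y => ⟨y.2.1, ⟨y.1, y.2.2⟩⟩, fun _ => rfl, fun _ => rfl⟩
    · refine (Equiv.subtypeSubtypeEquivSubtypeInter (fun x : G => orderOf x = 2)
        (fun x => x • p = p)).trans ?_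
      refine (MulAut.conj p.out⁻¹).toEquiv.subtypeEquiv fun x => ?_
      simp only [MulEquiv.toEquiv_eq_coe, EquivLike.coe_coe, MulAut.conj_apply, inv_inv]
      refine and_congr ?_ ?_
      · rw [show p.out⁻¹ * x * p.out = p.out⁻¹ * x * p.out⁻¹⁻¹ by rw [inv_inv],
          CfsgLib.Involutions.orderOf_conj_eq]
      · conv_lhs => rw [← QuotientGroup.out_eq' p, MulAction.Quotient.smul_coe, smul_eq_mul]
        rw [eq_comm, QuotientGroup.eq, mul_assoc]
  rw [mul_comm, ← h1, h2]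

end CfsgLib.GW.CaseOne
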