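import Cfsg.Agent.Lib.GW.CaseOneOne

/-!
Gorenstein–Walter: an arbitrary proper subgroup through a four-group of involutions — the shape of
its quotient by the odd core, odd elements of the centraliser of `t` in that quotient.
-/

set_option autoImplicit false
set_option linter.unusedSectionVars false
set_option linter.unusedVariables false
set_option linter.style.haveILetI false

namespace CfsgLib.GW.CaseOne

open Subgroup CfsgLib.RankOneInvol

universe u

variable {G : Type u} [Group G] [Finite G] {E : Setup G}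

include E in
theorem dc_ambient : Main.DC G := by
  obtain ⟨e⟩ := E.eS
  exact Main.dc_of_sylow E.S (n := E.m) (Or.inl ⟨e⟩)

include E in
/-- The Sylow 2-subgroups of the quotient of a subgroup through two commuting involutions are
dihedral. -/
theorem dihedral_tp {K : Subgroup G} {v w : G} (hv : orderOf v = 2) (hw : orderOf w = 2)
    (hne : v ≠ w) (hvw : v * w = w * v) (hvK : v ∈ K) (hwK : w ∈ K) (P : Sylow 2 (Tp K)) :
    ∃ n, Nonempty ((P : Subgroup (Tp K)) ≃* DihedralGroup n) := by
  haveI : Fact (Nat.Prime 2) := ⟨Nat.prime_two⟩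
  rcases Main.dc_quotient ((dc_ambient (E := E)).subgroup K) _ P.2 with hc | ⟨n, -, hn⟩
  swap
  · exact ⟨n, hn⟩
  exfalso
  have hbv := bar_involution hvK hv
  have hbw := bar_involution hwK hw
  obtain ⟨hv1, hv2⟩ := CfsgLib.Involutions.orderOf_eq_two_iff_mul.1 hv
  obtain ⟨hw1, hw2⟩ := CfsgLib.Involutions.orderOf_eq_two_iff_mul.1 hw
  have hne' : bar K v ≠ bar K w := fun e => by
    obtain ⟨c, hc, ec⟩ := exists_conj_of_congr
      (W := coreIn K ⊓ centralizer ({w} : Set G))
      ((odd_card_coreIn K).of_dvd_nat (card_dvd_of_le inf_le_left)) hw2 hv2 ⟨by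
        have := (bar_eq_bar_iff hvK hwK).1 e
        rwa [inv_eq_of_mul_eq_one_right hw2] at this, mem_centralizer_singleton_iff.2
        (((show Commute v w from hvw).mul_left (Commute.refl w)).eq)⟩
    refine hne ?_
    rw [← ec, mem_centralizer_singleton_iff.1 hc.2, mul_inv_cancel_right]
  set V : Subgroup (Tp K) := Subgroup.closure {bar K v, bar K w}
  have hp : IsPGroup 2 V := by
    refine CfsgLib.DGroup.closure_isPGroup ?_ ?_
    · rintro x (rfl | rfl) y (rfl | rfl)
      exacts [rfl, commute_bar hvK hwK hvw, commute_bar hwK hvK hvw.symm, rfl]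
    · rintro x (rfl | rfl)
      exacts [(CfsgLib.Involutions.orderOf_eq_two_iff_mul.1 hbv).2,
        (CfsgLib.Involutions.orderOf_eq_two_iff_mul.1 hbw).2]
  obtain ⟨Q, hQ⟩ := hp.exists_le_sylow
  have hcQ : IsCyclic (Q : Subgroup (Tp K)) := Main.cyclic_of_equiv (Sylow.equiv P Q) hc
  haveI := hcQ
  haveI : IsCyclic V := isCyclic_of_injective _ (Subgroup.inclusion_injective hQ)
  classical
  haveI : Fintype V := Fintype.ofFinite _
  have h3 : ({1, ⟨bar K v, subset_closure (by simp)⟩, ⟨bar K w, subset_closure (by simp)⟩} :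
      Finset V) ⊆ Finset.univ.filter fun y : V => y ^ 2 = 1 := by
    intro y hy
    simp only [Finset.mem_insert, Finset.mem_singleton] at hy
    refine Finset.mem_filter.2 ⟨Finset.mem_univ _, Subtype.ext ?_⟩
    rcases hy with rfl | rfl | rfl
    · simp
    · simp only [SubmonoidClass.coe_pow]; rw [pow_two]
      exact (CfsgLib.Involutions.orderOf_eq_two_iff_mul.1 hbv).2
    · simp only [SubmonoidClass.coe_pow]; rw [pow_two]
      exact (CfsgLib.Involutions.orderOf_eq_two_iff_mul.1 hbw).2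
  have h2 := (Finset.card_le_card h3).trans (IsCyclic.card_pow_eq_one_le (α := V) two_pos)
  rw [Finset.card_insert_of_notMem, Finset.card_pair] at h2
  · omega
  · exact fun e => hne' (congrArg Subtype.val e)
  · simp only [Finset.mem_insert, Finset.mem_singleton, not_or]
    exact ⟨fun e => (CfsgLib.Involutions.orderOf_eq_two_iff_mul.1 hbv).1 (congrArg Subtype.val e).symm,
      fun e => (CfsgLib.Involutions.orderOf_eq_two_iff_mul.1 hbw).1 (congrArg Subtype.val e).symm⟩

include E in
/-- The possible quotients of a proper subgroup through a four-group. -/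
theorem shape_local {K : Subgroup G} (hK : K ≠ ⊤) {v w : G} (hv : orderOf v = 2)
    (hw : orderOf w = 2) (hne : v ≠ w) (hvw : v * w = w * v) (hvK : v ∈ K) (hwK : w ∈ K) :
    IsPGroup 2 (Tp K) ∨ Nonempty (Tp K ≃* alternatingGroup (Fin 4)) ∨
    Nonempty (Tp K ≃* Equiv.Perm (Fin 4)) ∨ Nonempty (Tp K ≃* Seven.A7) ∨
      ∃ (L : Subgroup (Tp K)) (F : Type) (_ : Field F) (_ : Fintype F), Field.Psl L F := by
  have hd := fun P => dihedral_tp (E := E) hv hw hne hvw hvK hwK P
  rcases E.good K hK with h1 | h1 | h1 | ⟨L, hL, hC, ⟨F, i1, i2, hodd, h3, e⟩ | ⟨⟨f⟩⟩⟩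
  · exact Or.inl h1
  · exact Or.inr (Or.inl h1)
  · exact Or.inr (Or.inr (Or.inl h1))
  · exact Or.inr (Or.inr (Or.inr (Or.inr ⟨L, F, i1, i2, ⟨hL, hC, e, hodd, h3, hd⟩⟩)))
  · obtain ⟨n, hn⟩ := hd default
    have hLt := Seven.equiv_of_normal hL hC f default hn
    exact Or.inr (Or.inr (Or.inr (Or.inl
      ⟨(((MulEquiv.subgroupCongr hLt).trans topEquiv).symm).trans f⟩)))

variable (E) in
/-- Odd elements of the centraliser of the image of `t` come from `U`. -/
theorem mem_img_of_commute {K : Subgroup G} (htK : E.t ∈ K) {τ : Tp K}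
    (hc : τ * bar K E.t = bar K E.t * τ) (ho : Odd (orderOf τ)) : τ ∈ img K (E.U ⊓ K) := by
  obtain ⟨x, hx, rfl⟩ := exists_bar τ
  obtain ⟨c, hc', e⟩ := exists_lift_commute E.t_sq htK hx hc
  have hy : bar K (c * x) = bar K x := by
    rw [bar_mul (coreIn_le K hc') hx, bar_of_mem_coreIn hc', one_mul]
  have hyK := mul_mem (coreIn_le K hc') hx
  have hmem : bar K x ^ 2 ^ (E.d.k + 2) ∈ img K (E.U ⊓ K) := by
    rw [← hy, ← bar_pow hyK]
    exact mem_img.2 ⟨_, ⟨Over.pow_mem_U (E.mem_H.2 e), pow_mem hyK _⟩, pow_mem hyK _, rfl⟩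
  by_cases h1 : bar K x = 1
  · rw [h1]; exact one_mem _
  obtain ⟨m, -, hm⟩ := Nat.exists_mul_mod_eq_one_of_coprime
    ((Nat.coprime_two_left.2 ho).pow_left (E.d.k + 2))
    (Nat.one_lt_iff_ne_zero_and_ne_one.2 ⟨(orderOf_pos _).ne', orderOf_eq_one_iff.not.2 h1⟩)
  have e' : bar K x = (bar K x ^ 2 ^ (E.d.k + 2)) ^ m := by
    rw [← pow_mul, ← pow_mod_orderOf, hm, pow_one]
  rw [e']
  exact pow_mem hmem m

end CfsgLib.GW.CaseOne
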