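import Cfsg.Agent.Lib.GW.CaseOneTwo
import Cfsg.Agent.Lib.GW.CaseOneLocal

/-!
Gorenstein–Walter, a maximal subgroup whose quotient by the odd core is symmetric of degree four
and whose odd core is centralised by `t`: the classes of involutions, the odd core is `U`, the
rotation centralising the elements of the odd core fixed by the outer reflection, the action on the
odd core.
-/

set_option autoImplicit false
set_option linter.unusedSectionVars false
set_option linter.unusedVariables false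
set_option linter.style.haveILetI false

namespace CfsgLib.GW.CaseOne

open Subgroup CfsgLib.RankOneInvol Equiv

universe u

namespace SymFour

theorem pow_eight : ∀ v x : Perm (Fin 4), v * v = 1 ∧ v ≠ 1 ∧ x * v = v * x → x ^ 8 = 1 := by
  decide +kernel

theorem conj_even : ∀ v w : Perm (Fin 4), (v * v = 1 ∧ v ≠ 1 ∧ Perm.sign v = 1) →
    (w * w = 1 ∧ w ≠ 1 ∧ Perm.sign w = 1) → ∃ c, c * v * c⁻¹ = w := by
  decide +kernel

theorem card_even : ∀ v : Perm (Fin 4), (v * v = 1 ∧ v ≠ 1 ∧ Perm.sign v = 1) →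
    (Finset.univ.filter fun x => x * v = v * x).card = 8 := by
  decide +kernel

theorem card_odd : ∀ v : Perm (Fin 4), (v * v = 1 ∧ v ≠ 1 ∧ ¬ Perm.sign v = 1) →
    (Finset.univ.filter fun x => x * v = v * x).card = 4 := by
  decide +kernel

theorem two_odd : ∀ v w : Perm (Fin 4), (v * v = 1 ∧ ¬ Perm.sign v = 1) →
    (w * w = 1 ∧ ¬ Perm.sign w = 1) →
      v = w ∨ ((v * w) ^ 3 = 1 ∧ v * w ≠ 1) ∨
        (v * w * (v * w) = 1 ∧ v * w ≠ 1 ∧ Perm.sign (v * w) = 1) := by
  decide +kernel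

theorem eq_one_of_inverted : ∀ v x : Perm (Fin 4),
    (v * v = 1 ∧ Perm.sign v = 1) → x ^ 3 = 1 → v * x * v = x⁻¹ → x = 1 := by
  decide +kernel

theorem exists_rot : ∀ v w : Perm (Fin 4), (v * v = 1 ∧ v ≠ 1 ∧ Perm.sign v = 1) →
    (w * w = 1 ∧ w ≠ 1 ∧ Perm.sign w = 1) → v ≠ w →
      ∃ c, c * v * c⁻¹ = w ∧ c * w * c⁻¹ = w * v := by
  decide +kernel

theorem conj_products : ∀ v τ : Perm (Fin 4), (v * v = 1 ∧ ¬ Perm.sign v = 1) →
    ∃ σ ρ, τ = σ * v * σ⁻¹ * (ρ * v * ρ⁻¹) ∨ τ * v = σ * v * σ⁻¹ * (ρ * v * ρ⁻¹) := by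
  decide +kernel

end SymFour

variable {G : Type u} [Group G]

/-- An element conjugate to its inverse inside a group of odd order is trivial. -/
theorem eq_one_of_conj_inv {A : Subgroup G} (hA : Odd (Nat.card A)) {x c : G} (hx : x ∈ A)
    (hc : c ∈ A) (e : c * x * c⁻¹ = x⁻¹) : x = 1 := by
  have h2 : Commute (c * c) x := by
    show c * c * x = x * (c * c)
    calc c * c * x = c * (c * x * c⁻¹) * c := by group
      _ = c * x⁻¹ * c⁻¹ * (c * c) := by rw [e]; group
      _ = (c * x * c⁻¹)⁻¹ * (c * c) := by group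
      _ = x * (c * c) := by rw [e, inv_inv]
  obtain ⟨j, hj⟩ := exists_pow_sq_eq (odd_orderOf_of_mem hA hc)
  have hcc : Commute c x := by
    rw [← hj, ← (Commute.refl c).mul_pow]
    exact h2.pow_left j
  refine eq_one_of_mem_of_sq hA hx ?_
  rw [hcc.eq, mul_inv_cancel_right] at e
  nth_rewrite 1 [e]
  rw [inv_mul_cancel]

/-- An element inverted by `b` normalising a set of fixed points centralises it. -/
theorem commute_of_normalizes {A : Subgroup G} (hA : Odd (Nat.card A)) {b n z : G} (hb : b * b = 1)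
    (hn : n ∈ A) (hi : b * n * b = n⁻¹) (hz : b * z * b = z)
    (hz' : b * (n * z * n⁻¹) * b = n * z * n⁻¹) : n * z = z * n := by
  rw [conj_involution_mul hb, conj_involution_mul hb, conj_involution_inv hb, hi, hz, inv_inv] at hz'
  have h2 : Commute (n * n) z := by
    show n * n * z = z * (n * n)
    calc n * n * z = n * (n * z * n⁻¹) * n := by group
      _ = n * (n⁻¹ * z * n) * n := by rw [hz']
      _ = z * (n * n) := by group
  obtain ⟨j, hj⟩ := exists_pow_sq_eq (odd_orderOf_of_mem hA hn)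
  rw [← hj, ← (Commute.refl n).mul_pow]
  exact (h2.pow_left j).eq

theorem mem_centralizer_right {a x : G} :
    x ∈ centralizer ({a} : Set G) ↔ x * a = a * x := mem_centralizer_singleton_iff

/-- The hypotheses for a quotient symmetric of degree four. -/
structure Four (E : Setup G) (M : Subgroup G) (L : Subgroup (Tp M)) (b b₁ : G) : Prop
    extends Two E M L b b₁ where
  equiv : Nonempty (Tp M ≃* Perm (Fin 4))

namespace Four

variable [Finite G] {E : Setup G} {M : Subgroup G} {L : Subgroup (Tp M)} {b b₁ : G}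
variable (h : Four E M L b b₁)
include h

/-- The isomorphism with the symmetric group. -/
noncomputable def e : Tp M ≃* Perm (Fin 4) := h.equiv.some

theorem k_eq : E.d.k = 1 := by
  have h1 := h.one_le_k
  have h2 : 2 ^ (E.d.k + 2) ∣ 24 := by
    have := card_subgroup_dvd_card (h.toOver.syl : Subgroup (Tp M))
    rw [h.toOver.card_syl, Nat.card_congr h.e.toEquiv, Nat.card_perm, Nat.card_fin] at this
    exact this
  by_contra hk
  have h3 := (pow_dvd_pow 2 (show 4 ≤ E.d.k + 2 by omega)).trans h2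
  norm_num at h3

theorem e_bar_involution {v : G} (hvM : v ∈ M) (hv : orderOf v = 2) :
    h.e (bar M v) * h.e (bar M v) = 1 ∧ h.e (bar M v) ≠ 1 := by
  obtain ⟨h1, h2⟩ := CfsgLib.Involutions.orderOf_eq_two_iff_mul.1 (bar_involution hvM hv)
  exact ⟨by rw [← map_mul, h2, map_one], fun e1 => h1 (h.e.injective (by rw [e1, map_one]))⟩

theorem card_centralizer_filter (τ : Tp M) :
    Nat.card (centralizer ({τ} : Set (Tp M))) =
      (Finset.univ.filter fun x => x * h.e τ = h.e τ * x).card := by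
  rw [← Nat.card_eq_finsetCard]
  refine Nat.card_congr (h.e.toEquiv.subtypeEquiv fun x => ?_)
  simp only [MulEquiv.toEquiv_eq_coe, EquivLike.coe_coe, mem_centralizer_singleton_iff,
    Finset.mem_filter, Finset.mem_univ, true_and]
  rw [← map_mul, ← map_mul, h.e.injective.eq_iff]

theorem sign_t : Perm.sign (h.e (bar M E.t)) = 1 := by
  by_contra hne
  obtain ⟨h1, h2⟩ := h.e_bar_involution h.t_mem E.orderOf_t
  have h4 := SymFour.card_odd _ ⟨h1, h2, hne⟩
  rw [← h.card_centralizer_filter] at h4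
  have h3 : Nat.card (h.toOver.syl : Subgroup (Tp M)) ≤
      Nat.card (centralizer ({bar M E.t} : Set (Tp M))) := card_le_of_le fun τ hτ => by
    obtain ⟨s, hs, rfl⟩ := h.toOver.mem_syl.1 hτ
    exact mem_centralizer_singleton_iff.2 (commute_bar (h.S_le hs) h.t_mem (E.d.z_central hs))
  rw [h4, h.toOver.card_syl, h.k_eq] at h3
  norm_num at h3

theorem card_C_t : Nat.card (centralizer ({bar M E.t} : Set (Tp M))) = 8 := by
  obtain ⟨h1, h2⟩ := h.e_bar_involution h.t_mem E.orderOf_t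
  rw [h.card_centralizer_filter]
  exact SymFour.card_even _ ⟨h1, h2, h.sign_t⟩

theorem sign_of_mem {τ : Tp M} (hτ : τ ∈ L) : Perm.sign (h.e τ) = 1 := by
  have hle := h.gen ((Perm.sign.comp h.e.toMonoidHom).ker) inferInstance
    (by rw [MonoidHom.mem_ker, MonoidHom.comp_apply]; exact h.sign_t)
  exact MonoidHom.mem_ker.1 (hle hτ)

/-- An involution of `M` is inner iff its image is even. -/
theorem inner_iff {v : G} (hvM : v ∈ M) (hv : orderOf v = 2) :
    bar M v ∈ L ↔ Perm.sign (h.e (bar M v)) = 1 := by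
  refine ⟨h.sign_of_mem, fun hs => ?_⟩
  obtain ⟨h1, h2⟩ := h.e_bar_involution h.t_mem E.orderOf_t
  obtain ⟨h3, h4⟩ := h.e_bar_involution hvM hv
  obtain ⟨c, hc⟩ := SymFour.conj_even _ _ ⟨h1, h2, h.sign_t⟩ ⟨h3, h4, hs⟩
  refine h.outer_of_conj (g := h.e.symm c) (h.e.injective ?_)
  rw [map_mul, map_mul, map_inv, MulEquiv.apply_symm_apply, hc]

theorem sign_b : ¬ Perm.sign (h.e (bar M b)) = 1 := fun hs =>
  h.outer ((h.inner_iff (h.refl_mem h.refl) h.refl.orderOf_eq).2 hs)

theorem card_C_b_bar : Nat.card (centralizer ({bar M b} : Set (Tp M))) = 4 := by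
  obtain ⟨h1, h2⟩ := h.e_bar_involution (h.refl_mem h.refl) h.refl.orderOf_eq
  rw [h.card_centralizer_filter]
  exact SymFour.card_odd _ ⟨h1, h2, h.sign_b⟩

theorem core_eq_U : coreIn M = E.U := by
  refine eq_of_le_of_card_ge (fun w hw => h.core_le_U hw) ?_
  have h1 := h.toOver.card_U_mul
  rw [h.core_inf_t, h.card_C_t, h.k_eq] at h1
  omega

theorem X_b : E.X b = coreIn M ⊓ centralizer ({b} : Set G) := by
  rw [h.core_eq_U]; rfl

theorem mem_Y {y : G} : y ∈ E.X b ↔ y ∈ coreIn M ∧ y * b = b * y := by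
  rw [h.X_b, mem_inf, mem_centralizer_singleton_iff]

theorem fixed_of_mem_Y {y : G} (hy : y ∈ E.X b) : b * y * b = y :=
  (conj_eq_iff_commute h.refl.sq).2 (h.mem_Y.1 hy).2

/-- An element of `C(t)` of odd order lies in the odd core. -/
theorem mem_core_of_commute {x : G} (hc : x * E.t = E.t * x) (ho : Odd (orderOf x)) :
    x ∈ coreIn M :=
  h.core_eq_U ▸ E.mem_U.2 ⟨hc, ho⟩

/-- Elements of `S` act on the odd core as `1` or as `b`. -/
theorem S_cases {s : G} (hs : s ∈ (E.S : Subgroup G)) :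
    (∀ w ∈ coreIn M, w * s = s * w) ∨ (∀ w ∈ coreIn M, w * (s * b) = s * b * w) := by
  by_cases hsL : bar M s ∈ L
  · exact Or.inl (h.commute_of_two_inner (h.S_le hs) hsL (l := E.d.k + 2) (by
      have hs1 : (⟨s, hs⟩ : (E.S : Subgroup G)) ^ Nat.card (E.S : Subgroup G) = 1 := pow_card_eq_one'
      rw [E.card_S] at hs1
      exact congrArg Subtype.val hs1))
  refine Or.inr ?_
  have hsb := mul_mem hs h.refl.1
  refine h.commute_of_two_inner (h.S_le hsb) ?_ (l := E.d.k + 2) (by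
    have hs1 : (⟨_, hsb⟩ : (E.S : Subgroup G)) ^ Nat.card (E.S : Subgroup G) = 1 := pow_card_eq_one'
    rw [E.card_S] at hs1
    exact congrArg Subtype.val hs1)
  by_cases hs1 : s = 1
  · exfalso; rw [hs1, bar_one] at hsL; exact hsL (one_mem _)
  by_cases hr : s ∈ zpowers E.d.r
  · -- a rotation outside `L` times an outer reflection
    have hsbR : E.Refl (s * b) := ⟨hsb, E.d.mul_refl hr h.refl.2⟩
    rw [h.inner_iff (h.S_le hsb) hsbR.orderOf_eq]
    rw [bar_mul (h.S_le hs) (h.refl_mem h.refl), map_mul, map_mul]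
    by_cases hss : Perm.sign (h.e (bar M s)) = 1
    · exfalso
      have ho : orderOf s = 2 := by
        -- an even element of order four does not exist
        have h4 : (h.e (bar M s)) ^ 8 = 1 := by
          rw [← map_pow, ← bar_pow (h.S_le hs)]
          have hs1' : (⟨s, hs⟩ : (E.S : Subgroup G)) ^ Nat.card (E.S : Subgroup G) = 1 :=
            pow_card_eq_one'
          rw [E.card_S, h.k_eq] at hs1'
          rw [show s ^ 8 = 1 from congrArg Subtype.val hs1', bar_one, map_one]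
        have key : ∀ x : Perm (Fin 4), x ^ 8 = 1 → Perm.sign x = 1 → x * x = 1 := by decide +kernel
        rw [CfsgLib.Involutions.orderOf_eq_two_iff_mul]
        refine ⟨hs1, h.toOver.bar_injOn (mul_mem hs hs) (one_mem _) (h.e.injective ?_)⟩
        rw [bar_one, map_one, bar_mul (h.S_le hs) (h.S_le hs), map_mul]
        exact key _ h4 hss
      rcases Setup.eq_t_or_refl (E := E) hs ho with e | e
      · exact hsL (e ▸ h.t_inner)
      · exact e.2 hr
    · rw [Int.units_ne_iff_eq_neg.1 hss, Int.units_ne_iff_eq_neg.1 h.sign_b]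
      decide
  · have hR : E.Refl s := ⟨hs, hr⟩
    have h1 := h.toOver.sq_bar h.refl.sq (h.refl_mem h.refl)
    -- two outer reflections
    have hss : ¬ Perm.sign (h.e (bar M s)) = 1 := fun e =>
      hsL ((h.inner_iff (h.S_le hs) hR.orderOf_eq).2 e)
    by_cases hsb1 : s * b = 1
    · rw [hsb1, bar_one]; exact one_mem _
    have ho : orderOf (s * b) = 2 := by
      rw [CfsgLib.Involutions.orderOf_eq_two_iff_mul]
      refine ⟨hsb1, h.toOver.bar_injOn (mul_mem hsb hsb) (one_mem _) (h.e.injective ?_)⟩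
      rw [bar_one, map_one, bar_mul (h.S_le hsb) (h.S_le hsb), map_mul]
      obtain ⟨a1, a2⟩ := h.e_bar_involution (h.S_le hs) hR.orderOf_eq
      obtain ⟨b1, b2⟩ := h.e_bar_involution (h.refl_mem h.refl) h.refl.orderOf_eq
      rw [bar_mul (h.S_le hs) (h.refl_mem h.refl), map_mul]
      rcases SymFour.two_odd _ _ ⟨a1, hss⟩ ⟨b1, h.sign_b⟩ with e' | ⟨e', e''⟩ | ⟨e', -, -⟩
      · rw [e', b1, mul_one]
      · exfalso
        refine e'' (orderOf_eq_one_iff.1 (Nat.eq_one_of_dvd_coprimes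
          (show Nat.Coprime 3 8 by decide) (orderOf_dvd_of_pow_eq_one e') ?_))
        refine orderOf_dvd_of_pow_eq_one ?_
        rw [← map_mul, ← map_pow, ← bar_mul (h.S_le hs) (h.refl_mem h.refl), ← bar_pow (h.S_le hsb)]
        have hs1' : (⟨_, hsb⟩ : (E.S : Subgroup G)) ^ Nat.card (E.S : Subgroup G) = 1 :=
          pow_card_eq_one'
        rw [E.card_S, h.k_eq] at hs1'
        rw [show (s * b) ^ 8 = 1 from congrArg Subtype.val hs1', bar_one, map_one]
      · exact e'
    rcases Setup.eq_t_or_refl (E := E) hsb ho with e | e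
    · rw [e]; exact h.t_inner
    · exact absurd (E.d.refl_mul_refl hs hr h.refl.1 h.refl.2) e.2

theorem S_commute_Y {s y : G} (hs : s ∈ (E.S : Subgroup G)) (hy : y ∈ E.X b) : y * s = s * y := by
  obtain ⟨hyW, hyb⟩ := h.mem_Y.1 hy
  rcases h.S_cases hs with h1 | h1
  · exact h1 y hyW
  · have := (show Commute y (s * b) from h1 y hyW).mul_right (show Commute y b from hyb)
    rwa [mul_assoc, h.refl.sq, mul_one] at this

/-- A rotation of `⟨t, b⟩` centralising `C_W(b)`. -/
theorem exists_rot_Y : ∃ g : G, g * E.t * g⁻¹ = b ∧ g * b * g⁻¹ = b * E.t ∧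
    ∀ y ∈ E.X b, g * y = y * g := by
  haveI : Fact (Nat.Prime 2) := ⟨Nat.prime_two⟩
  obtain ⟨g, hgt, hgb, -⟩ := h.refl.exists_rot
  set Y := E.X b
  set C := centralizer (Y : Set G)
  have hN : ∀ x ∈ Y, g * x * g⁻¹ ∈ Y := fun x hx => h.refl.conj_mem_X hgt hgb hx
  have hN' : ∀ x ∈ Y, g⁻¹ * x * g ∈ Y := by
    have hmap : Y.map (MulAut.conj g).toMonoidHom = Y :=
      eq_of_le_of_card_ge (by rintro _ ⟨x, hx, rfl⟩; exact hN x hx)
        (by rw [card_map_of_injective (MulAut.conj g).injective])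
    intro x hx
    rw [← hmap] at hx
    obtain ⟨z, hz, e⟩ := hx
    have e' : g * z * g⁻¹ = x := e
    rw [← e']
    simpa [mul_assoc] using hz
  have hSC : (E.S : Subgroup G) ≤ C := fun s hs =>
    mem_centralizer_iff.2 fun y hy => h.S_commute_Y hs hy
  have hgS : (E.S : Subgroup G).map (MulAut.conj g).toMonoidHom ≤ C := by
    rintro _ ⟨s, hs, rfl⟩
    refine mem_centralizer_iff.2 fun y hy => ?_
    have e := Setup.commute_conj (g := g) (h.S_commute_Y hs (hN' y hy))
    have e2 : g * (g⁻¹ * y * g) * g⁻¹ = y := by group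
    rw [e2] at e
    exact e
  obtain ⟨c, hc⟩ := CfsgLib.Involutions.exists_conj_le_sylow
    ((E.S.2.map (MulAut.conj g).toMonoidHom).comap_subtype (K := C)) (E.S.subtype hSC)
  set n := (c : G) * g with hn
  have hnS : ∀ s ∈ (E.S : Subgroup G), n * s * n⁻¹ ∈ (E.S : Subgroup G) := fun s hs => by
    have h1 := mem_subgroupOf.1 (hc ⟨g * s * g⁻¹, hgS ⟨s, hs, rfl⟩⟩
      (mem_subgroupOf.2 ⟨s, hs, rfl⟩))
    rw [hn, show (c : G) * g * s * ((c : G) * g)⁻¹ = c * (g * s * g⁻¹) * (c : G)⁻¹ by group]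
    exact h1
  have hmapS : (E.S : Subgroup G).map (MulAut.conj n).toMonoidHom = E.S :=
    eq_of_le_of_card_ge (by rintro _ ⟨x, hx, rfl⟩; exact hnS x hx)
      (by rw [card_map_of_injective (MulAut.conj n).injective])
  have hnt : n * E.t = E.t * n := by
    have hcen : ∀ y ∈ (E.S : Subgroup G), n * E.t * n⁻¹ * y = y * (n * E.t * n⁻¹) := fun y hy => by
      rw [← hmapS] at hy
      obtain ⟨s, hs, rfl⟩ := hy
      exact Setup.commute_conj (E.d.z_central hs).symm
    rcases E.d.central_cases h.one_le_k (hnS _ E.t_mem_S) hcen with e | e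
    · exact absurd (conj_eq_one_iff.1 e) E.t_ne_one
    · exact mul_inv_eq_iff_eq_mul.1 e
  obtain ⟨u, hu, s, hs, e⟩ := E.exists_mul (E.mem_H.2 hnt)
  have huS : ∀ x ∈ (E.S : Subgroup G), u * x = x * u := by
    intro x hx
    have h1 : u * x * u⁻¹ ∈ (E.S : Subgroup G) := by
      have h2 := hnS (s⁻¹ * x * s) (mul_mem (mul_mem (inv_mem hs) hx) hs)
      rwa [e, show u * s * (s⁻¹ * x * s) * (u * s)⁻¹ = u * x * u⁻¹ by group] at h2
    have h2 : u * x * u⁻¹ * x⁻¹ ∈ E.U := by
      rw [show u * x * u⁻¹ * x⁻¹ = u * (x * u⁻¹ * x⁻¹) by group]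
      exact mul_mem hu (E.conj_mem_U (E.S_le_H hx) (inv_mem hu))
    exact mul_inv_eq_iff_eq_mul.1 (mul_inv_eq_one.1
      (E.eq_one_of_mem_U_S h2 (mul_mem h1 (inv_mem hx))))
  have huY : u ∈ Y := h.refl.mem_X.2 ⟨(E.mem_U.1 hu).1, huS b h.refl.1, (E.mem_U.1 hu).2⟩
  refine ⟨g * u⁻¹, ?_, ?_, fun y hy => ?_⟩
  · rw [show g * u⁻¹ * E.t * (g * u⁻¹)⁻¹ = g * (u⁻¹ * E.t * u) * g⁻¹ by group,
      mul_assoc u⁻¹, ← huS _ E.t_mem_S, inv_mul_cancel_left, hgt]
  · rw [show g * u⁻¹ * b * (g * u⁻¹)⁻¹ = g * (u⁻¹ * b * u) * g⁻¹ by group,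
      mul_assoc u⁻¹, ← huS _ h.refl.1, inv_mul_cancel_left, hgb]
  · have hg' : g * u⁻¹ = (c : G)⁻¹ * s := by
      have h1 : (c : G) * g = s * u := by rw [← hn, e, huS s hs]
      calc g * u⁻¹ = (c : G)⁻¹ * ((c : G) * g) * u⁻¹ := by group
        _ = (c : G)⁻¹ * s := by rw [h1]; group
    rw [hg']
    exact ((show Commute (c : G) y from (mem_centralizer_iff.1 c.2 y hy).symm).inv_left.mul_left
      (show Commute s y from (h.S_commute_Y hs hy).symm)).eq

theorem not_rot_mem {g : G} (hg : g * E.t * g⁻¹ = b) : g ∉ M := fun hgM => (h.not_conj hgM).1 hg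

/-- A rotation of an inner four-group inside `M`. -/
theorem exists_rot_inner {c : G} (hc : E.Refl c) (hcL : bar M c ∈ L) :
    ∃ g ∈ M, g * E.t * g⁻¹ = c ∧ g * c * g⁻¹ = c * E.t := by
  have hcM := h.refl_mem hc
  obtain ⟨t1, t2⟩ := h.e_bar_involution h.t_mem E.orderOf_t
  obtain ⟨c1, c2⟩ := h.e_bar_involution hcM hc.orderOf_eq
  obtain ⟨σ, hσ1, hσ2⟩ := SymFour.exists_rot _ _ ⟨t1, t2, h.sign_t⟩
    ⟨c1, c2, h.sign_of_mem hcL⟩ fun e =>
      hc.ne_t (h.toOver.bar_injOn hc.1 E.t_mem_S (h.e.injective e.symm))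
  obtain ⟨g, hg, hge⟩ := exists_bar (h.e.symm σ)
  refine ⟨g, hg, ?_, ?_⟩
  · refine h.inner_eq hc.orderOf_eq (by rw [CfsgLib.Involutions.orderOf_conj_eq, E.orderOf_t]) hcM
      (mul_mem (mul_mem hg h.t_mem) (inv_mem hg)) hcL (h.e.injective ?_)
    rw [bar_conj hg h.t_mem, map_mul, map_mul, map_inv, hge, MulEquiv.apply_symm_apply, hσ1]
  · have hctL : bar M (c * E.t) ∈ L := by
      rw [bar_mul hcM h.t_mem]; exact mul_mem hcL h.t_inner
    refine h.inner_eq hc.mul_t.orderOf_eq (by rw [CfsgLib.Involutions.orderOf_conj_eq, hc.orderOf_eq])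
      (h.refl_mem hc.mul_t) (mul_mem (mul_mem hg hcM) (inv_mem hg)) hctL (h.e.injective ?_)
    rw [bar_conj hg hcM, map_mul, map_mul, map_inv, hge, MulEquiv.apply_symm_apply, hσ2,
      bar_mul hcM h.t_mem, map_mul]

end Four

end CfsgLib.GW.CaseOne
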