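import Cfsg.Agent.Lib.GW.CaseOneOuter
import Cfsg.Agent.Lib.GW.CaseOneFourBase

/-!
Gorenstein–Walter, maximal subgroups over an involution centraliser: the two quotients with an
outer reflection, set up from a bare isomorphism type.
-/

set_option autoImplicit false
set_option linter.unusedSectionVars false
set_option linter.unusedVariables false
set_option linter.style.haveILetI false

namespace CfsgLib.GW.CaseOne

open Subgroup CfsgLib.RankOneInvol

universe u

theorem sym_four_even_pow : ∀ x : Equiv.Perm (Fin 4),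
    x ^ 8 = 1 → Equiv.Perm.sign x = 1 → x * x = 1 := by
  decide +kernel

variable {G : Type u} [Group G] [Finite G] {E : Setup G} {M : Subgroup G}

/-- The hypothesis making the odd core centralised by `t`. -/
def CoreHyp (E : Setup G) (M : Subgroup G) : Prop :=
  ∀ b, E.Refl b → (∀ g ∈ M, g * E.t * g⁻¹ ≠ b ∧ g * E.t * g⁻¹ ≠ b * E.t) →
    ∀ w ∈ coreIn M, w * E.t = E.t * w

theorem Over.core_le_of_outer (h : Over E M) (hG1 : CoreHyp E M) {L : Subgroup (Tp M)}
    (hn : L.Normal) (ht : bar M E.t ∈ L) {b : G} (hb : E.Refl b) (hbL : bar M b ∉ L) :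
    ∀ w ∈ coreIn M, w * E.t = E.t * w :=
  hG1 b hb fun g hg => by
    have hmem : bar M (g * E.t * g⁻¹) ∈ L := by
      rw [bar_conj hg h.t_mem]; exact hn.conj_mem _ ht _
    refine ⟨fun e => hbL (e ▸ hmem), fun e => hbL ?_⟩
    rw [e, bar_mul (h.refl_mem hb) h.t_mem] at hmem
    exact (mul_mem_cancel_right ht).1 hmem

/-- The data of a normal `PSL₂(q)` missing a Sylow 2-subgroup. -/
theorem Over.exists_two (h : Over E M) (hG1 : CoreHyp E M) {L : Subgroup (Tp M)} {F : Type}
    [Field F] [Fintype F] (hL : Field.Psl L F) (hS : ¬ (h.syl : Subgroup (Tp M)) ≤ L) :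
    ∃ b b₁ : G, Two E M L b b₁ := by
  haveI : Fact (Nat.Prime 2) := ⟨Nat.prime_two⟩
  haveI := hL.normal
  obtain ⟨x, y, hxL, hyL, hxo, hyo, hxy, hcomm⟩ : ∃ x y : Tp M, x ∈ L ∧ y ∈ L ∧ orderOf x = 2 ∧
      orderOf y = 2 ∧ x ≠ y ∧ x * y = y * x := by
    obtain ⟨x, y, h1, h2, h3, h4, h5, h6⟩ := hL.exists_four
    exact ⟨x, y, h1, h2, h3, h4, h5, h6⟩
  set V : Subgroup (Tp M) := Subgroup.closure {x, y}
  have hVp : IsPGroup 2 V := by
    refine CfsgLib.DGroup.closure_isPGroup ?_ ?_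
    · rintro u (rfl | rfl) v (rfl | rfl)
      exacts [rfl, hcomm, hcomm.symm, rfl]
    · rintro u (rfl | rfl)
      exacts [(CfsgLib.Involutions.orderOf_eq_two_iff_mul.1 hxo).2,
        (CfsgLib.Involutions.orderOf_eq_two_iff_mul.1 hyo).2]
  obtain ⟨g, hg⟩ := CfsgLib.Involutions.exists_conj_le_sylow hVp h.syl
  obtain ⟨s, hs, es⟩ := h.mem_syl.1 (hg x (subset_closure (by simp)))
  obtain ⟨s', hs', es'⟩ := h.mem_syl.1 (hg y (subset_closure (by simp)))
  have hsL : bar M s ∈ L := es ▸ hL.normal.conj_mem x hxL g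
  have hs'L : bar M s' ∈ L := es' ▸ hL.normal.conj_mem y hyL g
  have hso : ∀ {v : G} {u : Tp M}, v ∈ (E.S : Subgroup G) → orderOf u = 2 →
      bar M v = g * u * g⁻¹ → orderOf v = 2 := by
    intro v u hv hu e
    have h2 : orderOf (bar M v) = 2 := by rw [e, CfsgLib.Involutions.orderOf_conj_eq, hu]
    rw [CfsgLib.Involutions.orderOf_eq_two_iff_mul] at h2 ⊢
    exact ⟨fun e1 => h2.1 (by rw [e1, bar_one]), h.bar_injOn (mul_mem hv hv) (one_mem _)
      (by rw [bar_one, bar_mul (h.S_le hv) (h.S_le hv), h2.2])⟩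
  have hss' : s ≠ s' := fun e => hxy (mul_left_cancel (mul_right_cancel
    ((e ▸ es.symm : g * x * g⁻¹ = bar M s').trans es')))
  -- some reflection is inner
  obtain ⟨b₁, hb₁, hb₁L⟩ : ∃ b₁, E.Refl b₁ ∧ bar M b₁ ∈ L := by
    rcases Setup.eq_t_or_refl hs (hso hs hxo es) with e | e
    · rcases Setup.eq_t_or_refl hs' (hso hs' hyo es') with e' | e'
      · exact absurd (e.trans e'.symm) hss'
      · exact ⟨s', e', hs'L⟩
    · exact ⟨s, e, hsL⟩
  -- some element of `S` is outer
  obtain ⟨σ, hσ, hσL⟩ : ∃ σ ∈ (E.S : Subgroup G), bar M σ ∉ L := by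
    by_contra hno
    push Not at hno
    exact hS fun τ hτ => by
      obtain ⟨v, hv, rfl⟩ := h.mem_syl.1 hτ
      exact hno v hv
  have hfp : ∀ {v : G}, v ∈ (E.S : Subgroup G) → hL.fp (bar M v) = 1 := fun {v} hv =>
    hL.fp_of_two_power (n := E.d.k + 2) (by
      have hs1 : (⟨v, hv⟩ : (E.S : Subgroup G)) ^ Nat.card (E.S : Subgroup G) = 1 := pow_card_eq_one'
      rw [E.card_S] at hs1
      rw [← bar_pow (h.S_le hv), show v ^ 2 ^ (E.d.k + 2) = 1 from congrArg Subtype.val hs1, bar_one])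
  obtain ⟨b, hb, hbL⟩ : ∃ b, E.Refl b ∧ bar M b ∉ L := by
    by_cases hr : σ ∈ zpowers E.d.r
    · refine ⟨σ * b₁, ⟨mul_mem hσ hb₁.1, E.d.mul_refl hr hb₁.2⟩, fun e => hσL ?_⟩
      rw [bar_mul (h.S_le hσ) (h.refl_mem hb₁)] at e
      exact (mul_mem_cancel_right hb₁L).1 e
    · exact ⟨σ, ⟨hσ, hr⟩, hσL⟩
  have htL : bar M E.t ∈ L := by
    by_cases hk : E.d.k = 0
    · -- a four-group would lie in `L`
      exfalso
      refine hS fun τ hτ => ?_
      obtain ⟨v, hv, rfl⟩ := h.mem_syl.1 hτ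
      obtain ⟨hs1, hs2, hst⟩ : s * s = 1 ∧ s' * s' = 1 ∧ s * s' = s' * s :=
        ⟨E.d.sq_eq_one_of_four hk hs, E.d.sq_eq_one_of_four hk hs', E.d.comm_of_four hk hs hs'⟩
      classical
      haveI : Fintype (E.S : Subgroup G) := Fintype.ofFinite _
      have h4 : Fintype.card (E.S : Subgroup G) = 4 := by
        rw [← Nat.card_eq_fintype_card, E.card_S, hk]; rfl
      have hne : ∀ {w : G} {u : Tp M}, orderOf u = 2 → bar M w = g * u * g⁻¹ → w ≠ 1 := by
        intro w u hu e e1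
        rw [e1, bar_one, eq_comm, conj_eq_one_iff] at e
        rw [e, orderOf_one] at hu
        omega
      have hu : (Finset.univ : Finset (E.S : Subgroup G)) =
          {1, ⟨s, hs⟩, ⟨s', hs'⟩, ⟨s * s', mul_mem hs hs'⟩} := by
        symm
        refine Finset.eq_univ_of_card _ ?_
        rw [h4, Finset.card_insert_of_notMem, Finset.card_insert_of_notMem, Finset.card_pair]
        · exact fun e => hne hxo es (mul_eq_right.1 (congrArg Subtype.val e).symm)
        · simp only [Finset.mem_insert, Finset.mem_singleton, not_or, ← Subtype.coe_inj]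
          exact ⟨hss', fun e => hne hyo es' (mul_eq_left.1 e.symm)⟩
        · simp only [Finset.mem_insert, Finset.mem_singleton, not_or, ← Subtype.coe_inj,
            OneMemClass.coe_one]
          exact ⟨(hne hxo es).symm, (hne hyo es').symm, fun e => hss' (by
            rw [eq_inv_of_mul_eq_one_left e.symm, inv_eq_of_mul_eq_one_right hs2])⟩
      have hv' := Finset.mem_univ (⟨v, hv⟩ : (E.S : Subgroup G))
      rw [hu] at hv'
      simp only [Finset.mem_insert, Finset.mem_singleton, ← Subtype.coe_inj,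
        OneMemClass.coe_one] at hv'
      rcases hv' with e | e | e | e <;> rw [e]
      · rw [bar_one]; exact one_mem _
      · exact hsL
      · exact hs'L
      · rw [bar_mul (h.S_le hs) (h.S_le hs')]; exact mul_mem hsL hs'L
    · have hr2 : bar M (E.d.r * E.d.r) ∈ L := by
        rw [bar_mul (h.S_le E.d.r_mem) (h.S_le E.d.r_mem)]
        by_cases hr : bar M E.d.r ∈ L
        · exact mul_mem hr hr
        · exact hL.mul_mem_of_not_mem (hfp E.d.r_mem) (hfp E.d.r_mem) hr hr
      obtain ⟨i, e⟩ := mem_zpowers_iff.1 (E.d.z_mem_sq (by omega))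
      have hle : zpowers (E.d.r * E.d.r) ≤ pre M L :=
        zpowers_le.2 (mem_pre.2 ⟨h.S_le (mul_mem E.d.r_mem E.d.r_mem), hr2⟩)
      have := hle (mem_zpowers_iff.2 ⟨i, e⟩)
      exact (mem_pre.1 this).2
  haveI hsimple := (Main.isSimple_and_perfect (L := L)
    (Or.inl ⟨F, inferInstance, inferInstance, hL.odd, hL.three, hL.equiv⟩)).1
  have hgen : ∀ N : Subgroup (Tp M), N.Normal → bar M E.t ∈ N → L ≤ N := by
    intro N hN htN
    haveI := hN
    rcases (inferInstance : (N.subgroupOf L).Normal).eq_bot_or_eq_top with e | e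
    · exfalso
      have h1 : (⟨bar M E.t, htL⟩ : L) = 1 :=
        mem_bot.1 (e ▸ (show (⟨bar M E.t, htL⟩ : L) ∈ N.subgroupOf L from htN))
      exact (CfsgLib.Involutions.orderOf_eq_two_iff_mul.1 (bar_involution h.t_mem E.orderOf_t)).1
        (congrArg Subtype.val h1)
    · exact fun l hl => (e.symm ▸ mem_top (⟨l, hl⟩ : L) : (⟨l, hl⟩ : L) ∈ N.subgroupOf L)
  exact ⟨b, b₁, { h with
    normal := hL.normal
    refl := hb
    refl₁ := hb₁
    inner := hb₁L
    outer := hbL
    t_inner := htL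
    gen := hgen
    conj := fun τ hτ hτo => by
      obtain ⟨c, -, hc⟩ := hL.exists_conj_inner (bar_involution h.t_mem E.orderOf_t) hτo htL hτ
      exact ⟨c, hc⟩
    core_le := h.core_le_of_outer hG1 hL.normal htL hb hbL }⟩

/-- The data of a quotient symmetric of degree four. -/
theorem Over.exists_four_data (h : Over E M) (hG1 : CoreHyp E M)
    (e : Tp M ≃* Equiv.Perm (Fin 4)) :
    ∃ (L : Subgroup (Tp M)) (b b₁ : G), Four E M L b b₁ := by
  haveI : Fact (Nat.Prime 2) := ⟨Nat.prime_two⟩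
  have hk : E.d.k = 1 := by
    have h24 : Nat.card (Tp M) = 24 := by
      rw [Nat.card_congr e.toEquiv, Nat.card_perm, Nat.card_fin]; rfl
    have h1 := h.pow_le_of_dvd (j := 3) (by rw [h24]; norm_num)
    have h2 : 2 ^ (E.d.k + 2) ∣ 24 := by
      rw [← h24, ← h.card_syl]; exact card_subgroup_dvd_card _
    by_contra hk
    have h3 := (pow_dvd_pow 2 (show 4 ≤ E.d.k + 2 by omega)).trans h2
    norm_num at h3
  let sgn : G → ℤˣ := fun v => Equiv.Perm.sign (e (bar M v))
  have hsmul : ∀ {u v : G}, u ∈ M → v ∈ M → sgn (u * v) = sgn u * sgn v := fun {u v} hu hv => by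
    simp only [sgn, bar_mul hu hv, map_mul]
  have hinv : ∀ {v : G}, v ∈ M → orderOf v = 2 → e (bar M v) * e (bar M v) = 1 ∧ e (bar M v) ≠ 1 :=
    fun {v} hv ho => by
      obtain ⟨h1, h2⟩ := CfsgLib.Involutions.orderOf_eq_two_iff_mul.1 (bar_involution hv ho)
      exact ⟨by rw [← map_mul, h2, map_one], fun e1 => h1 (e.injective (by rw [e1, map_one]))⟩
  have hS8 : ∀ {v : G}, v ∈ (E.S : Subgroup G) → e (bar M v) ^ 8 = 1 := fun {v} hv => by
    have hs1 : (⟨v, hv⟩ : (E.S : Subgroup G)) ^ Nat.card (E.S : Subgroup G) = 1 := pow_card_eq_one'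
    rw [E.card_S, hk] at hs1
    rw [← map_pow, ← bar_pow (h.S_le hv), show v ^ 8 = 1 from congrArg Subtype.val hs1, bar_one,
      map_one]
  have hrM := h.S_le E.d.r_mem
  have haM := h.S_le E.d.a_mem
  have hts : sgn E.t = 1 := by
    have ht : E.t = E.d.r * E.d.r := by
      show E.d.z = _
      rw [DihProduct.Dih.z, hk, pow_one, pow_two]
    rw [ht, hsmul hrM hrM]
    exact Int.units_mul_self _
  have hr1 : sgn E.d.r ≠ 1 := fun hs => by
    refine E.d.r_sq_ne_one (by omega) (h.bar_injOn (mul_mem E.d.r_mem E.d.r_mem) (one_mem _)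
      (e.injective ?_))
    rw [bar_one, map_one, bar_mul hrM hrM, map_mul]
    exact sym_four_even_pow _ (hS8 E.d.r_mem) hs
  obtain ⟨b, b₁, hb, hb₁, hbs, hb₁s⟩ : ∃ b b₁ : G, E.Refl b ∧ E.Refl b₁ ∧ sgn b ≠ 1 ∧ sgn b₁ = 1 := by
    have hra : sgn (E.d.r * E.d.a) = sgn E.d.r * sgn E.d.a := hsmul hrM haM
    rcases Int.units_eq_one_or (sgn E.d.a) with ha | ha
    · refine ⟨_, _, refl_ra (E := E), E.refl_a, ?_, ha⟩
      rw [hra, ha, mul_one]; exact hr1
    · refine ⟨_, _, E.refl_a, refl_ra (E := E), by rw [ha]; decide, ?_⟩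
      rw [hra, ha, Int.units_ne_iff_eq_neg.1 hr1]; rfl
  set L : Subgroup (Tp M) := normalClosure {bar M E.t}
  have htL : bar M E.t ∈ L := subset_normalClosure rfl
  have hker : ∀ τ ∈ L, Equiv.Perm.sign (e τ) = 1 := fun τ hτ => by
    have hle : L ≤ (Equiv.Perm.sign.comp e.toMonoidHom).ker := normalClosure_le_normal (by
      rintro _ rfl
      rw [SetLike.mem_coe, MonoidHom.mem_ker, MonoidHom.comp_apply]
      exact hts)
    have := MonoidHom.mem_ker.1 (hle hτ)
    exact this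
  have hev : ∀ τ : Tp M, e τ * e τ = 1 → e τ ≠ 1 → Equiv.Perm.sign (e τ) = 1 →
      ∃ c, c * bar M E.t * c⁻¹ = τ := by
    intro τ h1 h2 h3
    obtain ⟨t1, t2⟩ := hinv h.t_mem E.orderOf_t
    obtain ⟨c, hc⟩ := SymFour.conj_even _ _ ⟨t1, t2, hts⟩ ⟨h1, h2, h3⟩
    exact ⟨e.symm c, e.injective (by rw [map_mul, map_mul, map_inv, MulEquiv.apply_symm_apply, hc])⟩
  have hb₁L : bar M b₁ ∈ L := by
    obtain ⟨h1, h2⟩ := hinv (h.refl_mem hb₁) hb₁.orderOf_eq
    obtain ⟨c, hc⟩ := hev _ h1 h2 hb₁s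
    rw [← hc]
    exact (normalClosure_normal).conj_mem _ htL c
  have hbL : bar M b ∉ L := fun hm => hbs (hker _ hm)
  exact ⟨L, b, b₁, { h with
    normal := normalClosure_normal
    refl := hb
    refl₁ := hb₁
    inner := hb₁L
    outer := hbL
    t_inner := htL
    gen := fun N hN ht => by haveI := hN; exact normalClosure_le_normal (Set.singleton_subset_iff.2 ht)
    conj := fun τ hτ hτo => by
      obtain ⟨h1, h2⟩ := CfsgLib.Involutions.orderOf_eq_two_iff_mul.1 hτo
      exact hev τ (by rw [← map_mul, h2, map_one]) (fun e1 => h1 (e.injective (by rw [e1, map_one])))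
        (hker τ hτ)
    core_le := h.core_le_of_outer hG1 normalClosure_normal htL hb hbL
    equiv := ⟨e⟩ }⟩

end CfsgLib.GW.CaseOne
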