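import Cfsg.Agent.Lib.GW.CaseOneFourThree

/-!
Gorenstein–Walter, quotient symmetric of degree four: the configuration of an elementary group of
order 27 with a transvection cannot occur.
-/

set_option autoImplicit false
set_option linter.unusedSectionVars false
set_option linter.unusedVariables false
set_option linter.style.haveILetI false

namespace CfsgLib.GW.CaseOne

open Subgroup CfsgLib.RankOneInvol

universe u

/-- Exponent vectors. -/
abbrev Vec3 := ZMod 3 × ZMod 3 × ZMod 3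

/-- The transvection. -/
def n2Map (μ ν : ZMod 3) (v : Vec3) : Vec3 := (v.1 + μ * v.2.2, v.2.1 + v.1 + ν * v.2.2, v.2.2)

/-- The partner. -/
def jMap (v : Vec3) : Vec3 := (v.1, -v.2.2, v.2.1)

/-- One closure step. -/
def orbitStep (μ ν : ZMod 3) (s : Finset Vec3) : Finset Vec3 :=
  s ∪ s.image (n2Map μ ν) ∪ s.image jMap ∪ s.image (fun v => -v)

theorem orbit_meets : ∀ μ ν : ZMod 3, μ ≠ 0 →
    ∃ v ∈ (orbitStep μ ν)^[7] {(0, 0, 1)}, v.1 ≠ 0 ∧ v.2.2 = 0 := by
  decide +kernel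

theorem vec_dec : ∀ v : Vec3, v = v.1.val • ((1, 0, 0) : Vec3) + v.2.1.val • ((0, 1, 0) : Vec3) +
    v.2.2.val • ((0, 0, 1) : Vec3) := by
  decide

theorem fixed_eq_zero : ∀ ν : ZMod 3, ν ≠ 0 → 1 + ν * (-ν) = 0 := by decide

theorem val_one_three : (1 : ZMod 3).val = 1 := rfl

variable {G : Type u} [Group G]

theorem pow_val_add {x : G} (hx : x ^ 3 = 1) (a b : ZMod 3) :
    x ^ (a + b).val = x ^ a.val * x ^ b.val := by
  rw [← pow_add, ZMod.val_add]
  conv_rhs => rw [← Nat.mod_add_div (a.val + b.val) 3, pow_add, pow_mul, hx, one_pow, mul_one]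

theorem pow_eq_val {x : G} (hx : x ^ 3 = 1) (i : ℕ) : x ^ i = x ^ (i : ZMod 3).val := by
  rw [ZMod.val_natCast]
  conv_lhs => rw [← Nat.mod_add_div i 3, pow_add, pow_mul, hx, one_pow, mul_one]

variable [Finite G]
variable {E : Setup G} {M : Subgroup G} {L : Subgroup (Tp M)} {b b₁ : G}

/-- The corner configuration. -/
theorem Four.false_of_corner (h : Four E M L b b₁)
    (hne : Or M 3 ⊓ centralizer ({b} : Set G) ≠ ⊥) {z n n₂ : G}
    (hz : z ∈ Or M 3 ⊓ centralizer ({b} : Set G)) (hz1 : z ≠ 1) (hz3 : z ^ 3 = 1)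
    (hZ : ∀ x ∈ Or M 3 ⊓ centralizer ({b} : Set G), ∃ i : ℕ, x = z ^ i)
    (hn : n ∈ Or M 3) (hni : b * n * b = n⁻¹) (hn1 : n ≠ 1) (hnz : n * z = z * n)
    (hnc : ∀ w ∈ coreIn M, w * n = n * w) (hnM : ∀ m ∈ M, m * n * m⁻¹ = n ∨ m * n * m⁻¹ = n⁻¹)
    (hA : ∀ x ∈ Or M 3, x * z = z * x → ∃ i j : ℕ, x = z ^ i * n ^ j)
    (hn₂ : n₂ ∈ Or M 3) (hn₂z : n₂ * z * n₂⁻¹ = z * n) : False := by
  classical
  haveI : Fact (Nat.Prime 3) := ⟨Nat.prime_three⟩
  have hnW := Or_le M 3 hn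
  have hzY := h.Z_le_Y 3 hz
  have hzW := Or_le M 3 hz.1
  have hbz := h.fixed_of_mem_Y hzY
  have hn3 : n ^ 3 = 1 := h.inverted_pow_three (Z := zpowers z) (zpowers_le.2 hzY)
    (fun e => hz1 (zpowers_eq_bot.1 e)) hnW hni fun x hx => by
      obtain ⟨i, rfl⟩ := mem_zpowers_iff.1 hx
      exact ((show Commute n z from hnz).zpow_right i).eq
  have hn_notY : ∀ {y : G}, y ∈ E.X b → n ≠ y := fun {y} hy e => hn1
    (eq_one_of_fixed_inverted (odd_card_coreIn M) hnW (e.symm ▸ h.fixed_of_mem_Y hy) hni)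
  have hnninv : n ≠ n⁻¹ := fun e =>
    hn1 (eq_one_of_mem_of_sq (odd_card_coreIn M) hnW (mul_eq_one_iff_eq_inv.2 e))
  -- `M` is the normaliser of `⟨n⟩`
  have hNn : normalizer (zpowers n : Set G) ≤ M := by
    refine h.toTwo.normalizer_le (fun e => hn1 (zpowers_eq_bot.1 e))
      (zpowers_le.2 (coreIn_le M hnW)) fun m hm x hx => ?_
    obtain ⟨i, rfl⟩ := mem_zpowers_iff.1 hx
    rw [← conj_zpow]
    rcases hnM m hm with e | e <;> rw [e]
    · exact zpow_mem (mem_zpowers n) _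
    · exact zpow_mem (inv_mem (mem_zpowers n)) _
  have hCn : ∀ x : G, x * n = n * x → x ∈ M := fun x hx => hNn
    (mem_normalizer_of_conj fun y hy => by
      obtain ⟨i, rfl⟩ := mem_zpowers_iff.1 hy
      rw [((show Commute x n from hx).zpow_right i).eq, mul_inv_cancel_right]
      exact zpow_mem (mem_zpowers n) _)
  have hmem : ∀ x : G, x * E.t * x⁻¹ * n = n * (x * E.t * x⁻¹) → x ∈ M := by
    intro x hx
    set v := x * E.t * x⁻¹ with hv
    have hvo : orderOf v = 2 := by rw [hv, CfsgLib.Involutions.orderOf_conj_eq, E.orderOf_t]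
    have hvM := hCn v hx
    obtain ⟨m, hm, e | e⟩ := h.involution_conj hvo hvM
    · have h1 : m⁻¹ * x ∈ E.H := by
        rw [E.mem_H]
        calc m⁻¹ * x * E.t = m⁻¹ * (x * E.t * x⁻¹) * x := by group
          _ = E.t * (m⁻¹ * x) := by rw [← hv, ← e]; group
      have h2 := mul_mem hm (h.le h1)
      rwa [mul_inv_cancel_left] at h2
    · exfalso
      have h1 : m⁻¹ * n * m * b = b * (m⁻¹ * n * m) := by
        calc m⁻¹ * n * m * b = m⁻¹ * (n * (m * b * m⁻¹)) * m := by group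
          _ = m⁻¹ * ((m * b * m⁻¹) * n) * m := by rw [e, hx]
          _ = b * (m⁻¹ * n * m) := by group
      have h2 := (conj_eq_iff_commute h.refl.sq).2 h1
      have h3 : m⁻¹ * n * m = n ∨ m⁻¹ * n * m = n⁻¹ := by simpa using hnM m⁻¹ (inv_mem hm)
      rcases h3 with e1 | e1 <;> rw [e1] at h2
      · exact hn1 (eq_one_of_fixed_inverted (odd_card_coreIn M) hnW h2 hni)
      · rw [conj_involution_inv h.refl.sq, hni, inv_inv] at h2
        exact hnninv h2
  have hconjW : ∀ x : G, x * n * x⁻¹ ∈ coreIn M → x ∈ M := by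
    intro x hx
    refine inv_mem_iff.1 (hmem x⁻¹ ?_)
    have e := Setup.commute_conj (g := x⁻¹) (h.core_le _ hx).symm
    rw [inv_inv] at e ⊢
    rwa [show x⁻¹ * (x * n * x⁻¹) * x = n by group] at e
  -- the centraliser of `z`
  obtain ⟨g, hgt, -, hgY⟩ := h.exists_rot_Y
  set J := centralizer ((zpowers z : Subgroup G) : Set G)
  have hJ : ∀ {x : G}, x * z = z * x → x ∈ J := fun {x} hx => mem_centralizer_iff.2 fun y hy => by
    obtain ⟨i, rfl⟩ := mem_zpowers_iff.1 hy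
    exact ((show Commute x z from hx).zpow_right i).eq.symm
  have hJz : ∀ {x : G}, x ∈ J → x * z = z * x := fun {x} hx =>
    (mem_centralizer_iff.1 hx z (mem_zpowers z)).symm
  have hJtop : J ≠ ⊤ := centralizer_ne_top_of_mem E fun e => hz1 (zpowers_eq_bot.1 e)
  obtain ⟨hSJ, hgC⟩ := h.local_data (zpowers_le.2 hzY)
  have hgJ : g ∈ J := hgC g hgY
  have hnJ : n ∈ J := hJ hnz
  have htJ := hSJ E.t_mem_S
  obtain ⟨e7⟩ := (h.inverted_facts hgt hgY hJtop hSJ hgJ ⟨⟨hnW, hnJ⟩, hni⟩).2 hn1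
  have hOY := h.core_le_Y hgt hgY hSJ hgJ
  have hbn1 : bar J n ≠ 1 := fun e => hn_notY (hOY ((bar_eq_one_iff hnJ).1 e)) rfl
  have hbn3 : orderOf (e7 (bar J n)) = 3 := by
    rw [MulEquiv.orderOf_eq]
    exact orderOf_eq_prime (by rw [← bar_pow hnJ, hn3, bar_one]) hbn1
  have hbt2 : orderOf (e7 (bar J E.t)) = 2 := by
    rw [MulEquiv.orderOf_eq]; exact bar_involution htJ E.orderOf_t
  have hbtn : e7 (bar J E.t) * e7 (bar J n) = e7 (bar J n) * e7 (bar J E.t) := by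
    rw [← map_mul, ← map_mul, commute_bar htJ hnJ (h.core_le n hnW).symm]
  obtain ⟨jb, hj1, hj2, hj3, -⟩ := Seven.exists_partner hbn3 hbt2 hbtn
  obtain ⟨j, hjJ, hje⟩ := exists_bar (e7.symm jb)
  have hjz := hJz hjJ
  set c := j * n * j⁻¹ with hc
  have hcJ : c ∈ J := mul_mem (mul_mem hjJ hnJ) (inv_mem hjJ)
  have hcz := hJz hcJ
  have hcb : e7 (bar J c) = jb * e7 (bar J n) * jb⁻¹ := by
    rw [hc, bar_conj hjJ hnJ, map_mul, map_mul, map_inv, hje, MulEquiv.apply_symm_apply]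
  set ζ := c * n * c⁻¹ * n⁻¹ with hζ
  have hζO : ζ ∈ coreIn J := (bar_commute_iff hcJ hnJ).1 (e7.injective (by
    rw [map_mul, map_mul, hcb, hj1]))
  have hcM : c ∈ M := by
    refine hmem c ?_
    have h1 : Commute (c * E.t * c⁻¹) (c * n * c⁻¹) := Setup.commute_conj (h.core_le n hnW).symm
    have h2 : Commute (c * E.t * c⁻¹) ζ := by
      have hO : c⁻¹ * ζ * c ∈ coreIn J := by simpa using conj_mem_coreIn (inv_mem hcJ) hζO
      have := Setup.commute_conj (g := c) (h.core_le _ (h.mem_Y.1 (hOY hO)).1).symm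
      rwa [show c * (c⁻¹ * ζ * c) * c⁻¹ = ζ by group] at this
    have h3 := h2.inv_right.mul_right h1
    rwa [show ζ⁻¹ * (c * n * c⁻¹) = n by rw [hζ]; group] at h3
  have hcn : c * n = n * c := by
    refine mul_inv_eq_iff_eq_mul.1 ((hnM c hcM).resolve_right fun e => ?_)
    refine hn_notY (hOY hζO) ?_
    rw [hζ, e]
    calc n = n ^ 3 * (n⁻¹ * n⁻¹) := by group
      _ = n⁻¹ * n⁻¹ := by rw [hn3, one_mul]
  have hc3 : c ^ 3 = 1 := by rw [hc, conj_pow, hn3, mul_one, mul_inv_cancel]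
  have hjc : j * c * j⁻¹ = n⁻¹ := by
    have hbar : bar J (j * c * j⁻¹) = bar J n⁻¹ := e7.injective (by
      rw [bar_conj hjJ hcJ, bar_inv hnJ, map_mul, map_mul, map_inv, map_inv, hcb, hje,
        MulEquiv.apply_symm_apply]
      exact hj2)
    have hdW : j * c * j⁻¹ * n⁻¹⁻¹ ∈ coreIn J :=
      (bar_eq_bar_iff (mul_mem (mul_mem hjJ hcJ) (inv_mem hjJ)) (inv_mem hnJ)).1 hbar
    rw [inv_inv] at hdW
    have hjjW : j * j * n * (j * j)⁻¹ ∈ coreIn M := by
      rw [show j * j * n * (j * j)⁻¹ = (j * c * j⁻¹ * n) * n⁻¹ by rw [hc]; group]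
      exact mul_mem (h.mem_Y.1 (hOY hdW)).1 (inv_mem hnW)
    have hjj := hconjW _ hjjW
    refine (show j * c * j⁻¹ = n ∨ j * c * j⁻¹ = n⁻¹ by
      rw [show j * c * j⁻¹ = j * j * n * (j * j)⁻¹ by rw [hc]; group]; exact hnM _ hjj).resolve_left
      fun e => ?_
    rw [e] at hdW
    refine hn_notY (inv_mem (hOY hdW) : (n * n)⁻¹ ∈ E.X b) ?_
    calc n = n ^ 3 * (n * n)⁻¹ := by group
      _ = (n * n)⁻¹ := by rw [hn3, one_mul]
  have hcW : c ∉ coreIn M := fun hcW => by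
    have h1 : Commute (e7 (bar J E.t)) (jb * e7 (bar J n) * jb⁻¹) := by
      rw [← hcb]
      show e7 (bar J E.t) * e7 (bar J c) = e7 (bar J c) * e7 (bar J E.t)
      rw [← map_mul, ← map_mul, commute_bar htJ hcJ (h.core_le c hcW).symm]
    have h2 := (hj3 (e7 (bar J E.t)) (by rw [← map_mul, ← bar_mul htJ htJ, E.t_sq, bar_one, map_one])).2.2
      hbtn h1.eq
    rw [h2, orderOf_one] at hbt2
    omega
  -- coordinates
  let P : Vec3 → G := fun v => z ^ v.1.val * n ^ v.2.1.val * c ^ v.2.2.val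
  have Cnz : Commute n z := hnz
  have Ccz : Commute c z := hcz
  have Ccn : Commute c n := hcn
  have hmul : ∀ u v, P u * P v = P (u + v) := fun u v => by
    show z ^ u.1.val * n ^ u.2.1.val * c ^ u.2.2.val * (z ^ v.1.val * n ^ v.2.1.val * c ^ v.2.2.val)
      = z ^ (u.1 + v.1).val * n ^ (u.2.1 + v.2.1).val * c ^ (u.2.2 + v.2.2).val
    rw [pow_val_add hz3, pow_val_add hn3, pow_val_add hc3]
    have a1 := (Ccz.pow_pow u.2.2.val v.1.val)
    have a2 := (Cnz.pow_pow u.2.1.val v.1.val)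
    have a3 := (Ccn.pow_pow u.2.2.val v.2.1.val)
    calc z ^ u.1.val * n ^ u.2.1.val * c ^ u.2.2.val *
          (z ^ v.1.val * n ^ v.2.1.val * c ^ v.2.2.val)
        = z ^ u.1.val * n ^ u.2.1.val * (c ^ u.2.2.val * z ^ v.1.val) * n ^ v.2.1.val *
            c ^ v.2.2.val := by group
      _ = z ^ u.1.val * (n ^ u.2.1.val * z ^ v.1.val) * (c ^ u.2.2.val * n ^ v.2.1.val) *
            c ^ v.2.2.val := by rw [a1.eq]; group
      _ = _ := by rw [a2.eq, a3.eq]; group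
  have hP0 : P 0 = 1 := by simp [P]
  have hval1 : (1 : ZMod 3).val = 1 := val_one_three
  have hPz : P (1, 0, 0) = z := by simp [P, hval1]
  have hPn : P (0, 1, 0) = n := by simp [P, hval1]
  have hPc : P (0, 0, 1) = c := by simp [P, hval1]
  have hneg : ∀ v, P (-v) = (P v)⁻¹ := fun v =>
    eq_inv_of_mul_eq_one_left (by rw [hmul, neg_add_cancel, hP0])
  have hpowP : ∀ v (i : ℕ), (P v) ^ i = P (i • v) := fun v i => by
    induction i with
    | zero => rw [pow_zero, zero_smul, hP0]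
    | succ i ih => rw [pow_succ, ih, hmul, succ_nsmul]
  have hsplit : ∀ v : Vec3, P v = P (1, 0, 0) ^ v.1.val * P (0, 1, 0) ^ v.2.1.val *
      P (0, 0, 1) ^ v.2.2.val := fun v => by rw [hPz, hPn, hPc]
  have hdec := vec_dec
  -- a homomorphic map is determined on the generators
  have hmap : ∀ (x : G) (f : Vec3 → Vec3), (∀ u v, f (u + v) = f u + f v) → f 0 = 0 →
      x * z * x⁻¹ = P (f (1, 0, 0)) → x * n * x⁻¹ = P (f (0, 1, 0)) →
      x * c * x⁻¹ = P (f (0, 0, 1)) → ∀ v, x * P v * x⁻¹ = P (f v) := by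
    intro x f hadd h0 e1 e2 e3 v
    have hn' : ∀ (w : Vec3) (i : ℕ), f (i • w) = i • f w := fun w i => by
      induction i with
      | zero => rw [zero_smul, zero_smul, h0]
      | succ i ih => rw [succ_nsmul, hadd, ih, succ_nsmul]
    calc x * P v * x⁻¹ = (x * z * x⁻¹) ^ v.1.val * (x * n * x⁻¹) ^ v.2.1.val *
          (x * c * x⁻¹) ^ v.2.2.val := by
          rw [conj_pow, conj_pow, conj_pow]
          show x * (z ^ v.1.val * n ^ v.2.1.val * c ^ v.2.2.val) * x⁻¹ = _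
          group
      _ = P (f v) := by
          rw [e1, e2, e3, hpowP, hpowP, hpowP, hmul, hmul, ← hn', ← hn', ← hn', ← hadd, ← hadd,
            ← hdec]
  -- the image of `c` under `n₂`
  have hn₂M := coreIn_le M (Or_le M 3 hn₂)
  have hn₂n : n₂ * n * n₂⁻¹ = n := by rw [hnc n₂ (Or_le M 3 hn₂), mul_inv_cancel_right]
  obtain ⟨μ, ν, hμν⟩ : ∃ μ ν : ZMod 3, n₂ * c * n₂⁻¹ = P (μ, ν, 1) := by
    set x := c * n₂ * c⁻¹ with hx
    have hxR : x ∈ Or M 3 := Or_conj hcM hn₂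
    have hcommz : x * n₂⁻¹ * z = z * (x * n₂⁻¹) := by
      have e1 : x * z * x⁻¹ = n₂ * z * n₂⁻¹ := by
        rw [hn₂z]
        calc x * z * x⁻¹ = c * (n₂ * (c⁻¹ * z * c) * n₂⁻¹) * c⁻¹ := by rw [hx]; group
          _ = c * (z * n) * c⁻¹ := by rw [mul_assoc c⁻¹, ← Ccz.eq, inv_mul_cancel_left, hn₂z]
          _ = z * n := by rw [(Ccz.mul_right Ccn).eq, mul_inv_cancel_right]
      have e2 : n₂⁻¹ * z * n₂ = z * n⁻¹ := by
        calc n₂⁻¹ * z * n₂ = n₂⁻¹ * (z * n) * n₂ * (n₂⁻¹ * n * n₂)⁻¹ := by group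
          _ = z * n⁻¹ := by
            rw [← hn₂z, mul_assoc n₂⁻¹ n, ← hnc n₂ (Or_le M 3 hn₂), inv_mul_cancel_left]
            group
      calc x * n₂⁻¹ * z = x * (n₂⁻¹ * z * n₂) * n₂⁻¹ := by group
        _ = x * z * n⁻¹ * n₂⁻¹ := by rw [e2]; group
        _ = (x * z * x⁻¹) * (x * n⁻¹ * x⁻¹) * (x * n₂⁻¹) := by group
        _ = z * (x * n₂⁻¹) := by
            rw [e1, hn₂z, (show Commute x n from hnc x (Or_le M 3 hxR)).inv_right.eq,
              mul_inv_cancel_right]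
            group
    obtain ⟨i, i', e⟩ := hA _ (mul_mem hxR (inv_mem hn₂)) hcommz
    refine ⟨-(i : ZMod 3), -(i' : ZMod 3), ?_⟩
    have e1 : n₂ * c * n₂⁻¹ = (x * n₂⁻¹)⁻¹ * c := by rw [hx]; group
    rw [e1, e, show ((-(i : ZMod 3), -(i' : ZMod 3), 1) : Vec3) =
      -((i : ZMod 3), (i' : ZMod 3), 0) + (0, 0, 1) by simp, ← hmul, hneg, hPc]
    congr 2
    show z ^ i * n ^ i' = z ^ (i : ZMod 3).val * n ^ (i' : ZMod 3).val * c ^ (0 : ZMod 3).val
    rw [← pow_eq_val hz3, ← pow_eq_val hn3, ZMod.val_zero, pow_zero, mul_one]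
  have hn2map : ∀ v, n₂ * P v * n₂⁻¹ = P (n2Map μ ν v) := by
    refine hmap n₂ (n2Map μ ν) (fun u v => ?_) (by simp [n2Map]) ?_ ?_ ?_
    · simp only [n2Map, Prod.fst_add, Prod.snd_add, Prod.mk_add_mk]; ring_nf
    · rw [hn₂z, show n2Map μ ν (1, 0, 0) = (1, 0, 0) + (0, 1, 0) by simp [n2Map], ← hmul, hPz, hPn]
    · rw [hn₂n, show n2Map μ ν (0, 1, 0) = (0, 1, 0) by simp [n2Map], hPn]
    · rw [hμν, show n2Map μ ν (0, 0, 1) = (μ, ν, 1) by simp [n2Map]]
  have hjmap : ∀ v, j * P v * j⁻¹ = P (jMap v) := by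
    refine hmap j jMap (fun u v => ?_) (by simp [jMap]) ?_ ?_ ?_
    · simp only [jMap, Prod.fst_add, Prod.snd_add, Prod.mk_add_mk, neg_add_rev]; ring_nf
    · rw [hjz, mul_inv_cancel_right, show jMap (1, 0, 0) = (1, 0, 0) by simp [jMap], hPz]
    · rw [show jMap (0, 1, 0) = (0, 0, 1) by simp [jMap], hPc]
    · rw [show jMap (0, 0, 1) = -(0, 1, 0) by simp [jMap], hneg, hPn, hjc]
  by_cases hμ : μ = 0
  · subst hμ
    by_cases hν : ν = 0
    · -- `n₂` centralises `c`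
      subst hν
      rw [hPc] at hμν
      have hn₂c : n₂ * c = c * n₂ := mul_inv_eq_iff_eq_mul.1 hμν
      have hm : j⁻¹ * n₂ * j ∈ M := hCn _ (by
        calc j⁻¹ * n₂ * j * n = j⁻¹ * (n₂ * c) * j := by rw [hc]; group
          _ = n * (j⁻¹ * n₂ * j) := by rw [hn₂c, hc]; group)
      have h1 := conj_mem_coreIn hm hzW
      have h2 : j⁻¹ * n₂ * j * z * (j⁻¹ * n₂ * j)⁻¹ = z * c⁻¹ := by
        calc j⁻¹ * n₂ * j * z * (j⁻¹ * n₂ * j)⁻¹
            = j⁻¹ * (n₂ * (j * z * j⁻¹) * n₂⁻¹) * j := by group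
          _ = j⁻¹ * (z * n) * j := by rw [hjz, mul_inv_cancel_right, hn₂z]
          _ = j⁻¹ * z * j * (j⁻¹ * n * j) := by group
          _ = z * (j⁻¹ * (j * c * j⁻¹)⁻¹ * j) := by
              rw [mul_assoc j⁻¹ z, ← hjz, inv_mul_cancel_left, hjc, inv_inv]
          _ = z * c⁻¹ := by group
      rw [h2] at h1
      have h3 := mul_mem (inv_mem hzW) h1
      rw [inv_mul_cancel_left, inv_mem_iff] at h3
      exact hcW h3
    · -- a fixed point of the transvection
      set α : ZMod 3 := -ν with hα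
      have hαν := fixed_eq_zero
      set f' := P (1, 0, α) with hf'
      have hfix : n₂ * f' * n₂⁻¹ = f' := by
        rw [hf', hn2map]
        refine congrArg P ?_
        simp only [n2Map, zero_mul, add_zero, zero_add]
        rw [hα, hαν ν hν]
      set a := α.val with ha
      have hpow : ∀ i : ℕ, n₂ ^ i * z * (n₂ ^ i)⁻¹ = P (1, (i : ZMod 3), 0) := fun i => by
        induction i with
        | zero => simp [hPz]
        | succ i ih =>
          rw [pow_succ', show n₂ * n₂ ^ i * z * (n₂ * n₂ ^ i)⁻¹ =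
            n₂ * (n₂ ^ i * z * (n₂ ^ i)⁻¹) * n₂⁻¹ by group, ih, hn2map]
          simp [n2Map, add_comm]
      set h' := j * n₂ ^ a with hh'
      have hh'z : h' * z * h'⁻¹ = f' := by
        rw [hh', show j * n₂ ^ a * z * (j * n₂ ^ a)⁻¹ = j * (n₂ ^ a * z * (n₂ ^ a)⁻¹) * j⁻¹ by group,
          hpow, hjmap, hf', ha, ZMod.natCast_val, ZMod.cast_id]
        simp [jMap]
      set x := h'⁻¹ * n₂ * h' with hx
      set f := h'⁻¹ * z * h' with hf
      have hzf : z * f' = f' * z := by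
        rw [hf', ← hPz, hmul, hmul, add_comm]
      have hxJ : x ∈ J := hJ (by
        have e1 : n₂ * f' = f' * n₂ := mul_inv_eq_iff_eq_mul.1 hfix
        calc x * z = h'⁻¹ * (n₂ * (h' * z * h'⁻¹)) * h' := by rw [hx]; group
          _ = h'⁻¹ * (h' * z * h'⁻¹ * n₂) * h' := by rw [hh'z, e1]
          _ = z * x := by rw [hx]; group)
      have hfJ : f ∈ J := hJ (by
        calc f * z = h'⁻¹ * (z * (h' * z * h'⁻¹)) * h' := by rw [hf]; group
          _ = h'⁻¹ * (h' * z * h'⁻¹ * z) * h' := by rw [hh'z, hzf]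
          _ = z * f := by rw [hf]; group)
      have hxf : x * f * x⁻¹ * f⁻¹ = h'⁻¹ * n * h' := by
        calc x * f * x⁻¹ * f⁻¹ = h'⁻¹ * (n₂ * z * n₂⁻¹ * z⁻¹) * h' := by rw [hx, hf]; group
          _ = h'⁻¹ * n * h' := by rw [hn₂z, ← hnz]; group
      set Q := (conjBy (Or M 3) h'⁻¹ ⊓ J).subgroupOf J
      have hQp : IsPGroup 3 (Q.map (QuotientGroup.mk' (Cfsg.oddCore ↥J))) := by
        refine IsPGroup.map ?_ _
        exact (IsPGroup.to_le (((Or_isPGroup M 3).map _).to_le le_rfl)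
          (inf_le_left : conjBy (Or M 3) h'⁻¹ ⊓ J ≤ conjBy (Or M 3) h'⁻¹)).comap_subtype
      obtain ⟨P₃, hP₃⟩ := hQp.exists_le_sylow
      have hP9 : Nat.card (P₃ : Subgroup (Tp J)) = 3 ^ 2 := by
        obtain ⟨i, hi⟩ := IsPGroup.iff_card.1 P₃.2
        have hT : Nat.card (Tp J) = 2520 := by
          rw [Nat.card_congr e7.toEquiv, CfsgLib.DimThreeMax.card_alt_seven]
        have h1 : 3 ^ i ∣ 2520 := hT ▸ hi ▸ card_subgroup_dvd_card _
        have h2 : 3 ^ 2 ∣ 3 ^ i :=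
          hi ▸ Sylow.pow_dvd_card_of_pow_dvd_card P₃ (by rw [hT]; norm_num)
        have h2' := (Nat.pow_dvd_pow_iff_le_right (by norm_num : 1 < 3)).1 h2
        have h3 : i ≤ 2 := by
          by_contra hi'
          have := (pow_dvd_pow 3 (show 3 ≤ i by omega)).trans h1
          norm_num at this
        rw [hi, show i = 2 by omega]
      have hmemQ : ∀ y ∈ Or M 3, ∀ hy : h'⁻¹ * y * h' ∈ J,
          bar J (h'⁻¹ * y * h') ∈ (P₃ : Subgroup (Tp J)) := fun y hy hyJ => by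
        refine hP₃ ⟨⟨_, hyJ⟩, mem_subgroupOf.2 ⟨mem_conjBy.2 ?_, hyJ⟩, (bar_of_mem hyJ).symm⟩
        rw [inv_inv, show h' * (h'⁻¹ * y * h') * h'⁻¹ = y by group]
        exact hy
      have hcomm := IsPGroup.isMulCommutative_of_card_eq_prime_sq hP9
      have hb2 : bar J x * bar J f = bar J f * bar J x := congrArg Subtype.val (hcomm.is_comm.comm
        (⟨_, hmemQ n₂ hn₂ hxJ⟩ : (P₃ : Subgroup (Tp J))) ⟨_, hmemQ z hz.1 hfJ⟩)
      have h1 : h'⁻¹ * n * h' ∈ coreIn J := hxf ▸ (bar_commute_iff hxJ hfJ).1 hb2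
      have h2 := hOY h1
      have h3 : h'⁻¹ ∈ M := hconjW _ (by rw [inv_inv]; exact (h.mem_Y.1 h2).1)
      rcases hnM _ h3 with e | e <;> rw [inv_inv] at e <;> rw [e] at h2
      · exact hn_notY h2 rfl
      · exact hn_notY (inv_mem h2) (inv_inv n).symm
  · -- orbit
    let Q : Vec3 → Prop := fun v => ∃ x : G, P v = x * n * x⁻¹ ∨ P v = x * n⁻¹ * x⁻¹
    have hQ : ∀ i, ∀ v ∈ (orbitStep μ ν)^[i] {(0, 0, 1)}, Q v := by
      intro i
      induction i with
      | zero =>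
        intro v hv
        rw [Function.iterate_zero_apply, Finset.mem_singleton] at hv
        exact ⟨j, Or.inl (by rw [hv, hPc])⟩
      | succ i ih =>
        intro v hv
        rw [Function.iterate_succ_apply'] at hv
        simp only [orbitStep, Finset.mem_union, Finset.mem_image] at hv
        rcases hv with ((hv | ⟨u, hu, rfl⟩) | ⟨u, hu, rfl⟩) | ⟨u, hu, rfl⟩
        · exact ih v hv
        · obtain ⟨x, e | e⟩ := ih u hu
          · exact ⟨n₂ * x, Or.inl (by rw [← hn2map, e]; group)⟩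
          · exact ⟨n₂ * x, Or.inr (by rw [← hn2map, e]; group)⟩
        · obtain ⟨x, e | e⟩ := ih u hu
          · exact ⟨j * x, Or.inl (by rw [← hjmap, e]; group)⟩
          · exact ⟨j * x, Or.inr (by rw [← hjmap, e]; group)⟩
        · obtain ⟨x, e | e⟩ := ih u hu
          · exact ⟨x, Or.inr (by rw [hneg, e]; group)⟩
          · exact ⟨x, Or.inl (by rw [hneg, e]; group)⟩
    obtain ⟨v, hv, hv1, hv3⟩ := orbit_meets μ ν hμ
    obtain ⟨x, hx⟩ := hQ 7 v hv
    have hPv : P v = z ^ v.1.val * n ^ v.2.1.val := by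
      show z ^ v.1.val * n ^ v.2.1.val * c ^ v.2.2.val = _
      rw [hv3, ZMod.val_zero, pow_zero, mul_one]
    have hPW : P v ∈ coreIn M := hPv ▸ mul_mem (pow_mem hzW _) (pow_mem hnW _)
    have hxM : x ∈ M := by
      refine hconjW x ?_
      rcases hx with e | e
      · exact e ▸ hPW
      · have := inv_mem hPW
        rw [e, show (x * n⁻¹ * x⁻¹)⁻¹ = x * n * x⁻¹ by group] at this
        exact this
    have hPn' : P v = n ∨ P v = n⁻¹ := by
      rcases hx with e | e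
      · rw [e]; exact hnM x hxM
      · rw [e, show x * n⁻¹ * x⁻¹ = (x * n * x⁻¹)⁻¹ by group]
        rcases hnM x hxM with e1 | e1 <;> rw [e1]
        · exact Or.inr rfl
        · exact Or.inl (inv_inv n)
    obtain ⟨l, hl⟩ : ∃ l : ℤ, z ^ v.1.val = n ^ l := by
      rw [hPv] at hPn'
      rcases hPn' with e | e
      · exact ⟨1 - v.2.1.val, by rw [zpow_sub, zpow_one, zpow_natCast]; exact eq_mul_inv_of_mul_eq e⟩
      · exact ⟨-1 - v.2.1.val, by rw [zpow_sub, zpow_neg, zpow_one, zpow_natCast]; exact eq_mul_inv_of_mul_eq e⟩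
    have hfixl : b * z ^ v.1.val * b = z ^ v.1.val := by
      conv_lhs => arg 2; rw [← h.refl.inv]
      rw [← conj_pow, h.refl.inv, hbz]
    have hone : z ^ v.1.val = 1 := by
      refine eq_one_of_fixed_inverted (odd_card_coreIn M) (pow_mem hzW _) hfixl ?_
      rw [hl]
      conv_lhs => arg 2; rw [← h.refl.inv]
      rw [← conj_zpow, h.refl.inv, hni, inv_zpow]
    refine hv1 ((ZMod.val_eq_zero _).1 ?_)
    have hd := orderOf_dvd_of_pow_eq_one hone
    rw [orderOf_eq_prime hz3 hz1] at hd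
    exact Nat.eq_zero_of_dvd_of_lt hd (ZMod.val_lt _)

end CfsgLib.GW.CaseOne
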