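import Cfsg.Agent.Lib.GW.CaseOneFourBase

/-!
Gorenstein–Walter, quotient symmetric of degree four: proper subgroups through the Sylow 2-subgroup
and the rotation centralising `C_W(b)`.
-/

set_option autoImplicit false
set_option linter.unusedSectionVars false
set_option linter.unusedVariables false
set_option linter.style.haveILetI false

namespace CfsgLib.GW.CaseOne

open Subgroup CfsgLib.RankOneInvol Equiv

universe u

variable {G : Type u} [Group G] [Finite G] {E : Setup G}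

theorem dvd_three_of_alt_seven {K : Subgroup G} (e : Tp K ≃* Seven.A7) {T : G} (hT : T ∈ K)
    (hTo : orderOf T = 2) {A : Subgroup (Tp K)} (hA : Odd (Nat.card A))
    (hc : ∀ a ∈ A, a * bar K T = bar K T * a) : Nat.card A ∣ 3 := by
  have h24 : Nat.card (centralizer ({bar K T} : Set (Tp K))) = 24 := by
    rw [card_centralizer_equiv e, Seven.card_centralizer_involution]
    rw [MulEquiv.orderOf_eq, bar_involution hT hTo]
  have h1 : Nat.card A ∣ 8 * 3 := by
    have := card_dvd_of_le (H := A) (K := centralizer ({bar K T} : Set (Tp K)))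
      (fun a ha => mem_centralizer_singleton_iff.2 (hc a ha))
    rw [h24] at this
    exact this
  exact ((Nat.coprime_two_right.2 hA).pow_right 3).dvd_of_dvd_mul_left h1

namespace Four

variable {M : Subgroup G} {L : Subgroup (Tp M)} {b b₁ : G} (h : Four E M L b b₁) {g : G}
variable (hgt : g * E.t * g⁻¹ = b) (hgY : ∀ y ∈ E.X b, g * y = y * g)
variable {K : Subgroup G} (hK : K ≠ ⊤) (hSK : (E.S : Subgroup G) ≤ K) (hgK : g ∈ K)
include h hgt hgY hSK hgK

/-- The odd core of such a subgroup is centralised by `b`. -/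
theorem core_le_Y : coreIn K ≤ E.X b := by
  have htK := hSK E.t_mem_S
  have hb₁K := hSK h.refl₁.1
  have hb₁W : ∀ v, orderOf v = 2 → v ∈ M → bar M v ∈ L →
      ∀ x : G, x * v = v * x → Odd (orderOf x) → x ∈ coreIn M := by
    intro v hv hvM hvL x hx ho
    obtain ⟨m, hm, e⟩ := (h.mem_inner_iff hv hvM).1 hvL
    have h1 : m⁻¹ * x * m * E.t = E.t * (m⁻¹ * x * m) := by
      calc m⁻¹ * x * m * E.t = m⁻¹ * (x * (m * E.t * m⁻¹)) * m := by group
        _ = m⁻¹ * (m * E.t * m⁻¹ * x) * m := by rw [e, hx]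
        _ = E.t * (m⁻¹ * x * m) := by group
    have h2 := h.mem_core_of_commute h1 (by
      have := odd_orderOf_conj ho m⁻¹
      rwa [inv_inv] at this)
    have h3 := conj_mem_coreIn hm h2
    simpa [mul_assoc] using h3
  have hOW : coreIn K ≤ coreIn M := h.refl₁.le_of_fixed (odd_card_coreIn K)
    (fun w hw => conj_mem_of_inv E.t_sq htK hw) (fun w hw => conj_mem_of_inv h.refl₁.sq hb₁K hw)
    (fun w hw hc => h.mem_core_of_commute hc (odd_orderOf_of_mem (odd_card_coreIn K) hw))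
    (fun w hw hc => hb₁W _ h.refl₁.orderOf_eq (h.refl_mem h.refl₁) h.inner w hc
      (odd_orderOf_of_mem (odd_card_coreIn K) hw))
    (fun w hw hc => hb₁W _ h.refl₁.mul_t.orderOf_eq (h.refl_mem h.refl₁.mul_t) h.b₁_mul_t_inner w hc
      (odd_orderOf_of_mem (odd_card_coreIn K) hw))
  intro x hx
  have hy := conj_mem_coreIn hgK hx
  have hyY : g * x * g⁻¹ ∈ E.X b := by
    refine h.mem_Y.2 ⟨hOW hy, ?_⟩
    rw [← hgt]
    exact Setup.commute_conj (h.core_le x (hOW hx))
  have e := hgY _ hyY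
  have h1 : x = g * x * g⁻¹ := by
    calc x = g⁻¹ * (g * x * g⁻¹ * g) := by group
      _ = g⁻¹ * (g * (g * x * g⁻¹)) := by rw [e]
      _ = g * x * g⁻¹ := by group
  exact h1 ▸ hyY

include hK

/-- An element of the odd core inverted by `b` in such a subgroup. -/
theorem inverted_facts {n : G} (hn : n ∈ inverted (coreIn M ⊓ K) b) :
    n ^ 3 = 1 ∧ (n ≠ 1 → Nonempty (Tp K ≃* Seven.A7)) := by
  obtain ⟨⟨hnW, hnK⟩, hni⟩ := hn
  have htK := hSK E.t_mem_S
  have hb₁K := hSK h.refl₁.1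
  have hbK := hSK h.refl.1
  have hn1 : ∀ l : ℕ, bar K n ^ l = 1 → n ^ l = 1 := fun l e => by
    have h1 : n ^ l ∈ coreIn K := (bar_eq_one_iff (pow_mem hnK l)).1 (by rw [bar_pow hnK, e])
    refine eq_one_of_fixed_inverted (odd_card_coreIn M) (pow_mem hnW l)
      (h.fixed_of_mem_Y (h.core_le_Y hgt hgY hSK hgK h1)) ?_
    rw [← inv_pow, ← hni]
    conv_lhs => arg 2; rw [← h.refl.inv]
    conv_rhs => arg 1; arg 2; rw [← h.refl.inv]
    rw [conj_pow, h.refl.inv]
  have hno : Odd (orderOf n) := odd_orderOf_of_mem (odd_card_coreIn M) hnW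
  have hbo : Odd (orderOf (bar K n)) :=
    hno.of_dvd_nat (orderOf_dvd_of_pow_eq_one (by rw [← bar_pow hnK, pow_orderOf_eq_one, bar_one]))
  have hbt : bar K n * bar K E.t = bar K E.t * bar K n := commute_bar hnK htK (h.core_le n hnW)
  have htriv : bar K n = 1 → n ^ 3 = 1 ∧ (n ≠ 1 → Nonempty (Tp K ≃* Seven.A7)) := fun e => by
    have := hn1 1 (by rw [pow_one, e])
    rw [pow_one] at this
    exact ⟨by rw [this, one_pow], fun hne => absurd this hne⟩
  have hS8 : 8 ∣ Nat.card (Tp K) := by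
    have hle : Nat.card (img K (E.S : Subgroup G)) = 8 := by
      have h1 := card_eq_mul_img (M := K) (A := (E.S : Subgroup G)) hSK
      have h2 : Nat.card ((E.S : Subgroup G) ⊓ coreIn K : Subgroup G) = 1 := by
        rw [card_eq_one, eq_bot_iff]
        intro x hx
        exact mem_bot.2 (E.eq_one_of_mem_U_S
          (h.core_eq_U ▸ (h.mem_Y.1 (h.core_le_Y hgt hgY hSK hgK hx.2)).1) hx.1)
      rw [h2, one_mul, E.card_S, h.k_eq] at h1
      exact h1.symm
    exact hle ▸ card_subgroup_dvd_card _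
  rcases shape_local (E := E) hK E.orderOf_t h.refl₁.orderOf_eq h.refl₁.ne_t.symm
    h.refl₁.comm.symm htK hb₁K with hp | ⟨⟨e⟩⟩ | ⟨⟨e⟩⟩ | ⟨⟨e⟩⟩ | ⟨L₁, F₁, i1, i2, hL₁⟩
  · obtain ⟨j, hj⟩ := IsPGroup.iff_card.1 hp
    refine htriv (orderOf_eq_one_iff.1 (Nat.eq_one_of_dvd_coprimes
      ((Nat.coprime_two_left.2 hbo).pow_left j) (hj ▸ orderOf_dvd_natCard _) dvd_rfl))
  · rw [Nat.card_congr e.toEquiv, nat_card_alternatingGroup, Nat.card_fin] at hS8
    norm_num [Nat.factorial] at hS8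
  · refine htriv ?_
    have h8 : bar K n ^ 8 = 1 := e.injective (by
      rw [map_pow, map_one]
      refine SymFour.pow_eight (e (bar K E.t)) _ ⟨?_, ?_, ?_⟩
      · rw [← map_mul, ← bar_mul htK htK, E.t_sq, bar_one, map_one]
      · intro e1
        have h2 := bar_involution htK E.orderOf_t
        rw [e.injective (e1.trans (map_one e).symm), orderOf_one] at h2
        omega
      · rw [← map_mul, ← map_mul, hbt])
    exact orderOf_eq_one_iff.1 (Nat.eq_one_of_dvd_coprimes
      ((Nat.coprime_two_left.2 hbo).pow_left 3) (orderOf_dvd_of_pow_eq_one h8) dvd_rfl)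
  · refine ⟨hn1 3 ?_, fun _ => ⟨e⟩⟩
    have h1 := dvd_three_of_alt_seven e htK E.orderOf_t (A := zpowers (bar K n))
      (by rwa [Nat.card_zpowers]) fun a ha => by
        obtain ⟨i, rfl⟩ := mem_zpowers_iff.1 ha
        exact ((show Commute (bar K n) (bar K E.t) from hbt).zpow_left i).eq
    rw [Nat.card_zpowers] at h1
    exact orderOf_dvd_iff_pow_eq_one.1 h1
  · refine htriv ?_
    have hbb : bar K b * bar K b = 1 := by rw [← bar_mul hbK hbK, h.refl.sq, bar_one]
    have hmem : bar K n ∈ L₁ := hL₁.mem_of_inverted hbb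
      (by rw [← bar_inv hnK, ← hni, bar_mul (mul_mem hbK hnK) hbK, bar_mul hbK hnK]) hbo
    refine hL₁.eq_one_of_mem (bar_involution htK E.orderOf_t) (bar_involution hb₁K h.refl₁.orderOf_eq)
      (fun e => ?_) (commute_bar htK hb₁K h.refl₁.comm.symm) hbt
      (commute_bar hnK hb₁K (h.b₁_commute hnW)) hbo hmem
    have hd : E.t * b₁⁻¹ ∈ E.U :=
      h.core_eq_U ▸ (h.mem_Y.1 (h.core_le_Y hgt hgY hSK hgK ((bar_eq_bar_iff htK hb₁K).1 e))).1
    exact h.refl₁.ne_t
      (mul_inv_eq_one.1 (E.eq_one_of_mem_U_S hd (mul_mem E.t_mem_S (inv_mem h.refl₁.1)))).symm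

/-- There are at most three inverted elements. -/
theorem card_inverted_le : Nat.card (inverted (coreIn M ⊓ K) b) ≤ 3 := by
  by_cases hall : ∀ n ∈ inverted (coreIn M ⊓ K) b, n = 1
  · haveI : Subsingleton (inverted (coreIn M ⊓ K) b) :=
      ⟨fun x y => Subtype.ext ((hall _ x.2).trans (hall _ y.2).symm)⟩
    exact (Finite.card_le_one_iff_subsingleton.2 this).trans (by norm_num)
  push Not at hall
  obtain ⟨n, hn, hn1⟩ := hall
  obtain ⟨e⟩ := (h.inverted_facts hgt hgY hK hSK hgK hn).2 hn1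
  have htK := hSK E.t_mem_S
  set A := img K (coreIn M ⊓ K) with hA
  have hAo : Odd (Nat.card A) :=
    odd_card_img ((odd_card_coreIn M).of_dvd_nat (card_dvd_of_le inf_le_left))
  have h3 := Nat.le_of_dvd (by norm_num) (dvd_three_of_alt_seven e htK E.orderOf_t hAo fun a ha => by
    obtain ⟨x, hx, hxK, rfl⟩ := mem_img.1 ha
    exact commute_bar hxK htK (h.core_le x hx.1))
  refine le_trans (Nat.card_le_card_of_injective (fun x : inverted (coreIn M ⊓ K) b =>
    (⟨bar K x, mem_img.2 ⟨x, x.2.1, x.2.1.2, rfl⟩⟩ : A)) ?_) h3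
  rintro ⟨x, ⟨hxW, hxK⟩, hxi⟩ ⟨x', ⟨hxW', hxK'⟩, hxi'⟩ e1
  have e2 := (bar_eq_bar_iff hxK' hxK).1 (congrArg Subtype.val e1).symm
  set o := x' * x⁻¹ with ho
  have hoY := h.core_le_Y hgt hgY hSK hgK e2
  have hoW := (h.mem_Y.1 hoY).1
  have hfo := h.fixed_of_mem_Y hoY
  have hx'e : x' = o * x := by rw [ho, inv_mul_cancel_right]
  rw [hx'e, conj_involution_mul h.refl.sq, hfo, hxi, mul_inv_rev] at hxi'
  have ho1 : o = 1 := by
    refine eq_one_of_conj_inv (odd_card_coreIn M) hoW hxW ?_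
    calc x * o * x⁻¹ = x * (o * x⁻¹) := by group
      _ = o⁻¹ := by rw [hxi']; group
  refine Subtype.ext ?_
  show x = x'
  rw [hx'e, ho1, one_mul]

theorem inverted_cases {n x : G} (hn : n ∈ inverted (coreIn M ⊓ K) b) (hn1 : n ≠ 1)
    (hx : x ∈ inverted (coreIn M ⊓ K) b) : x = 1 ∨ x = n ∨ x = n⁻¹ := by
  classical
  by_contra hno
  push Not at hno
  obtain ⟨hx1, hxn, hxn'⟩ := hno
  have hni : n⁻¹ ∈ inverted (coreIn M ⊓ K) b :=
    ⟨inv_mem hn.1, by rw [conj_involution_inv h.refl.sq, hn.2]⟩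
  have h1 : (1 : G) ∈ inverted (coreIn M ⊓ K) b :=
    ⟨one_mem _, by rw [mul_one, h.refl.sq, inv_one]⟩
  have hnn : n ≠ n⁻¹ := fun e =>
    hn1 (eq_one_of_mem_of_sq (odd_card_coreIn M) hn.1.1 (mul_eq_one_iff_eq_inv.2 e))
  have h4 : ({1, n, n⁻¹, x} : Finset G).card = 4 := by
    rw [Finset.card_insert_of_notMem, Finset.card_insert_of_notMem, Finset.card_pair hxn'.symm]
    · simp only [Finset.mem_insert, Finset.mem_singleton, not_or]
      exact ⟨hnn, hxn.symm⟩
    · simp only [Finset.mem_insert, Finset.mem_singleton, not_or]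
      exact ⟨hn1.symm, (inv_ne_one.2 hn1).symm, hx1.symm⟩
  have h5 : Nat.card ({1, n, n⁻¹, x} : Finset G) ≤ Nat.card (inverted (coreIn M ⊓ K) b) := by
    refine Nat.card_le_card_of_injective (fun y => ⟨y.1, ?_⟩) fun y y' e =>
      Subtype.ext (congrArg Subtype.val e :)
    have := y.2
    simp only [Finset.mem_insert, Finset.mem_singleton] at this
    rcases this with e | e | e | e <;> rw [e] <;> assumption
  rw [Nat.card_eq_finsetCard, h4] at h5
  have := h.card_inverted_le hgt hgY hK hSK hgK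
  omega

end Four

end CfsgLib.GW.CaseOne
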