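import Cfsg.Agent.Lib.GW.CaseOneFourLocal
import Cfsg.Agent.Lib.Solvable.Fitting
import Cfsg.Agent.Lib.PF.OddOrder
import Cfsg.Prelude.Def_Solvable

/-!
Gorenstein–Walter, quotient symmetric of degree four: the prime cores of the odd core, their
elements fixed by the outer reflection.
-/

set_option autoImplicit false
set_option linter.unusedSectionVars false
set_option linter.unusedVariables false
set_option linter.style.haveILetI false

namespace CfsgLib.GW.CaseOne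

open Subgroup CfsgLib.RankOneInvol

universe u

variable {G : Type u} [Group G] [Finite G]

/-- The `r`-core of the odd core. -/
def Or (M : Subgroup G) (r : ℕ) : Subgroup G :=
  (Cfsg.pCore r ↥(coreIn M)).map (coreIn M).subtype

theorem Or_le (M : Subgroup G) (r : ℕ) : Or M r ≤ coreIn M := map_subtype_le _

theorem Or_isPGroup (M : Subgroup G) (r : ℕ) : IsPGroup r (Or M r) :=
  (Fitting.pCore_isPGroup r).map _

theorem Or_conj {M : Subgroup G} {r : ℕ} {m x : G} (hm : m ∈ M) (hx : x ∈ Or M r) :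
    m * x * m⁻¹ ∈ Or M r := by
  obtain ⟨y, hy, rfl⟩ := hx
  let φ : ↥(coreIn M) ≃* ↥(coreIn M) :=
    { toFun := fun w => ⟨m * w * m⁻¹, conj_mem_coreIn hm w.2⟩
      invFun := fun w => ⟨m⁻¹ * w * m, by simpa using conj_mem_coreIn (inv_mem hm) w.2⟩
      left_inv := fun w => Subtype.ext (by simp [mul_assoc])
      right_inv := fun w => Subtype.ext (by simp [mul_assoc])
      map_mul' := fun v w => Subtype.ext (by simp [mul_assoc]) }
  exact ⟨φ y, (Fitting.pCore_map_mulEquiv r φ).le ⟨y, hy, rfl⟩, rfl⟩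

theorem Or_commute {M : Subgroup G} {p q : ℕ} (hp : p.Prime) (hq : q.Prime) (hne : p ≠ q) {x y : G}
    (hx : x ∈ Or M p) (hy : y ∈ Or M q) : x * y = y * x := by
  obtain ⟨x', hx', rfl⟩ := hx
  obtain ⟨y', hy', rfl⟩ := hy
  exact congrArg Subtype.val (Fitting.commute_pCore_of_ne hp hq hne hx' hy').eq

theorem mem_normalizer_of_conj {H : Subgroup G} {x : G} (h : ∀ y ∈ H, x * y * x⁻¹ ∈ H) :
    x ∈ normalizer (H : Set G) := by
  have hmap : H.map (MulAut.conj x).toMonoidHom = H :=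
    eq_of_le_of_card_ge (by rintro _ ⟨y, hy, rfl⟩; exact h y hy)
      (by rw [card_map_of_injective (MulAut.conj x).injective])
  rw [mem_normalizer_iff]
  refine fun y => ⟨fun hy => h y hy, fun hy => ?_⟩
  rw [← hmap] at hy
  obtain ⟨z, hz, e⟩ := hy
  rwa [← (MulAut.conj x).injective (e : MulAut.conj x z = MulAut.conj x y)]

/-- A subgroup of a `p`-group which is its own normaliser is everything. -/
theorem eq_of_normalizer_inf_le {r : ℕ} [Fact r.Prime] {R Z : Subgroup G} (hR : IsPGroup r R)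
    (hle : Z ≤ R) (h : ∀ x ∈ R, (∀ y ∈ Z, x * y * x⁻¹ ∈ Z) → x ∈ Z) : Z = R := by
  refine le_antisymm hle ?_
  rw [← subgroupOf_eq_top]
  haveI := hR.isNilpotent
  by_contra hne
  obtain ⟨x, hxN, hxZ⟩ := SetLike.exists_of_lt
    (Group.normalizerCondition_of_isNilpotent _ (lt_top_iff_ne_top.2 hne))
  refine hxZ (mem_subgroupOf.2 (h x x.2 fun y hy => ?_))
  exact mem_subgroupOf.1 ((mem_normalizer_iff.1 hxN ⟨y, hle hy⟩).1 hy)

variable {E : Setup G} {M : Subgroup G} {L : Subgroup (Tp M)} {b b₁ : G}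

namespace Four

variable (h : Four E M L b b₁)
include h

theorem conj_b_mem_Or {r : ℕ} {x : G} (hx : x ∈ Or M r) : b * x * b ∈ Or M r := by
  have := Or_conj (h.refl_mem h.refl) hx
  rwa [h.refl.inv] at this

/-- Splitting an element of a prime core. -/
theorem split_mem {r : ℕ} {P : G → Prop} {A : Subgroup G}
    (hP : ∀ x, x ∈ A ↔ x ∈ Or M r ∧ P x) (hAb : ∀ x ∈ A, b * x * b ∈ A) {x : G} (hx : x ∈ A) :
    ∃ y z, y ∈ E.X b ∧ y ∈ Or M r ∧ P y ∧ z ∈ Or M r ∧ P z ∧ b * z * b = z⁻¹ ∧ x = y * z := by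
  have hA : A ≤ coreIn M := fun a ha => Or_le M r ((hP a).1 ha).1
  obtain ⟨y, z, hy, hyb, hz, hzb, rfl⟩ := exists_fixed_mul_inverted
    ((odd_card_coreIn M).of_dvd_nat (card_dvd_of_le hA)) h.refl.sq hAb hx
  exact ⟨y, z, h.mem_Y.2 ⟨hA hy, (conj_eq_iff_commute h.refl.sq).1 hyb⟩, ((hP y).1 hy).1,
    ((hP y).1 hy).2, ((hP z).1 hz).1, ((hP z).1 hz).2, hzb, rfl⟩

/-- The elements of the prime core normalising its fixed points. -/
theorem normalizer_Z {r : ℕ} {x : G} (hx : x ∈ Or M r)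
    (hn : ∀ y ∈ Or M r ⊓ centralizer ({b} : Set G),
      x * y * x⁻¹ ∈ Or M r ⊓ centralizer ({b} : Set G)) :
    ∃ y n, y ∈ Or M r ⊓ centralizer ({b} : Set G) ∧ n ∈ Or M r ∧ b * n * b = n⁻¹ ∧
      (∀ z ∈ Or M r ⊓ centralizer ({b} : Set G), n * z = z * n) ∧ x = y * n := by
  set Z := Or M r ⊓ centralizer ({b} : Set G)
  have hfix : ∀ y ∈ Z, b * y * b = y := fun y hy =>
    (conj_eq_iff_commute h.refl.sq).2 (mem_centralizer_right.1 hy.2)
  set A := Or M r ⊓ normalizer (Z : Set G)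
  have hP : ∀ a, a ∈ A ↔ a ∈ Or M r ∧ a ∈ normalizer (Z : Set G) := fun a => mem_inf
  have hbN : b ∈ normalizer (Z : Set G) := mem_normalizer_of_conj fun y hy => by
    rw [h.refl.inv, hfix y hy]; exact hy
  obtain ⟨y, n, hyX, hyR, -, hnR, hnN, hni, rfl⟩ := h.split_mem hP
    (fun a ha => ⟨h.conj_b_mem_Or ha.1, mul_mem (mul_mem hbN ha.2) hbN⟩)
    (show x ∈ A from ⟨hx, mem_normalizer_of_conj hn⟩)
  refine ⟨y, n, ⟨hyR, mem_centralizer_right.2 (h.mem_Y.1 hyX).2⟩, hnR, hni, fun z hz => ?_, rfl⟩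
  exact commute_of_normalizes (odd_card_coreIn M) h.refl.sq (Or_le M r hnR) hni (hfix z hz)
    (hfix _ ((mem_normalizer_iff.1 hnN z).1 hz))

omit h in
theorem centralizer_ne_top_of_mem (E : Setup G) {Z : Subgroup G} (hZ : Z ≠ ⊥) :
    centralizer (Z : Set G) ≠ ⊤ := fun e => by
  have hle : Z ≤ center G := fun z hz =>
    mem_center_iff.2 fun x => ((mem_centralizer_iff.1 (e ▸ mem_top x)) z hz).symm
  rcases E.eq_bot_or_top (inferInstance : (center G).Normal) with e1 | e1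
  · exact hZ (le_bot_iff.1 (e1 ▸ hle))
  · exact E.H_ne_top (eq_top_iff.2 fun x _ => E.mem_H.2 (mem_center_iff.1 (e1 ▸ mem_top E.t) x))

/-- Membership of the local data in the centraliser of fixed elements. -/
theorem local_data {Z : Subgroup G} (hZY : Z ≤ E.X b) :
    (E.S : Subgroup G) ≤ centralizer (Z : Set G) ∧
      ∀ g : G, (∀ y ∈ E.X b, g * y = y * g) → g ∈ centralizer (Z : Set G) :=
  ⟨fun s hs => mem_centralizer_iff.2 fun z hz => h.S_commute_Y hs (hZY hz),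
    fun g hg => mem_centralizer_iff.2 fun z hz => (hg z (hZY hz)).symm⟩

theorem Z_le_Y (r : ℕ) : Or M r ⊓ centralizer ({b} : Set G) ≤ E.X b := fun z hz =>
  h.mem_Y.2 ⟨Or_le M r hz.1, mem_centralizer_right.1 hz.2⟩

/-- A prime core cannot be fixed by `b`. -/
theorem Or_eq_bot_of_fixed {r : ℕ} (hfix : Or M r ≤ centralizer ({b} : Set G)) : Or M r = ⊥ := by
  by_contra hne
  obtain ⟨g, hgt, -, hgY⟩ := h.exists_rot_Y
  refine h.not_rot_mem hgt (h.toTwo.normalizer_le hne ((Or_le M r).trans (coreIn_le M))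
    (fun m hm x hx => Or_conj hm hx) ?_)
  have hY : ∀ x ∈ Or M r, g * x * g⁻¹ ∈ Or M r := fun x hx => by
    rw [hgY x (h.Z_le_Y r ⟨hx, hfix hx⟩), mul_inv_cancel_right]
    exact hx
  exact mem_normalizer_of_conj hY

/-- A nontrivial inverted element centralising the fixed points exists. -/
theorem exists_inverted {r : ℕ} [Fact r.Prime] (hne : Or M r ⊓ centralizer ({b} : Set G) ≠ ⊥) :
    ∃ n ∈ Or M r, b * n * b = n⁻¹ ∧ n ≠ 1 ∧
      ∀ z ∈ Or M r ⊓ centralizer ({b} : Set G), n * z = z * n := by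
  by_contra hno
  push Not at hno
  have hZ : Or M r ⊓ centralizer ({b} : Set G) = Or M r := by
    refine eq_of_normalizer_inf_le (Or_isPGroup M r) inf_le_left fun x hx hn => ?_
    obtain ⟨y, n, hy, hnR, hni, hnc, rfl⟩ := h.normalizer_Z hx hn
    by_cases hn1 : n = 1
    · rw [hn1, mul_one]; exact hy
    · obtain ⟨z, hz, hzn⟩ := hno n hnR hni hn1
      exact absurd (hnc z hz) hzn
  exact hne (by rw [hZ]; exact h.Or_eq_bot_of_fixed (hZ ▸ inf_le_right))

/-- Inverted elements centralising a nontrivial set of fixed elements are few. -/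
theorem inverted_pow_three {Z : Subgroup G} (hZY : Z ≤ E.X b) (hZ : Z ≠ ⊥) {n : G}
    (hn : n ∈ coreIn M) (hni : b * n * b = n⁻¹) (hc : ∀ z ∈ Z, n * z = z * n) : n ^ 3 = 1 := by
  obtain ⟨g, hgt, -, hgY⟩ := h.exists_rot_Y
  obtain ⟨h1, h2⟩ := h.local_data hZY
  exact (h.inverted_facts hgt hgY (centralizer_ne_top_of_mem E hZ) h1 (h2 g hgY)
    ⟨⟨hn, mem_centralizer_iff.2 fun z hz => (hc z hz).symm⟩, hni⟩).1

theorem inverted_unique {Z : Subgroup G} (hZY : Z ≤ E.X b) (hZ : Z ≠ ⊥) {n x : G}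
    (hn : n ∈ coreIn M) (hni : b * n * b = n⁻¹) (hn1 : n ≠ 1) (hc : ∀ z ∈ Z, n * z = z * n)
    (hx : x ∈ coreIn M) (hxi : b * x * b = x⁻¹) (hxc : ∀ z ∈ Z, x * z = z * x) :
    x = 1 ∨ x = n ∨ x = n⁻¹ := by
  obtain ⟨g, hgt, -, hgY⟩ := h.exists_rot_Y
  obtain ⟨h1, h2⟩ := h.local_data hZY
  exact h.inverted_cases hgt hgY (centralizer_ne_top_of_mem E hZ) h1 (h2 g hgY)
    ⟨⟨hn, mem_centralizer_iff.2 fun z hz => (hc z hz).symm⟩, hni⟩ hn1
    ⟨⟨hx, mem_centralizer_iff.2 fun z hz => (hxc z hz).symm⟩, hxi⟩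

/-- For primes other than three nothing is fixed. -/
theorem fixed_trivial_ne_three {r : ℕ} (hr : r.Prime) (h3 : r ≠ 3) :
    Or M r ⊓ centralizer ({b} : Set G) = ⊥ := by
  haveI : Fact r.Prime := ⟨hr⟩
  by_contra hne
  obtain ⟨n, hnR, hni, hn1, hnc⟩ := h.exists_inverted hne
  refine hn1 (orderOf_eq_one_iff.1 ?_)
  have h1 := orderOf_dvd_of_pow_eq_one
    (h.inverted_pow_three (h.Z_le_Y r) hne (Or_le M r hnR) hni hnc)
  obtain ⟨j, hj⟩ := IsPGroup.iff_orderOf.1 (Or_isPGroup M r) ⟨n, hnR⟩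
  rw [Subgroup.orderOf_mk] at hj
  exact Nat.eq_one_of_dvd_coprimes
    (((Nat.coprime_primes hr Nat.prime_three).2 h3).pow_left j) (hj ▸ dvd_rfl) h1

theorem Or_inverted {r : ℕ} (ht : Or M r ⊓ centralizer ({b} : Set G) = ⊥) {x : G}
    (hx : x ∈ Or M r) : b * x * b = x⁻¹ := by
  obtain ⟨y, z, hyX, hyR, -, -, -, hzi, rfl⟩ := h.split_mem (A := Or M r) (P := fun _ => True)
    (fun a => ⟨fun ha => ⟨ha, trivial⟩, fun ha => ha.1⟩) (fun a ha => h.conj_b_mem_Or ha) hx
  have hy1 : y = 1 := mem_bot.1 (ht ▸ (⟨hyR, mem_centralizer_right.2 (h.mem_Y.1 hyX).2⟩ :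
    y ∈ Or M r ⊓ centralizer ({b} : Set G)))
  rw [hy1, one_mul, hzi]

omit h in
/-- The odd core is solvable. -/
theorem isSolvable_core (M : Subgroup G) : Group.IsSolvable ↥(coreIn M) :=
  CfsgLib.PF.oddSolvable.{u} _ (odd_card_coreIn M)

omit h in
/-- An element centralising all the prime cores lies in the Fitting subgroup. -/
theorem mem_fitting {M : Subgroup G} {w : G} (hw : w ∈ coreIn M)
    (hc : ∀ r : ℕ, r.Prime → ∀ x ∈ Or M r, x * w = w * x) :
    (⟨w, hw⟩ : ↥(coreIn M)) ∈ Cfsg.fittingSubgroup ↥(coreIn M) := by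
  haveI := isSolvable_core M
  refine Fitting.centralizer_fitting_le ?_
  rw [Fitting.fitting_eq_iSup_pCore, mem_centralizer_iff]
  intro x hx
  induction hx using iSup_induction' with
  | hp r x hx =>
    exact Subtype.ext (hc r (Nat.prime_of_mem_primeFactors r.2) _ ⟨x, hx, rfl⟩)
  | h1 => simp
  | hmul x y _ _ hx hy => exact ((show Commute x _ from hx).mul_left hy).eq

/-- With fixed elements in the 3-core, the other cores are trivial. -/
theorem Or_eq_bot_of_three (hne : Or M 3 ⊓ centralizer ({b} : Set G) ≠ ⊥) {q : ℕ} (hq : q.Prime)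
    (h3 : q ≠ 3) : Or M q = ⊥ := by
  rw [eq_bot_iff]
  intro x hx
  have h1 := h.inverted_pow_three (h.Z_le_Y 3) hne (Or_le M q hx)
    (h.Or_inverted (h.fixed_trivial_ne_three hq h3) hx)
    fun z hz => Or_commute hq Nat.prime_three h3 hx hz.1
  haveI : Fact q.Prime := ⟨hq⟩
  obtain ⟨j, hj⟩ := IsPGroup.iff_orderOf.1 (Or_isPGroup M q) ⟨x, hx⟩
  rw [Subgroup.orderOf_mk] at hj
  rw [mem_bot, ← orderOf_eq_one_iff]
  exact Nat.eq_one_of_dvd_coprimes
    (((Nat.coprime_primes hq Nat.prime_three).2 h3).pow_left j) (hj ▸ dvd_rfl)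
    (orderOf_dvd_of_pow_eq_one h1)

/-- With fixed elements in the 3-core, it contains its centraliser in the odd core. -/
theorem mem_Or_of_centralizes (hne : Or M 3 ⊓ centralizer ({b} : Set G) ≠ ⊥) {w : G}
    (hw : w ∈ coreIn M) (hc : ∀ x ∈ Or M 3, x * w = w * x) : w ∈ Or M 3 := by
  have h1 := mem_fitting hw fun r hr x hx => by
    by_cases h3 : r = 3
    · subst h3; exact hc x hx
    · rw [h.Or_eq_bot_of_three hne hr h3, mem_bot] at hx
      rw [hx, one_mul, mul_one]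
  refine ⟨⟨w, hw⟩, ?_, rfl⟩
  have hle : Cfsg.fittingSubgroup ↥(coreIn M) ≤ Cfsg.pCore 3 ↥(coreIn M) := by
    rw [Fitting.fitting_eq_iSup_pCore]
    refine iSup_le fun p => ?_
    by_cases h3 : (p : ℕ) = 3
    · rw [h3]
    · intro x hx
      have h2 : (x : G) ∈ Or M p := ⟨x, hx, rfl⟩
      rw [h.Or_eq_bot_of_three hne (Nat.prime_of_mem_primeFactors p.2) h3, mem_bot] at h2
      rw [show x = 1 from Subtype.ext h2]
      exact one_mem _
  exact hle h1

end Four

end CfsgLib.GW.CaseOne
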