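import Cfsg.Agent.Lib.GW.CaseOneOuterBase
import Cfsg.Agent.Lib.GW.CaseOneLocal

/-!
Gorenstein–Walter, a maximal subgroup whose quotient by the odd core has a normal `PSL₂(q)` missing
some reflection `b`: the centraliser of a nontrivial element of the odd core inverted by `b` lies in
the maximal subgroup.
-/

set_option autoImplicit false
set_option linter.unusedSectionVars false
set_option linter.unusedVariables false
set_option linter.style.haveILetI false
set_option maxHeartbeats 400000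

namespace CfsgLib.GW.CaseOne

open Subgroup CfsgLib.RankOneInvol

universe u

variable {G : Type u} [Group G]

theorem mem_centralizer_left {a x : G} :
    x ∈ centralizer ({a} : Set G) ↔ x * a = a * x := mem_centralizer_singleton_iff

namespace Two

variable [Finite G] {E : Setup G} {M : Subgroup G} {L : Subgroup (Tp M)} {b b₁ : G}
variable {F : Type} [Field F] [Fintype F]
variable (h : Two E M L b b₁)
include h

/-- The centraliser of an inner involution lies in `M`. -/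
theorem inner_centralizer_le {v : G} (hv : orderOf v = 2) (hvM : v ∈ M) (hvL : bar M v ∈ L) :
    centralizer ({v} : Set G) ≤ M := by
  obtain ⟨m, hm, e⟩ := (h.mem_inner_iff hv hvM).1 hvL
  intro x hx
  have h1 : m⁻¹ * x * m ∈ E.H := by
    rw [E.mem_H]
    calc m⁻¹ * x * m * E.t = m⁻¹ * (x * (m * E.t * m⁻¹)) * m := by group
      _ = m⁻¹ * (m * E.t * m⁻¹ * x) * m := by rw [e, mem_centralizer_left.1 hx]
      _ = E.t * (m⁻¹ * x * m) := by group
  have h2 := mul_mem (mul_mem hm (h.le h1)) (inv_mem hm)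
  simpa [mul_assoc] using h2

variable (hL : Field.Psl L F)
include hL

/-- No two-element of `M` outside `L` centralises an element inverted by `b`. -/
theorem inner_of_commute {a y : G} (ha : a ∈ coreIn M) (ha1 : a ≠ 1) (hi : b * a * b = a⁻¹)
    (hy : y ∈ M) (hya : y * a = a * y) {n : ℕ} (hyn : y ^ 2 ^ n = 1) : bar M y ∈ L := by
  by_contra hyL
  haveI : Fact (Nat.Prime 2) := ⟨Nat.prime_two⟩
  haveI := h.normal
  have hbM := h.refl_mem h.refl
  set P := (h.toOver.syl : Subgroup (Tp M))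
  -- conjugate `y` into the Sylow subgroup by an element centralising the odd core
  set Q : Subgroup (Tp M) := zpowers (bar M b) ⊔ L
  have hbP : zpowers (bar M b) ≤ P := zpowers_le.2 (h.toOver.mem_syl.2 ⟨b, h.refl.1, rfl⟩)
  have hb' : bar M b * bar M b = 1 := h.toOver.sq_bar h.refl.sq hbM
  have hQ : ∀ τ : Tp M, τ * bar M b ∈ L → τ ∈ Q := fun τ hτ => by
    rw [show τ = τ * bar M b * bar M b by rw [mul_assoc, hb', mul_one]]
    exact mul_mem (mem_sup_right hτ) (mem_sup_left (mem_zpowers _))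
  have hPQ : P ≤ Q := fun τ hτ => by
    obtain ⟨s, hs, rfl⟩ := h.toOver.mem_syl.1 hτ
    by_cases hsL : bar M s ∈ L
    · exact mem_sup_right hsL
    · refine hQ _ ?_
      rw [← bar_mul (h.S_le hs) hbM]
      exact h.mul_b_inner hL hs hsL
  have hy2 : bar M y ^ 2 ^ n = 1 := by rw [← bar_pow hy, hyn, bar_one]
  have hyQ : bar M y ∈ Q := hQ _ (hL.mul_mem_of_not_mem (hL.fp_of_two_power hy2)
    (hL.fp_involution hb') hyL h.outer)
  have hpy : IsPGroup 2 (zpowers (⟨bar M y, hyQ⟩ : Q)) := by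
    obtain ⟨e, -, he⟩ := (Nat.dvd_prime_pow Nat.prime_two).1 (orderOf_dvd_of_pow_eq_one
      (x := (⟨bar M y, hyQ⟩ : Q)) (n := 2 ^ n) (Subtype.ext hy2))
    exact IsPGroup.of_card (n := e) (by rw [Nat.card_zpowers, he])
  obtain ⟨g, hg⟩ := CfsgLib.Involutions.exists_conj_le_sylow hpy (h.toOver.syl.subtype hPQ)
  have hgy : (g : Tp M) * bar M y * (g : Tp M)⁻¹ ∈ P :=
    mem_subgroupOf.1 (hg ⟨bar M y, hyQ⟩ (mem_zpowers _))
  have hgQ : (g : Tp M) ∈ ((Q : Subgroup (Tp M)) : Set (Tp M)) := g.2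
  simp only [Q] at hgQ
  rw [mul_normal] at hgQ
  obtain ⟨p, hp, l, hl, e⟩ := Set.mem_mul.1 hgQ
  have hly : l * bar M y * l⁻¹ ∈ P := by
    have h1 := mul_mem (mul_mem (inv_mem (hbP hp)) hgy) (hbP hp)
    rw [← e] at h1
    simpa [mul_assoc] using h1
  obtain ⟨m₀, hm₀, em₀, hm₀W⟩ := h.exists_lift hl
  set y₀ := m₀ * y * m₀⁻¹ with hy₀
  have hy₀M : y₀ ∈ M := mul_mem (mul_mem hm₀ hy) (inv_mem hm₀)
  have hy₀b : bar M y₀ = l * bar M y * l⁻¹ := by rw [hy₀, bar_conj hm₀ hy, em₀]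
  have hy₀n : y₀ ^ 2 ^ n = 1 := by rw [hy₀, conj_pow, hyn, mul_one, mul_inv_cancel]
  have hy₀L : bar M y₀ ∉ L := fun e' => hyL (by
    rw [hy₀b] at e'
    have := h.normal.conj_mem _ e' l⁻¹
    simpa [mul_assoc] using this)
  have hm₀a : Commute m₀ a := (hm₀W a ha).symm
  have hy₀a : Commute y₀ a := (hm₀a.mul_left hya).mul_left hm₀a.inv_left
  -- conjugate it into `S` by an element of the odd core
  set N := pre M P
  have hy₀N : y₀ ∈ N := mem_pre.2 ⟨hy₀M, hy₀b ▸ hly⟩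
  have hSN : (E.S : Subgroup G) ≤ N := fun s hs =>
    mem_pre.2 ⟨h.S_le hs, h.toOver.mem_syl.2 ⟨s, hs, rfl⟩⟩
  have hpy₀ : IsPGroup 2 (zpowers (⟨y₀, hy₀N⟩ : N)) := by
    obtain ⟨e, -, he⟩ := (Nat.dvd_prime_pow Nat.prime_two).1 (orderOf_dvd_of_pow_eq_one
      (x := (⟨y₀, hy₀N⟩ : N)) (n := 2 ^ n) (Subtype.ext hy₀n))
    exact IsPGroup.of_card (n := e) (by rw [Nat.card_zpowers, he])
  obtain ⟨x, hx⟩ := CfsgLib.Involutions.exists_conj_le_sylow hpy₀ (E.S.subtype hSN)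
  have hxy : (x : G) * y₀ * (x : G)⁻¹ ∈ (E.S : Subgroup G) :=
    mem_subgroupOf.1 (hx ⟨y₀, hy₀N⟩ (mem_zpowers _))
  obtain ⟨hxM, hxP⟩ := mem_pre.1 x.2
  obtain ⟨s₀, hs₀, es₀⟩ := h.toOver.mem_syl.1 hxP
  set w := s₀⁻¹ * (x : G) with hw
  have hwW : w ∈ coreIn M := by
    refine (bar_eq_one_iff (mul_mem (inv_mem (h.S_le hs₀)) hxM)).1 ?_
    rw [bar_mul (inv_mem (h.S_le hs₀)) hxM, bar_inv (h.S_le hs₀), es₀, inv_mul_cancel]
  set s := w * y₀ * w⁻¹ with hsdef
  have hs : s ∈ (E.S : Subgroup G) := by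
    have := mul_mem (mul_mem (inv_mem hs₀) hxy) hs₀
    rw [hsdef, hw]
    simpa [mul_assoc] using this
  have hwM := coreIn_le M hwW
  have hsL : bar M s ∉ L := by
    rw [hsdef, bar_conj hwM hy₀M, bar_of_mem_coreIn hwW, one_mul, inv_one, mul_one]
    exact hy₀L
  -- the conjugate of `a` is fixed by `b`
  set a' := w * a * w⁻¹ with ha'
  have ha'W : a' ∈ coreIn M := conj_mem_coreIn hwM ha
  have hsa : Commute s a' := by
    show w * y₀ * w⁻¹ * (w * a * w⁻¹) = w * a * w⁻¹ * (w * y₀ * w⁻¹)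
    exact Setup.commute_conj hy₀a.eq
  have hs₁ : Commute (s * b) a' := (h.commute_of_two_inner (mul_mem (h.S_le hs) hbM)
    (h.mul_b_inner hL hs hsL) (h.two_pow_S (mul_mem hs h.refl.1)) a' ha'W).symm
  have hba' : Commute b a' := by
    have e := hsa.inv_left.mul_left hs₁
    rwa [inv_mul_cancel_left] at e
  set c := w⁻¹ * (b * w * b) with hc
  have hcW : c ∈ coreIn M := mul_mem (inv_mem hwW) (conj_mem_of_inv h.refl.sq hbM hwW)
  have hca : c * a⁻¹ * c⁻¹ = a := by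
    have e1 : b * a' * b = a' := (conj_eq_iff_commute h.refl.sq).2 hba'.symm.eq
    rw [ha', conj_involution_mul h.refl.sq, conj_involution_mul h.refl.sq, hi,
      conj_involution_inv h.refl.sq] at e1
    calc c * a⁻¹ * c⁻¹ = w⁻¹ * (b * w * b * a⁻¹ * (b * w * b)⁻¹) * w := by rw [hc]; group
      _ = w⁻¹ * (w * a * w⁻¹) * w := by rw [e1]
      _ = a := by group
  have hca' : c * a * c⁻¹ = a⁻¹ := by
    calc c * a * c⁻¹ = (c * a⁻¹ * c⁻¹)⁻¹ := by group
      _ = a⁻¹ := by rw [hca]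
  have h2 : Commute (c * c) a := by
    show c * c * a = a * (c * c)
    calc c * c * a = c * (c * a * c⁻¹) * c := by group
      _ = c * a⁻¹ * c⁻¹ * (c * c) := by rw [hca']; group
      _ = a * (c * c) := by rw [hca]
  obtain ⟨j, hj⟩ := exists_pow_sq_eq (odd_orderOf_of_mem (odd_card_coreIn M) hcW)
  have hcc : Commute c a := by
    rw [← hj, ← (Commute.refl c).mul_pow]
    exact h2.pow_left j
  refine ha1 (eq_one_of_mem_of_sq (odd_card_coreIn M) ha ?_)
  rw [hcc.eq, mul_inv_cancel_right] at hca'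
  nth_rewrite 1 [hca']
  rw [inv_mul_cancel]

omit hL in
theorem centralizer_ne_top {a : G} (ha1 : a ≠ 1) : centralizer ({a} : Set G) ≠ ⊤ := fun e => by
  haveI := E.simple
  have hc : zpowers a ≤ center G := zpowers_le.2 (mem_center_iff.2 fun g =>
    mem_centralizer_left.1 (e ▸ mem_top g))
  rcases E.eq_bot_or_top (inferInstance : (center G).Normal) with e1 | e1
  · exact ha1 (mem_bot.1 (e1 ▸ hc (mem_zpowers a)))
  · refine E.H_ne_top (eq_top_iff.2 fun x _ => E.mem_H.2 ?_)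
    exact mem_center_iff.1 (e1 ▸ mem_top E.t) x

omit hL in
theorem S_inner_le {a : G} (ha : a ∈ coreIn M) :
    (E.S : Subgroup G) ⊓ pre M L ≤ centralizer ({a} : Set G) := fun s hs => by
  obtain ⟨hsM, hsL⟩ := mem_pre.1 hs.2
  exact mem_centralizer_left.2 (h.commute_of_two_inner hsM hsL (h.two_pow_S hs.1) a ha).symm

/-- The Sylow 2-subgroup of the centraliser is the inner part of `S`. -/
theorem not_dvd_centralizer {a : G} (ha : a ∈ coreIn M) (ha1 : a ≠ 1) (hi : b * a * b = a⁻¹) :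
    ¬ 2 ^ (E.d.k + 2) ∣ Nat.card (centralizer ({a} : Set G)) := by
  intro hd
  haveI : Fact (Nat.Prime 2) := ⟨Nat.prime_two⟩
  set K := centralizer ({a} : Set G)
  obtain ⟨P, hP⟩ := (IsPGroup.to_le (p := 2) E.S.2
    (inf_le_left : (E.S : Subgroup G) ⊓ pre M L ≤ E.S)).comap_subtype (K := K) |>.exists_le_sylow
  have hPd : 2 ^ (E.d.k + 2) ∣ Nat.card (P : Subgroup K) := by
    rw [← card_mul_index (P : Subgroup K)] at hd
    exact ((Nat.coprime_two_left.2
      (Nat.odd_iff.2 (Nat.two_dvd_ne_zero.1 P.not_dvd_index))).pow_left _).dvd_of_dvd_mul_right hd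
  -- a central involution of the Sylow subgroup
  haveI : Nontrivial (P : Subgroup K) := Finite.one_lt_card_iff_nontrivial.1
    (lt_of_lt_of_le (Nat.one_lt_two_pow (n := E.d.k + 2) (by omega)) (Nat.le_of_dvd Nat.card_pos hPd))
  haveI := P.2.center_nontrivial
  obtain ⟨i, hi0⟩ := IsPGroup.iff_card.1 (P.2.to_subgroup (center (P : Subgroup K)))
  have hi1 : 2 ∣ Nat.card (center (P : Subgroup K)) := by
    have h1 := Finite.one_lt_card_iff_nontrivial.2
      (inferInstance : Nontrivial (center (P : Subgroup K)))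
    rw [hi0] at h1 ⊢
    exact dvd_pow_self _ (fun e => by simp [e] at h1)
  obtain ⟨z', hz'⟩ := exists_prime_orderOf_dvd_card' 2 hi1
  set z : G := ((z'.1 : K) : G) with hzdef
  have hzo : orderOf z = 2 := by
    rw [hzdef, Subgroup.orderOf_coe, Subgroup.orderOf_coe, Subgroup.orderOf_coe]; exact hz'
  obtain ⟨-, hz2⟩ := CfsgLib.Involutions.orderOf_eq_two_iff_mul.1 hzo
  have hzP : ∀ p ∈ (P : Subgroup K), z * (p : G) = (p : G) * z := fun p hp =>
    congrArg (fun u : (P : Subgroup K) => ((u : K) : G)) (mem_center_iff.1 z'.2 ⟨p, hp⟩).symm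
  have htS : E.t ∈ (E.S : Subgroup G) ⊓ pre M L := ⟨E.t_mem_S, mem_pre.2 ⟨h.t_mem, h.t_inner⟩⟩
  have htP : (⟨E.t, h.S_inner_le ha htS⟩ : K) ∈ (P : Subgroup K) :=
    hP (mem_subgroupOf.2 htS)
  have hzM : z ∈ M := h.le (E.mem_H.2 (hzP _ htP))
  have hzL : bar M z ∈ L := h.inner_of_commute hL ha ha1 hi hzM (mem_centralizer_left.1 (z'.1 : K).2)
    (n := 1) (by rw [pow_one, pow_two, hz2])
  have hPM : (P : Subgroup K).map K.subtype ≤ M := by
    rintro _ ⟨p, hp, rfl⟩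
    exact h.inner_centralizer_le hzo hzM hzL (mem_centralizer_left.2 (hzP p hp).symm)
  have hPL : img M ((P : Subgroup K).map K.subtype) ≤ L := fun τ hτ => by
    obtain ⟨_, ⟨p, hp, rfl⟩, hpM, rfl⟩ := mem_img.1 hτ
    obtain ⟨n, hn⟩ := IsPGroup.iff_orderOf.1 P.2 ⟨p, hp⟩
    refine h.inner_of_commute hL ha ha1 hi hpM (mem_centralizer_left.1 p.2) (n := n) ?_
    have e : ((⟨p, hp⟩ : (P : Subgroup K)) : K) ^ 2 ^ n = 1 := by
      rw [← hn, ← Subgroup.orderOf_coe]; exact pow_orderOf_eq_one _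
    simpa using congrArg (fun u : K => (u : G)) e
  have h1 := card_eq_mul_img (M := M) hPM
  have h2 : Nat.card ((P : Subgroup K).map K.subtype ⊓ coreIn M : Subgroup G) = 1 := by
    rw [card_eq_one, eq_bot_iff]
    rintro _ ⟨⟨p, hp, rfl⟩, hc⟩
    obtain ⟨n, hn⟩ := IsPGroup.iff_orderOf.1 P.2 ⟨p, hp⟩
    have ho : orderOf (p : G) = 2 ^ n :=
      (Subgroup.orderOf_coe p).trans ((Subgroup.orderOf_coe (⟨p, hp⟩ : (P : Subgroup K))).trans hn)
    rw [mem_bot, ← orderOf_eq_one_iff]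
    refine Nat.eq_one_of_dvd_coprimes ((Nat.coprime_two_left.2
      (odd_orderOf_of_mem (odd_card_coreIn M) hc)).pow_left n) ?_ dvd_rfl
    exact (show orderOf (K.subtype p) = 2 ^ n from ho).dvd
  rw [h2, one_mul, card_map_of_injective K.subtype_injective] at h1
  exact h.not_two_pow_dvd hL ((h1 ▸ hPd).trans (card_dvd_of_le hPL))

/-- The odd core of the centraliser lies in that of `M`. -/
theorem core_centralizer_le {a : G} (ha : a ∈ coreIn M) :
    coreIn (centralizer ({a} : Set G)) ≤ coreIn M := by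
  set K := centralizer ({a} : Set G)
  set O := coreIn K
  have hOodd : Odd (Nat.card O) := odd_card_coreIn K
  have hinn : ∀ s, s ∈ (E.S : Subgroup G) → bar M s ∈ L → s ∈ K :=
    fun s hs hsL => h.S_inner_le ha ⟨hs, mem_pre.2 ⟨h.S_le hs, hsL⟩⟩
  have hb₁M := h.refl_mem h.refl₁
  have hfix : ∀ v, orderOf v = 2 → v ∈ M → bar M v ∈ L → ∀ x : G, x * v = v * x → x ∈ M :=
    fun v hv hvM hvL x hx => h.inner_centralizer_le hv hvM hvL (mem_centralizer_left.2 hx)
  have hOM : O ≤ M := h.refl₁.le_of_fixed hOodd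
    (fun w hw => conj_mem_of_inv E.t_sq (hinn _ E.t_mem_S h.t_inner) hw)
    (fun w hw => conj_mem_of_inv h.refl₁.sq (hinn _ h.refl₁.1 h.inner) hw)
    (fun w _ hw => h.le (E.mem_H.2 hw))
    (fun w _ hw => hfix _ h.refl₁.orderOf_eq hb₁M h.inner w hw)
    (fun w _ hw => hfix _ h.refl₁.mul_t.orderOf_eq (h.refl_mem h.refl₁.mul_t) h.b₁_mul_t_inner w hw)
  haveI := h.normal
  set N := img M O
  have hnorm : ∀ l ∈ L, ∀ n ∈ N, l * n * l⁻¹ ∈ N := by
    intro l hl n hn
    obtain ⟨x, hx, e, hxW⟩ := h.exists_lift hl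
    obtain ⟨o, ho, hoM, rfl⟩ := mem_img.1 hn
    rw [← e, ← bar_conj hx hoM]
    exact mem_img.2 ⟨_, conj_mem_coreIn (mem_centralizer_left.2 (hxW a ha).symm) ho,
      mul_mem (mul_mem hx hoM) (inv_mem hx), rfl⟩
  haveI hnL : (N.subgroupOf L).Normal := ⟨fun n hn g => hnorm g g.2 _ hn⟩
  haveI := (Main.isSimple_and_perfect (L := L)
    (Or.inl ⟨F, inferInstance, inferInstance, hL.odd, hL.three, hL.equiv⟩)).1
  have hbot : N.subgroupOf L = ⊥ := hnL.eq_bot_or_eq_top.resolve_right fun e => by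
    have hle : L ≤ N := fun l hl => mem_subgroupOf.1 (e ▸ mem_top (⟨l, hl⟩ : L))
    have h2 : orderOf (bar M E.t) = 2 := bar_involution h.t_mem E.orderOf_t
    have h3 := odd_orderOf_of_mem (odd_card_img (M := M) hOodd) (hle h.t_inner)
    rw [h2] at h3
    exact absurd h3 (by decide)
  intro o ho
  refine (bar_eq_one_iff (hOM ho)).1 (mem_bot.1 ?_)
  rw [← hL.cent, mem_centralizer_iff]
  intro l hl
  have hn : bar M o ∈ N := mem_img.2 ⟨o, ho, hOM ho, rfl⟩
  have h1 : l * bar M o * l⁻¹ * (bar M o)⁻¹ ∈ N := mul_mem (hnorm l hl _ hn) (inv_mem hn)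
  have h2 : l * bar M o * l⁻¹ * (bar M o)⁻¹ ∈ L := by
    rw [show l * bar M o * l⁻¹ * (bar M o)⁻¹ = l * (bar M o * l⁻¹ * (bar M o)⁻¹) by group]
    exact mul_mem hl (h.normal.conj_mem _ (inv_mem hl) _)
  have h3 : (⟨_, h2⟩ : L) ∈ N.subgroupOf L := h1
  rw [hbot, mem_bot] at h3
  exact mul_inv_eq_iff_eq_mul.1 (mul_inv_eq_one.1 (congrArg Subtype.val h3))

end Two

end CfsgLib.GW.CaseOne
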