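import Cfsg.Agent.Lib.GW.Central
import Cfsg.Agent.Lib.GW.Main
import Cfsg.Agent.Lib.Components.Local
import Cfsg.Agent.Lib.DimThreeMax.AutCard
import Cfsg.Agent.Lib.DGroup.Dihedral

/-!
Gorenstein–Walter, Step 3.1 preliminaries: the perfect residual of a subgroup `K` and the shape of
`K / O(K)` when it is not solvable.
-/

set_option autoImplicit false
set_option linter.style.haveILetI false
set_option linter.unusedSectionVars false

namespace CfsgLib.GW.Max31

open Subgroup
open scoped commutatorElement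

universe u

variable {G : Type u} [Group G]

/-- The largest perfect subgroup of `K`. -/
def perf (K : Subgroup G) : Subgroup G := sSup {Q | Q ≤ K ∧ ⁅Q, Q⁆ = Q}

theorem perf_le (K : Subgroup G) : perf K ≤ K := sSup_le fun _ h => h.1

theorem le_perf {K Q : Subgroup G} (hQ : Q ≤ K) (h : ⁅Q, Q⁆ = Q) : Q ≤ perf K := le_sSup ⟨hQ, h⟩

theorem perfect_perf (K : Subgroup G) : ⁅perf K, perf K⁆ = perf K := by
  refine le_antisymm (commutator_le_left_of_self _) (sSup_le fun Q h => ?_)
  calc Q = ⁅Q, Q⁆ := h.2.symm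
    _ ≤ _ := commutator_mono (le_perf h.1 h.2) (le_perf h.1 h.2)
where
  commutator_le_left_of_self (P : Subgroup G) : ⁅P, P⁆ ≤ P :=
    commutator_le.2 fun a ha b hb => by
      rw [commutatorElement_def]
      exact mul_mem (mul_mem (mul_mem ha hb) (inv_mem ha)) (inv_mem hb)

theorem conj_mem_perf {K : Subgroup G} {g x : G} (hg : ∀ y ∈ K, g * y * g⁻¹ ∈ K) (hx : x ∈ perf K) :
    g * x * g⁻¹ ∈ perf K := by
  have h : (perf K).map (MulAut.conj g).toMonoidHom ≤ perf K := by
    refine le_perf ?_ (by rw [← map_commutator, perfect_perf])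
    rintro _ ⟨y, hy, rfl⟩
    exact hg y (perf_le K hy)
  exact h ⟨x, hx, rfl⟩

/-! ### Quotient by the odd core -/

variable [Finite G]

theorem conj_perf_of_mem {K : Subgroup G} {k x : G} (hk : k ∈ K) (hx : x ∈ perf K) :
    k * x * k⁻¹ ∈ perf K :=
  conj_mem_perf (fun _ hy => mul_mem (mul_mem hk hy) (inv_mem hk)) hx

/-- `x ↦ x O(K)`. -/
def bar (K : Subgroup G) : K →* K ⧸ Cfsg.oddCore K := QuotientGroup.mk' _

theorem bar_eq_one {K : Subgroup G} {x : K} : bar K x = 1 ↔ (x : G) ∈ coreIn K := by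
  rw [bar, QuotientGroup.mk'_apply, QuotientGroup.eq_one_iff, coreIn,
    Subgroup.mem_map]
  exact ⟨fun h => ⟨x, h, rfl⟩, fun ⟨y, hy, e⟩ => Subtype.ext e ▸ hy⟩

theorem bar_ne_one_of_two {K : Subgroup G} {x : K} (hx : orderOf (x : G) = 2) : bar K x ≠ 1 :=
  fun h => by
    have := CfsgLib.RankOneInvol.odd_orderOf_of_mem (odd_card_coreIn K) (bar_eq_one.1 h)
    rw [hx] at this
    exact absurd this (by decide)

theorem orderOf_bar {K : Subgroup G} {x : K} (hx : orderOf (x : G) = 2) : orderOf (bar K x) = 2 := by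
  refine orderOf_eq_prime ?_ (bar_ne_one_of_two hx)
  rw [← map_pow]
  have : x ^ 2 = 1 := Subtype.ext (by rw [coe_pow, ← hx, pow_orderOf_eq_one]; rfl)
  rw [this, map_one]

/-- Centralisers of involutions lift from `K / O(K)`. -/
theorem lift_commute {K : Subgroup G} {t : K} (ht : orderOf (t : G) = 2) {q : K ⧸ Cfsg.oddCore K}
    (hq : q * bar K t = bar K t * q) :
    ∃ c : K, (c : G) * t = t * c ∧ bar K c = q := by
  haveI : Fact (Nat.Prime 2) := ⟨Nat.prime_two⟩
  have hm := CfsgLib.Components.map_centralizer_quotient (p := 2)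
    (CfsgLib.PCore.pPrimeCore_coprime (G := K)) (P := zpowers t)
    (CfsgLib.Involutions.isPGroup_two_zpowers (by rwa [← Subgroup.orderOf_coe]))
  have hq' : q ∈ centralizer (((zpowers t).map (QuotientGroup.mk' (Cfsg.oddCore K)) :
      Subgroup (K ⧸ Cfsg.oddCore K)) : Set (K ⧸ Cfsg.oddCore K)) := by
    rw [mem_centralizer_iff]
    rintro _ ⟨_, ⟨k, rfl⟩, rfl⟩
    show bar K (t ^ k) * q = q * bar K (t ^ k)
    rw [map_zpow]
    exact ((show Commute q (bar K t) from hq).zpow_right k).eq.symm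
  rw [← hm] at hq'
  obtain ⟨h, hh, hhq⟩ := hq'
  exact ⟨h, (congrArg Subtype.val (mem_centralizer_iff.1 hh t (mem_zpowers t))).symm, hhq⟩

/-- The image of the perfect residual. -/
def topL (K : Subgroup G) : Subgroup (K ⧸ Cfsg.oddCore K) := ((perf K).subgroupOf K).map (bar K)

/-- `K / O(K)` has an almost simple shape with socle the image of the perfect residual. -/
structure TopData (K : Subgroup G) : Prop where
  dc : Main.DC (K ⧸ Cfsg.oddCore K)
  normal : (topL K).Normal
  cent : centralizer (topL K : Set (K ⧸ Cfsg.oddCore K)) = ⊥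
  shape : IsPSLOrA7 (topL K)

/-- Odd elements of `S₄` centralise no involution. -/
theorem four_no_commute : ∀ x w : Equiv.Perm (Fin 4), x ^ 3 = 1 → x ≠ 1 → w ^ 2 = 1 → w ≠ 1 →
    x * w ≠ w * x := by decide

theorem odd_pow_three {Y : Type*} [Group Y] (f : Y →* Equiv.Perm (Fin 4)) {x : Y}
    (hx : Odd (orderOf x)) : f x ^ 3 = 1 := by
  have h1 : orderOf (f x) ∣ 24 := by
    have := orderOf_dvd_natCard (f x)
    rwa [Nat.card_perm, Nat.card_fin] at this
  have h2 : Odd (orderOf (f x)) := hx.of_dvd_nat (orderOf_map_dvd f x)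
  apply orderOf_dvd_iff_pow_eq_one.1
  have h3 : orderOf (f x) ≤ 24 := Nat.le_of_dvd (by norm_num) h1
  rcases h2 with ⟨j, hj⟩
  interval_cases orderOf (f x) <;> omega

theorem not_solvable_of_perfect {Y : Type u} [Group Y] [Finite Y] {Q : Subgroup Y}
    (hQ : ⁅Q, Q⁆ = Q) (hne : Q ≠ ⊥) : ¬ Group.IsSolvable Q := by
  haveI : Group.IsPerfect Q := by
    rw [Group.isPerfect_def]
    refine map_injective Q.subtype_injective ?_
    rw [map_subtype_commutator, hQ, ← MonoidHom.range_eq_map, range_subtype]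
  haveI : Nontrivial Q := (nontrivial_iff_ne_bot Q).2 hne
  exact Group.IsPerfect.not_isSolvable Q

/-- A perfect subgroup lies in a normal `PSL₂` or `A₇`. -/
theorem perfect_le {Y : Type u} [Group Y] [Finite Y] (hDC : Main.DC Y) {L : Subgroup Y} [L.Normal]
    (hL : IsPSLOrA7 L) {Q : Subgroup Y} (hQ : ⁅Q, Q⁆ = Q) : Q ≤ L := by
  have hLp : ⁅L, L⁆ = L := by
    haveI := (Main.isSimple_and_perfect hL).2
    rw [← map_subtype_commutator, Group.IsPerfect.commutator_eq_top, ← MonoidHom.range_eq_map,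
      range_subtype]
  set N := Q ⊔ L with hN
  have hNp : ⁅N, N⁆ = N := by
    refine le_antisymm (perfect_perf.commutator_le_left_of_self N) (sup_le ?_ ?_)
    · calc Q = ⁅Q, Q⁆ := hQ.symm
        _ ≤ _ := commutator_mono le_sup_left le_sup_left
    · calc L = ⁅L, L⁆ := hLp.symm
        _ ≤ _ := commutator_mono le_sup_right le_sup_right
  haveI : Group.IsPerfect N := by
    rw [Group.isPerfect_def]
    refine map_injective N.subtype_injective ?_
    rw [map_subtype_commutator, hNp, ← MonoidHom.range_eq_map, range_subtype]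
  haveI : (L.subgroupOf N).Normal := inferInstance
  have h := Main.eq_top_of_perfect (hDC.subgroup N) (L.subgroupOf N)
    (hL.of_equiv (subgroupOfEquivOfLe le_sup_right).symm)
  exact le_sup_left.trans (subgroupOf_eq_top.1 h)

/-- The image of the perfect residual is the socle. -/
theorem topL_eq {K : Subgroup G} (hDC : Main.DC (K ⧸ Cfsg.oddCore K))
    (L : Subgroup (K ⧸ Cfsg.oddCore K)) [L.Normal] (hL : IsPSLOrA7 L) : topL K = L := by
  refine le_antisymm ?_ ?_
  · refine perfect_le hDC hL ?_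
    rw [topL, ← map_commutator]
    congr 1
    refine map_injective K.subtype_injective ?_
    rw [map_commutator, subgroupOf_map_subtype, inf_of_le_left (perf_le K), perfect_perf]
  · classical
    have hLp : ⁅L, L⁆ = L := by
      haveI := (Main.isSimple_and_perfect hL).2
      rw [← map_subtype_commutator, Group.IsPerfect.commutator_eq_top, ← MonoidHom.range_eq_map,
        range_subtype]
    have hne : {Q : Subgroup K | Q.map (bar K) = L}.Nonempty :=
      ⟨L.comap (bar K), map_comap_eq_self_of_surjective (QuotientGroup.mk'_surjective _) L⟩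
    obtain ⟨Q, hQ, hmin⟩ := (Set.toFinite _).exists_minimalFor id _ hne
    have hQ' : Q.map (bar K) = L := hQ
    have hc : ⁅Q, Q⁆ ≤ Q := perfect_perf.commutator_le_left_of_self Q
    have hperf : ⁅Q, Q⁆ = Q := le_antisymm hc <| hmin (show (⁅Q, Q⁆).map (bar K) = L by
      rw [map_commutator, hQ', hLp]) hc
    intro l hl
    rw [← hQ'] at hl
    obtain ⟨x, hx, rfl⟩ := hl
    refine ⟨x, mem_subgroupOf.2 (le_perf (Q := Q.map K.subtype) (map_subtype_le _)
      (by rw [← map_commutator, hperf]) ⟨x, hx, rfl⟩), rfl⟩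

theorem dc (E : Setup G) (K : Subgroup G) : Main.DC (K ⧸ Cfsg.oddCore K) :=
  Main.dc_quotient ((Main.dc_of_sylow E.S (Or.inl E.eS)).subgroup K)

theorem topData_of_shape (E : Setup G) {K : Subgroup G} (L : Subgroup (K ⧸ Cfsg.oddCore K)) [hn : L.Normal]
    (hC : centralizer (L : Set (K ⧸ Cfsg.oddCore K)) = ⊥) (hL : IsPSLOrA7 L) : TopData K :=
  have e := topL_eq (dc E K) L hL
  ⟨dc E K, e ▸ hn, e.symm ▸ hC, e.symm ▸ hL⟩

/-- An odd element outside `O(K)` commuting with an involution forces an almost simple top. -/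
theorem topData_of_odd (E : Setup G) {K : Subgroup G} (hK : K ≠ ⊤) {y w : G} (hy : y ∈ K)
    (hodd : Odd (orderOf y)) (hyc : y ∉ coreIn K) (hw : w ∈ K) (hw2 : orderOf w = 2)
    (hc : y * w = w * y) : TopData K := by
  set q := bar K ⟨y, hy⟩ with hq
  set v := bar K ⟨w, hw⟩ with hv
  have hq1 : q ≠ 1 := fun h => hyc (bar_eq_one.1 h)
  have hqo : Odd (orderOf q) := by
    refine hodd.of_dvd_nat ?_
    rw [← Subgroup.orderOf_mk y hy]
    exact orderOf_map_dvd _ _
  have hv2 : orderOf v = 2 := orderOf_bar hw2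
  have hqv : q * v = v * q := by
    rw [hq, hv, ← map_mul, ← map_mul]; exact congrArg _ (Subtype.ext hc)
  have key : ∀ f : K ⧸ Cfsg.oddCore K →* Equiv.Perm (Fin 4), Function.Injective f → False := by
    intro f hf
    refine four_no_commute (f q) (f v) (odd_pow_three f hqo) ?_ ?_ ?_ ?_
    · exact fun h => hq1 (hf (h.trans (map_one f).symm))
    · have h2 := pow_orderOf_eq_one v
      rw [hv2] at h2
      rw [← map_pow, h2, map_one]
    · intro h
      rw [hf (h.trans (map_one f).symm), orderOf_one] at hv2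
      exact absurd hv2 (by norm_num)
    · exact (map_mul f q v).symm.trans ((congrArg f hqv).trans (map_mul f v q))
  rcases E.good K hK with h | ⟨⟨e⟩⟩ | ⟨⟨e⟩⟩ | ⟨L, hn, hC, hL⟩
  · obtain ⟨j, hj⟩ := IsPGroup.iff_orderOf.1 h q
    rcases Nat.eq_zero_or_pos j with rfl | hj0
    · rw [pow_zero, orderOf_eq_one_iff] at hj; exact absurd hj hq1
    · rw [hj, ← Nat.not_even_iff_odd] at hqo
      exact absurd (Nat.even_pow.2 ⟨even_two, hj0.ne'⟩) hqo
  · exact (key ((alternatingGroup (Fin 4)).subtype.comp e.toMonoidHom)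
      ((alternatingGroup (Fin 4)).subtype_injective.comp e.injective)).elim
  · exact (key e.toMonoidHom e.injective).elim
  · haveI := hn; exact topData_of_shape E L hC hL

/-- An involution in a perfect subgroup forces an almost simple top. -/
theorem topData_of_perfect (E : Setup G) {K Q : Subgroup G} (hK : K ≠ ⊤) (hQK : Q ≤ K) (hQ : ⁅Q, Q⁆ = Q) {w : G}
    (hw : w ∈ Q) (hw2 : orderOf w = 2) : TopData K := by
  set Q' := (Q.subgroupOf K).map (bar K) with hQ'
  have hp : ⁅Q', Q'⁆ = Q' := by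
    rw [hQ', ← map_commutator]
    congr 1
    refine map_injective K.subtype_injective ?_
    rw [map_commutator, subgroupOf_map_subtype, inf_of_le_left hQK, hQ]
  have hne : Q' ≠ ⊥ := fun h => bar_ne_one_of_two (x := ⟨w, hQK hw⟩) hw2
    ((mem_bot).1 (h ▸ (⟨⟨w, hQK hw⟩, mem_subgroupOf.2 hw, rfl⟩ : bar K ⟨w, hQK hw⟩ ∈ Q')))
  have hns := not_solvable_of_perfect hp hne
  haveI : Group.IsSolvable (Equiv.Perm (Fin 4)) := CfsgLib.InvCharSmall.isSolvable_perm_four
  rcases E.good K hK with h | ⟨⟨e⟩⟩ | ⟨⟨e⟩⟩ | ⟨L, hn, hC, hL⟩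
  · haveI : Fact (Nat.Prime 2) := ⟨Nat.prime_two⟩
    haveI : Group.IsNilpotent Q' := (h.to_subgroup Q').isNilpotent
    exact absurd (inferInstance : Group.IsSolvable Q') hns
  · exact absurd (Group.isSolvable_of_isSolvable_injective
      (f := ((alternatingGroup (Fin 4)).subtype.comp e.toMonoidHom).comp Q'.subtype)
      (((alternatingGroup (Fin 4)).subtype_injective.comp e.injective).comp Q'.subtype_injective)) hns
  · exact absurd (Group.isSolvable_of_isSolvable_injective (f := e.toMonoidHom.comp Q'.subtype)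
      (e.injective.comp Q'.subtype_injective)) hns
  · haveI := hn; exact topData_of_shape E L hC hL

/-- An involution with image in the socle lies in the perfect residual. -/
theorem mem_perf_of_bar {K : Subgroup G} {w : K} (hw : orderOf (w : G) = 2)
    (h : bar K w ∈ topL K) : (w : G) ∈ perf K := by
  haveI : ((perf K).subgroupOf K).Normal :=
    ⟨fun x hx k => mem_subgroupOf.2 (conj_perf_of_mem k.2 (mem_subgroupOf.1 hx))⟩
  obtain ⟨p, hp, hpw⟩ := h
  have ho : p⁻¹ * w ∈ Cfsg.oddCore K := (QuotientGroup.eq).1 hpw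
  set π := QuotientGroup.mk' ((perf K).subgroupOf K) with hπ
  have h1 : π (p⁻¹ * w) = π w := by
    rw [map_mul, map_inv, hπ, QuotientGroup.mk'_apply, (QuotientGroup.eq_one_iff p).2 hp, inv_one,
      one_mul]
  have h2 : orderOf (π w) = 1 := by
    refine Nat.eq_one_of_dvd_coprimes (a := 2) (b := orderOf (p⁻¹ * w)) ?_ ?_ ?_
    · refine Nat.coprime_two_left.2 (CfsgLib.RankOneInvol.odd_orderOf_of_mem ?_ ho)
      haveI : Fact (Nat.Prime 2) := ⟨Nat.prime_two⟩
      rw [← Nat.not_even_iff_odd, even_iff_two_dvd]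
      exact CfsgLib.PCore.not_dvd_card_pPrimeCore
    · rw [← hw, Subgroup.orderOf_coe]; exact orderOf_map_dvd _ _
    · rw [← h1]; exact orderOf_map_dvd _ _
  exact mem_subgroupOf.1 ((QuotientGroup.eq_one_iff w).1 (orderOf_eq_one_iff.1 h2))

theorem bar_mem_topL {K : Subgroup G} {w : K} (h : (w : G) ∈ perf K) : bar K w ∈ topL K :=
  ⟨w, mem_subgroupOf.2 h, rfl⟩

/-! ### Two involutions modulo the socle -/

/-- The socle meets a Sylow 2-subgroup in a noncyclic subgroup of index at most two. -/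
theorem exists_sylow_index {Y : Type u} [Group Y] [Finite Y] (hDC : Main.DC Y) {L : Subgroup Y}
    [L.Normal] (hL : IsPSLOrA7 L) (T : Sylow 2 Y) :
    (L.subgroupOf (T : Subgroup Y)).index ≤ 2 ∧ ¬ IsCyclic ↥((T : Subgroup Y) ⊓ L : Subgroup Y) := by
  haveI : Fact (Nat.Prime 2) := ⟨Nat.prime_two⟩
  obtain ⟨hs, hp⟩ := Main.isSimple_and_perfect hL
  haveI := hs
  haveI := hp
  obtain ⟨R⟩ : Nonempty (Sylow 2 L) := inferInstance
  obtain ⟨c, hc⟩ := CfsgLib.Involutions.exists_conj_le_sylow (R.2.map L.subtype) T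
  let g : ↥((R : Subgroup L)) →* ↥((T : Subgroup Y) ⊓ L : Subgroup Y) :=
    { toFun := fun x => ⟨c * ((x : L) : Y) * c⁻¹, hc _ ⟨x, x.2, rfl⟩,
        (inferInstance : L.Normal).conj_mem _ (x : L).2 c⟩
      map_one' := Subtype.ext (by simp)
      map_mul' := fun x y => Subtype.ext (by simp [mul_assoc]) }
  have hginj : Function.Injective g := fun x y h => by
    have := congrArg Subtype.val h
    exact Subtype.ext (Subtype.ext ((MulAut.conj c).injective this))
  have hRc : ¬ IsCyclic ↥((T : Subgroup Y) ⊓ L : Subgroup Y) := fun hcy => by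
    haveI := hcy
    exact Main.not_isCyclic_sylow R (isCyclic_of_injective g hginj)
  have hTc : ¬ IsCyclic (T : Subgroup Y) := fun hc => hRc (by
    haveI := hc
    exact isCyclic_of_injective _ (Subgroup.inclusion_injective inf_le_left))
  obtain ⟨n, hn, ⟨e⟩⟩ := (hDC _ T.2).resolve_left hTc
  haveI : NeZero n := ⟨by omega⟩
  set R' := (L.subgroupOf (T : Subgroup Y)).map e.toMonoidHom with hR'
  haveI : R'.Normal := Subgroup.Normal.map inferInstance _ e.surjective
  refine ⟨?_, hRc⟩
  rw [← Subgroup.index_map_equiv _ e]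
  refine Main.index_le_two (T.2.of_equiv e) hn R' fun hc => hRc ?_
  exact Main.cyclic_of_equiv ((((L.subgroupOf (T : Subgroup Y)).equivMapOfInjective e.toMonoidHom
    e.injective).symm.trans (MulEquiv.subgroupCongr (inf_subgroupOf_left _ _).symm)).trans
    (subgroupOfEquivOfLe inf_le_left)) hc

/-- Of two commuting involutions outside the socle the product is inside. -/
theorem mul_mem_socle {Y : Type u} [Group Y] [Finite Y] (hDC : Main.DC Y) {L : Subgroup Y}
    [L.Normal] (hL : IsPSLOrA7 L) {x y : Y} (hx : x * x = 1) (hy : y * y = 1) (hxy : x * y = y * x)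
    (hxL : x ∉ L) (hyL : y ∉ L) : x * y ∈ L := by
  haveI : Fact (Nat.Prime 2) := ⟨Nat.prime_two⟩
  have hp : IsPGroup 2 (closure ({x, y} : Set Y)) := by
    refine CfsgLib.DGroup.closure_isPGroup ?_ ?_
    · rintro a (rfl | rfl) b (rfl | rfl)
      · rfl
      · exact hxy
      · exact hxy.symm
      · rfl
    · rintro a (rfl | rfl)
      · exact hx
      · exact hy
  obtain ⟨T, hT⟩ := hp.exists_le_sylow
  have hxT : x ∈ (T : Subgroup Y) := hT (subset_closure (by simp))
  have hyT : y ∈ (T : Subgroup Y) := hT (subset_closure (by simp))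
  obtain ⟨hi, -⟩ := exists_sylow_index hDC hL T
  have h0 : (L.subgroupOf (T : Subgroup Y)).index ≠ 0 := index_ne_zero_of_finite
  have h1 : (L.subgroupOf (T : Subgroup Y)).index ≠ 1 := fun h =>
    hxL (mem_subgroupOf.1 ((index_eq_one.1 h) ▸ mem_top (⟨x, hxT⟩ : (T : Subgroup Y))))
  have h2 : (L.subgroupOf (T : Subgroup Y)).index = 2 := by omega
  have := (mul_mem_iff_of_index_two h2 (a := (⟨x, hxT⟩ : (T : Subgroup Y))) (b := ⟨y, hyT⟩)).2
    ⟨fun h => absurd (mem_subgroupOf.1 h) hxL, fun h => absurd (mem_subgroupOf.1 h) hyL⟩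
  exact mem_subgroupOf.1 this

/-- When the Sylow 2-subgroups have order four every involution is in the socle. -/
theorem mem_socle_of_small {Y : Type u} [Group Y] [Finite Y] (hDC : Main.DC Y) {L : Subgroup Y}
    [L.Normal] (hL : IsPSLOrA7 L) {x : Y} (hx : x * x = 1)
    (hsmall : ∀ T : Sylow 2 Y, Nat.card (T : Subgroup Y) ≤ 4) : x ∈ L := by
  haveI : Fact (Nat.Prime 2) := ⟨Nat.prime_two⟩
  have hp : IsPGroup 2 (zpowers x) := by
    intro z
    obtain ⟨i, hi⟩ := mem_zpowers_iff.mp z.2
    refine ⟨1, Subtype.ext ?_⟩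
    show (z : Y) ^ 2 ^ 1 = 1
    rw [← hi, pow_one, pow_two, ← (Commute.refl x).mul_zpow, hx, one_zpow]
  obtain ⟨T, hT⟩ := hp.exists_le_sylow
  obtain ⟨-, hnc⟩ := exists_sylow_index hDC hL T
  have hle : (T : Subgroup Y) ⊓ L ≤ (T : Subgroup Y) := inf_le_left
  obtain ⟨j, hj⟩ := IsPGroup.iff_card.1 (T.2.to_le hle)
  have hj2 : 2 ≤ j := by
    by_contra h
    have hj1 : j = 0 ∨ j = 1 := by omega
    rcases hj1 with rfl | rfl
    · haveI : Subsingleton ↥((T : Subgroup Y) ⊓ L : Subgroup Y) :=
        (Finite.card_le_one_iff_subsingleton).1 (by rw [hj]; norm_num)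
      exact hnc isCyclic_of_subsingleton
    · exact hnc (isCyclic_of_prime_card (p := 2) (by rw [hj, pow_one]))
  have e := eq_of_le_of_card_ge hle ((hsmall T).trans (by
    rw [hj]; exact le_trans (by norm_num) (Nat.pow_le_pow_right two_pos hj2)))
  have hxT : x ∈ (T : Subgroup Y) := hT (mem_zpowers x)
  rw [← e] at hxT
  exact hxT.2

/-! ### `A₇` -/

/-- An `A₇` socle is everything. -/
theorem eq_top_of_seven {Y : Type u} [Group Y] [Finite Y] (hDC : Main.DC Y) {L : Subgroup Y}
    [L.Normal] (hC : centralizer (L : Set Y) = ⊥) (ψ : L ≃* alternatingGroup (Fin 7)) : L = ⊤ := by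
  haveI : Fact (Nat.Prime 2) := ⟨Nat.prime_two⟩
  have hφ : Function.Injective ((MulAut.congr ψ).toMonoidHom.comp
      (MulAut.conjNormal : Y →* MulAut L)) := by
    rw [injective_iff_map_eq_one]
    intro x hx
    have hx' : (MulAut.conjNormal x : MulAut L) = 1 := by
      apply (MulAut.congr ψ).injective
      rw [map_one]
      exact hx
    have : x ∈ centralizer (L : Set Y) := by
      rw [mem_centralizer_iff]
      intro y hy
      have h1 := congrArg Subtype.val (DFunLike.congr_fun hx' (⟨y, hy⟩ : L))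
      rw [MulAut.conjNormal_apply] at h1
      exact (mul_inv_eq_iff_eq_mul.1 h1).symm
    rwa [hC, mem_bot] at this
  set φ := (MulAut.congr ψ).toMonoidHom.comp (MulAut.conjNormal : Y →* MulAut L)
  have hNcard : Nat.card L = 2520 := by
    rw [Nat.card_congr ψ.toEquiv, CfsgLib.DimThreeMax.card_alt_seven]
  have hPdvd : Nat.card Y ∣ 5040 := by
    rw [← CfsgLib.DimThreeMax.card_mulAut_alt_seven,
      Nat.card_congr (MonoidHom.ofInjective hφ).toEquiv]
    exact card_subgroup_dvd_card _
  have hmul := L.card_mul_index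
  rw [hNcard] at hmul
  have hi : L.index = 1 ∨ L.index = 2 := by
    rw [← hmul] at hPdvd
    have : L.index ∣ 2 := Nat.dvd_of_mul_dvd_mul_left (by norm_num : 0 < 2520)
      (by simpa using hPdvd)
    exact (Nat.dvd_prime Nat.prime_two).1 this
  rcases hi with hi | hi
  · exact index_eq_one.1 hi
  · exfalso
    let F : Equiv.Perm (Fin 7) ≃* MulAut (alternatingGroup (Fin 7)) :=
      MulEquiv.ofBijective _ (Cfsg.Agent.S2119.result 7 (by norm_num) (by norm_num))
    have hbij : Function.Bijective φ := (Nat.bijective_iff_injective_and_card φ).2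
      ⟨hφ, by rw [CfsgLib.DimThreeMax.card_mulAut_alt_seven, ← hmul, hi]⟩
    obtain ⟨T⟩ : Nonempty (Sylow 2 Y) := inferInstance
    obtain ⟨-, hnc⟩ := exists_sylow_index hDC (L := L) (Or.inr ⟨ψ⟩) T
    obtain ⟨n, hn, ⟨e⟩⟩ := (hDC _ T.2).resolve_left fun hc => hnc (by
      haveI := hc
      exact isCyclic_of_injective _ (Subgroup.inclusion_injective inf_le_left))
    haveI : NeZero n := ⟨by omega⟩
    exact CfsgLib.GWCons.DihedralGenerated.not_perm_seven T e
      ((MulEquiv.ofBijective φ hbij).trans F.symm)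

theorem cycleType_seven : ∀ t : alternatingGroup (Fin 7), t * t = 1 → t ≠ 1 →
    (t : Equiv.Perm (Fin 7)).cycleType = {2, 2} := by
  intro t ht ht1
  set σ : Equiv.Perm (Fin 7) := (t : Equiv.Perm (Fin 7)) with hσ
  have h2 : orderOf σ = 2 := by
    rw [hσ, Subgroup.orderOf_coe]
    exact CfsgLib.Involutions.orderOf_eq_two_iff_mul.2 ⟨ht1, ht⟩
  have hall : ∀ x ∈ σ.cycleType, x = 2 := fun x hx => by
    have h := Equiv.Perm.two_le_of_mem_cycleType hx
    have h' := Equiv.Perm.dvd_of_mem_cycleType hx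
    rw [h2] at h'
    have := Nat.le_of_dvd two_pos h'
    omega
  have hrep := Multiset.eq_replicate_card.2 hall
  have hsum : σ.cycleType.sum ≤ 7 := by
    rw [Equiv.Perm.sum_cycleType]
    exact (Finset.card_le_univ _).trans (by simp)
  rw [hrep, Multiset.sum_replicate, smul_eq_mul] at hsum
  have hsign : Equiv.Perm.sign σ = 1 := Equiv.Perm.mem_alternatingGroup.1 t.2
  rw [Equiv.Perm.sign_of_cycleType, hrep, Multiset.sum_replicate, smul_eq_mul,
    Multiset.card_replicate] at hsign
  have hne : σ.cycleType.card ≠ 0 := by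
    rw [Ne, Multiset.card_eq_zero, Equiv.Perm.cycleType_eq_zero]
    intro e
    rw [e, orderOf_one] at h2
    omega
  rw [hrep]
  generalize σ.cycleType.card = c at hsum hsign hne ⊢
  have hc4 : c ≤ 3 := by omega
  interval_cases c <;> first | rfl | omega | exact absurd hsign (by decide)

/-- An odd group centralising an involution of `A₇` has order at most three. -/
theorem card_dvd_three {L : Type u} [Group L] [Finite L] (ψ : L ≃* alternatingGroup (Fin 7))
    {t : L} (ht : orderOf t = 2) {B : Subgroup L} (hB : Odd (Nat.card B))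
    (hc : ∀ x ∈ B, x * t = t * x) : Nat.card B ∣ 3 := by
  classical
  obtain ⟨ht1, ht2⟩ := CfsgLib.Involutions.orderOf_eq_two_iff_mul.1 ht
  have hcy := cycleType_seven (ψ t) (by rw [← map_mul, ht2, map_one])
    (fun h => ht1 (ψ.injective (h.trans (map_one ψ).symm)))
  set σ : Equiv.Perm (Fin 7) := (ψ t : Equiv.Perm (Fin 7))
  let f : L →* Equiv.Perm (Fin 7) := (alternatingGroup (Fin 7)).subtype.comp ψ.toMonoidHom
  have hf : Function.Injective f := (alternatingGroup (Fin 7)).subtype_injective.comp ψ.injective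
  have hle : B.map f ≤ centralizer ({σ} : Set (Equiv.Perm (Fin 7))) := by
    rintro _ ⟨x, hx, rfl⟩
    rw [mem_centralizer_singleton_iff]
    show f x * f t = f t * f x
    rw [← map_mul, ← map_mul, hc x hx]
  have hd := card_dvd_of_le hle
  rw [card_map_of_injective hf, Equiv.Perm.nat_card_centralizer, hcy] at hd
  norm_num [Fintype.card_fin, Nat.factorial] at hd
  exact (Nat.coprime_two_right.2 hB).pow_right 4 |>.dvd_of_dvd_mul_left
    (show Nat.card B ∣ 2 ^ 4 * 3 by norm_num; exact hd)

end CfsgLib.GW.Max31
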