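import Cfsg.Agent.Lib.GW.CaseOneFourBase
import Cfsg.Agent.Lib.GW.CaseOneFourPrime
import Cfsg.Agent.Lib.GW.CaseOneOuterCent
import Cfsg.Agent.Lib.GW.Max31Base

/-!
Gorenstein–Walter, a maximal subgroup whose quotient by the odd core is symmetric of degree four and
whose abelian odd core is inverted by the outer reflection: the odd core is a trivial intersection
set with normaliser the maximal subgroup.
-/

set_option autoImplicit false
set_option linter.unusedSectionVars false
set_option linter.unusedVariables false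
set_option linter.style.haveILetI false

namespace CfsgLib.GW.CaseOne

open Subgroup CfsgLib.RankOneInvol Equiv

universe u

variable {G : Type u} [Group G] [Finite G] {E : Setup G} {M : Subgroup G} {L : Subgroup (Tp M)}
  {b b₁ : G}

theorem card_alt_four : Nat.card (alternatingGroup (Fin 4)) = 12 := by
  rw [Nat.card_eq_fintype_card]; decide +kernel

namespace Four

variable (h : Four E M L b b₁)
include h

/-- The image of an element of odd order is even. -/
theorem sign_of_odd {x : G} (hx : x ∈ M) (ho : Odd (orderOf x)) :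
    Perm.sign (h.e (bar M x)) = 1 := by
  refine orderOf_eq_one_iff.1 (Nat.eq_one_of_dvd_coprimes (Nat.coprime_two_left.2 ho) ?_ ?_)
  · exact orderOf_dvd_of_pow_eq_one (by rw [pow_two]; exact Int.units_mul_self _)
  · refine orderOf_dvd_of_pow_eq_one ?_
    rw [← map_pow, ← map_pow, ← bar_pow hx, pow_orderOf_eq_one, bar_one, map_one, map_one]

variable (hab : ∀ x ∈ coreIn M, ∀ y ∈ coreIn M, x * y = y * x)
variable (hinv : ∀ w ∈ coreIn M, b * w * b = w⁻¹)
include hab hinv

theorem conj_b_inverts {s w : G} (hs : s ∈ M) (hw : w ∈ coreIn M) :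
    s * b * s⁻¹ * w * (s * b * s⁻¹)⁻¹ = w⁻¹ := by
  have h1 : s⁻¹ * w * s ∈ coreIn M := by simpa using conj_mem_coreIn (inv_mem hs) hw
  calc s * b * s⁻¹ * w * (s * b * s⁻¹)⁻¹ = s * (b * (s⁻¹ * w * s) * b⁻¹) * s⁻¹ := by group
    _ = s * (s⁻¹ * w * s)⁻¹ * s⁻¹ := by rw [h.refl.inv, hinv _ h1]
    _ = w⁻¹ := by group

/-- An element of `M` centralises or inverts the odd core according to the sign of its image. -/
theorem act {m : G} (hm : m ∈ M) :
    (Perm.sign (h.e (bar M m)) = 1 ∧ ∀ w ∈ coreIn M, m * w = w * m) ∨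
      (Perm.sign (h.e (bar M m)) ≠ 1 ∧ ∀ w ∈ coreIn M, m * w * m⁻¹ = w⁻¹) := by
  have hbM := h.refl_mem h.refl
  set v := h.e (bar M b) with hv
  obtain ⟨hv1, -⟩ := h.e_bar_involution hbM h.refl.orderOf_eq
  obtain ⟨σ, ρ, e⟩ := SymFour.conj_products v (h.e (bar M m)) ⟨hv1, h.sign_b⟩
  obtain ⟨s, hs, es⟩ := exists_bar (h.e.symm σ)
  obtain ⟨p, hp, ep⟩ := exists_bar (h.e.symm ρ)
  set q := s * b * s⁻¹ * (p * b * p⁻¹) with hq
  have hsb : s * b * s⁻¹ ∈ M := mul_mem (mul_mem hs hbM) (inv_mem hs)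
  have hpb : p * b * p⁻¹ ∈ M := mul_mem (mul_mem hp hbM) (inv_mem hp)
  have hqM : q ∈ M := mul_mem hsb hpb
  have hqe : h.e (bar M q) = σ * v * σ⁻¹ * (ρ * v * ρ⁻¹) := by
    rw [hq, bar_mul hsb hpb, bar_conj hs hbM, bar_conj hp hbM, map_mul, map_mul, map_mul, map_mul,
      map_mul, map_inv, map_inv, es, ep, MulEquiv.apply_symm_apply, MulEquiv.apply_symm_apply]
  have hqW : ∀ w ∈ coreIn M, q * w = w * q := fun w hw => by
    refine mul_inv_eq_iff_eq_mul.1 ?_
    calc q * w * q⁻¹
        = (s * b * s⁻¹) * ((p * b * p⁻¹) * w * (p * b * p⁻¹)⁻¹) * (s * b * s⁻¹)⁻¹ := by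
          rw [hq]; group
      _ = w := by rw [h.conj_b_inverts hab hinv hp hw, h.conj_b_inverts hab hinv hs (inv_mem hw), inv_inv]
  have hsq : Perm.sign (σ * v * σ⁻¹ * (ρ * v * ρ⁻¹)) = 1 := by
    simp only [map_mul, map_inv]
    rw [show Perm.sign σ * Perm.sign v * (Perm.sign σ)⁻¹ = Perm.sign v by
        rw [mul_comm (Perm.sign σ), mul_inv_cancel_right],
      show Perm.sign ρ * Perm.sign v * (Perm.sign ρ)⁻¹ = Perm.sign v by
        rw [mul_comm (Perm.sign ρ), mul_inv_cancel_right], Int.units_mul_self]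
  have key : ∀ x ∈ M, h.e (bar M x) = h.e (bar M q) → ∀ w ∈ coreIn M, x * w = w * x := by
    intro x hx e' w hw
    have hd : x * q⁻¹ ∈ coreIn M := (bar_eq_bar_iff hx hqM).1 (h.e.injective e')
    have h1 := (show Commute (x * q⁻¹) w from hab _ hd w hw).mul_left (hqW w hw)
    rwa [inv_mul_cancel_right] at h1
  rcases e with e | e
  · exact Or.inl ⟨by rw [e, hsq], key m hm (by rw [hqe, e])⟩
  · refine Or.inr ⟨fun h1 => ?_, fun w hw => ?_⟩
    · have h2 := congrArg Perm.sign e
      rw [map_mul, h1, one_mul, hsq] at h2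
      exact h.sign_b h2
    · have h1 := key (m * b) (mul_mem hm hbM) (by rw [hqe, bar_mul hm hbM, map_mul, e])
        _ (inv_mem hw)
      calc m * w * m⁻¹ = m * (b * w⁻¹ * b) * m⁻¹ := by rw [hinv _ (inv_mem hw), inv_inv]
        _ = (m * b * w⁻¹) * b * m⁻¹ := by group
        _ = w⁻¹ * m * (b * b) * m⁻¹ := by rw [h1]; group
        _ = w⁻¹ := by rw [h.refl.sq, mul_one, mul_inv_cancel_right]

theorem even_of_commute {a m : G} (ha : a ∈ coreIn M) (ha1 : a ≠ 1) (hm : m ∈ M)
    (hma : m * a = a * m) : Perm.sign (h.e (bar M m)) = 1 := by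
  rcases h.act hab hinv hm with ⟨h1, -⟩ | ⟨-, h2⟩
  · exact h1
  · have e := h2 a ha
    rw [hma, mul_inv_cancel_right] at e
    exact absurd (eq_one_of_mem_of_sq (odd_card_coreIn M) ha (mul_eq_one_iff_eq_inv.2 e)) ha1

theorem commute_of_odd {x w : G} (hx : x ∈ M) (ho : Odd (orderOf x)) (hw : w ∈ coreIn M) :
    x * w = w * x :=
  ((h.act hab hinv hx).resolve_right fun h2 => h2.1 (h.sign_of_odd hx ho)).2 w hw

theorem inner_le {z : G} (hz : orderOf z = 2) (hzM : z ∈ M)
    (hs : Perm.sign (h.e (bar M z)) = 1) : centralizer ({z} : Set G) ≤ M :=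
  h.toTwo.inner_centralizer_le hz hzM ((h.inner_iff hzM hz).2 hs)

/-- `8` does not divide the order of the centraliser of a non-trivial element of the odd core. -/
theorem not_eight_dvd {a : G} (ha : a ∈ coreIn M) (ha1 : a ≠ 1) :
    ¬ 8 ∣ Nat.card (centralizer ({a} : Set G)) := by
  intro hd
  haveI : Fact (Nat.Prime 2) := ⟨Nat.prime_two⟩
  set K := centralizer ({a} : Set G)
  have htK : E.t ∈ K := mem_centralizer_singleton_iff.2 (h.core_le a ha).symm
  obtain ⟨P, hP⟩ := ((CfsgLib.Involutions.isPGroup_two_zpowers E.orderOf_t).comap_subtype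
    (K := K)).exists_le_sylow
  have hPd : 8 ∣ Nat.card (P : Subgroup K) := by
    rw [← card_mul_index (P : Subgroup K)] at hd
    refine Nat.Coprime.dvd_of_dvd_mul_right ?_ hd
    exact (Nat.coprime_two_left.2
      (Nat.odd_iff.2 (Nat.two_dvd_ne_zero.1 P.not_dvd_index))).pow_left 3
  haveI : Nontrivial (P : Subgroup K) := Finite.one_lt_card_iff_nontrivial.1
    (lt_of_lt_of_le (by norm_num) (Nat.le_of_dvd Nat.card_pos hPd))
  haveI := P.2.center_nontrivial
  obtain ⟨i, hi0⟩ := IsPGroup.iff_card.1 (P.2.to_subgroup (center (P : Subgroup K)))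
  have hi1 : 2 ∣ Nat.card (center (P : Subgroup K)) := by
    have h1 := Finite.one_lt_card_iff_nontrivial.2
      (inferInstance : Nontrivial (center (P : Subgroup K)))
    rw [hi0] at h1 ⊢
    exact dvd_pow_self _ (fun e => by simp [e] at h1)
  obtain ⟨z', hz'⟩ := exists_prime_orderOf_dvd_card' 2 hi1
  set z : G := ((z'.1 : K) : G) with hzdef
  have hzo : orderOf z = 2 := by
    rw [hzdef, Subgroup.orderOf_coe, Subgroup.orderOf_coe, Subgroup.orderOf_coe]; exact hz'
  have hzP : ∀ p ∈ (P : Subgroup K), z * (p : G) = (p : G) * z := fun p hp =>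
    congrArg (fun u : (P : Subgroup K) => ((u : K) : G)) (mem_center_iff.1 z'.2 ⟨p, hp⟩).symm
  have htP : (⟨E.t, htK⟩ : K) ∈ (P : Subgroup K) := hP (mem_subgroupOf.2 (mem_zpowers E.t))
  have hzM : z ∈ M := h.le (E.mem_H.2 (hzP _ htP))
  have hKa : ∀ x : K, (x : G) * a = a * (x : G) := fun x => mem_centralizer_singleton_iff.1 x.2
  have hPM : ∀ p ∈ (P : Subgroup K), (p : G) ∈ M := fun p hp =>
    h.inner_le hab hinv hzo hzM (h.even_of_commute hab hinv ha ha1 hzM (hKa z'.1))
      (mem_centralizer_singleton_iff.2 (hzP p hp).symm)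
  let f : (P : Subgroup K) →* alternatingGroup (Fin 4) :=
    { toFun := fun p => ⟨h.e (bar M ((p : K) : G)), Perm.mem_alternatingGroup.2
        (h.even_of_commute hab hinv ha ha1 (hPM p p.2) (hKa p.1))⟩
      map_one' := Subtype.ext (by
        show h.e (bar M (((1 : (P : Subgroup K)) : K) : G)) = 1
        rw [Subgroup.coe_one, Subgroup.coe_one, bar_one, map_one])
      map_mul' := fun p q => Subtype.ext (by
        show h.e (bar M ((((p * q : (P : Subgroup K))) : K) : G)) =
          h.e (bar M ((p : K) : G)) * h.e (bar M ((q : K) : G))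
        rw [Subgroup.coe_mul, Subgroup.coe_mul, bar_mul (hPM p p.2) (hPM q q.2), map_mul]) }
  have hf : Function.Injective f := (injective_iff_map_eq_one f).2 fun p hp => by
    have h1 : bar M ((p : K) : G) = 1 := h.e.injective ((congrArg Subtype.val hp).trans (map_one _).symm)
    have h2 := (bar_eq_one_iff (hPM p p.2)).1 h1
    obtain ⟨n, hn⟩ := IsPGroup.iff_orderOf.1 P.2 p
    have ho : orderOf ((p : K) : G) = 2 ^ n := by rw [Subgroup.orderOf_coe, Subgroup.orderOf_coe, hn]
    refine Subtype.ext (Subtype.ext ?_)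
    exact orderOf_eq_one_iff.1 (Nat.eq_one_of_dvd_coprimes ((Nat.coprime_two_left.2
      (odd_orderOf_of_mem (odd_card_coreIn M) h2)).pow_left n) (dvd_of_eq ho) dvd_rfl)
  have h2 := hPd.trans (Subgroup.card_dvd_of_injective f hf)
  rw [card_alt_four] at h2
  norm_num at h2

/-- The centraliser of a non-trivial element of the odd core lies in `M`. -/
theorem centralizer_le {a : G} (ha : a ∈ coreIn M) (ha1 : a ≠ 1) :
    centralizer ({a} : Set G) ≤ M := by
  haveI : Fact (Nat.Prime 2) := ⟨Nat.prime_two⟩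
  set K := centralizer ({a} : Set G) with hK
  have h8 := h.not_eight_dvd hab hinv ha ha1
  have hWK : ∀ w ∈ coreIn M, w ∈ K := fun w hw =>
    mem_centralizer_singleton_iff.2 (hab w hw a ha)
  have htK : E.t ∈ K := mem_centralizer_singleton_iff.2 (h.core_le a ha).symm
  have hbK : b₁ ∈ K := mem_centralizer_singleton_iff.2 (h.b₁_commute ha).symm
  have hKne := Two.centralizer_ne_top h.toTwo ha1
  have hb1M := h.refl_mem h.refl₁
  -- the odd core
  have hOodd : Odd (Nat.card (coreIn K)) := odd_card_coreIn K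
  have hfix : ∀ v, orderOf v = 2 → v ∈ M → bar M v ∈ L → ∀ x : G, x * v = v * x → x ∈ M :=
    fun v hv hvM hvL x hx =>
      h.toTwo.inner_centralizer_le hv hvM hvL (mem_centralizer_singleton_iff.2 hx)
  have hOM : coreIn K ≤ M := h.refl₁.le_of_fixed hOodd
    (fun w hw => conj_mem_of_inv E.t_sq htK hw) (fun w hw => conj_mem_of_inv h.refl₁.sq hbK hw)
    (fun w _ hw => h.le (E.mem_H.2 hw))
    (fun w _ hw => hfix _ h.refl₁.orderOf_eq hb1M h.inner w hw)
    (fun w _ hw => hfix _ h.refl₁.mul_t.orderOf_eq (h.refl_mem h.refl₁.mul_t) h.b₁_mul_t_inner w hw)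
  have key : ∀ v x : Perm (Fin 4), v * v = 1 → Perm.sign v = 1 → Perm.sign x = 1 →
      (v * x * v * x⁻¹) ^ 2 = 1 := by decide +kernel
  have hOW : ∀ x ∈ coreIn K, x ∈ coreIn M := by
    intro x hx
    have hxM := hOM hx
    have hxo := odd_orderOf_of_mem hOodd hx
    have hd : E.t * x * E.t * x⁻¹ ∈ coreIn K := mul_mem (conj_mem_of_inv E.t_sq htK hx) (inv_mem hx)
    have hdM : E.t * x * E.t * x⁻¹ ∈ M := hOM hd
    have h1 : bar M (E.t * x * E.t * x⁻¹) ^ 2 = 1 := by
      refine h.e.injective ?_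
      rw [map_pow, map_one, bar_mul (mul_mem (mul_mem h.t_mem hxM) h.t_mem) (inv_mem hxM),
        bar_mul (mul_mem h.t_mem hxM) h.t_mem, bar_mul h.t_mem hxM, bar_inv hxM, map_mul, map_mul,
        map_mul, map_inv]
      exact key _ _ (h.e_bar_involution h.t_mem E.orderOf_t).1 h.sign_t (h.sign_of_odd hxM hxo)
    have h2 : bar M (E.t * x * E.t * x⁻¹) = 1 := by
      refine orderOf_eq_one_iff.1 (Nat.eq_one_of_dvd_coprimes
        (Nat.coprime_two_left.2 (odd_orderOf_of_mem hOodd hd)) (orderOf_dvd_of_pow_eq_one h1)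
        (orderOf_dvd_of_pow_eq_one ?_))
      rw [← bar_pow hdM, pow_orderOf_eq_one, bar_one]
    have hc : bar M x * bar M E.t = bar M E.t * bar M x := by
      rw [bar_mul (mul_mem (mul_mem h.t_mem hxM) h.t_mem) (inv_mem hxM),
        bar_mul (mul_mem h.t_mem hxM) h.t_mem, bar_mul h.t_mem hxM, bar_inv hxM, mul_inv_eq_one] at h2
      conv_lhs => rw [← h2]
      rw [mul_assoc, h.toOver.sq_bar E.t_sq h.t_mem, mul_one]
    refine (bar_eq_one_iff hxM).1 (h.e.injective ?_)
    rw [map_one]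
    obtain ⟨t1, t2⟩ := h.e_bar_involution h.t_mem E.orderOf_t
    refine orderOf_eq_one_iff.1 (Nat.eq_one_of_dvd_coprimes (show Nat.Coprime (2 ^ 3) _ from
      (Nat.coprime_two_left.2 hxo).pow_left 3) (orderOf_dvd_of_pow_eq_one
        (SymFour.pow_eight _ _ ⟨t1, t2, by rw [← map_mul, ← map_mul, hc]⟩))
      (orderOf_dvd_of_pow_eq_one ?_))
    rw [← map_pow, ← bar_pow hxM, pow_orderOf_eq_one, bar_one, map_one]
  -- the image of the odd core of `M` is trivial
  have hTd : ¬ 8 ∣ Nat.card (Tp K) := fun hd => h8 (by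
    rw [card_eq_core_mul (M := K)]; exact Dvd.dvd.mul_left hd _)
  have hsurj : ∀ w ∈ coreIn M, ∀ n : ℕ, bar K w ^ n = 1 → n.Coprime (orderOf w) → bar K w = 1 := by
    intro w hw n hn hc
    refine orderOf_eq_one_iff.1 (Nat.eq_one_of_dvd_coprimes hc (orderOf_dvd_of_pow_eq_one hn)
      (orderOf_dvd_of_pow_eq_one ?_))
    rw [← bar_pow (hWK w hw), pow_orderOf_eq_one, bar_one]
  have hWO : ∀ w ∈ coreIn M, bar K w = 1 := by
    intro w hw
    have hwo := odd_orderOf_of_mem (odd_card_coreIn M) hw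
    have hwt : bar K w * bar K E.t = bar K E.t * bar K w :=
      commute_bar (hWK w hw) htK (h.core_le w hw)
    rcases shape_local (E := E) hKne E.orderOf_t h.refl₁.orderOf_eq h.refl₁.ne_t.symm
      h.refl₁.comm.symm htK hbK with hp | ⟨⟨f⟩⟩ | ⟨⟨f⟩⟩ | ⟨⟨f⟩⟩ | ⟨L', F, i1, i2, hpsl⟩
    · obtain ⟨k, hk⟩ := IsPGroup.iff_orderOf.1 hp (bar K w)
      exact hsurj w hw (2 ^ k) (orderOf_dvd_iff_pow_eq_one.1 (dvd_of_eq hk))
        ((Nat.coprime_two_left.2 hwo).pow_left k)
    · have ht2 := bar_involution htK E.orderOf_t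
      obtain ⟨t1, t2⟩ := CfsgLib.Involutions.orderOf_eq_two_iff_mul.1 ht2
      let f' : Tp K →* Perm (Fin 4) := (alternatingGroup (Fin 4)).subtype.comp f.toMonoidHom
      have hf' : Function.Injective f' := (alternatingGroup (Fin 4)).subtype_injective.comp f.injective
      refine hsurj w hw (2 ^ 3) (hf' ?_) ((Nat.coprime_two_left.2 hwo).pow_left 3)
      rw [map_pow, map_one]
      exact SymFour.pow_eight (f' (bar K E.t)) _ ⟨by rw [← map_mul, t2, map_one],
        fun e => t1 (hf' (e.trans (map_one f').symm)), by rw [← map_mul, ← map_mul, hwt]⟩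
    · refine absurd ?_ hTd
      rw [Nat.card_congr f.toEquiv, Nat.card_perm, Nat.card_fin]
      decide
    · refine absurd ?_ hTd
      rw [Nat.card_congr f.toEquiv, show Nat.card Seven.A7 = 2520 from CfsgLib.DimThreeMax.card_alt_seven]
      norm_num
    · haveI := hpsl.normal
      have hDC : Main.DC (Tp K) := Main.dc_quotient ((dc_ambient (E := E)).subgroup K)
      have hsmall : ∀ T : Sylow 2 (Tp K), Nat.card (T : Subgroup (Tp K)) ≤ 4 := by
        intro T
        obtain ⟨n, hn⟩ := IsPGroup.iff_card.1 T.2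
        rw [hn]
        by_contra hlt
        refine hTd (dvd_trans ?_ (card_subgroup_dvd_card (T : Subgroup (Tp K))))
        rw [hn]
        rcases Nat.lt_or_ge n 3 with h' | h'
        · exact absurd (Nat.pow_le_pow_right two_pos (show n ≤ 2 by omega)) hlt
        · exact pow_dvd_pow 2 h'
      have hLs : IsPSLOrA7 L' := Or.inl ⟨F, i1, i2, hpsl.odd, hpsl.three, hpsl.equiv⟩
      have ht2 := bar_involution htK E.orderOf_t
      have hb2 := bar_involution hbK h.refl₁.orderOf_eq
      have htL := Max31.mem_socle_of_small hDC hLs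
        (CfsgLib.Involutions.orderOf_eq_two_iff_mul.1 ht2).2 hsmall
      have hbL := Max31.mem_socle_of_small hDC hLs
        (CfsgLib.Involutions.orderOf_eq_two_iff_mul.1 hb2).2 hsmall
      have htb : bar K E.t * bar K b₁ = bar K b₁ * bar K E.t :=
        commute_bar htK hbK h.refl₁.comm.symm
      have hne : bar K E.t ≠ bar K b₁ := fun e => h.refl₁.ne_t.symm
        (eq_of_bar_eq E.t_sq h.refl₁.sq htK hbK (fun x hx => (h.core_le x (hOW x hx))) e.symm).symm
      have htriv : ∀ τ ∈ Field.torus L' (bar K E.t), τ = 1 := by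
        intro τ hτ
        obtain ⟨-, hτc, hτo⟩ := (hpsl.mem_torus ht2).1 hτ
        obtain ⟨x, hx, hxK, rfl⟩ := mem_img.1 (mem_img_of_commute E htK hτc hτo)
        have e := hpsl.inverts_torus ht2 hb2 htb.symm hne.symm hτ
        rw [← commute_bar hxK hbK (h.b₁_commute (h.core_eq_U ▸ hx.1)), mul_inv_cancel_right] at e
        exact orderOf_eq_one_iff.1 (Nat.eq_one_of_dvd_coprimes (Nat.coprime_two_left.2 hτo)
          (orderOf_dvd_of_pow_eq_one (by rw [pow_two]; exact mul_eq_one_iff_eq_inv.2 e)) dvd_rfl)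
      exact htriv _ (hpsl.mem_torus_of_centralizes ht2 hb2 hne htb htL hbL hwt
        (hwo.of_dvd_nat (orderOf_dvd_of_pow_eq_one
          (by rw [← bar_pow (hWK w hw), pow_orderOf_eq_one, bar_one])))
        fun τ hτ => by rw [htriv τ hτ, mul_one, one_mul])
  have hWO' : coreIn M = coreIn K :=
    le_antisymm (fun w hw => (bar_eq_one_iff (hWK w hw)).1 (hWO w hw)) hOW
  have hne : coreIn M ≠ ⊥ := fun e => ha1 (mem_bot.1 (e ▸ ha))
  intro x hx
  refine h.toTwo.normalizer_le hne (coreIn_le M) (fun m hm y hy => conj_mem_coreIn hm hy)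
    (mem_normalizer_of_conj fun y hy => ?_)
  rw [hWO'] at hy ⊢
  exact conj_mem_coreIn hx hy

/-- The odd core is a trivial intersection set. -/
theorem mem_of_conj_mem {g a : G} (ha : a ∈ coreIn M) (ha1 : a ≠ 1) (hga : g * a * g⁻¹ ∈ coreIn M) :
    g ∈ M := by
  have hne : g * a * g⁻¹ ≠ 1 := fun e => ha1 (conj_eq_one_iff.1 e)
  set v := g * E.t * g⁻¹ with hv
  have hvo : orderOf v = 2 := by rw [hv, CfsgLib.Involutions.orderOf_conj_eq, E.orderOf_t]
  have hva : v * (g * a * g⁻¹) = g * a * g⁻¹ * v := Setup.commute_conj (h.core_le a ha).symm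
  have hvM : v ∈ M := h.centralizer_le hab hinv hga hne (mem_centralizer_singleton_iff.2 hva)
  obtain ⟨m, hm, em⟩ := (h.toTwo.mem_inner_iff hvo hvM).1
    ((h.inner_iff hvM hvo).2 (h.even_of_commute hab hinv hga hne hvM hva))
  have h1 : m⁻¹ * g ∈ E.H := E.mem_H.2 (by
    calc m⁻¹ * g * E.t = m⁻¹ * (g * E.t * g⁻¹) * g := by group
      _ = m⁻¹ * (m * E.t * m⁻¹) * g := by rw [em, hv]
      _ = E.t * (m⁻¹ * g) := by group)
  have h2 := mul_mem hm (h.le h1)
  rwa [mul_inv_cancel_left] at h2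

variable (h5 : 5 ≤ Nat.card (coreIn M))
include h5

/-- A conjugate of the odd core inside `M` comes from `M`. -/
theorem mem_of_conj_le {g : G} (hle : ∀ a ∈ coreIn M, g * a * g⁻¹ ∈ M) : g ∈ M := by
  set A := (coreIn M).map (MulAut.conj g).toMonoidHom
  have hAM : A ≤ M := by rintro _ ⟨a, ha, rfl⟩; exact hle a ha
  have hA : Nat.card A = Nat.card (coreIn M) := card_map_of_injective (MulAut.conj g).injective
  have h3 : Nat.card (img M A) ≤ 3 := by
    have hd := card_subgroup_dvd_card (img M A)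
    rw [Nat.card_congr h.e.toEquiv, Nat.card_perm, Nat.card_fin] at hd
    have ho := odd_card_img (M := M) (A := A) (hA.symm ▸ odd_card_coreIn M)
    exact Nat.le_of_dvd (by norm_num)
      (((Nat.coprime_two_left.2 ho).pow_left 3).symm.dvd_of_dvd_mul_left (show _ ∣ 2 ^ 3 * 3 from hd))
  have h1 := card_eq_mul_img (M := M) hAM
  have hne : (A ⊓ coreIn M : Subgroup G) ≠ ⊥ := fun e => by
    rw [e, Subgroup.card_bot, one_mul, hA] at h1
    omega
  obtain ⟨x, ⟨⟨a, ha, rfl⟩, hxW⟩, hx1⟩ : ∃ x ∈ (A ⊓ coreIn M : Subgroup G), x ≠ 1 := by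
    by_contra hno
    push Not at hno
    exact hne (eq_bot_iff.2 fun x hx => mem_bot.2 (hno x hx))
  exact h.mem_of_conj_mem hab hinv ha (fun e => hx1 (by rw [e, map_one])) hxW

/-- No element of odd order of a meet of two conjugates of `M` is inverted by an outer involution. -/
theorem eq_one_of_inverted {g v x : G} (hg : g ∉ M) (hvM : v ∈ M) (hvo : orderOf v = 2)
    (hvL : bar M v ∉ L) (hx : x ∈ M) (hxg : g⁻¹ * x * g ∈ M) (hxo : Odd (orderOf x))
    (hxi : v * x * v = x⁻¹) : x = 1 := by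
  classical
  by_contra hx1
  have hcW : ∀ w ∈ coreIn M, x * w = w * x := fun w hw => h.commute_of_odd hab hinv hx hxo hw
  have hcg : ∀ w ∈ coreIn M, x * (g * w * g⁻¹) = g * w * g⁻¹ * x := fun w hw => by
    have ho : Odd (orderOf (g⁻¹ * x * g)) := by
      have := odd_orderOf_conj hxo g⁻¹
      rwa [inv_inv] at this
    have h1 := Setup.commute_conj (g := g) (h.commute_of_odd hab hinv hxg ho hw)
    rwa [show g * (g⁻¹ * x * g) * g⁻¹ = x by group] at h1
  have hv2 := (CfsgLib.Involutions.orderOf_eq_two_iff_mul.1 hvo).2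
  have hback : ∀ {k y z : G}, y * z = z * y → (k⁻¹ * y * k) * (k⁻¹ * z * k) = (k⁻¹ * z * k) * (k⁻¹ * y * k) :=
    fun {k y z} e => by
      have := Setup.commute_conj (g := k⁻¹) e
      rwa [inv_inv] at this
  by_cases hcase : ∃ k, k⁻¹ * x * k ∈ coreIn M
  · obtain ⟨k, hk⟩ := hcase
    have hk1 : k⁻¹ * x * k ≠ 1 := fun e => hx1 (by
      calc x = k * (k⁻¹ * x * k) * k⁻¹ := by group
        _ = 1 := by rw [e, mul_one, mul_inv_cancel])
    have hCk : ∀ y, y * x = x * y → k⁻¹ * y * k ∈ M := fun y hy =>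
      h.centralizer_le hab hinv hk hk1 (mem_centralizer_singleton_iff.2 (hback hy))
    have h1 : k⁻¹ ∈ M := h.mem_of_conj_le hab hinv h5 fun a ha => by
      rw [inv_inv]; exact hCk a (hcW a ha).symm
    have h2 : k⁻¹ * g ∈ M := h.mem_of_conj_le hab hinv h5 fun a ha => by
      have := hCk _ (hcg a ha).symm
      rwa [show k⁻¹ * g * a * (k⁻¹ * g)⁻¹ = k⁻¹ * (g * a * g⁻¹) * k by group]
    exact hg (by simpa using mul_mem (inv_mem h1) h2)
  push Not at hcase
  set K := centralizer ({x} : Set G)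
  have hKodd : Odd (Nat.card K) := by
    rw [← Nat.not_even_iff_odd, even_iff_two_dvd]
    intro hd
    haveI : Fact (Nat.Prime 2) := ⟨Nat.prime_two⟩
    obtain ⟨i, hi⟩ := exists_prime_orderOf_dvd_card' 2 hd
    rw [← Subgroup.orderOf_coe] at hi
    obtain ⟨k, hk⟩ := E.exists_conj hi
    refine hcase k (h.mem_core_of_commute ?_ ?_)
    · have h1 := hback (k := k) (mem_centralizer_singleton_iff.1 i.2).symm
      rwa [← hk, show k⁻¹ * (k * E.t * k⁻¹) * k = E.t by group] at h1
    · have := odd_orderOf_conj hxo k⁻¹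
      rwa [inv_inv] at this
  obtain ⟨k, hk⟩ := E.exists_conj hvo
  have hfix : ∀ y ∈ K, v * y * v = y → y = 1 := by
    intro y hy hyv
    by_contra hy1
    set y' := k⁻¹ * y * k with hy'
    set x' := k⁻¹ * x * k with hx'
    have hyt : y' * E.t = E.t * y' := by
      have h1 := hback (k := k) ((conj_eq_iff_commute hv2).1 hyv)
      rwa [← hk, show k⁻¹ * (k * E.t * k⁻¹) * k = E.t by group] at h1
    have hy'W : y' ∈ coreIn M := h.mem_core_of_commute hyt (by
      have := odd_orderOf_conj (odd_orderOf_of_mem hKodd hy) k⁻¹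
      rwa [inv_inv] at this)
    have hy'1 : y' ≠ 1 := fun e => hy1 (by
      calc y = k * y' * k⁻¹ := by rw [hy']; group
        _ = 1 := by rw [e, mul_one, mul_inv_cancel])
    have hx'M : x' ∈ M := h.centralizer_le hab hinv hy'W hy'1
      (mem_centralizer_singleton_iff.2 (hback (mem_centralizer_singleton_iff.1 hy).symm))
    have hx'o : Odd (orderOf x') := by
      have := odd_orderOf_conj hxo k⁻¹
      rwa [inv_inv] at this
    have hx't : E.t * x' * E.t = x'⁻¹ := by
      calc E.t * x' * E.t = k⁻¹ * (k * E.t * k⁻¹ * x * (k * E.t * k⁻¹)) * k := by rw [hx']; group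
        _ = x'⁻¹ := by rw [hk, hxi, hx']; group
    have h3 : h.e (bar M x') ^ 3 = 1 := by
      refine orderOf_dvd_iff_pow_eq_one.1 ?_
      have h1 : orderOf (h.e (bar M x')) ∣ 2 ^ 3 * 3 := by
        have := orderOf_dvd_natCard (h.e (bar M x'))
        rwa [Nat.card_perm, Nat.card_fin] at this
      refine Nat.Coprime.dvd_of_dvd_mul_left ?_ h1
      refine (Nat.coprime_two_right.2 (hx'o.of_dvd_nat (orderOf_dvd_of_pow_eq_one ?_))).pow_right 3
      rw [← map_pow, ← bar_pow hx'M, pow_orderOf_eq_one, bar_one, map_one]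
    have h4 := SymFour.eq_one_of_inverted (h.e (bar M E.t)) _
      ⟨(h.e_bar_involution h.t_mem E.orderOf_t).1, h.sign_t⟩ h3 (by
        rw [← map_mul, ← map_mul, ← map_inv, ← bar_mul h.t_mem hx'M,
          ← bar_mul (mul_mem h.t_mem hx'M) h.t_mem, hx't, bar_inv hx'M])
    have h5' : x' ∈ coreIn M := (bar_eq_one_iff hx'M).1 (h.e.injective (h4.trans (map_one _).symm))
    exact hcase k h5'
  have hnK : ∀ y ∈ K, v * y * v ∈ K := fun y hy => by
    have h1 := mem_centralizer_singleton_iff.1 hy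
    have h2 := Setup.commute_conj (g := v) ((show Commute y x from h1).inv_right.eq)
    rw [inv_eq_of_mul_eq_one_right hv2] at h2
    rw [show v * x⁻¹ * v = x by rw [conj_involution_inv hv2, hxi, inv_inv]] at h2
    exact mem_centralizer_singleton_iff.2 h2
  have hKinv : ∀ y ∈ K, v * y * v = y⁻¹ := fun y hy => by
    obtain ⟨c, z, hc, hcv, -, hzv, rfl⟩ := exists_fixed_mul_inverted hKodd hv2 hnK hy
    rw [hfix c hc hcv, one_mul]
    exact hzv
  have hKcomm : ∀ y ∈ K, ∀ z ∈ K, y * z = z * y := fun y hy z hz => by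
    have h1 := hKinv _ (mul_mem hy hz)
    rw [conj_involution_mul hv2, hKinv y hy, hKinv z hz] at h1
    have h2 := congrArg (·⁻¹) h1
    simpa using h2.symm
  obtain ⟨a, ha, ha1⟩ : ∃ a ∈ coreIn M, a ≠ 1 := by
    by_contra hno
    push Not at hno
    have := h5
    rw [show coreIn M = ⊥ from eq_bot_iff.2 fun z hz => mem_bot.2 (hno z hz), Subgroup.card_bot] at this
    omega
  refine hg (h.mem_of_conj_le hab hinv h5 fun c hc => h.centralizer_le hab hinv ha ha1
    (mem_centralizer_singleton_iff.2 ?_))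
  exact hKcomm _ (mem_centralizer_singleton_iff.2 (hcg c hc).symm) _
    (mem_centralizer_singleton_iff.2 (hcW a ha).symm)

end Four

end CfsgLib.GW.CaseOne
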