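import Cfsg.Agent.Lib.GW.CaseOneFourPrime

/-!
Gorenstein–Walter, quotient symmetric of degree four: a 3-core with elements fixed by the outer
reflection is not larger than its fixed points times a group of order three.
-/

set_option autoImplicit false
set_option linter.unusedSectionVars false
set_option linter.unusedVariables false
set_option linter.style.haveILetI false

namespace CfsgLib.GW.CaseOne

open Subgroup CfsgLib.RankOneInvol

universe u

variable {G : Type u} [Group G] [Finite G]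

variable {E : Setup G} {M : Subgroup G} {L : Subgroup (Tp M)} {b b₁ : G}

namespace Four

variable (h : Four E M L b b₁)
include h

theorem sum_one_div_X : 1 / (Nat.card (E.X E.d.a) : ℚ) + 1 / (Nat.card (E.X (E.d.r * E.d.a)) : ℚ) =
    1 / (Nat.card (E.X b) : ℚ) + 1 / (Nat.card (E.X b₁) : ℚ) := by
  have hX : ∀ {s c d : G}, s ∈ (E.S : Subgroup G) → s * c * s⁻¹ = d →
      Nat.card (E.X c) = Nat.card (E.X d) := by
    intro s c d hs hcd
    subst hcd
    refine Nat.card_congr ((MulAut.conj s).toEquiv.subtypeEquiv fun x => ?_)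
    show x ∈ E.U ∧ x ∈ centralizer ({c} : Set G) ↔
      s * x * s⁻¹ ∈ E.U ∧ s * x * s⁻¹ ∈ centralizer ({s * c * s⁻¹} : Set G)
    rw [mem_centralizer_singleton_iff, mem_centralizer_singleton_iff]
    constructor
    · exact fun ⟨h1, h2⟩ => ⟨E.conj_mem_U (E.S_le_H hs) h1, Setup.commute_conj h2⟩
    · rintro ⟨h1, h2⟩
      refine ⟨?_, ?_⟩
      · have := E.conj_mem_U (E.S_le_H (inv_mem hs)) h1
        simpa [mul_assoc] using this
      · have := Setup.commute_conj (g := s⁻¹) h2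
        simpa [mul_assoc] using this
  obtain ⟨s₀, hs₀, e₀⟩ := refl_cases h.refl
  obtain ⟨s₁, hs₁, e₁⟩ := refl_cases h.refl₁
  have hd : ∀ x, s₀ * b * s₀⁻¹ = x → s₁ * b₁ * s₁⁻¹ = x → False := fun x h1 h2 => by
    refine h.outer ((h.conj_S_mem_iff hs₀ (h.refl_mem h.refl)).1 ?_)
    rw [h1, ← h2]
    exact (h.conj_S_mem_iff hs₁ (h.refl_mem h.refl₁)).2 h.inner
  rcases e₀ with e₀ | e₀ <;> rcases e₁ with e₁ | e₁
  · exact (hd _ e₀ e₁).elim
  · rw [← hX hs₀ e₀, ← hX hs₁ e₁]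
  · rw [← hX hs₀ e₀, ← hX hs₁ e₁]; ring
  · exact (hd _ e₀ e₁).elim

theorem X_b₁ : E.X b₁ = coreIn M := by
  rw [h.core_eq_U]
  exact inf_eq_left.2 fun w hw =>
    mem_centralizer_right.2 (h.b₁_commute (h.core_eq_U ▸ hw))

/-- The order of `G`. -/
theorem card_G : ∃ F : ℚ, 13 / 20 ≤ F ∧ F ≤ 15 / 8 ∧ (Nat.card G : ℚ) =
    F * 64 * (Nat.card (coreIn M) : ℚ) ^ 3 *
      (1 / (Nat.card (E.X b) : ℚ) + 1 / (Nat.card (coreIn M) : ℚ)) ^ 2 := by
  obtain ⟨F, h1, h2, h3⟩ := exists_order E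
  refine ⟨F, h1, h2, ?_⟩
  rw [h3, h.sum_one_div_X, h.X_b₁, ← h.core_eq_U, h.k_eq]
  norm_num

/-- Three inverted elements are too few. -/
theorem false_of_inverted_three (hne : Or M 3 ⊓ centralizer ({b} : Set G) ≠ ⊥) {n : G}
    (hn : n ∈ Or M 3) (hni : b * n * b = n⁻¹) (hn1 : n ≠ 1)
    (hnc : ∀ z ∈ Or M 3 ⊓ centralizer ({b} : Set G), n * z = z * n)
    (hall : ∀ w ∈ coreIn M, b * w * b = w⁻¹ → w = 1 ∨ w = n ∨ w = n⁻¹) : False := by
  classical
  set Z := Or M 3 ⊓ centralizer ({b} : Set G) with hZdef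
  obtain ⟨g, hgt, -, hgY⟩ := h.exists_rot_Y
  obtain ⟨hS, hgC⟩ := h.local_data (h.Z_le_Y 3)
  set J := normalizer (Z : Set G)
  have hCJ : centralizer (Z : Set G) ≤ J := fun x hx => mem_normalizer_of_conj fun y hy => by
    rw [← mem_centralizer_iff.1 hx y hy, mul_inv_cancel_right]; exact hy
  have hJtop : J ≠ ⊤ := fun e => by
    rcases E.eq_bot_or_top (normalizer_eq_top_iff.1 e) with e1 | e1
    · exact hne e1
    · exact h.ne_top (top_le_iff.1
        (e1 ▸ (inf_le_left.trans ((Or_le M 3).trans (coreIn_le M)))))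
  have hSJ : (E.S : Subgroup G) ≤ J := hS.trans hCJ
  have hgJ : g ∈ J := hCJ (hgC g hgY)
  have hnJ : n ∈ J := hCJ (mem_centralizer_iff.2 fun z hz => (hnc z hz).symm)
  have hnI : n ∈ inverted (coreIn M ⊓ J) b := ⟨⟨Or_le M 3 hn, hnJ⟩, hni⟩
  obtain ⟨e⟩ := (h.inverted_facts hgt hgY hJtop hSJ hgJ hnI).2 hn1
  have hOY := h.core_le_Y hgt hgY hSJ hgJ
  -- the fixed part of the odd core is the odd core of `J`
  have hYJ : E.X b ≤ J := fun y hy => by
    obtain ⟨hyW, hyb⟩ := h.mem_Y.1 hy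
    refine mem_normalizer_of_conj fun z hz => ⟨Or_conj (coreIn_le M hyW) hz.1, ?_⟩
    exact mem_centralizer_right.2 (((show Commute y b from hyb).mul_left
      (mem_centralizer_right.1 hz.2)).mul_left (show Commute y b from hyb).inv_left).eq
  have htJ := hSJ E.t_mem_S
  have hbJ := hSJ h.refl.1
  have hYO : E.X b ≤ coreIn J := by
    intro y hy
    set A := img J (coreIn M ⊓ J)
    have hAo : Odd (Nat.card A) :=
      odd_card_img ((odd_card_coreIn M).of_dvd_nat (card_dvd_of_le inf_le_left))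
    have h3 := dvd_three_of_alt_seven e htJ E.orderOf_t hAo fun a ha => by
      obtain ⟨x, hx, hxK, rfl⟩ := mem_img.1 ha
      exact commute_bar hxK htJ (h.core_le x hx.1)
    have hbn1 : bar J n ≠ 1 := fun e1 => hn1 (eq_one_of_fixed_inverted (odd_card_coreIn M)
      (Or_le M 3 hn) (h.fixed_of_mem_Y (hOY ((bar_eq_one_iff hnJ).1 e1))) hni)
    have hnA : bar J n ∈ A := mem_img.2 ⟨n, ⟨Or_le M 3 hn, hnJ⟩, hnJ, rfl⟩
    have hyA : bar J y ∈ A := mem_img.2 ⟨y, ⟨(h.mem_Y.1 hy).1, hYJ hy⟩, hYJ hy, rfl⟩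
    have hzA : zpowers (⟨bar J n, hnA⟩ : A) = ⊤ := by
      haveI : Fact (Nat.Prime 3) := ⟨Nat.prime_three⟩
      refine zpowers_eq_top_of_prime_card (p := 3) ?_ fun e1 => hbn1 (congrArg Subtype.val e1)
      rcases (Nat.dvd_prime Nat.prime_three).1 h3 with e1 | e1
      · exact absurd (mem_bot.1 (card_eq_one.1 e1 ▸ hnA)) hbn1
      · exact e1
    obtain ⟨i, hi⟩ := mem_zpowers_iff.1 (hzA ▸ mem_top (⟨bar J y, hyA⟩ : A))
    have hi' : bar J n ^ i = bar J y := congrArg Subtype.val hi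
    have hbb : bar J b * bar J b = 1 := by rw [← bar_mul hbJ hbJ, h.refl.sq, bar_one]
    have hf : bar J b * bar J y * bar J b = bar J y := by
      rw [← bar_mul hbJ (hYJ hy), ← bar_mul (mul_mem hbJ (hYJ hy)) hbJ, h.fixed_of_mem_Y hy]
    have hbi : bar J b * bar J y * bar J b = (bar J y)⁻¹ := by
      rw [← hi']
      conv_lhs => arg 2; rw [← inv_eq_of_mul_eq_one_right hbb]
      rw [← conj_zpow, inv_eq_of_mul_eq_one_right hbb, ← inv_zpow]
      congr 1
      rw [← bar_mul hbJ hnJ, ← bar_mul (mul_mem hbJ hnJ) hbJ, hni, bar_inv hnJ]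
    exact (bar_eq_one_iff (hYJ hy)).1 (eq_one_of_fixed_inverted hAo hyA hf hbi)
  have hOeq : coreIn J = E.X b := le_antisymm hOY hYO
  -- counting
  have hw : Nat.card (coreIn M) = 3 * Nat.card (E.X b) := by
    rw [card_fixed_mul_inverted (odd_card_coreIn M) h.refl.sq fun x hx =>
      conj_mem_of_inv h.refl.sq (h.refl_mem h.refl) hx, ← h.X_b, mul_comm]
    congr 1
    have hninv : n⁻¹ ≠ n := fun e1 => hn1 (eq_one_of_mem_of_sq (odd_card_coreIn M) (Or_le M 3 hn)
      (mul_eq_one_iff_eq_inv.2 e1.symm))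
    have e3 : inverted (coreIn M) b = ↑({1, n, n⁻¹} : Finset G) := by
      ext w
      simp only [Finset.coe_insert, Finset.coe_singleton, Set.mem_insert_iff, Set.mem_singleton_iff]
      refine ⟨fun hw => hall w hw.1 hw.2, ?_⟩
      rintro (rfl | rfl | rfl)
      · exact ⟨one_mem _, by rw [mul_one, h.refl.sq, inv_one]⟩
      · exact ⟨Or_le M 3 hn, hni⟩
      · exact ⟨inv_mem (Or_le M 3 hn), by rw [conj_involution_inv h.refl.sq, hni]⟩
    rw [e3, Nat.card_coe_set_eq, Set.ncard_coe_finset, Finset.card_insert_of_notMem,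
      Finset.card_pair hninv.symm]
    simp only [Finset.mem_insert, Finset.mem_singleton, not_or]
    exact ⟨hn1.symm, (inv_ne_one.2 hn1).symm⟩
  have hJc : Nat.card J = Nat.card (E.X b) * 2520 := by
    rw [card_eq_core_mul, hOeq, Nat.card_congr e.toEquiv, CfsgLib.DimThreeMax.card_alt_seven]
  obtain ⟨F, -, hF, hG⟩ := h.card_G
  have hi := congrArg (Nat.cast : ℕ → ℚ) J.card_mul_index
  push_cast [hJc] at hi
  rw [hG, hw] at hi
  push_cast at hi
  set y : ℚ := (Nat.card (E.X b) : ℚ)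
  have hy : 0 < y := Nat.cast_pos.2 Nat.card_pos
  have e1 : F * 64 * (3 * y) ^ 3 * (1 / y + 1 / (3 * y)) ^ 2 = F * 3072 * y := by
    field_simp
    ring
  rw [e1] at hi
  have hi2 : J.index ≤ 2 := by
    by_contra hc
    have h3 : (3 : ℚ) ≤ J.index := by exact_mod_cast (show 3 ≤ J.index by omega)
    nlinarith
  have h2 := Nat.le_of_dvd (Nat.factorial_pos _)
    ((E.four_dvd_card).trans (card_dvd_factorial (E := E) hJtop))
  have := Nat.factorial_le hi2
  norm_num at this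
  omega

/-- An inverted element normalising `⟨z, n⟩`, for `z` of order three. -/
theorem small_action {z n w : G} (hz : z ∈ E.X b) (hz3 : z ^ 3 = 1) (hz1 : z ≠ 1)
    (hn : n ∈ coreIn M) (hni : b * n * b = n⁻¹) (hn1 : n ≠ 1) (hnz : n * z = z * n)
    (hw : w ∈ coreIn M) (hwi : b * w * b = w⁻¹)
    (hA : ∃ i j : ℕ, w * z * w⁻¹ = z ^ i * n ^ j) :
    w * n = n * w ∧ ∃ j : ℕ, w * z * w⁻¹ = z * n ^ j := by
  have hzW := (h.mem_Y.1 hz).1
  have hbz := h.fixed_of_mem_Y hz
  have hn3 : n ^ 3 = 1 := h.inverted_pow_three (Z := zpowers z) (zpowers_le.2 hz)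
    (fun e => hz1 (zpowers_eq_bot.1 e)) hn hni fun x hx => by
      obtain ⟨i, rfl⟩ := mem_zpowers_iff.1 hx
      exact ((show Commute n z from hnz).zpow_right i).eq
  have hbn : ∀ j : ℕ, b * n ^ j * b = (n ^ j)⁻¹ := fun j => by
    conv_lhs => arg 2; rw [← h.refl.inv]
    rw [← conj_pow, h.refl.inv, hni, inv_pow]
  have hbzp : ∀ i : ℕ, b * z ^ i * b = z ^ i := fun i => by
    conv_lhs => arg 2; rw [← h.refl.inv]
    rw [← conj_pow, h.refl.inv, hbz]
  obtain ⟨i, j, hij⟩ := hA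
  have hinv : w⁻¹ * z * w = z ^ i * (n ^ j)⁻¹ := by
    have e := congrArg (fun x => b * x * b) hij
    simp only [conj_involution_mul h.refl.sq, conj_involution_inv h.refl.sq, hwi, hbz, hbn, hbzp,
      inv_inv] at e
    exact e
  obtain ⟨i', hi', hi3⟩ : ∃ i', i % 3 = i' ∧ z ^ i = z ^ i' :=
    ⟨i % 3, rfl, by conv_lhs => rw [← Nat.mod_add_div i 3, pow_add, pow_mul, hz3, one_pow, mul_one]⟩
  obtain ⟨j', hj', hj3⟩ : ∃ j', j % 3 = j' ∧ n ^ j = n ^ j' :=
    ⟨j % 3, rfl, by conv_lhs => rw [← Nat.mod_add_div j 3, pow_add, pow_mul, hn3, one_pow, mul_one]⟩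
  rw [hi3, hj3] at hij hinv
  have hi'3 : i' < 3 := by omega
  have hj'3 : j' < 3 := by omega
  have hwW := odd_card_coreIn M
  have hz2 : z ^ 2 = z⁻¹ := eq_inv_of_mul_eq_one_left (by rw [← pow_succ, hz3])
  by_cases hj0 : j' = 0
  · -- the line of `z` is kept
    subst hj0
    rw [pow_zero, mul_one] at hij
    have hc : w * z * w⁻¹ = z := by
      interval_cases i'
      · rw [pow_zero] at hij; exact absurd (conj_eq_one_iff.1 hij) hz1
      · rwa [pow_one] at hij
      · rw [hz2] at hij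
        exact absurd (eq_one_of_conj_inv hwW hzW hw hij) hz1
    have hwz : w * z = z * w := mul_inv_eq_iff_eq_mul.1 hc
    refine ⟨?_, 0, by rw [pow_zero, mul_one, hc]⟩
    rcases h.inverted_unique (Z := zpowers z) (zpowers_le.2 hz)
      (fun e => hz1 (zpowers_eq_bot.1 e)) hn hni hn1 (fun x hx => by
        obtain ⟨l, rfl⟩ := mem_zpowers_iff.1 hx
        exact ((show Commute n z from hnz).zpow_right l).eq) hw hwi (fun x hx => by
        obtain ⟨l, rfl⟩ := mem_zpowers_iff.1 hx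
        exact ((show Commute w z from hwz).zpow_right l).eq) with e | e | e <;> rw [e] <;> group
  have hjne : n ^ j' ≠ 1 := fun e => by
    interval_cases j'
    · exact hj0 rfl
    · rw [pow_one] at e; exact hn1 e
    · exact hn1 (eq_one_of_mem_of_sq hwW hn (by rw [← pow_two]; exact e))
  -- conjugate the two relations into each other
  interval_cases i'
  · exfalso
    rw [pow_zero, one_mul] at hij hinv
    rw [← hij] at hinv
    refine hz1 (eq_one_of_conj_inv hwW hzW (mul_mem hw hw) ?_)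
    calc w * w * z * (w * w)⁻¹ = w * (w * z * w⁻¹) * w⁻¹ := by group
      _ = w * (w⁻¹ * z * w)⁻¹ * w⁻¹ := by rw [hinv, inv_inv]
      _ = z⁻¹ := by group
  · rw [pow_one] at hij hinv
    have e1 : w⁻¹ * n ^ j' * w = n ^ j' := by
      calc w⁻¹ * n ^ j' * w = (w⁻¹ * z * w)⁻¹ * (w⁻¹ * (z * n ^ j') * w) := by group
        _ = (z * (n ^ j')⁻¹)⁻¹ * (w⁻¹ * (w * z * w⁻¹) * w) := by rw [hinv, hij]
        _ = n ^ j' := by group
    refine ⟨?_, j', by rw [hij]⟩
    have e2 : Commute w (n ^ j') := by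
      show w * n ^ j' = n ^ j' * w
      calc w * n ^ j' = w * (w⁻¹ * n ^ j' * w) := by rw [e1]
        _ = n ^ j' * w := by group
    interval_cases j'
    · exact absurd rfl hj0
    · rw [pow_one] at e2; exact e2.eq
    · have e3 := e2.pow_right 2
      rw [← pow_mul, show 2 * 2 = 3 + 1 by norm_num, pow_add, hn3, one_mul, pow_one] at e3
      exact e3.eq
  · exfalso
    rw [hz2] at hij hinv
    have hc : Commute (z⁻¹) (n ^ j') := ((show Commute n z from hnz).symm.inv_left.pow_right j')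
    have e1 : w⁻¹ * n ^ j' * w = (n ^ j')⁻¹ := by
      calc w⁻¹ * n ^ j' * w = (w⁻¹ * z * w) * (w⁻¹ * (z⁻¹ * n ^ j') * w) := by group
        _ = (z⁻¹ * (n ^ j')⁻¹) * (w⁻¹ * (w * z * w⁻¹) * w) := by rw [hinv, hij]
        _ = z⁻¹ * (n ^ j')⁻¹ * z := by group
        _ = (n ^ j')⁻¹ := by rw [hc.inv_right.eq]; group
    refine hjne (eq_one_of_conj_inv hwW (pow_mem hn j') (inv_mem hw) ?_)
    rw [inv_inv]; exact e1

end Four

end CfsgLib.GW.CaseOne
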