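import Mathlib
import Cfsg.Agent.Lib.RankOneInvol.OddGroup

/-!
Gorenstein–Walter, maximal subgroups over an involution centraliser: subgroups of odd order under
one or two commuting involutions (fixed and inverted elements, the four-group order formula,
conjugacy of congruent involutions).
-/

set_option autoImplicit false
set_option linter.unusedSectionVars false

namespace CfsgLib.GW.CaseOne

open Subgroup CfsgLib.RankOneInvol

universe u

variable {G : Type u} [Group G]

/-- The elements of `A` inverted by `v`. -/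
def inverted (A : Subgroup G) (v : G) : Set G := {z | z ∈ A ∧ v * z * v = z⁻¹}

theorem conj_eq_iff_commute {v x : G} (hv : v * v = 1) : v * x * v = x ↔ x * v = v * x := by
  constructor
  · intro h
    calc x * v = v * x * v * v := by rw [h]
      _ = v * x := by rw [mul_assoc, hv, mul_one]
  · intro h
    rw [mul_assoc, h, ← mul_assoc, hv, one_mul]

theorem conj_involution_mul {v x y : G} (hv : v * v = 1) :
    v * (x * y) * v = v * x * v * (v * y * v) := by
  calc v * (x * y) * v = v * x * (v * v) * y * v := by rw [hv, mul_one]; group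
    _ = _ := by group

theorem conj_involution_inv {v x : G} (hv : v * v = 1) : v * x⁻¹ * v = (v * x * v)⁻¹ := by
  rw [mul_inv_rev, mul_inv_rev, inv_eq_of_mul_eq_one_right hv]
  group

theorem eq_one_of_fixed_inverted {A : Subgroup G} (hA : Odd (Nat.card A)) {v x : G} (hx : x ∈ A)
    (hf : v * x * v = x) (hi : v * x * v = x⁻¹) : x = 1 :=
  eq_one_of_mem_of_sq hA hx (mul_eq_one_iff_eq_inv.2 (hf.symm.trans hi))

/-- Fixed times inverted. -/
theorem card_fixed_mul_inverted [Finite G] {A : Subgroup G} (hA : Odd (Nat.card A)) {v : G}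
    (hv : v * v = 1) (hn : ∀ x ∈ A, v * x * v ∈ A) :
    Nat.card A = Nat.card (A ⊓ centralizer ({v} : Set G) : Subgroup G) * Nat.card (inverted A v) := by
  rw [← Nat.card_prod]
  refine (Nat.card_eq_of_bijective
    (fun p : (A ⊓ centralizer ({v} : Set G) : Subgroup G) × inverted A v =>
      (⟨p.1 * p.2, mul_mem p.1.2.1 p.2.2.1⟩ : A)) ⟨fun p q h => ?_, fun x => ?_⟩).symm
  · obtain ⟨h1, h2⟩ := fixed_mul_inverted_unique hA hv
      ((conj_eq_iff_commute hv).2 (mem_centralizer_singleton_iff.1 p.1.2.2)) p.2.2.1 p.2.2.2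
      ((conj_eq_iff_commute hv).2 (mem_centralizer_singleton_iff.1 q.1.2.2)) q.2.2.1 q.2.2.2
      (congrArg Subtype.val h)
    exact Prod.ext (Subtype.ext h1) (Subtype.ext h2)
  · obtain ⟨y, z, hy, hyv, hz, hzv, e⟩ := exists_fixed_mul_inverted hA hv hn x.2
    exact ⟨⟨⟨y, hy, mem_centralizer_singleton_iff.2 ((conj_eq_iff_commute hv).1 hyv)⟩,
      ⟨z, hz, hzv⟩⟩, Subtype.ext e.symm⟩

/-- The solution of `s y s = x`, `y = x'⁻¹`, is unique in a group of odd order. -/
theorem eq_of_sandwich {A : Subgroup G} (hA : Odd (Nat.card A)) {x y s s' : G} (hy : y ∈ A)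
    (hs : s ∈ A) (hs' : s' ∈ A) (h : s * y * s = x) (h' : s' * y * s' = x) : s = s' := by
  have e : (s * y) * (s * y) = (s' * y) * (s' * y) := by
    calc (s * y) * (s * y) = (s * y * s) * y := by group
      _ = (s' * y * s') * y := by rw [h, h']
      _ = _ := by group
  exact mul_right_cancel (sq_inj_mem hA (mul_mem hs hy) (mul_mem hs' hy) e)

/-- An element inverted by `v` splits into parts fixed and inverted by a second involution. -/
theorem card_inverted_split [Finite G] {A : Subgroup G} (hA : Odd (Nat.card A)) {v w : G}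
    (hv : v * v = 1) (hw : w * w = 1) (hvw : v * w = w * v) (hnv : ∀ x ∈ A, v * x * v ∈ A)
    (hnw : ∀ x ∈ A, w * x * w ∈ A) :
    Nat.card (inverted A v) = Nat.card (inverted (A ⊓ centralizer ({w} : Set G)) v) *
      Nat.card (inverted (A ⊓ centralizer ({v * w} : Set G)) v) := by
  have hvwsq : v * w * (v * w) = 1 := by
    calc v * w * (v * w) = v * (w * v) * w := by group
      _ = v * v * (w * w) := by rw [← hvw]; group
      _ = 1 := by rw [hv, hw, one_mul]
  have hcomm : ∀ z, v * (w * z * w) * v = w * (v * z * v) * w := fun z => by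
    calc v * (w * z * w) * v = (v * w) * z * (w * v) := by group
      _ = (w * v) * z * (v * w) := by rw [hvw]
      _ = _ := by group
  have hcent : ∀ {u z : G}, u * u = 1 → (z ∈ centralizer ({u} : Set G) ↔ u * z * u = z) :=
    fun hu => by rw [mem_centralizer_singleton_iff, conj_eq_iff_commute hu]
  have hI2 : ∀ {z}, z ∈ inverted (A ⊓ centralizer ({v * w} : Set G)) v → w * z * w = z⁻¹ := by
    rintro z ⟨⟨-, h1⟩, h2⟩
    replace h1 := (hcent hvwsq).1 h1
    calc w * z * w = v * (v * w * z * (w * v)) * v := by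
          calc w * z * w = v * v * (w * z * w) * (v * v) := by rw [hv]; group
            _ = _ := by group
      _ = v * z * v := by rw [← hvw, h1]
      _ = z⁻¹ := h2
  rw [← Nat.card_prod]
  refine (Nat.card_eq_of_bijective
    (fun p : inverted (A ⊓ centralizer ({w} : Set G)) v ×
        inverted (A ⊓ centralizer ({v * w} : Set G)) v =>
      (⟨p.1 * p.2 * p.1, mul_mem (mul_mem p.1.2.1.1 p.2.2.1.1) p.1.2.1.1, by
        rw [conj_involution_mul hv, conj_involution_mul hv, p.1.2.2, p.2.2.2]; group⟩ :
        inverted A v)) ⟨?_, ?_⟩).symm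
  · rintro ⟨⟨y, hy⟩, ⟨z, hz⟩⟩ ⟨⟨y', hy'⟩, ⟨z', hz'⟩⟩ h
    have h0 : y * z * y = y' * z' * y' := congrArg Subtype.val h
    have key : ∀ a c, a ∈ inverted (A ⊓ centralizer ({w} : Set G)) v →
        c ∈ inverted (A ⊓ centralizer ({v * w} : Set G)) v →
        (a * a) * (w * (a * c * a) * w)⁻¹ * (a * a) = a * c * a := fun a c ha hc => by
      have ha' : w * a * w = a := (hcent hw).1 ha.1.2
      rw [conj_involution_mul hw, conj_involution_mul hw, ha', hI2 hc]
      group
    have hs : y * y = y' * y' := eq_of_sandwich hA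
      (inv_mem (hnw _ (mul_mem (mul_mem hy.1.1 hz.1.1) hy.1.1))) (mul_mem hy.1.1 hy.1.1)
      (mul_mem hy'.1.1 hy'.1.1) (key y z hy hz) (h0 ▸ key y' z' hy' hz')
    have hyy : y = y' := sq_inj_mem hA hy.1.1 hy'.1.1 hs
    subst hyy
    exact Prod.ext rfl (Subtype.ext (mul_left_cancel (mul_right_cancel h0)))
  · rintro ⟨x, hx, hxv⟩
    obtain ⟨q, hq, hqq⟩ := exists_sqrt_mem hA (mul_mem hx (inv_mem (hnw x hx)))
    obtain ⟨s, hs⟩ : ∃ s, s = q * (w * x * w) := ⟨_, rfl⟩
    have hsA : s ∈ A := hs ▸ mul_mem hq (hnw x hx)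
    have hsol : s * (w * x * w)⁻¹ * s = x := by
      rw [hs]
      calc q * (w * x * w) * (w * x * w)⁻¹ * (q * (w * x * w)) = q * q * (w * x * w) := by group
        _ = x := by rw [hqq]; group
    have hsw : w * s * w = s := by
      refine eq_of_sandwich hA (inv_mem (hnw x hx)) (hnw s hsA) hsA ?_ hsol
      have e2 : w * (w * x * w) * w = x := by
        rw [show w * (w * x * w) * w = (w * w) * x * (w * w) by group, hw, one_mul, mul_one]
      have e : w * s * w * x⁻¹ * (w * s * w) = w * x * w := by
        conv_rhs => rw [← hsol]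
        rw [conj_involution_mul hw, conj_involution_mul hw, conj_involution_inv hw, e2]
      calc w * s * w * (w * x * w)⁻¹ * (w * s * w)
          = w * s * w * (w * s * w * x⁻¹ * (w * s * w))⁻¹ * (w * s * w) := by rw [e]
        _ = x := by group
    have hsv : v * s * v = s⁻¹ := by
      have e : v * s * v * (w * x * w) * (v * s * v) = x⁻¹ := by
        rw [← hxv]
        conv_rhs => rw [← hsol]
        rw [conj_involution_mul hv, conj_involution_mul hv, conj_involution_inv hv, hcomm, hxv,
          conj_involution_inv hw, inv_inv]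
      refine inv_injective (eq_of_sandwich (x := x) hA (inv_mem (hnw x hx)) (inv_mem (hnv s hsA))
        (inv_mem (inv_mem hsA)) ?_ ?_)
      · calc (v * s * v)⁻¹ * (w * x * w)⁻¹ * (v * s * v)⁻¹
            = (v * s * v * (w * x * w) * (v * s * v))⁻¹ := by group
          _ = x := by rw [e, inv_inv]
      · rw [inv_inv]; exact hsol
    obtain ⟨n, hy⟩ := exists_pow_sq_eq (odd_orderOf_of_mem hA hsA)
    set y := s ^ n with hydef
    have hconj : ∀ {u : G}, u * u = 1 → u * y * u = (u * s * u) ^ n := fun {u} hu => by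
      conv_lhs => arg 2; rw [← inv_eq_of_mul_eq_one_right hu]
      conv_rhs => arg 1; arg 2; rw [← inv_eq_of_mul_eq_one_right hu]
      rw [conj_pow]
    have hyw : w * y * w = y := by rw [hconj hw, hsw]
    have hyv : v * y * v = y⁻¹ := by rw [hconj hv, hsv, inv_pow]
    have hyA : y ∈ A := pow_mem hsA n
    set z := y⁻¹ * x * y⁻¹ with hzdef
    have hzA : z ∈ A := mul_mem (mul_mem (inv_mem hyA) hx) (inv_mem hyA)
    have hzv : v * z * v = z⁻¹ := by
      rw [hzdef, conj_involution_mul hv, conj_involution_mul hv, conj_involution_inv hv, hyv, hxv]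
      group
    have hzw : w * z * w = z⁻¹ := by
      rw [hzdef, conj_involution_mul hw, conj_involution_mul hw, conj_involution_inv hw, hyw]
      have e : w * x * w = s * x⁻¹ * s := by
        have h1 := congrArg (fun z => s * z⁻¹ * s) hsol
        rw [← h1]; group
      rw [e, ← hy]; group
    refine ⟨(⟨y, ⟨hyA, (hcent hw).2 hyw⟩, hyv⟩, ⟨z, ⟨hzA, (hcent hvwsq).2 ?_⟩, hzv⟩),
      Subtype.ext ?_⟩
    · rw [show v * w * z * (v * w) = v * (w * z * (v * w)) by group, hvw,
        show w * z * (w * v) = w * z * w * v by group, hzw, ← mul_assoc,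
        conj_involution_inv hv, hzv, inv_inv]
    · show y * (y⁻¹ * x * y⁻¹) * y = x
      group

/-- The order formula of Brauer and Wielandt for a four-group acting on a group of odd order. -/
theorem card_four [Finite G] {A : Subgroup G} (hA : Odd (Nat.card A)) {v w : G}
    (hv : v * v = 1) (hw : w * w = 1) (hvw : v * w = w * v) (hnv : ∀ x ∈ A, v * x * v ∈ A)
    (hnw : ∀ x ∈ A, w * x * w ∈ A) :
    Nat.card A *
        Nat.card (A ⊓ centralizer ({v} : Set G) ⊓ centralizer ({w} : Set G) : Subgroup G) ^ 2 =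
      Nat.card (A ⊓ centralizer ({v} : Set G) : Subgroup G) *
        Nat.card (A ⊓ centralizer ({w} : Set G) : Subgroup G) *
        Nat.card (A ⊓ centralizer ({v * w} : Set G) : Subgroup G) := by
  have hvwsq : v * w * (v * w) = 1 := by
    calc v * w * (v * w) = v * (w * v) * w := by group
      _ = v * v * (w * w) := by rw [← hvw]; group
      _ = 1 := by rw [hv, hw, one_mul]
  have hC : ∀ {u : G}, u * v = v * u → u * u = 1 → ∀ x ∈ A ⊓ centralizer ({u} : Set G),
      v * x * v ∈ A ⊓ centralizer ({u} : Set G) := by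
    intro u huv hu x hx
    refine ⟨hnv x hx.1, mem_centralizer_singleton_iff.2 ?_⟩
    have h1 : Commute x u := mem_centralizer_singleton_iff.1 hx.2
    exact ((((show Commute v u from huv.symm).mul_left h1).mul_left
      (show Commute v u from huv.symm))).eq
  have hodd : ∀ {B : Subgroup G}, B ≤ A → Odd (Nat.card B) := fun h =>
    hA.of_dvd_nat (card_dvd_of_le h)
  have e2 : A ⊓ centralizer ({v * w} : Set G) ⊓ centralizer ({v} : Set G) =
      A ⊓ centralizer ({v} : Set G) ⊓ centralizer ({w} : Set G) := by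
    ext x
    simp only [mem_inf, mem_centralizer_singleton_iff]
    constructor
    · rintro ⟨⟨h1, h2⟩, h3⟩
      refine ⟨⟨h1, h3⟩, ?_⟩
      have := (show Commute x v from h3).mul_right (show Commute x (v * w) from h2)
      rwa [← mul_assoc, hv, one_mul] at this
    · rintro ⟨⟨h1, h3⟩, h2⟩
      exact ⟨⟨h1, ((show Commute x v from h3).mul_right h2).eq⟩, h3⟩
  have h1 := card_fixed_mul_inverted hA hv hnv
  have h2 := card_fixed_mul_inverted (hodd inf_le_left) hv (hC hvw.symm hw)
  have h3 := card_fixed_mul_inverted (hodd inf_le_left) hv (hC (u := v * w)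
    (by rw [mul_assoc v w v, ← hvw]) hvwsq)
  rw [e2] at h3
  rw [inf_right_comm] at h2
  rw [h1, h2, h3, card_inverted_split hA hv hw hvw hnv hnw]
  ring

/-- Involutions congruent modulo a normalised subgroup of odd order are conjugate by it. -/
theorem exists_conj_of_congr {W : Subgroup G} (hW : Odd (Nat.card W)) {v v' : G} (hv : v * v = 1)
    (hv' : v' * v' = 1) (h : v' * v ∈ W) : ∃ c ∈ W, c * v * c⁻¹ = v' := by
  have hvi : v⁻¹ = v := inv_eq_of_mul_eq_one_right hv
  have hv'i : v'⁻¹ = v' := inv_eq_of_mul_eq_one_right hv'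
  set a := v' * v with ha
  have hinv : v * a * v = a⁻¹ := by
    rw [ha, mul_inv_rev, hvi, hv'i]
    calc v * (v' * v) * v = v * v' * (v * v) := by group
      _ = v * v' := by rw [hv, mul_one]
  obtain ⟨n, hn⟩ := exists_pow_sq_eq (odd_orderOf_of_mem hW h)
  refine ⟨a ^ n, pow_mem h n, ?_⟩
  have hc : v * a ^ n * v = (a ^ n)⁻¹ := by
    conv_lhs => arg 2; rw [← hvi]
    rw [← conj_pow, hvi, hinv, inv_pow]
  calc a ^ n * v * (a ^ n)⁻¹ = a ^ n * v * (v * a ^ n * v) := by rw [hc]
    _ = a ^ n * (v * v) * a ^ n * v := by group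
    _ = v' := by rw [hv, mul_one, hn, ha, mul_assoc, hv, mul_one]

end CfsgLib.GW.CaseOne
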