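import Cfsg.Agent.Lib.GW.Field
import Cfsg.Agent.Lib.GW.CaseOneOdd

/-!
Gorenstein–Walter: a group over a normal `PSL₂(q)` with dihedral Sylow 2-subgroups — classes and
centralisers of involutions, the solvable quotient.
-/

set_option autoImplicit false
set_option linter.unusedSectionVars false
set_option linter.style.haveILetI false

open Subgroup
open scoped commutatorElement

namespace CfsgLib.GW.Field

open CfsgLib.PSL2 CfsgLib.AutPSL CfsgLib.GW.TopModel CfsgLib.GW.FieldModel CfsgLib.FieldGalois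

universe u v

variable {Y : Type u} [Group Y] {F : Type*} [Field F] [Fintype F] {L : Subgroup Y}

local notation "PSL" => Matrix.ProjectiveSpecialLinearGroup (Fin 2) F
local notation "PGL" => Matrix.ProjGenLinGroup (Fin 2) F
local notation "toP" => (Matrix.ProjectiveSpecialLinearGroup.toPGL : PSL →* Matrix.ProjGenLinGroup (Fin 2) F)

namespace Psl

variable [Finite Y] (h : Psl L F)
include h

theorem fp_of_two_power {y : Y} {n : ℕ} (hy : y ^ 2 ^ n = 1) : h.fp y = 1 := by
  rw [← orderOf_eq_one_iff]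
  refine Nat.eq_one_of_dvd_coprimes ((Nat.coprime_two_left.2 (h.orderOf_fp y)).pow_left n) ?_ dvd_rfl
  exact orderOf_dvd_of_pow_eq_one (by rw [← map_pow, hy, map_one])

/-- Two elements outside `L` without field part multiply into `L`. -/
theorem mul_mem_of_not_mem {a c : Y} (ha : h.fp a = 1) (hc : h.fp c = 1) (haL : a ∉ L)
    (hcL : c ∉ L) : a * c ∈ L := by
  obtain ⟨g, hg⟩ := h.exists_rep ha
  obtain ⟨g', hg'⟩ := h.exists_rep hc
  refine h.mem_of_rep (g := g * g') (by rw [map_mul, map_mul, hg, hg']) ?_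
  exact mul_mem_pslImage_of_not_mem (fun e => haL (h.mem_of_rep hg e))
    (fun e => hcL (h.mem_of_rep hg' e))

theorem conj_mul_mem {v : Y} (hv : v * v = 1) (y : Y) : y * v * y⁻¹ * v ∈ L := by
  by_cases hvL : v ∈ L
  · exact mul_mem (h.normal.conj_mem v hvL y) hvL
  · refine h.mul_mem_of_not_mem ?_ (h.fp_involution hv) (fun e => hvL ?_) hvL
    · rw [map_mul, map_mul, h.fp_involution hv, mul_one, map_inv, mul_inv_cancel]
    · have := h.normal.conj_mem _ e y⁻¹
      simpa [mul_assoc] using this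

/-- An element inverted by an involution has its square in `L`; of odd order, it lies in `L`. -/
theorem mem_of_inverted {v z : Y} (hv : v * v = 1) (hz : v * z * v = z⁻¹) (ho : Odd (orderOf z)) :
    z ∈ L := by
  have h2 : z * z ∈ L := by
    have e := h.conj_mul_mem hv z
    rwa [show z * v * z⁻¹ * v = z * (v * z⁻¹ * v) by group, CaseOne.conj_involution_inv hv, hz,
      inv_inv] at e
  obtain ⟨j, hj⟩ := CfsgLib.RankOneInvol.exists_pow_sq_eq ho
  rw [← hj, ← (Commute.refl z).mul_pow]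
  exact pow_mem h2 _

theorem mem_torus_of_inverted {v w z : Y} (hv : orderOf v = 2) (hw : w * w = 1)
    (hz : w * z * w = z⁻¹) (hc : z * v = v * z) (ho : Odd (orderOf z)) : z ∈ torus L v :=
  (h.mem_torus hv).2 ⟨h.mem_of_inverted hw hz ho, hc, ho⟩

/-- The quotient by `L` is solvable of derived length two. -/
theorem derived_two_le : ∀ a b c d : Y, ⁅⁅a, b⁆, ⁅c, d⁆⁆ ∈ L := by
  intro a b c d
  have hk : ∀ x y : Y, h.fp ⁅x, y⁆ = 1 := fun x y => by
    rw [map_commutatorElement, commutatorElement_eq_one_iff_mul_comm]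
    exact (commute_ringAut _ _).eq
  have key : ∀ x y : Y, h.fp x = 1 → h.fp y = 1 → ⁅x, y⁆ ∈ L := by
    intro x y hx hy
    rw [commutatorElement_def]
    by_cases hxL : x ∈ L
    · rw [show x * y * x⁻¹ * y⁻¹ = x * (y * x⁻¹ * y⁻¹) by group]
      exact mul_mem hxL (h.normal.conj_mem _ (inv_mem hxL) y)
    by_cases hyL : y ∈ L
    · exact mul_mem (h.normal.conj_mem _ hyL x) (inv_mem hyL)
    have h1 : x * y ∈ L := h.mul_mem_of_not_mem hx hy hxL hyL
    have h2 : x⁻¹ * y⁻¹ ∈ L := h.mul_mem_of_not_mem (by rw [map_inv, hx, inv_one])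
      (by rw [map_inv, hy, inv_one]) (fun e => hxL (inv_mem_iff.1 e)) (fun e => hyL (inv_mem_iff.1 e))
    rw [mul_assoc (x * y)]
    exact mul_mem h1 h2
  exact key _ _ (hk a b) (hk c d)

/-- A perfect image of a subgroup is an image of its part in `L`. -/
theorem exists_preimage_mem {J : Subgroup Y} {P : Type v} [Group P] (f : J →* P)
    (hf : Function.Surjective f) [Group.IsPerfect P] (p : P) :
    ∃ x : J, (x : Y) ∈ L ∧ f x = p := by
  have hle : derivedSeries J 2 ≤ L.subgroupOf J := by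
    rw [derivedSeries_succ, derivedSeries_one, _root_.commutator_def, commutator_le]
    intro x hx y hy
    induction hx using Subgroup.closure_induction with
    | mem x hx =>
      obtain ⟨a, -, b, -, rfl⟩ := hx
      induction hy using Subgroup.closure_induction with
      | mem y hy =>
        obtain ⟨c, -, d, -, rfl⟩ := hy
        rw [mem_subgroupOf]
        exact h.derived_two_le a b c d
      | one => simp
      | mul y y' _ _ i i' =>
        rw [show ⁅⁅a, b⁆, y * y'⁆ = ⁅⁅a, b⁆, y⁆ * (y * ⁅⁅a, b⁆, y'⁆ * y⁻¹) by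
          simp only [commutatorElement_def]; group]
        haveI := h.normal
        exact mul_mem i ((inferInstance : (L.subgroupOf J).Normal).conj_mem _ i' y)
      | inv y _ i =>
        rw [show ⁅⁅a, b⁆, y⁻¹⁆ = y⁻¹ * ⁅⁅a, b⁆, y⁆⁻¹ * y⁻¹⁻¹ by
          simp only [commutatorElement_def]; group]
        haveI := h.normal
        exact (inferInstance : (L.subgroupOf J).Normal).conj_mem _ (inv_mem i) _
    | one => simp
    | mul x x' _ _ i i' =>
      rw [show ⁅x * x', y⁆ = (x * ⁅x', y⁆ * x⁻¹) * ⁅x, y⁆ by simp only [commutatorElement_def]; group]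
      haveI := h.normal
      exact mul_mem ((inferInstance : (L.subgroupOf J).Normal).conj_mem _ i' x) i
    | inv x _ i =>
      rw [show ⁅x⁻¹, y⁆ = x⁻¹ * ⁅x, y⁆⁻¹ * x⁻¹⁻¹ by simp only [commutatorElement_def]; group]
      haveI := h.normal
      exact (inferInstance : (L.subgroupOf J).Normal).conj_mem _ (inv_mem i) _
  have hp : p ∈ (derivedSeries J 2).map f := by
    rw [map_derivedSeries_eq hf, derivedSeries_succ, derivedSeries_one, Group.IsPerfect.commutator_eq_top,
      ← _root_.commutator_def, Group.IsPerfect.commutator_eq_top]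
    exact mem_top p
  obtain ⟨x, hx, rfl⟩ := hp
  exact ⟨x, mem_subgroupOf.1 (hle hx), rfl⟩

/-! ### Classes of involutions -/

theorem exists_conj_inner {v v' : Y} (hv : orderOf v = 2) (hv' : orderOf v' = 2) (hvL : v ∈ L)
    (hv'L : v' ∈ L) : ∃ x ∈ L, x * v * x⁻¹ = v' := by
  obtain ⟨M, hd, hM, hr, hi⟩ := h.exists_matrix_rep hv
  obtain ⟨M', hd', hM', hr', hi'⟩ := h.exists_matrix_rep hv'
  have h2 := h.two_ne_zero
  obtain ⟨g, hg⟩ := TopModel.exists_conj h2 hM hd hM' hd' ((hi'.1 hv'L).div (hi.1 hvL))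
  suffices hsuff : ∃ g : PGL, g ∈ pslImage F ∧ g * pmk M hd * g⁻¹ = pmk M' hd' by
    obtain ⟨g, hgI, hg⟩ := hsuff
    obtain ⟨x, rfl⟩ := exists_toP hgI
    refine ⟨(h.e.symm x : L), SetLike.coe_mem _, h.phi_injective ?_⟩
    rw [map_mul, map_mul, map_inv, h.phi_coe, h.pg_apply, MulEquiv.apply_symm_apply, hr, hr',
      ← map_inv (aut F), ← map_mul, ← map_mul, hg]
  by_cases hgI : g ∈ pslImage F
  · exact ⟨g, hgI, hg⟩
  -- an element of `PGL₂ \ PSL₂` centralising `v`
  obtain ⟨c, hc, hcI⟩ : ∃ c, Commute c (pmk M hd) ∧ c ∉ pslImage F := by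
    by_contra hno
    push Not at hno
    have hle : Subgroup.centralizer ({pmk M hd} : Set PGL) ≤ pslImage F := fun c hc =>
      hno c (mem_centralizer_pmk.1 hc)
    have h1 : (Nat.card (Subgroup.centralizer ({pmk M hd} : Set PGL)) : ℤ) =
        2 * ((Fintype.card F : ℤ) - eps (Fintype.card F)) := by
      rw [TopModel.card_centralizer h2 hM hd, Nat.cast_mul, Nat.cast_ofNat,
        card_torus_square h2 hM hd (hi.1 hvL)]
    have h3 : Nat.card (Subgroup.centralizer ({pmk M hd} : Set PGL)) ≤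
        Nat.card (L ⊓ centralizer ({v} : Set Y) : Subgroup Y) := by
      have hlift : ∀ c : Subgroup.centralizer ({pmk M hd} : Set PGL),
          ∃ x : (L ⊓ centralizer ({v} : Set Y) : Subgroup Y), h.phi x = aut F c := fun c => by
        obtain ⟨x, hx⟩ := exists_toP (hle c.2)
        have hxr : h.phi (h.e.symm x : L) = aut F c := by
          rw [h.phi_coe, h.pg_apply, MulEquiv.apply_symm_apply, hx]
        exact ⟨⟨_, SetLike.coe_mem (h.e.symm x), mem_centralizer_singleton_iff.2
          ((h.commute_rep hxr hr).2 (mem_centralizer_pmk.1 c.2).eq)⟩, hxr⟩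
      refine Nat.card_le_card_of_injective (fun c => (hlift c).choose) fun c c' e => Subtype.ext ?_
      refine aut_injective ?_
      rw [← (hlift c).choose_spec, ← (hlift c').choose_spec]
      exact congrArg (fun x : (L ⊓ centralizer ({v} : Set Y) : Subgroup Y) => h.phi x) e
    have h4 := h.card_centralizer hv hvL
    have := h.three
    rcases eps_cases (Fintype.card F) with e | e <;> rw [e] at h1 h4 <;> omega
  refine ⟨g * c, mul_mem_pslImage_of_not_mem hgI hcI, ?_⟩
  rw [← hg, show g * c * pmk M hd * (g * c)⁻¹ = g * (c * pmk M hd * c⁻¹) * g⁻¹ by group, hc.eq,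
    mul_inv_cancel_right]

theorem exists_conj_outer {v v' : Y} (hv : orderOf v = 2) (hv' : orderOf v' = 2) (hvL : v ∉ L)
    (hv'L : v' ∉ L) : ∃ x ∈ L, x * v * x⁻¹ = v' := by
  obtain ⟨M, hd, hM, hr, hi⟩ := h.exists_matrix_rep hv
  obtain ⟨M', hd', hM', hr', hi'⟩ := h.exists_matrix_rep hv'
  obtain ⟨x, hx⟩ := TopModel.exists_conj_outer h.two_ne_zero hM hd hM' hd' (fun e => hvL (hi.2 e))
    (fun e => hv'L (hi'.2 e))
  refine ⟨(h.e.symm x : L), SetLike.coe_mem _, h.phi_injective ?_⟩
  rw [map_mul, map_mul, map_inv, h.phi_coe, h.pg_apply, MulEquiv.apply_symm_apply, hr, hr',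
    ← map_inv (aut F), ← map_mul, ← map_mul, hx]

theorem card_centralizer_outer {v : Y} (hv : orderOf v = 2) (hvL : v ∉ L) :
    (Nat.card (L ⊓ centralizer ({v} : Set Y) : Subgroup Y) : ℤ) =
      (Fintype.card F : ℤ) + eps (Fintype.card F) := by
  obtain ⟨M, hd, hM, hr, hi⟩ := h.exists_matrix_rep hv
  have h1 := card_fixed_outer h.two_ne_zero hM hd fun e => hvL (hi.2 e)
  have e : Nat.card (L ⊓ centralizer ({v} : Set Y) : Subgroup Y) =
      Nat.card {x : PSL // aut F (pmk M hd) x = x} := by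
    have hiff : ∀ z : L, (z : Y) * v = v * z ↔ aut F (pmk M hd) (h.e z) = h.e z := fun z => by
      rw [h.commute_rep (h.phi_coe z) hr, aut_fix_iff, h.pg_apply]
      exact ⟨fun e => e.symm, fun e => e.symm⟩
    refine Nat.card_congr (Equiv.ofBijective (fun x => ⟨h.e ⟨x.1, x.2.1⟩,
      (hiff ⟨x.1, x.2.1⟩).1 (mem_centralizer_singleton_iff.1 x.2.2)⟩) ⟨?_, ?_⟩)
    · intro x y hxy
      exact Subtype.ext (congrArg (fun u : L => (u : Y)) (h.e.injective (congrArg Subtype.val hxy)) :)
    · rintro ⟨z, hz⟩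
      obtain ⟨w, rfl⟩ := h.e.surjective z
      exact ⟨⟨w, w.2, mem_centralizer_singleton_iff.2 ((hiff w).2 hz)⟩, rfl⟩
  rw [e, h1]
  have := h.three
  unfold eps
  split_ifs <;> omega

/-- The class of an involution has the size of its class in `L`. -/
theorem card_eq_of_involution {v : Y} (hv : orderOf v = 2) :
    Nat.card Y * Nat.card (L ⊓ centralizer ({v} : Set Y) : Subgroup Y) =
      Nat.card L * Nat.card (centralizer ({v} : Set Y)) := by
  haveI := h.normal
  have htop : L ⊔ centralizer ({v} : Set Y) = ⊤ := by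
    refine eq_top_iff.2 fun y _ => ?_
    have ho : orderOf (y * v * y⁻¹) = 2 := by rw [CfsgLib.Involutions.orderOf_conj_eq, hv]
    have hiff : y * v * y⁻¹ ∈ L ↔ v ∈ L := ⟨fun e => by
      have := h.normal.conj_mem _ e y⁻¹
      simpa [mul_assoc] using this, fun e => h.normal.conj_mem v e y⟩
    obtain ⟨x, hx, e⟩ : ∃ x ∈ L, x * v * x⁻¹ = y * v * y⁻¹ := by
      by_cases hvL : v ∈ L
      · exact h.exists_conj_inner hv ho hvL (hiff.2 hvL)
      · exact h.exists_conj_outer hv ho hvL fun e => hvL (hiff.1 e)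
    rw [show y = x * (x⁻¹ * y) by group]
    refine mul_mem (mem_sup_left hx) (mem_sup_right (mem_centralizer_singleton_iff.2 ?_))
    calc x⁻¹ * y * v = x⁻¹ * (y * v * y⁻¹) * y := by group
      _ = v * (x⁻¹ * y) := by rw [← e]; group
  set C := centralizer ({v} : Set Y)
  let f : L × C → Y := fun p => p.1 * p.2
  have hsurj : ∀ y : Y, ∃ p, f p = y := fun y => by
    have hy : y ∈ ((L ⊔ C : Subgroup Y) : Set Y) := htop ▸ mem_top y
    rw [normal_mul] at hy
    obtain ⟨a, ha, c, hc, e⟩ := Set.mem_mul.1 hy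
    exact ⟨⟨⟨a, ha⟩, ⟨c, hc⟩⟩, e⟩
  rw [← Nat.card_prod, ← Nat.card_prod]
  refine Nat.card_eq_of_bijective (fun p : Y × (L ⊓ C : Subgroup Y) =>
    ((⟨(hsurj p.1).choose.1 * p.2, mul_mem (hsurj p.1).choose.1.2 p.2.2.1⟩ : L),
      (⟨(p.2 : Y)⁻¹ * (hsurj p.1).choose.2, mul_mem (inv_mem p.2.2.2) (hsurj p.1).choose.2.2⟩ : C)))
    ⟨?_, ?_⟩
  · rintro ⟨y, d⟩ ⟨y', d'⟩ e
    obtain ⟨e1, e2⟩ := Prod.ext_iff.1 e
    have hy : y = y' := by
      rw [← (hsurj y).choose_spec, ← (hsurj y').choose_spec]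
      have := congrArg₂ (fun a c : Y => a * c) (congrArg Subtype.val e1) (congrArg Subtype.val e2)
      simpa [f, mul_assoc] using this
    subst hy
    exact Prod.ext rfl (Subtype.ext (mul_left_cancel (congrArg Subtype.val e1)))
  · rintro ⟨a, c⟩
    refine ⟨((a : Y) * c, ⟨((hsurj (a * c)).choose.1 : Y)⁻¹ * a,
      L.mul_mem (L.inv_mem (hsurj _).choose.1.2) a.2, ?_⟩), ?_⟩
    · have e := (hsurj (a * c)).choose_spec
      have : ((hsurj (a * c)).choose.1 : Y)⁻¹ * a = (hsurj (a * c)).choose.2 * (c : Y)⁻¹ := by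
        rw [inv_mul_eq_iff_eq_mul, ← mul_assoc]
        exact eq_mul_inv_of_mul_eq e.symm
      rw [this]
      exact C.mul_mem (hsurj _).choose.2.2 (C.inv_mem c.2)
    · refine Prod.ext (Subtype.ext ?_) (Subtype.ext ?_)
      · simp
      · have e := (hsurj (a * c)).choose_spec
        simp only [f] at e
        simp only [mul_inv_rev, inv_inv, mul_assoc]
        rw [e, inv_mul_cancel_left]

theorem two_mul_class_inner {v : Y} (hv : orderOf v = 2) (hvL : v ∈ L) :
    2 * (Nat.card Y : ℤ) = (Nat.card (centralizer ({v} : Set Y)) : ℤ) *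
      ((Fintype.card F : ℤ) * ((Fintype.card F : ℤ) + eps (Fintype.card F))) := by
  have h1 := congrArg (Nat.cast : ℕ → ℤ) (h.card_eq_of_involution hv)
  push_cast at h1
  rw [h.card_centralizer hv hvL] at h1
  have h2 := h.two_mul_card
  have hne : (Fintype.card F : ℤ) - eps (Fintype.card F) ≠ 0 := by
    have := h.three
    rcases eps_cases (Fintype.card F) with e | e <;> rw [e] <;> omega
  refine mul_left_cancel₀ hne ?_
  rcases eps_cases (Fintype.card F) with e | e <;> rw [e] at h1 ⊢ <;>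
    linear_combination 2 * h1 + (Nat.card (centralizer ({v} : Set Y)) : ℤ) * h2

theorem two_mul_class_outer {v : Y} (hv : orderOf v = 2) (hvL : v ∉ L) :
    2 * (Nat.card Y : ℤ) = (Nat.card (centralizer ({v} : Set Y)) : ℤ) *
      ((Fintype.card F : ℤ) * ((Fintype.card F : ℤ) - eps (Fintype.card F))) := by
  have h1 := congrArg (Nat.cast : ℕ → ℤ) (h.card_eq_of_involution hv)
  push_cast at h1
  rw [h.card_centralizer_outer hv hvL] at h1
  have h2 := h.two_mul_card
  have hne : (Fintype.card F : ℤ) + eps (Fintype.card F) ≠ 0 := by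
    have := h.three
    rcases eps_cases (Fintype.card F) with e | e <;> rw [e] <;> omega
  refine mul_left_cancel₀ hne ?_
  rcases eps_cases (Fintype.card F) with e | e <;> rw [e] at h1 ⊢ <;>
    linear_combination 2 * h1 + (Nat.card (centralizer ({v} : Set Y)) : ℤ) * h2

/-- `q - ε` is a power of two times the odd torus. -/
theorem exists_two_pow {v : Y} (hv : orderOf v = 2) (hvL : v ∈ L) :
    ∃ j : ℕ, (Fintype.card F : ℤ) - eps (Fintype.card F) = 2 ^ j * (Nat.card (torus L v) : ℤ) := by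
  obtain ⟨hdvd, hmax⟩ := h.card_torus_inner hv hvL
  obtain ⟨N, hN⟩ : ∃ N : ℕ, (N : ℤ) = (Fintype.card F : ℤ) - eps (Fintype.card F) := by
    have := h.three
    refine ⟨((Fintype.card F : ℤ) - eps (Fintype.card F)).toNat, Int.toNat_of_nonneg ?_⟩
    rcases eps_cases (Fintype.card F) with e | e <;> rw [e] <;> omega
  have hN0 : N ≠ 0 := by
    intro e
    have := h.three
    rcases eps_cases (Fintype.card F) with e' | e' <;> rw [e, e'] at hN <;> omega
  rw [← hN, Int.natCast_dvd_natCast] at hdvd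
  obtain ⟨j, o, ho, e⟩ := Nat.exists_eq_pow_mul_and_not_dvd hN0 2 (by norm_num)
  refine ⟨j, ?_⟩
  have hoodd : Odd o := Nat.odd_iff.2 (Nat.two_dvd_ne_zero.1 ho)
  have h1 : o ∣ Nat.card (torus L v) := hmax o hoodd (by
    rw [← hN, e, Int.natCast_dvd_natCast]; exact Dvd.intro_left _ rfl)
  have h2 : Nat.card (torus L v) ∣ o := by
    rw [e] at hdvd
    exact ((Nat.coprime_two_right.2 (h.odd_card_torus hv)).pow_right j).dvd_of_dvd_mul_left hdvd
  rw [← hN, e, Nat.dvd_antisymm h2 h1]
  push_cast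
  ring

end Psl

end CfsgLib.GW.Field
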