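import Cfsg.Agent.Lib.GW.CaseOneBasic
import Cfsg.Agent.Lib.GW.CaseOneTop

/-!
Gorenstein–Walter, maximal subgroups over an involution centraliser: images of odd subgroups, the
odd part of the centraliser of an involution in the quotient, the index of a reflection part.
-/

set_option autoImplicit false
set_option linter.unusedSectionVars false
set_option linter.unusedVariables false
set_option linter.style.haveILetI false

namespace CfsgLib.GW.CaseOne

open Subgroup CfsgLib.RankOneInvol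

universe u

variable {G : Type u} [Group G] [Finite G] {E : Setup G} {M : Subgroup G}

/-- The image of a subgroup in the quotient by the odd core. -/
def img (M A : Subgroup G) : Subgroup (Tp M) := (A.subgroupOf M).map (QuotientGroup.mk' _)

theorem mem_img {A : Subgroup G} {τ : Tp M} : τ ∈ img M A ↔ ∃ x ∈ A, x ∈ M ∧ bar M x = τ := by
  rw [img, mem_map]
  constructor
  · rintro ⟨x, hx, rfl⟩
    exact ⟨x, mem_subgroupOf.1 hx, x.2, bar_of_mem x.2⟩
  · rintro ⟨x, hx, hxM, rfl⟩
    exact ⟨⟨x, hxM⟩, mem_subgroupOf.2 hx, (bar_of_mem hxM).symm⟩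

theorem odd_card_img {A : Subgroup G} (hA : Odd (Nat.card A)) : Odd (Nat.card (img M A)) := by
  refine hA.of_dvd_nat ((card_map_dvd _ _).trans ?_)
  rw [← card_map_of_injective M.subtype_injective, subgroupOf_map_subtype]
  exact card_dvd_of_le inf_le_left

theorem card_eq_mul_img {A : Subgroup G} (hAM : A ≤ M) :
    Nat.card A = Nat.card (A ⊓ coreIn M : Subgroup G) * Nat.card (img M A) := by
  let f : A →* Tp M := (QuotientGroup.mk' _).comp (inclusion hAM)
  have hf : ∀ a : A, f a = bar M a := fun a => (bar_of_mem (hAM a.2)).symm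
  have hr : f.range = img M A := by
    ext τ
    rw [mem_img]
    constructor
    · rintro ⟨a, rfl⟩; exact ⟨a, a.2, hAM a.2, (hf a).symm⟩
    · rintro ⟨x, hx, -, rfl⟩; exact ⟨⟨x, hx⟩, hf _⟩
  have hk : f.ker = (A ⊓ coreIn M).subgroupOf A := by
    ext a
    rw [MonoidHom.mem_ker, hf, bar_eq_one_iff (hAM a.2), mem_subgroupOf, mem_inf]
    exact ⟨fun h => ⟨a.2, h⟩, fun h => h.2⟩
  rw [← f.ker.card_mul_index, index_ker, hk, hr,
    Nat.card_congr (subgroupOfEquivOfLe (inf_le_left : A ⊓ coreIn M ≤ A)).toEquiv]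

/-- Fixed points of an involution in the image are images of fixed points. -/
theorem img_inf_centralizer {A : Subgroup G} (hA : Odd (Nat.card A)) (hAM : A ≤ M) {v : G}
    (hv : v * v = 1) (hvM : v ∈ M) (hn : ∀ x ∈ A, v * x * v ∈ A) :
    img M (A ⊓ centralizer ({v} : Set G)) = img M A ⊓ centralizer ({bar M v} : Set (Tp M)) := by
  ext τ
  rw [mem_inf, mem_img, mem_img, mem_centralizer_singleton_iff]
  constructor
  · rintro ⟨x, hx, hxM, rfl⟩
    exact ⟨⟨x, hx.1, hxM, rfl⟩, commute_bar hxM hvM (mem_centralizer_singleton_iff.1 hx.2)⟩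
  · rintro ⟨⟨x, hx, hxM, rfl⟩, hc⟩
    obtain ⟨y, z, hy, hyv, hz, hzv, rfl⟩ := exists_fixed_mul_inverted hA hv hn hx
    have hyc := (conj_eq_iff_commute hv).1 hyv
    have hbv : bar M v * bar M v = 1 := by rw [← bar_mul hvM hvM, hv, bar_one]
    have hfy : bar M v * bar M y * bar M v = bar M y :=
      (conj_eq_iff_commute hbv).2 (commute_bar (hAM hy) hvM hyc)
    have hz1 : bar M z = 1 := by
      refine eq_one_of_fixed_inverted (odd_card_img (M := M) hA) (mem_img.2 ⟨z, hz, hAM hz, rfl⟩)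
        (v := bar M v) ?_ ?_
      · rw [bar_mul (hAM hy) (hAM hz)] at hc
        have h1 := (conj_eq_iff_commute hbv).2 hc
        rw [conj_involution_mul hbv, hfy] at h1
        exact mul_left_cancel h1
      · rw [← bar_inv (hAM hz), ← hzv, bar_mul (mul_mem hvM (hAM hz)) hvM, bar_mul hvM (hAM hz)]
    exact ⟨y, ⟨hy, mem_centralizer_singleton_iff.2 hyc⟩, hAM hy,
      by rw [bar_mul (hAM hy) (hAM hz), hz1, mul_one]⟩

/-- `|A : C_A(v)|` splits along the odd core. -/
theorem card_mul_card_inverted {A : Subgroup G} (hA : Odd (Nat.card A)) (hAM : A ≤ M) {v : G}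
    (hv : v * v = 1) (hvM : v ∈ M) (hn : ∀ x ∈ A, v * x * v ∈ A) :
    Nat.card A * Nat.card (A ⊓ coreIn M ⊓ centralizer ({v} : Set G) : Subgroup G) =
      Nat.card (A ⊓ centralizer ({v} : Set G) : Subgroup G) *
        Nat.card (A ⊓ coreIn M : Subgroup G) * Nat.card (inverted (img M A) (bar M v)) := by
  have h1 := card_eq_mul_img hAM
  have h2 := card_eq_mul_img (M := M) ((inf_le_left.trans hAM : A ⊓ centralizer ({v} : Set G) ≤ M))
  rw [img_inf_centralizer hA hAM hv hvM hn, inf_right_comm] at h2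
  have h3 := card_fixed_mul_inverted (odd_card_img (M := M) hA)
    (v := bar M v) (by rw [← bar_mul hvM hvM, hv, bar_one]) (by
      intro τ hτ
      obtain ⟨x, hx, hxM, rfl⟩ := mem_img.1 hτ
      exact mem_img.2 ⟨v * x * v, hn x hx, hAM (hn x hx),
        by rw [bar_mul (mul_mem hvM hxM) hvM, bar_mul hvM hxM]⟩)
  rw [h1, h2, h3]
  ring

namespace Over

variable (h : Over E M)
include h

theorem U_le : E.U ≤ M := E.U_le_H.trans h.le

theorem odd_card_U : Odd (Nat.card E.U) := odd_card_coreIn _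

theorem U_inf_core : E.U ⊓ coreIn M = coreIn M ⊓ centralizer ({E.t} : Set G) := by
  ext x
  rw [mem_inf, mem_inf, mem_centralizer_singleton_iff, E.mem_U]
  exact ⟨fun hx => ⟨hx.2, hx.1.1⟩,
    fun hx => ⟨⟨hx.2, odd_orderOf_of_mem (odd_card_coreIn M) hx.1⟩, hx.1⟩⟩

theorem card_img_U : Nat.card (img M E.U) * 2 ^ (E.d.k + 2) =
    Nat.card (centralizer ({bar M E.t} : Set (Tp M))) := by
  have h1 := h.card_U_mul
  rw [card_eq_mul_img h.U_le, h.U_inf_core, mul_assoc] at h1
  exact Nat.eq_of_mul_eq_mul_left Nat.card_pos h1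

omit h in
theorem pow_mem_U {x : G} (hx : x ∈ E.H) : x ^ 2 ^ (E.d.k + 2) ∈ E.U := by
  obtain ⟨u, hu, s, hs, rfl⟩ := E.exists_mul hx
  suffices ∀ n, ∃ u' ∈ E.U, (u * s) ^ n = u' * s ^ n by
    obtain ⟨u', hu', e⟩ := this (2 ^ (E.d.k + 2))
    have hs1 : (⟨s, hs⟩ : (E.S : Subgroup G)) ^ Nat.card (E.S : Subgroup G) = 1 := pow_card_eq_one'
    rw [E.card_S] at hs1
    rw [e, show s ^ 2 ^ (E.d.k + 2) = 1 from congrArg Subtype.val hs1, mul_one]
    exact hu'
  intro n
  induction n with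
  | zero => exact ⟨1, one_mem _, by simp⟩
  | succ n ih =>
    obtain ⟨u', hu', e⟩ := ih
    refine ⟨u' * (s ^ n * u * (s ^ n)⁻¹), mul_mem hu' (E.conj_mem_U (E.S_le_H (pow_mem hs n)) hu), ?_⟩
    rw [pow_succ, e, pow_succ]
    group

/-- The odd elements of the centraliser of `t` in the quotient come from `U`. -/
theorem mem_img_U {τ : Tp M} :
    τ ∈ img M E.U ↔ τ * bar M E.t = bar M E.t * τ ∧ Odd (orderOf τ) := by
  constructor
  · intro hτ
    obtain ⟨x, hx, hxM, rfl⟩ := mem_img.1 hτ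
    exact ⟨commute_bar hxM h.t_mem (E.mem_U.1 hx).1, odd_orderOf_of_mem (odd_card_img h.odd_card_U) hτ⟩
  · rintro ⟨hc, ho⟩
    obtain ⟨x, hx, rfl⟩ := exists_bar τ
    obtain ⟨c, hc', e⟩ := exists_lift_commute E.t_sq h.t_mem hx hc
    have hy : bar M (c * x) = bar M x := by
      rw [bar_mul (coreIn_le M hc') hx, bar_of_mem_coreIn hc', one_mul]
    have hmem : bar M x ^ 2 ^ (E.d.k + 2) ∈ img M E.U := by
      rw [← hy, ← bar_pow (mul_mem (coreIn_le M hc') hx)]
      exact mem_img.2 ⟨_, pow_mem_U (E.mem_H.2 e), pow_mem (mul_mem (coreIn_le M hc') hx) _, rfl⟩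
    by_cases h1 : bar M x = 1
    · rw [h1]; exact one_mem _
    obtain ⟨m, -, hm⟩ := Nat.exists_mul_mod_eq_one_of_coprime
      ((Nat.coprime_two_left.2 ho).pow_left (E.d.k + 2))
      (Nat.one_lt_iff_ne_zero_and_ne_one.2 ⟨(orderOf_pos _).ne', orderOf_eq_one_iff.not.2 h1⟩)
    have e' : bar M x = (bar M x ^ 2 ^ (E.d.k + 2)) ^ m := by
      rw [← pow_mul, ← pow_mod_orderOf, hm, pow_one]
    rw [e']
    exact pow_mem hmem m

/-- The Sylow 2-subgroup bounds powers of two dividing the order of the quotient. -/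
theorem pow_le_of_dvd {j : ℕ} (hj : 2 ^ j ∣ Nat.card (Tp M)) : j ≤ E.d.k + 2 := by
  haveI : Fact (Nat.Prime 2) := ⟨Nat.prime_two⟩
  obtain ⟨K, hK⟩ := Sylow.exists_subgroup_card_pow_prime 2 hj
  obtain ⟨P, hP⟩ := (IsPGroup.of_card hK).exists_le_sylow
  have h1 := card_dvd_of_le hP
  rw [hK, Nat.card_congr (Sylow.equiv P h.syl).toEquiv, h.card_syl] at h1
  exact (Nat.pow_dvd_pow_iff_le_right (by norm_num : 1 < 2)).1 h1

theorem sq_bar {v : G} (hv : v * v = 1) (hvM : v ∈ M) : bar M v * bar M v = 1 := by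
  rw [← bar_mul hvM hvM, hv, bar_one]

/-- `|U : X_b|` in terms of the odd core. -/
theorem card_U_mul_fixed {b : G} (hb : E.Refl b) :
    Nat.card E.U *
        Nat.card (coreIn M ⊓ centralizer ({E.t} : Set G) ⊓ centralizer ({b} : Set G) : Subgroup G) =
      Nat.card (E.X b) * Nat.card (coreIn M ⊓ centralizer ({E.t} : Set G) : Subgroup G) *
        Nat.card (inverted (img M E.U) (bar M b)) := by
  have := card_mul_card_inverted h.odd_card_U h.U_le hb.sq (h.refl_mem hb) fun x hx => by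
    have := E.conj_mem_U hb.mem_H hx
    rwa [hb.inv] at this
  rwa [h.U_inf_core] at this

/-- A lower bound for `X_b`. -/
theorem fixed_le_X {b : G} (hb : E.Refl b) :
    Nat.card (coreIn M ⊓ centralizer ({E.t} : Set G) ⊓ centralizer ({b} : Set G) : Subgroup G) ≤
      Nat.card (E.X b) :=
  card_le_of_le fun x hx => hb.mem_X.2 ⟨mem_centralizer_singleton_iff.1 hx.1.2,
    mem_centralizer_singleton_iff.1 hx.2, odd_orderOf_of_mem (odd_card_coreIn M) hx.1.1⟩

/-- Inverted elements of the odd part of `C(t)` form the torus. -/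
theorem card_inverted_img {L : Subgroup (Tp M)} {F : Type*} [Field F] [Fintype F]
    (hL : Field.Psl L F) {b : G} (hb : E.Refl b) :
    Nat.card (inverted (img M E.U) (bar M b)) = Nat.card (Field.torus L (bar M E.t)) := by
  have ht := bar_involution h.t_mem E.orderOf_t
  have hb2 := bar_involution (h.refl_mem hb) hb.orderOf_eq
  have hbsq := h.sq_bar hb.sq (h.refl_mem hb)
  have hne : bar M b ≠ bar M E.t := fun e => hb.ne_t (h.bar_injOn hb.1 E.t_mem_S e)
  have hc : bar M b * bar M E.t = bar M E.t * bar M b :=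
    commute_bar (h.refl_mem hb) h.t_mem hb.comm
  have e : inverted (img M E.U) (bar M b) = (Field.torus L (bar M E.t) : Set (Tp M)) := by
    ext z
    constructor
    · rintro ⟨hz, hi⟩
      obtain ⟨h1, h2⟩ := h.mem_img_U.1 hz
      exact hL.mem_torus_of_inverted ht hbsq hi h1 h2
    · intro hz
      obtain ⟨-, h1, h2⟩ := (hL.mem_torus ht).1 hz
      refine ⟨h.mem_img_U.2 ⟨h1, h2⟩, ?_⟩
      have e := hL.inverts_torus ht hb2 hc hne hz
      rwa [inv_eq_of_mul_eq_one_right hbsq] at e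
  rw [e]
  rfl

/-- An involution of `M` with image conjugate to that of `t` is conjugate to `t` in `M`. -/
theorem exists_conj_t {v : G} (hv : orderOf v = 2) (hvM : v ∈ M) {τ : Tp M}
    (hτ : τ * bar M E.t * τ⁻¹ = bar M v) : ∃ m ∈ M, m * E.t * m⁻¹ = v := by
  obtain ⟨m, hm, rfl⟩ := exists_bar τ
  obtain ⟨-, hvv⟩ := CfsgLib.Involutions.orderOf_eq_two_iff_mul.1 hv
  obtain ⟨c, hc, e⟩ := exists_conj_of_bar_eq (v := m * E.t * m⁻¹) (v' := v)
    (by rw [show m * E.t * m⁻¹ * (m * E.t * m⁻¹) = m * (E.t * E.t) * m⁻¹ by group, E.t_sq, mul_one,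
      mul_inv_cancel]) hvv (mul_mem (mul_mem hm h.t_mem) (inv_mem hm)) hvM
    (by rw [bar_conj hm h.t_mem, hτ])
  exact ⟨c * m, mul_mem (coreIn_le M hc) hm, by rw [← e]; group⟩

theorem card_core_centralizer_conj {m : G} (hm : m ∈ M) (v : G) :
    Nat.card (coreIn M ⊓ centralizer ({m * v * m⁻¹} : Set G) : Subgroup G) =
      Nat.card (coreIn M ⊓ centralizer ({v} : Set G) : Subgroup G) := by
  refine Nat.card_congr ((MulAut.conj m⁻¹).toEquiv.subtypeEquiv fun x => ?_)
  simp only [MulEquiv.toEquiv_eq_coe, EquivLike.coe_coe, MulAut.conj_apply, inv_inv, mem_inf,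
    mem_centralizer_singleton_iff]
  constructor
  · rintro ⟨h1, h2⟩
    refine ⟨by simpa using conj_mem_coreIn (inv_mem hm) h1, ?_⟩
    calc m⁻¹ * x * m * v = m⁻¹ * (x * (m * v * m⁻¹)) * m := by group
      _ = v * (m⁻¹ * x * m) := by rw [h2]; group
  · rintro ⟨h1, h2⟩
    refine ⟨?_, ?_⟩
    · have := conj_mem_coreIn hm h1
      simpa [mul_assoc] using this
    · calc x * (m * v * m⁻¹) = m * (m⁻¹ * x * m * v) * m⁻¹ := by group
        _ = m * v * m⁻¹ * x := by rw [h2]; group

end Over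

end CfsgLib.GW.CaseOne
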