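import Cfsg.Agent.Lib.GW.CaseOneOdd
import Cfsg.Agent.Lib.GW.Basic
import Cfsg.Agent.Lib.GWCons.DihedralGenerated
import Cfsg.Agent.Lib.Mitchell.RecogA7
import Cfsg.Agent.Lib.DimThreeMax.AutCard
import Cfsg.Agent.S2119

/-!
Gorenstein–Walter: facts on `A₇` (centralisers of involutions, three-cycles), and `A₇` as the only
group over it with dihedral Sylow 2-subgroups.
-/

set_option autoImplicit false
set_option linter.unusedSectionVars false
set_option linter.style.haveILetI false

namespace CfsgLib.GW.CaseOne.Seven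

open Equiv Subgroup

universe u

abbrev A7 := alternatingGroup (Fin 7)

/-- A group with dihedral Sylow 2-subgroups over a self-centralising normal `A₇` is `A₇`. -/
theorem equiv_of_normal {Y : Type u} [Group Y] [Finite Y] {L : Subgroup Y} (hL : L.Normal)
    (hC : centralizer (L : Set Y) = ⊥) (f : L ≃* A7) (P : Sylow 2 Y) {n : ℕ}
    (e : Nonempty ((P : Subgroup Y) ≃* DihedralGroup n)) : L = ⊤ := by
  obtain ⟨e⟩ := e
  let φ : Y →* MulAut A7 := (MulAut.congr f).toMonoidHom.comp MulAut.conjNormal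
  have hφ : Function.Injective φ := by
    rw [injective_iff_map_eq_one]
    intro g hg
    have hg' : (MulAut.conjNormal g : MulAut L) = 1 := by
      apply (MulAut.congr f).injective
      rw [map_one]
      exact hg
    have : g ∈ centralizer (L : Set Y) := by
      rw [mem_centralizer_iff]
      intro x hx
      have h1 := congrArg Subtype.val (DFunLike.congr_fun hg' (⟨x, hx⟩ : L))
      rw [MulAut.conjNormal_apply] at h1
      exact (mul_inv_eq_iff_eq_mul.1 h1).symm
    rwa [hC, mem_bot] at this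
  have hle := Nat.card_le_card_of_injective φ hφ
  rw [CfsgLib.DimThreeMax.card_mulAut_alt_seven] at hle
  have hc := L.card_mul_index
  rw [Nat.card_congr f.toEquiv, CfsgLib.DimThreeMax.card_alt_seven] at hc
  rw [← index_eq_one]
  by_contra hidx
  have hne : L.index ≠ 0 := index_ne_zero_of_finite
  have h2' : Nat.card Y = 5040 := by omega
  let ψ : Y ≃* Equiv.Perm (Fin 7) :=
    (MulEquiv.ofBijective φ ((Nat.bijective_iff_injective_and_card φ).2
      ⟨hφ, by rw [h2', CfsgLib.DimThreeMax.card_mulAut_alt_seven]⟩)).trans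
    (MulEquiv.ofBijective _ (Cfsg.Agent.S2119.result 7 (by norm_num) (by norm_num))).symm
  haveI : NeZero n := ⟨fun h => by
    subst h
    haveI : Finite (DihedralGroup 0) := Finite.of_equiv _ e.toEquiv
    haveI : Finite ℤ :=
      (Finite.of_injective DihedralGroup.r fun a b h => by injection h : Finite (ZMod 0))
    exact not_finite ℤ⟩
  exact CfsgLib.GWCons.DihedralGenerated.not_perm_seven P e ψ

/-- Conjugation by a permutation. -/
def conjA (c : Perm (Fin 7)) : MulAut A7 := MulAut.conjNormal c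

theorem coe_conjA (c : Perm (Fin 7)) (g : A7) : (conjA c g : Perm (Fin 7)) = c * g * c⁻¹ :=
  MulAut.conjNormal_apply _ _

theorem exists_conjA {g g₀ : A7}
    (h : (g : Perm (Fin 7)).cycleType = (g₀ : Perm (Fin 7)).cycleType) : ∃ c, conjA c g = g₀ := by
  obtain ⟨c, hc⟩ := isConj_iff.1 (Perm.isConj_iff_cycleType_eq.2 h)
  exact ⟨c, Subtype.ext ((coe_conjA c g).trans hc)⟩

theorem coe_mul_eq {a b : A7} : a * b = b * a ↔
    (a : Perm (Fin 7)) * b = (b : Perm (Fin 7)) * a := by
  rw [Subtype.ext_iff]; rfl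

theorem cycleType_of_orderOf {g : A7} {p : ℕ} (hg : orderOf g = p) :
    (g : Perm (Fin 7)).cycleType.lcm = p ∧
      (g : Perm (Fin 7)).cycleType ∈
        ([0, {3}, {2, 2}, {3, 3}, {5}, {4, 2}, {3, 2, 2}, {7}] : List (Multiset ℕ)) :=
  ⟨by rw [Perm.lcm_cycleType, Subgroup.orderOf_coe, hg],
    CfsgLib.Mitchell.cycleType_even_seven _ (Perm.mem_alternatingGroup.1 g.2)⟩

/-- The standard involution. -/
def t₀ : A7 := ⟨swap 0 1 * swap 2 3, Perm.mem_alternatingGroup.2 (by decide +kernel)⟩

theorem exists_conjA_involution {g : A7} (hg : orderOf g = 2) : ∃ c, conjA c g = t₀ := by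
  refine exists_conjA ?_
  obtain ⟨h2, h1⟩ := cycleType_of_orderOf hg
  simp only [List.mem_cons, List.not_mem_nil, or_false] at h1
  rw [show ((t₀ : A7) : Perm (Fin 7)).cycleType = ({2, 2} : Multiset ℕ) by decide +kernel]
  rcases h1 with h | h | h | h | h | h | h | h <;>
    first
    | exact h
    | (rw [h] at h2; exact absurd h2 (by decide))

theorem card_filter_t₀ : (Finset.univ.filter fun σ : Perm (Fin 7) =>
    σ * (swap 0 1 * swap 2 3) = swap 0 1 * swap 2 3 * σ ∧ Perm.sign σ = 1).card = 24 := by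
  decide +kernel

theorem card_centralizer_involution {g : A7} (hg : orderOf g = 2) :
    Nat.card (centralizer ({g} : Set A7)) = 24 := by
  obtain ⟨c, hc⟩ := exists_conjA_involution hg
  have e : centralizer ({t₀} : Set A7) = (centralizer ({g} : Set A7)).map (conjA c).toMonoidHom := by
    ext x
    rw [mem_map_equiv, mem_centralizer_singleton_iff, mem_centralizer_singleton_iff, ← hc]
    rw [← (conjA c).injective.eq_iff (a := (conjA c).symm x * g), map_mul, map_mul,
      MulEquiv.apply_symm_apply]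
  rw [Nat.card_congr ((centralizer ({g} : Set A7)).equivMapOfInjective (conjA c).toMonoidHom
    (conjA c).injective).toEquiv, ← e, ← card_filter_t₀, ← Nat.card_eq_finsetCard]
  refine Nat.card_congr ⟨fun x => ⟨x.1, Finset.mem_filter.2 ⟨Finset.mem_univ _,
      coe_mul_eq.1 (mem_centralizer_singleton_iff.1 x.2), Perm.mem_alternatingGroup.1 x.1.2⟩⟩,
    fun x => ⟨⟨x.1, Perm.mem_alternatingGroup.2 (Finset.mem_filter.1 x.2).2.2⟩,
      mem_centralizer_singleton_iff.2 (coe_mul_eq.2 (Finset.mem_filter.1 x.2).2.1)⟩,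
    fun _ => rfl, fun _ => rfl⟩

theorem fact_t₀ : ∀ s : Perm (Fin 7), (s * s = 1 ∧
    s * (swap 0 1 * swap 2 3) = swap 0 1 * swap 2 3 * s ∧ Perm.sign s = 1) →
    (s * (swap 4 5 * swap 5 6) * s = swap 4 5 * swap 5 6 ∨
      s * (swap 4 5 * swap 5 6) * s = (swap 4 5 * swap 5 6)⁻¹) ∧
    (s * (swap 4 5 * swap 5 6) = swap 4 5 * swap 5 6 * s →
      s = 1 ∨ s = swap 0 1 * swap 2 3 ∨ s = swap 0 2 * swap 1 3 ∨ s = swap 0 3 * swap 1 2) := by
  set_option maxRecDepth 100000 in decide +kernel

/-- An element of order three in the centraliser of an involution is centralised only by a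
four-group of that centraliser and inverted by its other involutions. -/
theorem exists_inverted_three {g : A7} (hg : orderOf g = 2) :
    ∃ z : A7, z * g = g * z ∧ orderOf z = 3 ∧
      (∀ s : A7, s * s = 1 → s * g = g * s → s * z * s = z ∨ s * z * s = z⁻¹) ∧
      Nat.card {s : A7 // s * s = 1 ∧ s * g = g * s ∧ s * z = z * s} ≤ 4 := by
  classical
  obtain ⟨c, hc⟩ := exists_conjA_involution hg
  let z₀ : A7 := ⟨swap 4 5 * swap 5 6, Perm.mem_alternatingGroup.2 (by decide +kernel)⟩
  have hz : ∀ s : A7, s * s = 1 → s * g = g * s →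
      ((conjA c s : A7) : Perm (Fin 7)) * ((conjA c s : A7) : Perm (Fin 7)) = 1 ∧
      ((conjA c s : A7) : Perm (Fin 7)) * (swap 0 1 * swap 2 3) = swap 0 1 * swap 2 3 * ((conjA c s : A7) : Perm (Fin 7)) ∧
        Perm.sign ((conjA c s : A7) : Perm (Fin 7)) = 1 := by
    intro s h1 h2
    refine ⟨?_, ?_, Perm.mem_alternatingGroup.1 (conjA c s).2⟩
    · rw [← Subgroup.coe_mul, ← map_mul, h1, map_one, Subgroup.coe_one]
    · refine coe_mul_eq.1 (show conjA c s * t₀ = t₀ * conjA c s from ?_)
      rw [← hc, ← map_mul, h2, map_mul]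
  refine ⟨(conjA c).symm z₀, ?_, ?_, fun s h1 h2 => ?_, ?_⟩
  · apply (conjA c).injective
    rw [map_mul, map_mul, MulEquiv.apply_symm_apply, hc, coe_mul_eq]
    decide +kernel
  · rw [MulEquiv.orderOf_eq]
    exact orderOf_eq_prime (Subtype.ext (by decide +kernel))
      (fun h => absurd (congrArg Subtype.val h) (by decide +kernel))
  · rcases (fact_t₀ _ (hz s h1 h2)).1 with h | h
    · refine Or.inl ((conjA c).injective (Subtype.ext ?_))
      rw [map_mul, map_mul, MulEquiv.apply_symm_apply]; exact h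
    · refine Or.inr ((conjA c).injective (Subtype.ext ?_))
      rw [map_mul, map_mul, map_inv, MulEquiv.apply_symm_apply]; exact h
  · set B : Finset (Perm (Fin 7)) :=
      {1, swap 0 1 * swap 2 3, swap 0 2 * swap 1 3, swap 0 3 * swap 1 2}
    have hf : ∀ s : {s : A7 // s * s = 1 ∧ s * g = g * s ∧ s * (conjA c).symm z₀ =
        (conjA c).symm z₀ * s}, ((conjA c s.1 : A7) : Perm (Fin 7)) ∈ B := fun s => by
      have h3 := congrArg (conjA c) s.2.2.2
      rw [map_mul, map_mul, MulEquiv.apply_symm_apply] at h3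
      simpa [B] using (fact_t₀ _ (hz _ s.2.1 s.2.2.1)).2 (coe_mul_eq.1 h3)
    refine (Nat.card_le_card_of_injective (fun s => (⟨_, hf s⟩ : B)) fun s s' e => ?_).trans ?_
    · exact Subtype.ext ((conjA c).injective (Subtype.ext (congrArg (fun x : B => (x : Perm (Fin 7))) e :)))
    · rw [Nat.card_eq_fintype_card, Fintype.card_coe]
      decide +kernel

theorem no_involution_two_cycles : ∀ s : Perm (Fin 7), (s * s = 1 ∧ Perm.sign s = 1) →
    (s * (swap 1 2 * swap 2 3 * (swap 4 5 * swap 5 6)) =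
      swap 1 2 * swap 2 3 * (swap 4 5 * swap 5 6) * s → s = 1) ∧
    (s * (swap 4 5 * swap 5 6 * (swap 1 2 * swap 2 3)⁻¹) =
      swap 4 5 * swap 5 6 * (swap 1 2 * swap 2 3)⁻¹ * s → s = 1) ∧
    (s * (swap 4 5 * swap 5 6) = swap 4 5 * swap 5 6 * s →
      (s * (swap 1 2 * swap 2 3) = swap 1 2 * swap 2 3 * s → s = 1) ∧
      (s = 1 ∨ s = swap 0 1 * swap 2 3 ∨ s = swap 0 2 * swap 1 3 ∨ s = swap 0 3 * swap 1 2)) := by
  set_option maxRecDepth 100000 in decide +kernel

/-- An element of order three centralised by an involution is a three-cycle: a conjugate commutes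
with it, and no involution centralises both or their products. -/
theorem exists_partner {x i : A7} (hx : orderOf x = 3) (hi : orderOf i = 2) (hxi : i * x = x * i) :
    ∃ j : A7, j * x * j⁻¹ * x = x * (j * x * j⁻¹) ∧ j * (j * x * j⁻¹) * j⁻¹ = x⁻¹ ∧
      (∀ s : A7, s * s = 1 →
        (s * (x * (j * x * j⁻¹)) = x * (j * x * j⁻¹) * s → s = 1) ∧
        (s * (x * (j * x * j⁻¹)⁻¹) = x * (j * x * j⁻¹)⁻¹ * s → s = 1) ∧
        (s * x = x * s → s * (j * x * j⁻¹) = j * x * j⁻¹ * s → s = 1)) ∧
      ∀ s t v : A7, s * s = 1 → t * t = 1 → v * v = 1 → s ≠ 1 → t ≠ 1 → s ≠ t →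
        s * x = x * s → t * x = x * t → v * x = x * v →
          s * t = t * s ∧ (v = 1 ∨ v = s ∨ v = t ∨ v = s * t) := by
  obtain ⟨h2, h1⟩ := cycleType_of_orderOf hx
  let x₀ : A7 := ⟨swap 4 5 * swap 5 6, Perm.mem_alternatingGroup.2 (by decide +kernel)⟩
  obtain ⟨c, hc⟩ : ∃ c, conjA c x = x₀ := by
    simp only [List.mem_cons, List.not_mem_nil, or_false] at h1
    rcases h1 with h | h | h | h | h | h | h | h
    case inr.inl => exact exists_conjA (h.trans (by decide +kernel))
    case inr.inr.inr.inl =>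
      exfalso
      obtain ⟨c, hc⟩ := exists_conjA (g₀ := (⟨swap 1 2 * swap 2 3 * (swap 4 5 * swap 5 6),
        Perm.mem_alternatingGroup.2 (by decide +kernel)⟩ : A7)) (h.trans (by decide +kernel))
      obtain ⟨hi1, hi2⟩ := CfsgLib.Involutions.orderOf_eq_two_iff_mul.1 hi
      refine hi1 ((conjA c).injective ?_)
      rw [map_one]
      have e := congrArg (conjA c) hxi
      rw [map_mul, map_mul, hc] at e
      exact Subtype.ext ((no_involution_two_cycles _
        ⟨by rw [← Subgroup.coe_mul, ← map_mul, hi2, map_one, Subgroup.coe_one],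
          Perm.mem_alternatingGroup.1 (conjA c i).2⟩).1 (coe_mul_eq.1 e))
    all_goals (rw [h] at h2; exact absurd h2 (by decide))
  let j₀ : A7 := ⟨swap 1 4 * (swap 2 6 * swap 6 3 * swap 3 5), Perm.mem_alternatingGroup.2 (by decide +kernel)⟩
  let y₀ : A7 := ⟨swap 1 2 * swap 2 3, Perm.mem_alternatingGroup.2 (by decide +kernel)⟩
  have hy : conjA c ((conjA c).symm j₀ * x * ((conjA c).symm j₀)⁻¹) = y₀ := by
    rw [map_mul, map_mul, map_inv, MulEquiv.apply_symm_apply, hc]
    exact Subtype.ext (by decide +kernel)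
  have hs : ∀ s : A7, s * s = 1 → ((conjA c s : A7) : Perm (Fin 7)) * ((conjA c s : A7) : Perm (Fin 7)) = 1 ∧
      Perm.sign ((conjA c s : A7) : Perm (Fin 7)) = 1 := fun s h =>
    ⟨by rw [← Subgroup.coe_mul, ← map_mul, h, map_one, Subgroup.coe_one],
      Perm.mem_alternatingGroup.1 (conjA c s).2⟩
  have hone : ∀ s : A7, ((conjA c s : A7) : Perm (Fin 7)) = 1 → s = 1 := fun s h =>
    (conjA c).injective ((Subtype.ext h : conjA c s = 1).trans (map_one _).symm)
  refine ⟨(conjA c).symm j₀, ?_, ?_, fun s hs2 => ⟨fun h => ?_, fun h => ?_, fun h h' => ?_⟩, ?_⟩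
  · apply (conjA c).injective
    rw [map_mul _ (_ * _ * _), map_mul _ x, hy, hc, coe_mul_eq]
    decide +kernel
  · apply (conjA c).injective
    rw [map_mul, map_mul, map_inv, map_inv, hy, MulEquiv.apply_symm_apply, hc]
    exact Subtype.ext (by decide +kernel)
  · have e := congrArg (conjA c) h
    generalize hY : (conjA c).symm j₀ * x * ((conjA c).symm j₀)⁻¹ = Y at e hy
    simp only [map_mul, hy, hc] at e
    rw [coe_mul_eq] at e
    refine hone s ((no_involution_two_cycles _ (hs s hs2)).1 ?_)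
    rw [show swap 1 2 * swap 2 3 * (swap 4 5 * swap 5 6) =
      ((x₀ * y₀ : A7) : Perm (Fin 7)) by decide +kernel]
    exact e
  · have e := congrArg (conjA c) h
    generalize hY : (conjA c).symm j₀ * x * ((conjA c).symm j₀)⁻¹ = Y at e hy
    simp only [map_mul, map_inv, hy, hc] at e
    rw [coe_mul_eq] at e
    exact hone s ((no_involution_two_cycles _ (hs s hs2)).2.1 e)
  · have e := congrArg (conjA c) h
    have e' := congrArg (conjA c) h'
    rw [map_mul, map_mul, hc, coe_mul_eq] at e
    rw [map_mul, map_mul _ (_ * _ * _), hy, coe_mul_eq] at e'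
    exact hone s (((no_involution_two_cycles _ (hs s hs2)).2.2 e).1 e')
  · intro s t v s2 t2 v2 s1 t1 hst hsx htx hvx
    have m : ∀ w : A7, w * w = 1 → w * x = x * w → ((conjA c w : A7) : Perm (Fin 7)) = 1 ∨
        ((conjA c w : A7) : Perm (Fin 7)) = swap 0 1 * swap 2 3 ∨
        ((conjA c w : A7) : Perm (Fin 7)) = swap 0 2 * swap 1 3 ∨
        ((conjA c w : A7) : Perm (Fin 7)) = swap 0 3 * swap 1 2 := fun w w2 wx => by
      have e := congrArg (conjA c) wx
      rw [map_mul, map_mul, hc, coe_mul_eq] at e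
      exact ((no_involution_two_cycles _ (hs w w2)).2.2 e).2
    have inj : Function.Injective fun w : A7 => ((conjA c w : A7) : Perm (Fin 7)) :=
      Subtype.val_injective.comp (conjA c).injective
    have ms := (m s s2 hsx).resolve_left fun h => s1 (hone s h)
    have mt := (m t t2 htx).resolve_left fun h => t1 (hone t h)
    have mv := m v v2 hvx
    have hne : ((conjA c s : A7) : Perm (Fin 7)) ≠ (conjA c t : A7) := fun h => hst (inj h)
    simp only [← inj.eq_iff, map_mul, map_one, Subgroup.coe_mul, Subgroup.coe_one]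
    generalize ((conjA c s : A7) : Perm (Fin 7)) = S' at ms hne ⊢
    generalize ((conjA c t : A7) : Perm (Fin 7)) = T' at mt hne ⊢
    generalize ((conjA c v : A7) : Perm (Fin 7)) = V' at mv ⊢
    rcases ms with rfl | rfl | rfl <;> rcases mt with rfl | rfl | rfl <;>
      first
      | exact absurd rfl hne
      | (rcases mv with rfl | rfl | rfl | rfl <;> decide +kernel)

end CfsgLib.GW.CaseOne.Seven
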