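import Cfsg.Agent.Lib.GW.CaseOneImage
import Cfsg.Agent.Lib.GW.CaseOneSeven

/-!
Gorenstein–Walter, maximal subgroups over an involution centraliser: the possible quotients by the
odd core, and the impossibility of a quotient with one class of involutions.
-/

set_option autoImplicit false
set_option linter.unusedSectionVars false
set_option linter.unusedVariables false
set_option linter.unreachableTactic false
set_option linter.unusedTactic false
set_option linter.unusedSimpArgs false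
set_option linter.style.haveILetI false

namespace CfsgLib.GW.CaseOne

open Subgroup CfsgLib.RankOneInvol

universe u

variable {G : Type u} [Group G] [Finite G] {E : Setup G} {M : Subgroup G}

theorem card_centralizer_equiv {A B : Type*} [Group A] [Group B] (e : A ≃* B) (a : A) :
    Nat.card (centralizer ({a} : Set A)) = Nat.card (centralizer ({e a} : Set B)) :=
  Nat.card_congr (e.toEquiv.subtypeEquiv fun x => by
    simp only [mem_centralizer_singleton_iff, MulEquiv.toEquiv_eq_coe, EquivLike.coe_coe]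
    rw [← map_mul, ← map_mul, e.injective.eq_iff])

theorem alt_four_involutions : ∀ v w : Equiv.Perm (Fin 4),
    (v * v = 1 ∧ v ≠ 1 ∧ Equiv.Perm.sign v = 1) → (w * w = 1 ∧ w ≠ 1 ∧ Equiv.Perm.sign w = 1) →
      ∃ c : Equiv.Perm (Fin 4), Equiv.Perm.sign c = 1 ∧ c * v * c⁻¹ = w := by
  decide +kernel

theorem alt_four_centralizer : ∀ v : Equiv.Perm (Fin 4),
    (v * v = 1 ∧ v ≠ 1 ∧ Equiv.Perm.sign v = 1) →
      (Finset.univ.filter fun x : Equiv.Perm (Fin 4) => x * v = v * x ∧ Equiv.Perm.sign x = 1).card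
        = 4 := by
  decide +kernel

theorem exists_conj_alt_seven {v w : Seven.A7} (hv : orderOf v = 2) (hw : orderOf w = 2) :
    ∃ c : Seven.A7, c * v * c⁻¹ = w := by
  obtain ⟨c, hc⟩ := Seven.exists_conjA_involution hv
  obtain ⟨d, hd⟩ := Seven.exists_conjA_involution hw
  have e : ∀ f : Equiv.Perm (Fin 7), f * ((Seven.t₀ : Seven.A7) : Equiv.Perm (Fin 7)) * f⁻¹ =
      (Seven.t₀ : Seven.A7) → (d⁻¹ * f * c) * v * (d⁻¹ * f * c)⁻¹ = (w : Equiv.Perm (Fin 7)) := by
    intro f hf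
    have hc' := congrArg Subtype.val hc
    have hd' := congrArg Subtype.val hd
    rw [Seven.coe_conjA] at hc' hd'
    rw [show d⁻¹ * f * c * (v : Equiv.Perm (Fin 7)) * (d⁻¹ * f * c)⁻¹ =
      d⁻¹ * (f * (c * v * c⁻¹) * f⁻¹) * d by group, hc', hf, ← hd']
    group
  by_cases hev : Equiv.Perm.sign (d⁻¹ * 1 * c) = 1
  · exact ⟨⟨_, Equiv.Perm.mem_alternatingGroup.2 hev⟩, Subtype.ext (e 1 (by simp))⟩
  · refine ⟨⟨d⁻¹ * Equiv.swap 0 1 * c, Equiv.Perm.mem_alternatingGroup.2 ?_⟩,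
      Subtype.ext (e _ (by decide +kernel))⟩
    rw [mul_one, map_mul] at hev
    rw [map_mul, map_mul, Equiv.Perm.sign_swap (by decide), mul_right_comm,
      Int.units_ne_iff_eq_neg.1 hev]
    rfl

namespace Over

variable (h : Over E M)
include h

/-- The possible quotients of `M` by its odd core. -/
theorem shape : IsPGroup 2 (Tp M) ∨ Nonempty (Tp M ≃* alternatingGroup (Fin 4)) ∨
    Nonempty (Tp M ≃* Equiv.Perm (Fin 4)) ∨ Nonempty (Tp M ≃* Seven.A7) ∨
      ∃ (L : Subgroup (Tp M)) (F : Type) (_ : Field F) (_ : Fintype F), Field.Psl L F := by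
  rcases h.top with h1 | h1 | h1 | ⟨L, hL, hC, ⟨F, i1, i2, hodd, h3, e⟩ | ⟨⟨f⟩⟩⟩
  · exact Or.inl h1
  · exact Or.inr (Or.inl h1)
  · exact Or.inr (Or.inr (Or.inl h1))
  · exact Or.inr (Or.inr (Or.inr (Or.inr ⟨L, F, i1, i2,
      ⟨hL, hC, e, hodd, h3, fun P => ⟨_, h.dihedral P⟩⟩⟩)))
  · have hLt := Seven.equiv_of_normal hL hC f h.syl (h.dihedral h.syl)
    exact Or.inr (Or.inr (Or.inr (Or.inl
      ⟨(((MulEquiv.subgroupCongr hLt).trans topEquiv).symm).trans f⟩)))

/-- A two-group quotient forces `M ≤ H` once `t` centralises the odd core. -/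
theorem false_of_isPGroup (hP : IsPGroup 2 (Tp M))
    (hG1 : ∀ b, E.Refl b → (∀ g ∈ M, g * E.t * g⁻¹ ≠ b ∧ g * E.t * g⁻¹ ≠ b * E.t) →
      ∀ w ∈ coreIn M, w * E.t = E.t * w) : False := by
  haveI : Fact (Nat.Prime 2) := ⟨Nat.prime_two⟩
  have htop : (h.syl : Subgroup (Tp M)) = ⊤ :=
    (h.syl.is_maximal' (Q := (⊤ : Subgroup (Tp M))) (hP.of_equiv topEquiv.symm) le_top).symm
  have hcen : ∀ x ∈ M, ∃ s ∈ (E.S : Subgroup G), bar M x = bar M s := fun x _ => by
    obtain ⟨s, hs, e⟩ := h.mem_syl.1 (htop ▸ mem_top (bar M x))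
    exact ⟨s, hs, e.symm⟩
  have hcent : ∀ g ∈ M, bar M (g * E.t * g⁻¹) = bar M E.t := fun g hg => by
    obtain ⟨s, hs, e⟩ := hcen g hg
    rw [bar_conj hg h.t_mem, e, ← bar_conj (h.S_le hs) h.t_mem,
      show s * E.t = E.t * s from E.d.z_central hs, mul_inv_cancel_right]
  have hb := E.refl_a
  have hW := hG1 _ hb fun g hg =>
    ⟨fun e => hb.ne_t (h.bar_injOn hb.1 E.t_mem_S (by rw [← e, hcent g hg])),
     fun e => hb.mul_t.ne_t (h.bar_injOn hb.mul_t.1 E.t_mem_S (by rw [← e, hcent g hg]))⟩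
  refine h.ne (le_antisymm (fun x hx => ?_) h.le)
  obtain ⟨s, hs, e⟩ := hcen x hx
  have h1 := (bar_eq_bar_iff hx (h.S_le hs)).1 e
  rw [show x = x * s⁻¹ * s by group]
  exact E.H.mul_mem (E.mem_H.2 (hW _ h1)) (E.S_le_H hs)

/-- The four-group formula in `O(M)`. -/
theorem card_core_mul (hconj : ∀ τ : Tp M, orderOf τ = 2 → ∃ g, g * bar M E.t * g⁻¹ = τ) {b : G}
    (hb : E.Refl b) : Nat.card (coreIn M) *
      Nat.card (coreIn M ⊓ centralizer ({E.t} : Set G) ⊓ centralizer ({b} : Set G) : Subgroup G) ^ 2 =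
        Nat.card (coreIn M ⊓ centralizer ({E.t} : Set G) : Subgroup G) ^ 3 := by
  have key : ∀ c, E.Refl c → Nat.card (coreIn M ⊓ centralizer ({c} : Set G) : Subgroup G) =
      Nat.card (coreIn M ⊓ centralizer ({E.t} : Set G) : Subgroup G) := fun c hc => by
    obtain ⟨τ, hτ⟩ := hconj _ (bar_involution (h.refl_mem hc) hc.orderOf_eq)
    obtain ⟨m, hm, rfl⟩ := h.exists_conj_t hc.orderOf_eq (h.refl_mem hc) hτ
    exact h.card_core_centralizer_conj hm E.t
  rw [card_four (odd_card_coreIn M) E.t_sq hb.sq hb.comm.symm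
    (fun x hx => conj_mem_of_inv E.t_sq h.t_mem hx) (fun x hx => conj_mem_of_inv hb.sq (h.refl_mem hb) hx),
    key b hb, ← hb.comm, key _ hb.mul_t]
  ring

/-- The index bound coming from `x ≥ w₀`. -/
theorem index_le (hconj : ∀ τ : Tp M, orderOf τ = 2 → ∃ g, g * bar M E.t * g⁻¹ = τ) {c n : ℕ}
    (hc : Nat.card (centralizer ({bar M E.t} : Set (Tp M))) = 2 ^ (E.d.k + 2) * c)
    (hn : Nat.card (Tp M) = n) :
    (M.index : ℚ) * n ≤ 15 / 8 * (2 ^ (3 * E.d.k + 5) * (c : ℚ) ^ 3) := by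
  obtain ⟨F, -, hF, hG⟩ := exists_order E
  set wt := Nat.card (coreIn M ⊓ centralizer ({E.t} : Set G) : Subgroup G)
  have hu : Nat.card E.U = wt * c := by
    have h1 := h.card_U_mul
    rw [hc, ← mul_assoc, mul_right_comm] at h1
    exact Nat.eq_of_mul_eq_mul_right (by positivity) h1
  have key : ∀ b, E.Refl b → ((Nat.card E.U : ℚ) / (Nat.card (E.X b) : ℚ)) ^ 2 * Nat.card E.U ≤
      (c : ℚ) ^ 3 * Nat.card (coreIn M) := fun b hb => by
    have h1 := congrArg (Nat.cast : ℕ → ℚ) (h.card_core_mul hconj hb)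
    have h2 : (Nat.card (coreIn M ⊓ centralizer ({E.t} : Set G) ⊓ centralizer ({b} : Set G) :
        Subgroup G) : ℚ) ≤ Nat.card (E.X b) := by exact_mod_cast h.fixed_le_X hb
    push_cast at h1
    rw [hu, Nat.cast_mul, div_pow, div_mul_eq_mul_div, div_le_iff₀ (pow_pos (by exact_mod_cast Nat.card_pos) 2),
      show ((wt : ℚ) * c) ^ 2 * (wt * c) = (c : ℚ) ^ 3 * (wt : ℚ) ^ 3 by ring, ← h1, ← mul_assoc]
    gcongr
  have hi := congrArg (Nat.cast : ℕ → ℚ) h.index_mul_card
  push_cast at hi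
  rw [hn, hG] at hi
  have hka := key _ E.refl_a
  have hkb := key _ (refl_ra (E := E))
  rw [div_eq_mul_one_div] at hka hkb
  set xa := (1 : ℚ) / (Nat.card (E.X E.d.a) : ℚ)
  set xb := (1 : ℚ) / (Nat.card (E.X (E.d.r * E.d.a)) : ℚ)
  have hW : (0 : ℚ) < Nat.card (coreIn M) := by exact_mod_cast Nat.card_pos
  have h4 : (Nat.card E.U : ℚ) ^ 3 * (xa + xb) ^ 2 ≤ 4 * ((c : ℚ) ^ 3 * Nat.card (coreIn M)) := by
    nlinarith [sq_nonneg (xa - xb), (Nat.card E.U).cast_nonneg (α := ℚ),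
      pow_nonneg ((Nat.card E.U).cast_nonneg (α := ℚ)) 3]
  refine le_of_mul_le_mul_right ?_ hW
  calc (M.index : ℚ) * n * Nat.card (coreIn M)
      = (M.index : ℚ) * ((Nat.card (coreIn M) : ℚ) * n) := by ring
    _ = F * 2 ^ (3 * E.d.k + 3) * ((Nat.card E.U : ℚ) ^ 3 * (xa + xb) ^ 2) := by rw [hi]; ring
    _ ≤ 15 / 8 * 2 ^ (3 * E.d.k + 3) * (4 * ((c : ℚ) ^ 3 * Nat.card (coreIn M))) := by
        gcongr
    _ = _ := by rw [show 3 * E.d.k + 5 = 3 * E.d.k + 3 + 2 by ring, pow_add]; ring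

theorem false_of_alt_four (hU : E.U ≠ ⊥) (e : Tp M ≃* alternatingGroup (Fin 4)) : False := by
  have hcard : Nat.card (Tp M) = 12 := by
    rw [Nat.card_congr e.toEquiv, nat_card_alternatingGroup, Nat.card_fin]; rfl
  have hin : ∀ τ : Tp M, orderOf τ = 2 → ((e τ : Equiv.Perm (Fin 4)) * e τ = 1 ∧
      (e τ : Equiv.Perm (Fin 4)) ≠ 1 ∧ Equiv.Perm.sign (e τ : Equiv.Perm (Fin 4)) = 1) := fun τ hτ => by
    rw [← orderOf_injective e.toMonoidHom e.injective, ← Subgroup.orderOf_coe,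
      CfsgLib.Involutions.orderOf_eq_two_iff_mul] at hτ
    exact ⟨hτ.2, hτ.1, Equiv.Perm.mem_alternatingGroup.1 (e τ).2⟩
  have hT := bar_involution h.t_mem E.orderOf_t
  have hconj : ∀ τ : Tp M, orderOf τ = 2 → ∃ g, g * bar M E.t * g⁻¹ = τ := fun τ hτ => by
    obtain ⟨c, hc, hce⟩ := alt_four_involutions _ _ (hin _ hT) (hin τ hτ)
    refine ⟨e.symm ⟨c, Equiv.Perm.mem_alternatingGroup.2 hc⟩, e.injective (Subtype.ext ?_)⟩
    rw [map_mul, map_mul, map_inv, MulEquiv.apply_symm_apply]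
    exact hce
  have hc4 : Nat.card (centralizer ({bar M E.t} : Set (Tp M))) = 4 := by
    refine (card_centralizer_equiv e _).trans (Eq.trans ?_ (alt_four_centralizer _ (hin _ hT)))
    rw [← Nat.card_eq_finsetCard]
    exact Nat.card_congr
      ⟨fun x => ⟨x.1, Finset.mem_filter.2 ⟨Finset.mem_univ _,
        congrArg Subtype.val (mem_centralizer_singleton_iff.1 x.2),
        Equiv.Perm.mem_alternatingGroup.1 x.1.2⟩⟩,
      fun x => ⟨⟨x.1, Equiv.Perm.mem_alternatingGroup.2 (Finset.mem_filter.1 x.2).2.2⟩,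
        mem_centralizer_singleton_iff.2 (Subtype.ext (Finset.mem_filter.1 x.2).2.1)⟩,
      fun _ => rfl, fun _ => rfl⟩
  have hk : E.d.k = 0 := by
    have h1 : 2 ^ (E.d.k + 2) ∣ 12 := by
      rw [← hcard, ← h.card_syl]; exact card_subgroup_dvd_card _
    by_contra hk
    have h2 := (pow_dvd_pow 2 (show 3 ≤ E.d.k + 2 by omega)).trans h1
    norm_num at h2
  have hb := h.index_le hconj (c := 1) (n := 12) (by rw [hc4, hk]; rfl) hcard
  rw [hk] at hb
  have hi : M.index ≤ 5 := by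
    by_contra hlt
    have : (6 : ℚ) ≤ M.index := by exact_mod_cast (show 6 ≤ M.index by omega)
    push_cast at hb
    norm_num at hb
    linarith
  have hW : Nat.card (coreIn M) = 1 := by
    have h1 := h.index_mul_card
    rw [hcard] at h1
    have h2 := card_dvd_factorial (E := E) h.ne_top
    rw [← h1] at h2
    obtain ⟨w, hw⟩ := odd_card_coreIn M
    rw [hw] at h2 ⊢
    have h3 := Nat.le_of_dvd (Nat.factorial_pos _) h2
    have h0 : M.index ≠ 0 := index_ne_zero_of_finite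
    interval_cases hM' : M.index <;> (try norm_num [Nat.factorial] at h2) <;>
      (try norm_num [Nat.factorial] at h3) <;> (try norm_num)
    all_goals first
      | omega
      | (interval_cases w <;> simp_all)
  apply hU
  have h1 := h.card_U_mul
  rw [hc4, hk] at h1
  have h2 : Nat.card (coreIn M ⊓ centralizer ({E.t} : Set G) : Subgroup G) = 1 :=
    Nat.dvd_one.1 (hW ▸ card_dvd_of_le inf_le_left)
  rw [h2] at h1
  norm_num at h1
  exact h1

theorem false_of_alt_seven (e : Tp M ≃* Seven.A7) : False := by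
  have hcard : Nat.card (Tp M) = 2520 := by
    rw [Nat.card_congr e.toEquiv, CfsgLib.DimThreeMax.card_alt_seven]
  have hT := bar_involution h.t_mem E.orderOf_t
  have hoe : ∀ τ : Tp M, orderOf τ = 2 → orderOf (e τ) = 2 := fun τ hτ => by
    rw [MulEquiv.orderOf_eq, hτ]
  have hconj : ∀ τ : Tp M, orderOf τ = 2 → ∃ g, g * bar M E.t * g⁻¹ = τ := fun τ hτ => by
    obtain ⟨c, hc⟩ := exists_conj_alt_seven (hoe _ hT) (hoe τ hτ)
    exact ⟨e.symm c, e.injective (by rw [map_mul, map_mul, map_inv, MulEquiv.apply_symm_apply, hc])⟩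
  have hk : E.d.k = 1 := by
    have h1 : 2 ^ (E.d.k + 2) ∣ 2520 := by
      rw [← hcard, ← h.card_syl]; exact card_subgroup_dvd_card _
    have h2 := h.pow_le_of_dvd (j := 3) (by rw [hcard]; norm_num)
    by_contra hk
    have h3 := (pow_dvd_pow 2 (show 4 ≤ E.d.k + 2 by omega)).trans h1
    norm_num at h3
  have hb := h.index_le hconj (c := 3) (n := 2520)
    (by rw [card_centralizer_equiv e, Seven.card_centralizer_involution (hoe _ hT), hk]; rfl) hcard
  rw [hk] at hb
  have hi : M.index ≤ 5 := by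
    by_contra hlt
    have : (6 : ℚ) ≤ M.index := by exact_mod_cast (show 6 ≤ M.index by omega)
    push_cast at hb
    norm_num at hb
    linarith
  have h1 := h.index_mul_card
  rw [hcard] at h1
  have h2 := Nat.le_of_dvd (Nat.factorial_pos _) (card_dvd_factorial (E := E) h.ne_top)
  have h5 : M.index.factorial ≤ 120 := Nat.factorial_le hi
  have h6 : 2520 ≤ Nat.card G := by
    rw [← h1]
    exact le_trans (Nat.le_mul_of_pos_left 2520 Nat.card_pos)
      (Nat.le_mul_of_pos_left _ (Nat.pos_of_ne_zero index_ne_zero_of_finite))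
  omega

/-- `L` of odd index. -/
theorem false_of_psl_odd {L : Subgroup (Tp M)} {F : Type*} [Field F] [Fintype F]
    (hL : Field.Psl L F) (hS : (h.syl : Subgroup (Tp M)) ≤ L) : False := by
  haveI : Fact (Nat.Prime 2) := ⟨Nat.prime_two⟩
  haveI := hL.normal
  have hT := bar_involution h.t_mem E.orderOf_t
  have hmem : ∀ τ : Tp M, orderOf τ = 2 → τ ∈ L := fun τ hτ => by
    obtain ⟨g, hg⟩ := CfsgLib.Involutions.exists_conj_le_sylow
      (CfsgLib.Involutions.isPGroup_two_zpowers hτ) h.syl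
    have h1 := hL.normal.conj_mem _ (hS (hg τ (mem_zpowers τ))) g⁻¹
    simpa [mul_assoc] using h1
  have hconj : ∀ τ : Tp M, orderOf τ = 2 → ∃ g, g * bar M E.t * g⁻¹ = τ := fun τ hτ => by
    obtain ⟨x, -, hx⟩ := hL.exists_conj_inner hT hτ (hmem _ hT) (hmem τ hτ)
    exact ⟨x, hx⟩
  obtain ⟨j, hj⟩ := hL.exists_two_pow hT (hmem _ hT)
  have hcen := hL.card_centralizer hT (hmem _ hT)
  rw [hj] at hcen
  have hcenN : Nat.card (L ⊓ centralizer ({bar M E.t} : Set (Tp M)) : Subgroup (Tp M)) =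
      2 ^ j * Nat.card (Field.torus L (bar M E.t)) := by exact_mod_cast hcen
  have hjk : j = E.d.k + 2 := by
    refine le_antisymm (h.pow_le_of_dvd ((Dvd.intro _ hcenN.symm).trans
      (card_subgroup_dvd_card _))) ?_
    have h1 : 2 ^ (E.d.k + 2) ∣
        Nat.card (L ⊓ centralizer ({bar M E.t} : Set (Tp M)) : Subgroup (Tp M)) := by
      rw [← h.card_syl]
      refine card_dvd_of_le (le_inf hS fun τ hτ => ?_)
      obtain ⟨s, hs, rfl⟩ := h.mem_syl.1 hτ
      exact mem_centralizer_singleton_iff.2 (commute_bar (h.S_le hs) h.t_mem (E.d.z_central hs))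
    rw [hcenN] at h1
    exact (Nat.pow_dvd_pow_iff_le_right (by norm_num : 1 < 2)).1
      (((Nat.coprime_two_left.2 (hL.odd_card_torus hT)).pow_left _).dvd_of_dvd_mul_right h1)
  subst hjk
  obtain ⟨F0, -, hF, hG⟩ := exists_order E
  set wt := Nat.card (coreIn M ⊓ centralizer ({E.t} : Set G) : Subgroup G)
  set τ := Nat.card (Field.torus L (bar M E.t))
  have key : ∀ b, E.Refl b → ((Nat.card E.U : ℚ) / Nat.card (E.X b)) ^ 2 * (wt : ℚ) =
      (τ : ℚ) ^ 2 * Nat.card (coreIn M) := fun b hb => by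
    have h1 := congrArg (Nat.cast : ℕ → ℚ) (h.card_core_mul hconj hb)
    have h2 := congrArg (Nat.cast : ℕ → ℚ) (h.card_U_mul_fixed hb)
    rw [h.card_inverted_img hL hb] at h2
    push_cast at h1 h2
    have hX : (Nat.card (E.X b) : ℚ) ≠ 0 := by exact_mod_cast Nat.card_pos.ne'
    have hw : (Nat.card (coreIn M ⊓ centralizer ({E.t} : Set G) ⊓ centralizer ({b} : Set G) :
        Subgroup G) : ℚ) ≠ 0 := by exact_mod_cast Nat.card_pos.ne'
    have hwt : (wt : ℚ) ≠ 0 := by exact_mod_cast Nat.card_pos.ne'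
    rw [div_pow, div_mul_eq_mul_div, div_eq_iff (pow_ne_zero 2 hX)]
    refine mul_right_cancel₀ (pow_ne_zero 2 hw) ?_
    set w0 : ℚ := ((Nat.card (coreIn M ⊓ centralizer ({E.t} : Set G) ⊓ centralizer ({b} : Set G) :
        Subgroup G) : ℕ) : ℚ)
    calc (Nat.card E.U : ℚ) ^ 2 * wt * w0 ^ 2 = ((Nat.card E.U : ℚ) * w0) ^ 2 * wt := by ring
      _ = ((Nat.card (E.X b) : ℚ) * wt * τ) ^ 2 * wt := by rw [h2]
      _ = (Nat.card (E.X b) : ℚ) ^ 2 * (τ : ℚ) ^ 2 * (wt : ℚ) ^ 3 := by ring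
      _ = _ := by rw [← h1]; ring
  have hX : (Nat.card (E.X E.d.a) : ℚ) = Nat.card (E.X (E.d.r * E.d.a)) := by
    have h1 := key _ E.refl_a
    rw [← key _ (refl_ra (E := E))] at h1
    have hwt : (wt : ℚ) ≠ 0 := by exact_mod_cast Nat.card_pos.ne'
    have hU' : (Nat.card E.U : ℚ) ≠ 0 := by exact_mod_cast Nat.card_pos.ne'
    have h2 := mul_right_cancel₀ hwt h1
    rw [pow_left_inj₀ (by positivity) (by positivity) two_ne_zero] at h2
    rw [div_eq_div_iff (by exact_mod_cast Nat.card_pos.ne') (by exact_mod_cast Nat.card_pos.ne')] at h2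
    exact (mul_left_cancel₀ hU' h2).symm
  rw [← hX] at hG
  have hka := key _ E.refl_a
  have h2T := hL.two_mul_class_inner hT (hmem _ hT)
  rw [← h.card_img_U] at h2T
  have hUimg : (Nat.card E.U : ℚ) = (wt : ℚ) * Nat.card (img M E.U) := by
    have := card_eq_mul_img (A := E.U) h.U_le
    rw [h.U_inf_core] at this
    exact_mod_cast this
  have h2Tq := congrArg (Int.cast : ℤ → ℚ) h2T
  have hjq := congrArg (Int.cast : ℤ → ℚ) hj
  push_cast at h2Tq hjq
  have hi := congrArg (Nat.cast : ℕ → ℚ) h.index_mul_card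
  push_cast at hi
  rw [hG] at hi
  set q := (Fintype.card F : ℚ)
  have hi0 : (0 : ℚ) < Nat.card (coreIn M) := by exact_mod_cast Nat.card_pos
  have hu0 : (0 : ℚ) < Nat.card E.U := by exact_mod_cast Nat.card_pos
  have hwt0 : (0 : ℚ) < wt := by exact_mod_cast Nat.card_pos
  set e : ℚ := ((FieldModel.eps (Fintype.card F) : ℤ) : ℚ) with he
  have hkey : (M.index : ℚ) * (q * (q + e)) = F0 * (q - e) ^ 2 := by
    have e0 : (Nat.card E.U : ℚ) * ((M.index : ℚ) * Nat.card (coreIn M) *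
        2 ^ (E.d.k + 2) * (q * (q + e))) = (Nat.card E.U : ℚ) *
          (F0 * Nat.card (coreIn M) * 2 ^ (E.d.k + 2) * (q - e) ^ 2) := by
      calc (Nat.card E.U : ℚ) * ((M.index : ℚ) * Nat.card (coreIn M) * 2 ^ (E.d.k + 2) * (q * (q + e)))
          = (M.index : ℚ) * Nat.card (coreIn M) * wt *
              (Nat.card (img M E.U) * 2 ^ (E.d.k + 2) * (q * (q + e))) := by rw [hUimg]; ring
        _ = 2 * wt * ((M.index : ℚ) * (Nat.card (coreIn M) * Nat.card (Tp M))) := by rw [← h2Tq]; ring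
        _ = 2 * wt * (F0 * 2 ^ (3 * E.d.k + 3) * (Nat.card E.U : ℚ) ^ 3 *
              (1 / (Nat.card (E.X E.d.a) : ℚ) + 1 / (Nat.card (E.X E.d.a) : ℚ)) ^ 2) := by rw [hi]
        _ = 8 * F0 * 2 ^ (3 * E.d.k + 3) * Nat.card E.U *
              (((Nat.card E.U : ℚ) / Nat.card (E.X E.d.a)) ^ 2 * wt) := by ring
        _ = 8 * F0 * 2 ^ (3 * E.d.k + 3) * Nat.card E.U * ((τ : ℚ) ^ 2 * Nat.card (coreIn M)) := by
              rw [hka]
        _ = _ := by
              rw [hjq]
              simp only [pow_add, pow_mul, mul_pow, show (3 * E.d.k) = E.d.k + E.d.k + E.d.k by ring]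
              ring
    have e1 := mul_left_cancel₀ hu0.ne' e0
    have h2k : (0 : ℚ) < 2 ^ (E.d.k + 2) := by positivity
    refine mul_left_cancel₀ (mul_pos hi0 h2k).ne' ?_
    linear_combination e1
  have h3q : (5 : ℚ) ≤ q := by
    have := hL.three
    have := Nat.odd_iff.1 hL.odd
    have h5 : 5 ≤ Fintype.card F := by omega
    show (5 : ℚ) ≤ (Fintype.card F : ℚ)
    exact_mod_cast h5
  have hlt : (M.index : ℚ) < 3 := by
    rcases FieldModel.eps_cases (Fintype.card F) with e' | e'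
    · rw [he, e'] at hkey
      push_cast at hkey
      nlinarith
    · rw [he, e'] at hkey
      push_cast at hkey
      have h7 : (7 : ℚ) ≤ q := by
        have := hL.three
        have := Nat.odd_iff.1 hL.odd
        have h1' : Fintype.card F % 4 ≠ 1 := fun h' => by simp [FieldModel.eps, h'] at e'
        have h7' : 7 ≤ Fintype.card F := by omega
        show (7 : ℚ) ≤ (Fintype.card F : ℚ)
        exact_mod_cast h7'
      nlinarith [mul_le_mul_of_nonneg_right hF (sq_nonneg (q + 1)),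
        mul_nonneg (sub_nonneg.2 h7) (sub_nonneg.2 h7)]
  have hi2 : M.index ≤ 2 := by
    by_contra hc
    have : (3 : ℚ) ≤ M.index := by exact_mod_cast (show 3 ≤ M.index by omega)
    linarith
  have h2 := card_dvd_factorial (E := E) h.ne_top
  have h3 := Nat.le_of_dvd (Nat.factorial_pos _) ((E.four_dvd_card).trans h2)
  have := Nat.factorial_le hi2
  norm_num at this
  omega

end Over

end CfsgLib.GW.CaseOne
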