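import Cfsg.Agent.Lib.GW.CaseOneTwo

/-!
Gorenstein–Walter, a maximal subgroup whose quotient by the odd core has a normal `PSL₂(q)` missing
some reflection `b`: the two tori, the elements inverted by `t` over the torus of `b`, and their
images under the rotation of `⟨t, b⟩`.
-/

set_option autoImplicit false
set_option linter.unusedSectionVars false
set_option linter.unusedVariables false
set_option linter.style.haveILetI false

namespace CfsgLib.GW.CaseOne

open Subgroup CfsgLib.RankOneInvol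

universe u

variable {G : Type u} [Group G]

/-- The preimage of a subgroup of the quotient. -/
def pre (M : Subgroup G) (L : Subgroup (Tp M)) : Subgroup G :=
  (L.comap (QuotientGroup.mk' _)).map M.subtype

theorem mem_pre {M : Subgroup G} {L : Subgroup (Tp M)} {x : G} :
    x ∈ pre M L ↔ x ∈ M ∧ bar M x ∈ L := by
  rw [pre, mem_map]
  constructor
  · rintro ⟨y, hy, rfl⟩
    refine ⟨y.2, ?_⟩
    rw [M.subtype_apply, bar_of_mem y.2]
    exact hy
  · rintro ⟨hx, hL⟩
    refine ⟨⟨x, hx⟩, ?_, rfl⟩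
    rw [mem_comap]
    rwa [bar_of_mem hx] at hL

/-- The odd elements commuting with `c` and inverted by the central involution. -/
def Tset (E : Setup G) (M : Subgroup G) (c : G) : Set G :=
  {z | z ∈ M ∧ Odd (orderOf z) ∧ z * c = c * z ∧ E.t * z * E.t = z⁻¹}

theorem odd_of_bar_odd [Finite G] {M : Subgroup G} {x : G} (hx : x ∈ M)
    (h : Odd (orderOf (bar M x))) : Odd (orderOf x) := by
  set o := orderOf (bar M x) with ho
  have h1 : x ^ o ∈ coreIn M :=
    (bar_eq_one_iff (pow_mem hx o)).1 (by rw [bar_pow hx, ho, pow_orderOf_eq_one])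
  exact (h.mul (odd_orderOf_of_mem (odd_card_coreIn M) h1)).of_dvd_nat
    (orderOf_dvd_of_pow_eq_one (by rw [pow_mul, pow_orderOf_eq_one]))

namespace Two

variable [Finite G] {E : Setup G} {M : Subgroup G} {L : Subgroup (Tp M)} {b b₁ : G}
variable {F : Type} [Field F] [Fintype F]
variable (h : Two E M L b b₁)
include h

/-! ### The inner part of the Sylow subgroup -/

theorem two_pow_S {s : G} (hs : s ∈ (E.S : Subgroup G)) : s ^ 2 ^ (E.d.k + 2) = 1 := by
  have hs1 : (⟨s, hs⟩ : (E.S : Subgroup G)) ^ Nat.card (E.S : Subgroup G) = 1 := pow_card_eq_one'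
  rw [E.card_S] at hs1
  exact congrArg Subtype.val hs1

variable (hL : Field.Psl L F)
include hL

theorem mul_b_inner {s : G} (hs : s ∈ (E.S : Subgroup G)) (hsL : bar M s ∉ L) :
    bar M (s * b) ∈ L := by
  rw [bar_mul (h.S_le hs) (h.refl_mem h.refl)]
  refine hL.mul_mem_of_not_mem (hL.fp_of_two_power (n := E.d.k + 2) ?_)
    (hL.fp_involution (h.toOver.sq_bar h.refl.sq (h.refl_mem h.refl))) hsL h.outer
  rw [← bar_pow (h.S_le hs), h.two_pow_S hs, bar_one]

theorem card_inner_S :
    Nat.card ((E.S : Subgroup G) ⊓ pre M L : Subgroup G) = 2 ^ (E.d.k + 1) := by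
  set A := ((E.S : Subgroup G) ⊓ pre M L : Subgroup G)
  have h1 : (A.subgroupOf (E.S : Subgroup G)).index = 2 := by
    rw [index_eq_two_iff]
    refine ⟨⟨b, h.refl.1⟩, fun x => ?_⟩
    simp only [mem_subgroupOf, Subgroup.coe_mul, A, mem_inf, mem_pre]
    by_cases hx : bar M x ∈ L
    · refine Or.inr ⟨⟨x.2, h.S_le x.2, hx⟩, fun e => h.outer ?_⟩
      have := e.2.2
      rw [bar_mul (h.S_le x.2) (h.refl_mem h.refl)] at this
      exact (mul_mem_cancel_left hx).1 this
    · exact Or.inl ⟨⟨mul_mem x.2 h.refl.1, h.S_le (mul_mem x.2 h.refl.1), h.mul_b_inner hL x.2 hx⟩,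
        fun e => hx e.2.2⟩
  have h2 := card_mul_index (A.subgroupOf (E.S : Subgroup G))
  rw [Nat.card_congr (subgroupOfEquivOfLe (inf_le_left : A ≤ E.S)).toEquiv, h1, E.card_S,
    pow_succ _ (E.d.k + 1)] at h2
  exact Nat.eq_of_mul_eq_mul_right two_pos h2

/-- `L` does not contain a Sylow 2-subgroup. -/
theorem not_two_pow_dvd : ¬ 2 ^ (E.d.k + 2) ∣ Nat.card L := by
  intro hd
  haveI : Fact (Nat.Prime 2) := ⟨Nat.prime_two⟩
  obtain ⟨K, hK⟩ := Sylow.exists_subgroup_card_pow_prime 2 hd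
  have hKc : Nat.card (K.map L.subtype) = 2 ^ (E.d.k + 2) := by
    rw [card_map_of_injective L.subtype_injective, hK]
  obtain ⟨P, hP⟩ := (IsPGroup.of_card hKc).exists_le_sylow
  have hPc : Nat.card (P : Subgroup (Tp M)) = 2 ^ (E.d.k + 2) := by
    rw [Nat.card_congr (Sylow.equiv P h.toOver.syl).toEquiv, h.toOver.card_syl]
  have hPe := eq_of_le_of_card_ge hP (by rw [hKc, hPc])
  obtain ⟨g, hg⟩ := MulAction.exists_smul_eq (Tp M) P h.toOver.syl
  refine h.outer ?_
  have hb : bar M b ∈ (h.toOver.syl : Subgroup (Tp M)) := h.toOver.mem_syl.2 ⟨b, h.refl.1, rfl⟩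
  rw [← hg, Sylow.coe_subgroup_smul] at hb
  obtain ⟨p, hp, e⟩ := hb
  rw [← e]
  exact h.normal.conj_mem p (map_subtype_le K (hPe ▸ hp)) g

/-- `q - ε` in terms of the Sylow subgroup and the inner torus. -/
theorem two_pow_torus : (Fintype.card F : ℤ) - FieldModel.eps (Fintype.card F) =
    2 ^ (E.d.k + 1) * (Nat.card (Field.torus L (bar M E.t)) : ℤ) := by
  have hT := bar_involution h.t_mem E.orderOf_t
  obtain ⟨j, hj⟩ := hL.exists_two_pow hT h.t_inner
  have hcen := hL.card_centralizer hT h.t_inner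
  rw [hj] at hcen
  have hN : Nat.card (L ⊓ centralizer ({bar M E.t} : Set (Tp M)) : Subgroup (Tp M)) =
      2 ^ j * Nat.card (Field.torus L (bar M E.t)) := by exact_mod_cast hcen
  suffices j = E.d.k + 1 by rw [hj, this]
  refine le_antisymm (Nat.lt_succ_iff.1 (not_le.1 fun hc => h.not_two_pow_dvd hL ?_)) ?_
  · exact (pow_dvd_pow 2 hc).trans ((Dvd.intro _ hN.symm).trans (card_dvd_of_le inf_le_left))
  · have hle : img M ((E.S : Subgroup G) ⊓ pre M L) ≤
        L ⊓ centralizer ({bar M E.t} : Set (Tp M)) := fun τ hτ => by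
      obtain ⟨s, hs, hsM, rfl⟩ := mem_img.1 hτ
      exact ⟨(mem_pre.1 hs.2).2, mem_centralizer_singleton_iff.2
        (commute_bar hsM h.t_mem (E.d.z_central hs.1))⟩
    have hc : Nat.card (img M ((E.S : Subgroup G) ⊓ pre M L)) = 2 ^ (E.d.k + 1) := by
      have h1 := card_eq_mul_img (M := M) (A := (E.S : Subgroup G) ⊓ pre M L)
        (inf_le_left.trans h.toOver.S_le)
      have h2 : Nat.card ((E.S : Subgroup G) ⊓ pre M L ⊓ coreIn M : Subgroup G) = 1 := by
        rw [card_eq_one, eq_bot_iff]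
        intro x hx
        exact h.toOver.bar_injOn hx.1.1 (one_mem _) (by rw [bar_one, bar_of_mem_coreIn hx.2])
      rw [h2, one_mul, h.card_inner_S hL] at h1
      exact h1.symm
    have h3 := card_dvd_of_le hle
    rw [hc, hN] at h3
    exact (Nat.pow_dvd_pow_iff_le_right (by norm_num : 1 < 2)).1
      (((Nat.coprime_two_left.2 (hL.odd_card_torus hT)).pow_left _).dvd_of_dvd_mul_right h3)

theorem outer_facts :
    2 * (Nat.card (Field.torus L (bar M b)) : ℤ) =
        (Fintype.card F : ℤ) + FieldModel.eps (Fintype.card F) ∧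
      1 < Nat.card (Field.torus L (bar M b)) ∧
      (Nat.card (Field.torus L (bar M b))).Coprime (Nat.card (Field.torus L (bar M E.t))) := by
  have hb := h.refl_mem h.refl
  obtain ⟨-, h1, h2, h3, -⟩ := hL.outer_torus (bar_involution h.t_mem E.orderOf_t)
    (bar_involution hb h.refl.orderOf_eq) h.t_inner h.outer
    (commute_bar h.t_mem hb h.refl.comm.symm)
  exact ⟨h1, h2, h3⟩

/-! ### Fixed cosets -/

theorem fixed_eq {v : G} (hv : orderOf v = 2) :
    ((Nat.card {p : G ⧸ M // v • p = p} : ℤ) - 1) *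
        ((Fintype.card F : ℤ) + FieldModel.eps (Fintype.card F)) =
      (Nat.card (inverted (coreIn M) b) : ℤ) *
        ((Fintype.card F : ℤ) - FieldModel.eps (Fintype.card F)) := by
  have hb := h.refl_mem h.refl
  have h1 := h.card_fixed hv
  rw [h.card_C_b, h.card_H_eq, card_fixed_mul_inverted (odd_card_coreIn M) h.refl.sq
    fun x hx => conj_mem_of_inv h.refl.sq hb hx] at h1
  have h2 := hL.two_mul_class_inner (bar_involution h.t_mem E.orderOf_t) h.t_inner
  have h3 := hL.two_mul_class_outer (bar_involution hb h.refl.orderOf_eq) h.outer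
  have hy : (0 : ℤ) < Nat.card (coreIn M ⊓ centralizer ({b} : Set G) : Subgroup G) := by
    exact_mod_cast Nat.card_pos
  have hCb : (0 : ℤ) < Nat.card (centralizer ({bar M b} : Set (Tp M))) := by
    exact_mod_cast Nat.card_pos
  have h1' := congrArg (Nat.cast : ℕ → ℤ) h1
  push_cast at h1'
  rw [h2] at h3
  have hq : (Fintype.card F : ℤ) ≠ 0 := by exact_mod_cast Fintype.card_ne_zero
  set q := (Fintype.card F : ℤ)
  set e := FieldModel.eps (Fintype.card F)
  set y : ℤ := ((Nat.card (coreIn M ⊓ centralizer ({b} : Set G) : Subgroup G) : ℕ) : ℤ)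
  set Cb : ℤ := ((Nat.card (centralizer ({bar M b} : Set (Tp M))) : ℕ) : ℤ)
  set Ct : ℤ := ((Nat.card (centralizer ({bar M E.t} : Set (Tp M))) : ℕ) : ℤ)
  set m : ℤ := ((Nat.card (inverted (coreIn M) b) : ℕ) : ℤ)
  have h4 : Ct * (q + e) = Cb * (q - e) := by
    refine mul_left_cancel₀ hq ?_
    linear_combination h3
  refine mul_left_cancel₀ (mul_pos hy hCb).ne' ?_
  linear_combination (q + e) * h1' + y * m * h4

/-- The outer torus divides the number of elements of `O(M)` inverted by `b`. -/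
theorem outer_dvd :
    Nat.card (Field.torus L (bar M b)) ∣ Nat.card (inverted (coreIn M) b) := by
  obtain ⟨h1, -, h3⟩ := h.outer_facts hL
  have h4 := h.fixed_eq hL E.orderOf_t
  rw [← h1, h.two_pow_torus hL, pow_succ] at h4
  have h5 : Nat.card (Field.torus L (bar M b)) ∣
      Nat.card (inverted (coreIn M) b) * (2 ^ E.d.k * Nat.card (Field.torus L (bar M E.t))) := by
    rw [← Int.natCast_dvd_natCast]
    refine ⟨(Nat.card {p : G ⧸ M // E.t • p = p} : ℤ) - 1, ?_⟩
    push_cast
    linarith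
  refine Nat.Coprime.dvd_of_dvd_mul_right (Nat.Coprime.mul_right ?_ h3) h5
  exact (Nat.coprime_two_right.2 (hL.odd_card_torus
    (bar_involution (h.refl_mem h.refl) h.refl.orderOf_eq))).pow_right _

/-! ### Elements over an outer torus -/

theorem Tset_bar {c z : G} (hc : E.Refl c) (hz : z ∈ Tset E M c) :
    bar M z ∈ Field.torus L (bar M c) := by
  obtain ⟨hzM, ho, hzc, hzt⟩ := hz
  refine hL.mem_torus_of_inverted (bar_involution (h.refl_mem hc) hc.orderOf_eq)
    (h.toOver.sq_bar E.t_sq h.t_mem) ?_ (commute_bar hzM (h.refl_mem hc) hzc) ?_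
  · rw [← bar_inv hzM, ← hzt, bar_mul (mul_mem h.t_mem hzM) h.t_mem, bar_mul h.t_mem hzM]
  · refine ho.of_dvd_nat (orderOf_dvd_of_pow_eq_one ?_)
    rw [← bar_pow hzM, pow_orderOf_eq_one, bar_one]

theorem Tset_commute {c z : G} (hc : E.Refl c) (hz : z ∈ Tset E M c) :
    ∀ w ∈ coreIn M, w * z = z * w :=
  h.commute_of_inverted_inner hz.1
    (hL.torus_le (bar_involution (h.refl_mem hc) hc.orderOf_eq) (h.Tset_bar hL hc hz)) hz.2.2.2

theorem card_torus_outer_eq {c : G} (hc : E.Refl c) (hcL : bar M c ∉ L) :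
    Nat.card (Field.torus L (bar M c)) = Nat.card (Field.torus L (bar M b)) := by
  have h1 := hL.card_torus_outer (bar_involution (h.refl_mem hc) hc.orderOf_eq) hcL
  have h2 := (h.outer_facts hL).1
  omega

theorem card_Tset {c : G} (hc : E.Refl c) (hcL : bar M c ∉ L) :
    Nat.card (Tset E M c) = Nat.card (Field.torus L (bar M b)) := by
  rw [← h.card_torus_outer_eq hL hc hcL]
  have hcM := h.refl_mem hc
  have hT := bar_involution hcM hc.orderOf_eq
  refine Nat.card_eq_of_bijective (fun z : Tset E M c =>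
    (⟨bar M z, h.Tset_bar hL hc z.2⟩ : Field.torus L (bar M c))) ⟨fun z z' e => ?_, fun τ => ?_⟩
  · have e' : bar M (z : G) = bar M (z' : G) := congrArg Subtype.val e
    obtain ⟨hzM, ho, -, hzt⟩ := z.2
    obtain ⟨hzM', -, -, hzt'⟩ := z'.2
    set w := (z' : G) * (z : G)⁻¹ with hw
    have hwW : w ∈ coreIn M := (bar_eq_bar_iff hzM' hzM).1 e'.symm
    have hwt : E.t * w * E.t = w := (conj_eq_iff_commute E.t_sq).2 (h.core_le w hwW)
    have hwi : E.t * w * E.t = w⁻¹ := by
      have h1 : (z' : G) = w * z := by rw [hw, inv_mul_cancel_right]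
      have h2 : E.t * (z' : G) * E.t = (z : G)⁻¹ * (E.t * w * E.t) := by
        rw [h1, conj_involution_mul E.t_sq, hzt, hwt]
        exact (show Commute w (z : G) from h.Tset_commute hL hc z.2 w hwW).inv_right.eq
      rw [hzt', h1, mul_inv_rev] at h2
      exact (mul_left_cancel h2).symm
    refine Subtype.ext (mul_inv_eq_one.1 ?_).symm
    exact eq_one_of_fixed_inverted (odd_card_coreIn M) hwW hwt hwi
  · obtain ⟨hτL, hτc, hτo⟩ := (hL.mem_torus hT).1 τ.2
    have hτo' : Odd (orderOf ((τ : Tp M)⁻¹)) := by rwa [orderOf_inv]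
    obtain ⟨n, hn⟩ := exists_pow_sq_eq hτo'
    set σ := ((τ : Tp M)⁻¹) ^ n with hσ
    have hσT : σ ∈ Field.torus L (bar M c) := pow_mem (inv_mem τ.2) n
    obtain ⟨y, hy, ey⟩ := exists_bar σ
    obtain ⟨d, hd, ed⟩ := exists_lift_commute hc.sq hcM hy
      (by rw [ey]; exact ((hL.mem_torus hT).1 hσT).2.1)
    set x := d * y
    have hxM : x ∈ M := mul_mem (coreIn_le M hd) hy
    have hxb : bar M x = σ := by rw [bar_mul (coreIn_le M hd) hy, bar_of_mem_coreIn hd, one_mul, ey]
    set z := x⁻¹ * (E.t * x * E.t) with hz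
    have htxt : E.t * x * E.t ∈ M := mul_mem (mul_mem h.t_mem hxM) h.t_mem
    have hzM : z ∈ M := mul_mem (inv_mem hxM) htxt
    have hσi : bar M E.t * σ * bar M E.t = σ⁻¹ := by
      have e := hL.inverts_torus hT (bar_involution h.t_mem E.orderOf_t)
        (commute_bar h.t_mem hcM hc.comm.symm) (fun e => hcL (e ▸ h.t_inner)) hσT
      rwa [inv_eq_of_mul_eq_one_right (h.toOver.sq_bar E.t_sq h.t_mem)] at e
    have hzb : bar M z = τ := by
      rw [hz, bar_mul (inv_mem hxM) htxt, bar_inv hxM, bar_mul (mul_mem h.t_mem hxM) h.t_mem,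
        bar_mul h.t_mem hxM, hxb, hσi, ← mul_inv_rev, hn, inv_inv]
    have hzc : z * c = c * z := by
      have h1 : Commute x c := ed
      have h2 : Commute E.t c := hc.comm.symm
      exact (h1.inv_left.mul_left ((h2.mul_left h1).mul_left h2)).eq
    have hzt : E.t * z * E.t = z⁻¹ := by
      rw [hz, conj_involution_mul E.t_sq, conj_involution_inv E.t_sq,
        show E.t * (E.t * x * E.t) * E.t = (E.t * E.t) * x * (E.t * E.t) by group, E.t_sq]
      group
    exact ⟨⟨z, hzM, odd_of_bar_odd hzM (by rwa [hzb]), hzc, hzt⟩, Subtype.ext hzb⟩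

theorem Tset_pow {c z : G} (hc : E.Refl c) (hcL : bar M c ∉ L) (hz : z ∈ Tset E M c) :
    z ^ Nat.card (Field.torus L (bar M b)) = 1 := by
  set n := Nat.card (Field.torus L (bar M b))
  have h1 : z ^ n ∈ coreIn M := by
    refine (bar_eq_one_iff (pow_mem hz.1 n)).1 ?_
    rw [bar_pow hz.1]
    have e : (⟨bar M z, h.Tset_bar hL hc hz⟩ : Field.torus L (bar M c)) ^ n = 1 := by
      show _ ^ Nat.card (Field.torus L (bar M b)) = 1
      rw [← h.card_torus_outer_eq hL hc hcL]
      exact pow_card_eq_one'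
    exact congrArg Subtype.val e
  refine eq_one_of_fixed_inverted (odd_card_coreIn M) h1
    ((conj_eq_iff_commute E.t_sq).2 (h.core_le _ h1)) ?_
  have e := hz.2.2.2
  conv_lhs => arg 2; rw [← E.t_inv]
  rw [← inv_pow, ← e]
  conv_rhs => arg 1; arg 2; rw [← E.t_inv]
  rw [conj_pow, E.t_inv]

/-! ### The rotation -/

/-- A rotation carries an outer torus into the elements of `O(M)` inverted by a reflection. -/
theorem rot_Tset {c d g z : G} (hc : E.Refl c) (hcL : bar M c ∉ L) (hd : E.Refl d)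
    (hgc : g * c * g⁻¹ = E.t) (hgt : g * E.t * g⁻¹ = d) (hz : z ∈ Tset E M c) :
    g * z * g⁻¹ ∈ inverted (coreIn M) d := by
  obtain ⟨hzM, ho, hzc, hzt⟩ := hz
  set x := g * z * g⁻¹ with hx
  have hxt : x * E.t = E.t * x := by rw [← hgc]; exact Setup.commute_conj hzc
  have hxU : x ∈ E.U := E.mem_U.2 ⟨hxt, odd_orderOf_conj ho g⟩
  have hxM := h.toOver.U_le hxU
  have hxi : d * x * d = x⁻¹ := by
    rw [← hgt, hx, show g * E.t * g⁻¹ * (g * z * g⁻¹) * (g * E.t * g⁻¹) =
      g * (E.t * z * E.t) * g⁻¹ by group, hzt]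
    group
  refine ⟨?_, hxi⟩
  have hdM := h.refl_mem hd
  obtain ⟨hbarc, hbaro⟩ := h.toOver.mem_img_U.1 (mem_img.2 ⟨x, hxU, hxM, rfl⟩)
  have h1 : bar M x ∈ Field.torus L (bar M E.t) :=
    hL.mem_torus_of_inverted (bar_involution h.t_mem E.orderOf_t) (h.toOver.sq_bar hd.sq hdM)
      (by rw [← bar_inv hxM, ← hxi, bar_mul (mul_mem hdM hxM) hdM, bar_mul hdM hxM]) hbarc hbaro
  have e2 : (⟨_, h1⟩ : Field.torus L (bar M E.t)) ^ Nat.card (Field.torus L (bar M E.t)) = 1 :=
    pow_card_eq_one'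
  have e3 : x ^ Nat.card (Field.torus L (bar M b)) = 1 := by
    rw [hx, conj_pow, h.Tset_pow hL hc hcL ⟨hzM, ho, hzc, hzt⟩, mul_one, mul_inv_cancel]
  refine (bar_eq_one_iff hxM).1 (orderOf_eq_one_iff.1 ?_)
  exact Nat.eq_one_of_dvd_coprimes (h.outer_facts hL).2.2
    (orderOf_dvd_of_pow_eq_one (by rw [← bar_pow hxM, e3, bar_one]))
    (orderOf_dvd_of_pow_eq_one (congrArg Subtype.val e2))

omit hL in
theorem inverted_mul_t : inverted (coreIn M) (b * E.t) = inverted (coreIn M) b := by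
  ext x
  have key : ∀ y ∈ coreIn M, b * E.t * y * (b * E.t) = b * y * b := fun y hy => by
    calc b * E.t * y * (b * E.t) = b * E.t * y * (E.t * b) := by rw [h.refl.comm]
      _ = b * (E.t * y * E.t) * b := by group
      _ = b * y * b := by rw [(conj_eq_iff_commute E.t_sq).2 (h.core_le y hy)]
  constructor
  · rintro ⟨h1, h2⟩; exact ⟨h1, by rw [← key x h1]; exact h2⟩
  · rintro ⟨h1, h2⟩; exact ⟨h1, by rw [key x h1]; exact h2⟩

end Two

end CfsgLib.GW.CaseOne
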