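import Cfsg.Agent.Lib.GW.CaseOneOuterCent

/-!
Gorenstein–Walter, a maximal subgroup whose quotient by the odd core has a normal `PSL₂(q)` missing
some reflection `b`: the quotient of the centraliser of an element of the odd core inverted by `b`
is covered by the maximal subgroup.
-/

set_option autoImplicit false
set_option linter.unusedSectionVars false
set_option linter.unusedVariables false
set_option linter.style.haveILetI false
set_option maxHeartbeats 400000

namespace CfsgLib.GW.CaseOne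

open Subgroup CfsgLib.RankOneInvol

universe u

variable {G : Type u} [Group G]

/-- Equal `q - ε` and divisibility of the orders force the same field size. -/
theorem field_size_eq {q q₁ e e₁ : ℤ} (he : e = 1 ∨ e = -1) (he₁ : e₁ = 1 ∨ e₁ = -1)
    (hq : 5 ≤ q) (hq₁ : 3 < q₁) (hodd : Odd q) (h : q₁ - e₁ = q - e)
    (hd : q * (q ^ 2 - 1) ∣ q₁ * (q₁ ^ 2 - 1)) : q₁ = q := by
  rcases he with rfl | rfl <;> rcases he₁ with rfl | rfl
  · linarith
  · exfalso
    have e1 : q₁ = q - 2 := by linarith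
    subst e1
    have hpos : 0 < (q - 2) * ((q - 2) ^ 2 - 1) := by
      have : 0 < (q - 2) ^ 2 - 1 := by nlinarith
      exact mul_pos (by linarith) this
    have := Int.le_of_dvd hpos hd
    nlinarith
  · exfalso
    have e1 : q₁ = q + 2 := by linarith
    subst e1
    obtain ⟨c, hc⟩ := hd
    have h6 : q ∣ 6 := ⟨(q ^ 2 - 1) * c - (q ^ 2 + 6 * q + 11), by linear_combination hc⟩
    have h7 := Int.le_of_dvd (by norm_num) h6
    obtain ⟨r, rfl⟩ := hodd
    have : r = 2 := by omega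
    subst this
    norm_num at h6
  · linarith

variable [Finite G] {E : Setup G} {M : Subgroup G} {L : Subgroup (Tp M)} {b b₁ : G}
variable {F : Type} [Field F] [Fintype F]

/-- A subgroup of `M` maps onto its image modulo a smaller core. -/
theorem exists_hom_img {J K : Subgroup G} (hJK : J ≤ K)
    (hJ : ∀ x ∈ J, x ∈ M ∧ bar M x ∈ L) (hW : ∀ x ∈ J, x ∈ coreIn K → x ∈ coreIn M) :
    ∃ f : img K J →* L, ∀ (x : G) (hx : x ∈ J),
      (f ⟨bar K x, mem_img.2 ⟨x, hx, hJK hx, rfl⟩⟩ : Tp M) = bar M x := by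
  have hex : ∀ τ : img K J, ∃ x, x ∈ J ∧ bar K x = τ := fun τ => by
    obtain ⟨x, hx, -, e⟩ := mem_img.1 τ.2
    exact ⟨x, hx, e⟩
  have key : ∀ {x y : G}, x ∈ J → y ∈ J → bar K x = bar K y → bar M x = bar M y :=
    fun {x y} hx hy e => (bar_eq_bar_iff (hJ x hx).1 (hJ y hy).1).2
      (hW _ (mul_mem hx (inv_mem hy)) ((bar_eq_bar_iff (hJK hx) (hJK hy)).1 e))
  choose c hc hce using hex
  refine ⟨MonoidHom.mk' (fun τ => ⟨bar M (c τ), (hJ _ (hc τ)).2⟩) fun τ σ => Subtype.ext ?_,
    fun x hx => ?_⟩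
  · show bar M (c (τ * σ)) = bar M (c τ) * bar M (c σ)
    rw [← bar_mul (hJ _ (hc τ)).1 (hJ _ (hc σ)).1]
    refine key (hc _) (mul_mem (hc τ) (hc σ)) ?_
    rw [bar_mul (hJK (hc τ)) (hJK (hc σ)), hce, hce, hce]
    rfl
  · show bar M (c _) = bar M x
    exact key (hc _) hx (hce _)

namespace Two

variable (h : Two E M L b b₁) (hL : Field.Psl L F)
include h hL

theorem card_L_facts : Odd (Fintype.card F) ∧ 5 ≤ Fintype.card F ∧
    Fintype.card F * (Fintype.card F ^ 2 - 1) = 2 * Nat.card L := by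
  have h3 := hL.three
  have h2 := hL.two_mul_card
  refine ⟨hL.odd, ?_, ?_⟩
  · have := Nat.odd_iff.1 hL.odd
    omega
  · have h1 : 1 ≤ Fintype.card F ^ 2 := Nat.one_le_pow _ _ (by omega)
    zify [h1]
    exact h2.symm

/-- An element of the odd core inverted by `b` has its centraliser in `M`. -/
theorem centralizer_le {a : G} (ha : a ∈ coreIn M) (ha1 : a ≠ 1) (hi : b * a * b = a⁻¹) :
    centralizer ({a} : Set G) ≤ M := by
  haveI : Fact (Nat.Prime 2) := ⟨Nat.prime_two⟩
  set K := centralizer ({a} : Set G) with hK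
  have hOW : coreIn K ≤ coreIn M := h.core_centralizer_le hL ha
  have hKtop : K ≠ ⊤ := h.centralizer_ne_top ha1
  have hinn : ∀ s, s ∈ (E.S : Subgroup G) → bar M s ∈ L → s ∈ K :=
    fun s hs hsL => h.S_inner_le ha ⟨hs, mem_pre.2 ⟨h.S_le hs, hsL⟩⟩
  have htK : E.t ∈ K := hinn _ E.t_mem_S h.t_inner
  have hb₁K : b₁ ∈ K := hinn _ h.refl₁.1 h.inner
  set J := K ⊓ pre M L with hJdef
  have hJ : ∀ x ∈ J, x ∈ M ∧ bar M x ∈ L := fun x hx => mem_pre.1 hx.2
  obtain ⟨f, hf⟩ := exists_hom_img (M := M) (L := L) (inf_le_left : J ≤ K) hJ fun x _ hx => hOW hx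
  have hfs : Function.Surjective f := fun l => by
    obtain ⟨x, hx, e, hxW⟩ := h.exists_lift l.2
    have hxJ : x ∈ J := ⟨mem_centralizer_left.2 (hxW a ha).symm, mem_pre.2 ⟨hx, e.symm ▸ l.2⟩⟩
    exact ⟨⟨bar K x, mem_img.2 ⟨x, hxJ, hxJ.1, rfl⟩⟩, Subtype.ext ((hf x hxJ).trans e)⟩
  obtain ⟨hqodd, hq5, hcard⟩ := h.card_L_facts hL
  have hLdvd : Nat.card L ∣ Nat.card (Tp K) :=
    (Subgroup.card_dvd_of_surjective f hfs).trans (card_subgroup_dvd_card _)
  have hTK : Nat.card (Tp K) ∣ Nat.card K := card_quotient_dvd_card _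
  have hpow : ∀ j, 2 ^ j ∣ Nat.card (Tp K) → j ≤ E.d.k + 1 := fun j hj => by
    by_contra hc
    exact h.not_dvd_centralizer hL ha ha1 hi
      ((pow_dvd_pow 2 (show E.d.k + 2 ≤ j by omega)).trans (hj.trans hTK))
  have hSL : 2 ^ (E.d.k + 1) ∣ Nat.card L := by
    have hN : (2 ^ (E.d.k + 1) : ℤ) ∣ (Nat.card (L ⊓ centralizer ({bar M E.t} : Set (Tp M)) :
        Subgroup (Tp M)) : ℤ) := by
      rw [hL.card_centralizer (bar_involution h.t_mem E.orderOf_t) h.t_inner, h.two_pow_torus hL]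
      exact dvd_mul_right _ _
    exact (by exact_mod_cast hN : 2 ^ (E.d.k + 1) ∣ Nat.card (L ⊓ centralizer ({bar M E.t} :
      Set (Tp M)) : Subgroup (Tp M))).trans (card_dvd_of_le inf_le_left)
  have hbig : 60 ≤ Nat.card L := by
    have h25 : 25 ≤ Fintype.card F ^ 2 := by nlinarith
    have := Nat.mul_le_mul hq5 (show 24 ≤ Fintype.card F ^ 2 - 1 by omega)
    omega
  have hTpos : 0 < Nat.card (Tp K) := Nat.card_pos
  have hb₁t : b₁ * E.t = E.t * b₁ := h.refl₁.comm
  rcases shape_local (E := E) hKtop E.orderOf_t h.refl₁.orderOf_eq h.refl₁.ne_t.symm hb₁t.symm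
    htK hb₁K with hp | ⟨⟨e⟩⟩ | ⟨⟨e⟩⟩ | ⟨⟨e⟩⟩ | ⟨L₁, F₁, i1, i2, hL₁⟩
  · exfalso
    obtain ⟨n, hn⟩ := IsPGroup.iff_card.1 hp
    have h1 : Fintype.card F ∣ 2 * Nat.card L := hcard ▸ dvd_mul_right _ _
    have h2 := h1.trans (mul_dvd_mul_left 2 hLdvd)
    rw [hn, ← pow_succ'] at h2
    obtain ⟨i, -, hi'⟩ := (Nat.dvd_prime_pow Nat.prime_two).1 h2
    rcases Nat.eq_zero_or_pos i with rfl | hi0
    · rw [pow_zero] at hi'; omega
    · rw [hi', Nat.odd_iff, Nat.pow_mod] at hqodd
      simp [hi0.ne'] at hqodd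
  · exfalso
    have := Nat.le_of_dvd hTpos hLdvd
    rw [Nat.card_congr e.toEquiv, nat_card_alternatingGroup, Nat.card_fin] at this
    norm_num [Nat.factorial] at this
    omega
  · exfalso
    have := Nat.le_of_dvd hTpos hLdvd
    rw [Nat.card_congr e.toEquiv, Nat.card_perm, Nat.card_fin] at this
    norm_num [Nat.factorial] at this
    omega
  · exfalso
    have h2520 : Nat.card (Tp K) = 2520 := by
      rw [Nat.card_congr e.toEquiv, CfsgLib.DimThreeMax.card_alt_seven]
    have hk : E.d.k = 2 := by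
      have h1 := hpow 3 (by rw [h2520]; norm_num)
      have h2 := hSL.trans hLdvd
      rw [h2520] at h2
      by_contra hk
      have h3 := (pow_dvd_pow 2 (show 4 ≤ E.d.k + 1 by omega)).trans h2
      norm_num at h3
    set q := Fintype.card F with hq
    have hd : q * (q ^ 2 - 1) ∣ 5040 := by
      rw [hcard, show 5040 = 2 * 2520 by norm_num, ← h2520]
      exact mul_dvd_mul_left 2 hLdvd
    have hq18 : q ≤ 17 := by
      by_contra hc
      have h1 := Nat.le_of_dvd (by norm_num) hd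
      have h2 := Nat.mul_le_mul (show 18 ≤ q by omega)
        (show 323 ≤ q ^ 2 - 1 by
          have : 324 ≤ q ^ 2 := by nlinarith
          omega)
      omega
    have hτ := h.two_pow_torus hL
    rw [hk] at hτ
    set τ := Nat.card (Field.torus L (bar M E.t)) with hτdef
    have hτ1 : τ = 1 := by
      have hτo := hL.odd_card_torus (bar_involution h.t_mem E.orderOf_t)
      rw [← hτdef] at hτo
      have := Nat.odd_iff.1 hτo
      have := Nat.odd_iff.1 hqodd
      rw [← hq] at hτ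
      rcases FieldModel.eps_cases q with e' | e' <;> rw [e'] at hτ <;>
        interval_cases q <;> omega
    set g := e (bar K E.t) with hg
    have hgo : orderOf g = 2 := by rw [hg, MulEquiv.orderOf_eq, bar_involution htK E.orderOf_t]
    obtain ⟨z, hzg, hz3, hfi, hfix⟩ := Seven.exists_inverted_three hgo
    -- an inner involution inverting the preimage of `z`
    set c := E.d.r * b₁ * E.d.r⁻¹ with hc
    have hcS : c ∈ (E.S : Subgroup G) :=
      mul_mem (mul_mem E.d.r_mem h.refl₁.1) (inv_mem E.d.r_mem)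
    have hcL : bar M c ∈ L := by
      rw [hc, bar_conj (h.S_le E.d.r_mem) (h.refl_mem h.refl₁)]
      exact h.normal.conj_mem _ h.inner _
    have hc2 : c * c = 1 := by
      rw [hc, show E.d.r * b₁ * E.d.r⁻¹ * (E.d.r * b₁ * E.d.r⁻¹) =
        E.d.r * (b₁ * b₁) * E.d.r⁻¹ by group, h.refl₁.sq, mul_one, mul_inv_cancel]
    have hrr : E.d.r * E.d.r ≠ 1 := E.d.r_sq_ne_one h.one_le_k
    have hc1 : c ≠ 1 := fun e1 => h.refl₁.ne_one (conj_eq_one_iff.1 e1)
    have hct : c ≠ E.t := fun e1 => h.refl₁.ne_t (by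
      calc b₁ = E.d.r⁻¹ * (c * E.d.r) := by rw [hc]; group
        _ = E.d.r⁻¹ * (E.d.r * E.t) := by
            rw [e1, show E.d.r * E.t = E.t * E.d.r from E.d.z_central E.d.r_mem]
        _ = E.t := inv_mul_cancel_left _ _)
    have hcb : c ≠ b₁ := fun e1 => hrr (by
      rcases h.refl₁.cases_of_commute E.d.r_mem (mul_inv_eq_iff_eq_mul.1 e1) with r | r | r | r <;>
        rw [r]
      · exact one_mul 1
      · exact E.t_sq
      · exact h.refl₁.sq
      · exact h.refl₁.mul_t.sq)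
    have hcbt : c ≠ b₁ * E.t := fun e1 => hrr (by
      have h1 := E.d.refl_inv h.refl₁.1 h.refl₁.2 (mem_zpowers E.d.r)
      have h2 : b₁ * (E.d.r * b₁ * E.d.r⁻¹) = (E.d.r * E.d.r)⁻¹ := by
        rw [h.refl₁.inv] at h1
        rw [← mul_assoc, ← mul_assoc, h1, mul_inv_rev]
      rw [← hc, e1, ← mul_assoc, h.refl₁.sq, one_mul] at h2
      have h3 : E.d.r * E.d.r = E.d.r ^ 4 := by
        rw [← inv_inv (E.d.r * E.d.r), ← h2, E.t_inv]
        show E.d.r ^ 2 ^ E.d.k = E.d.r ^ 4
        rw [hk]; rfl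
      have h4 : E.d.r * E.d.r * 1 = E.d.r * E.d.r * (E.d.r * E.d.r) := by
        rw [mul_one, ← pow_two, ← pow_add, pow_two, h3]
      exact (mul_left_cancel h4).symm)
    have hS1 : ∀ s ∈ ({1, E.t, b₁, b₁ * E.t, c} : Set G),
        s ∈ (E.S : Subgroup G) ∧ s * s = 1 ∧ bar M s ∈ L := by
      rintro s (rfl | rfl | rfl | rfl | rfl)
      · exact ⟨one_mem _, one_mul 1, by rw [bar_one]; exact one_mem _⟩
      · exact ⟨E.t_mem_S, E.t_sq, h.t_inner⟩
      · exact ⟨h.refl₁.1, h.refl₁.sq, h.inner⟩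
      · exact ⟨h.refl₁.mul_t.1, h.refl₁.mul_t.sq, h.b₁_mul_t_inner⟩
      · exact ⟨hcS, hc2, hcL⟩
    have hprop : ∀ s ∈ ({1, E.t, b₁, b₁ * E.t, c} : Set G),
        e (bar K s) * e (bar K s) = 1 ∧ e (bar K s) * g = g * e (bar K s) := by
      intro s hs
      obtain ⟨hsS, hs2, hsL⟩ := hS1 s hs
      have hsK := hinn s hsS hsL
      refine ⟨by rw [← map_mul, ← bar_mul hsK hsK, hs2, bar_one, map_one], ?_⟩
      rw [hg, ← map_mul, ← map_mul, commute_bar hsK htK (E.d.z_central hsS)]
    obtain ⟨s, hs, hsz⟩ : ∃ s ∈ ({1, E.t, b₁, b₁ * E.t, c} : Set G),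
        ¬ e (bar K s) * z = z * e (bar K s) := by
      by_contra hno
      push Not at hno
      classical
      have hmem : ∀ s : ({1, E.t, b₁, b₁ * E.t, c} : Finset G),
          (s : G) ∈ ({1, E.t, b₁, b₁ * E.t, c} : Set G) := fun s => by
        have h0 := s.2
        simp only [Finset.mem_insert, Finset.mem_singleton] at h0
        simpa only [Set.mem_insert_iff, Set.mem_singleton_iff] using h0
      let Φ : ({1, E.t, b₁, b₁ * E.t, c} : Finset G) →
          {s : Seven.A7 // s * s = 1 ∧ s * g = g * s ∧ s * z = z * s} := fun s =>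
        ⟨e (bar K (s : G)), (hprop _ (hmem s)).1, (hprop _ (hmem s)).2,
          hno _ (hmem s)⟩
      have hinj : Function.Injective Φ := fun s s' es => by
        obtain ⟨h1S, -, h1L⟩ := hS1 (s : G) (hmem s)
        obtain ⟨h2S, -, h2L⟩ := hS1 (s' : G) (hmem s')
        have e1 := e.injective (congrArg Subtype.val es)
        have e2 := hOW ((bar_eq_bar_iff (hinn _ h1S h1L) (hinn _ h2S h2L)).1 e1)
        exact Subtype.ext (h.toOver.bar_injOn h1S h2S
          ((bar_eq_bar_iff (h.S_le h1S) (h.S_le h2S)).2 e2))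
      have h5 : ({1, E.t, b₁, b₁ * E.t, c} : Finset G).card = 5 := by
        rw [Finset.card_insert_of_notMem, Finset.card_insert_of_notMem,
          Finset.card_insert_of_notMem, Finset.card_pair hcbt.symm]
        · simp only [Finset.mem_insert, Finset.mem_singleton, not_or]
          exact ⟨fun e1 => E.t_ne_one (mul_eq_left.1 e1.symm), hcb.symm⟩
        · simp only [Finset.mem_insert, Finset.mem_singleton, not_or]
          exact ⟨h.refl₁.ne_t.symm, h.refl₁.mul_t.ne_t.symm, hct.symm⟩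
        · simp only [Finset.mem_insert, Finset.mem_singleton, not_or]
          exact ⟨E.t_ne_one.symm, h.refl₁.ne_one.symm, h.refl₁.mul_t.ne_one.symm, hc1.symm⟩
      have h6 := (Nat.card_le_card_of_injective Φ hinj).trans hfix
      rw [Nat.card_eq_finsetCard, h5] at h6
      omega
    obtain ⟨hsS, hs2, hsL⟩ := hS1 s hs
    obtain ⟨hs1', hsg⟩ := hprop s hs
    have hinv := (hfi _ hs1' hsg).resolve_left fun e1 =>
      hsz ((conj_eq_iff_commute hs1').1 e1).symm
    have hsK := hinn s hsS hsL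
    set ζ := e.symm z with hζdef
    have hζo : orderOf ζ = 3 := by rw [MulEquiv.orderOf_eq, hz3]
    obtain ⟨x, hx, hxK, hxb⟩ := mem_img.1 (mem_img_of_commute E htK (τ := ζ)
      (e.injective (by rw [map_mul, map_mul, e.apply_symm_apply, ← hg, hzg]))
      (by rw [hζo]; decide))
    have hsM := h.S_le hsS
    have hxs : s * x * s ∈ E.U := by
      have := E.conj_mem_U (E.S_le_H hsS) hx.1
      rwa [inv_eq_of_mul_eq_one_right hs2] at this
    set x' := x⁻¹ * (s * x * s) with hx'
    have hx'U : x' ∈ E.U := mul_mem (inv_mem hx.1) hxs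
    have hsxs : s * x * s ∈ K := mul_mem (mul_mem hsK hxK) hsK
    have hx'K : x' ∈ K := mul_mem (inv_mem hxK) hsxs
    have hx'M := h.toOver.U_le hx'U
    have hx'i : s * x' * s = x'⁻¹ := by
      rw [hx', conj_involution_mul hs2, conj_involution_inv hs2,
        show s * (s * x * s) * s = (s * s) * x * (s * s) by group, hs2]
      group
    have hx'b : bar K x' = ζ := by
      rw [hx', bar_mul (inv_mem hxK) hsxs, bar_inv hxK, bar_mul (mul_mem hsK hxK) hsK,
        bar_mul hsK hxK, hxb]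
      apply e.injective
      rw [map_mul, map_inv, map_mul, map_mul, hζdef, e.apply_symm_apply, hinv]
      have h3 : z ^ 3 = 1 := hz3 ▸ pow_orderOf_eq_one z
      calc z⁻¹ * z⁻¹ = z ^ 3 * (z⁻¹ * z⁻¹) := by rw [h3, one_mul]
        _ = z := by group
    obtain ⟨hbc, hbo⟩ := h.toOver.mem_img_U.1 (mem_img.2 ⟨x', hx'U, hx'M, rfl⟩)
    have h1 : bar M x' ∈ Field.torus L (bar M E.t) :=
      hL.mem_torus_of_inverted (bar_involution h.t_mem E.orderOf_t) (h.toOver.sq_bar hs2 hsM)
        (by rw [← bar_inv hx'M, ← hx'i, bar_mul (mul_mem hsM hx'M) hsM, bar_mul hsM hx'M]) hbc hbo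
    have h2 : bar M x' = 1 := by
      have hbot : Field.torus L (bar M E.t) = ⊥ := card_eq_one.1 hτ1
      exact mem_bot.1 (hbot ▸ h1)
    have hx'W := (bar_eq_one_iff hx'M).1 h2
    have h3 : x' = 1 := eq_one_of_fixed_inverted (odd_card_coreIn M) hx'W
      ((conj_eq_iff_commute hs2).2 (h.commute_of_two_inner hsM hsL (h.two_pow_S hsS) x' hx'W)) hx'i
    rw [h3, bar_one] at hx'b
    rw [← hx'b, orderOf_one] at hζo
    omega
  · haveI := hL₁.normal
    haveI := (Main.isSimple_and_perfect (L := L)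
      (Or.inl ⟨F, inferInstance, inferInstance, hL.odd, hL.three, hL.equiv⟩)).2
    let g₁ : (L₁ ⊓ (img K J) : Subgroup (Tp K)) →* L := f.comp (inclusion inf_le_right)
    have hg₁ : Function.Surjective g₁ := fun p => by
      obtain ⟨x, hx, e⟩ := hL₁.exists_preimage_mem f hfs p
      exact ⟨⟨x, hx, x.2⟩, e⟩
    have hd1 := Subgroup.card_dvd_of_surjective g₁ hg₁
    have hdL₁ : Nat.card L ∣ Nat.card L₁ := hd1.trans (card_dvd_of_le inf_le_left)
    -- all involutions lie in `L₁`
    obtain ⟨K₁, hK₁⟩ := Sylow.exists_subgroup_card_pow_prime 2 (hSL.trans hdL₁)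
    have hK₁c : Nat.card (K₁.map L₁.subtype) = 2 ^ (E.d.k + 1) := by
      rw [card_map_of_injective L₁.subtype_injective, hK₁]
    obtain ⟨P, hP⟩ := (IsPGroup.of_card hK₁c).exists_le_sylow
    have hPL : (P : Subgroup (Tp K)) ≤ L₁ := by
      obtain ⟨j, hj⟩ := IsPGroup.iff_card.1 P.2
      have hle := hpow j (hj ▸ card_subgroup_dvd_card _)
      rw [← eq_of_le_of_card_ge hP (by rw [hK₁c, hj]; exact Nat.pow_le_pow_right two_pos hle)]
      exact map_subtype_le _
    have hinL₁ : ∀ τ : Tp K, orderOf τ = 2 → τ ∈ L₁ := fun τ hτ => by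
      obtain ⟨x, hx⟩ := CfsgLib.Involutions.exists_conj_le_sylow
        (CfsgLib.Involutions.isPGroup_two_zpowers hτ) P
      have h1 := hL₁.normal.conj_mem _ (hPL (hx τ (mem_zpowers τ))) x⁻¹
      simpa [mul_assoc] using h1
    have ht1 := bar_involution htK E.orderOf_t
    have hb1 := bar_involution hb₁K h.refl₁.orderOf_eq
    have htL₁ := hinL₁ _ ht1
    have hne1 : bar K b₁ ≠ bar K E.t := fun e1 => h.refl₁.ne_t
      (h.toOver.bar_injOn h.refl₁.1 E.t_mem_S ((bar_eq_bar_iff (h.refl_mem h.refl₁) h.t_mem).2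
        (hOW ((bar_eq_bar_iff hb₁K htK).1 e1))))
    -- the tori have the same order
    set A := E.U ⊓ K
    have hAodd : Odd (Nat.card A) := E.odd_card_U.of_dvd_nat (card_dvd_of_le inf_le_left)
    have hnA : ∀ x ∈ A, b₁ * x * b₁ ∈ A := fun x hx => by
      refine ⟨?_, mul_mem (mul_mem hb₁K hx.2) hb₁K⟩
      have := E.conj_mem_U h.refl₁.mem_H hx.1
      rwa [h.refl₁.inv] at this
    have hAM : A ≤ M := inf_le_left.trans h.toOver.U_le
    have hb₁M := h.refl_mem h.refl₁
    have eM := card_mul_card_inverted hAodd hAM h.refl₁.sq hb₁M hnA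
    have eK := card_mul_card_inverted hAodd (inf_le_right : A ≤ K) h.refl₁.sq hb₁K hnA
    have hM0 : A ⊓ coreIn M ⊓ centralizer ({b₁} : Set G) = A ⊓ coreIn M :=
      inf_eq_left.2 fun w hw => mem_centralizer_left.2 (h.b₁_commute hw.2)
    have hK0 : A ⊓ coreIn K ⊓ centralizer ({b₁} : Set G) = A ⊓ coreIn K :=
      inf_eq_left.2 fun w hw => mem_centralizer_left.2 (h.b₁_commute (hOW hw.2))
    rw [hM0, mul_right_comm] at eM
    rw [hK0, mul_right_comm] at eK
    have eM' := Nat.eq_of_mul_eq_mul_right Nat.card_pos eM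
    have eK' := Nat.eq_of_mul_eq_mul_right Nat.card_pos eK
    have einv := Nat.eq_of_mul_eq_mul_left Nat.card_pos (eK'.symm.trans eM')
    have hbt1 : bar K b₁ * bar K E.t = bar K E.t * bar K b₁ := commute_bar hb₁K htK hb₁t
    have hbsqK : bar K b₁ * bar K b₁ = 1 := by rw [← bar_mul hb₁K hb₁K, h.refl₁.sq, bar_one]
    have hIK : inverted (img K A) (bar K b₁) = (Field.torus L₁ (bar K E.t) : Set (Tp K)) := by
      ext τ
      constructor
      · rintro ⟨hτ, hτi⟩
        obtain ⟨x, hx, hxK, e⟩ := mem_img.1 hτ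
        exact hL₁.mem_torus_of_inverted ht1 hbsqK hτi
          (e ▸ commute_bar hxK htK (E.mem_U.1 hx.1).1)
          (odd_orderOf_of_mem (odd_card_img (M := K) hAodd) hτ)
      · intro hτ
        obtain ⟨-, hτc, hτo⟩ := (hL₁.mem_torus ht1).1 hτ
        refine ⟨mem_img_of_commute E htK hτc hτo, ?_⟩
        have e := hL₁.inverts_torus ht1 hb1 hbt1 hne1 hτ
        rwa [inv_eq_of_mul_eq_one_right hbsqK] at e
    have htM1 := bar_involution h.t_mem E.orderOf_t
    have hbsqM := h.toOver.sq_bar h.refl₁.sq hb₁M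
    have hIM : inverted (img M A) (bar M b₁) = (Field.torus L (bar M E.t) : Set (Tp M)) := by
      ext τ
      constructor
      · rintro ⟨hτ, hτi⟩
        obtain ⟨x, hx, hxM, e⟩ := mem_img.1 hτ
        exact hL.mem_torus_of_inverted htM1 hbsqM hτi
          (e ▸ commute_bar hxM h.t_mem (E.mem_U.1 hx.1).1)
          (odd_orderOf_of_mem (odd_card_img (M := M) hAodd) hτ)
      · intro hτ
        obtain ⟨hτL, hτc, hτo⟩ := (hL.mem_torus htM1).1 hτ
        obtain ⟨u, hu, huM, rfl⟩ := mem_img.1 (h.toOver.mem_img_U.2 ⟨hτc, hτo⟩)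
        refine ⟨?_, ?_⟩
        · obtain ⟨c, w, hc, hw, hcW, rfl⟩ := h.exists_mul_of_inner huM hτL
          refine mem_img.2 ⟨c, ⟨?_, mem_centralizer_left.2 (hcW a ha).symm⟩, hc, ?_⟩
          · have := mul_mem hu (inv_mem (h.core_le_U hw))
            rwa [mul_inv_cancel_right] at this
          · rw [bar_mul hc (coreIn_le M hw), bar_of_mem_coreIn hw, mul_one]
        · have e := hL.inverts_torus htM1 (bar_involution hb₁M h.refl₁.orderOf_eq)
            (commute_bar hb₁M h.t_mem hb₁t)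
            (fun e1 => h.refl₁.ne_t (h.toOver.bar_injOn h.refl₁.1 E.t_mem_S e1)) hτ
          rwa [inv_eq_of_mul_eq_one_right hbsqM] at e
    rw [hIK, hIM] at einv
    -- the fields have the same order
    obtain ⟨j, hj⟩ := hL₁.exists_two_pow ht1 htL₁
    have hcen := hL₁.card_centralizer ht1 htL₁
    rw [hj] at hcen
    have hN : Nat.card (L₁ ⊓ centralizer ({bar K E.t} : Set (Tp K)) : Subgroup (Tp K)) =
        2 ^ j * Nat.card (Field.torus L₁ (bar K E.t)) := by exact_mod_cast hcen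
    set A₁ := (E.S : Subgroup G) ⊓ pre M L
    have hA₁K : A₁ ≤ K := h.S_inner_le ha
    have hA₁ : img K A₁ ≤ L₁ ⊓ centralizer ({bar K E.t} : Set (Tp K)) := fun τ hτ => by
      obtain ⟨s, hs, hsK, rfl⟩ := mem_img.1 hτ
      refine ⟨?_, mem_centralizer_left.2 (commute_bar hsK htK (E.d.z_central hs.1))⟩
      obtain ⟨y, hy⟩ := CfsgLib.Involutions.exists_conj_le_sylow (show IsPGroup 2 (zpowers (bar K s)) by
        obtain ⟨i, -, hi'⟩ := (Nat.dvd_prime_pow Nat.prime_two).1
          (orderOf_dvd_of_pow_eq_one (x := bar K s) (n := 2 ^ (E.d.k + 2))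
            (by rw [← bar_pow hsK, h.two_pow_S hs.1, bar_one]))
        exact IsPGroup.of_card (n := i) (by rw [Nat.card_zpowers, hi'])) P
      have h1 := hL₁.normal.conj_mem _ (hPL (hy _ (mem_zpowers _))) y⁻¹
      simpa [mul_assoc] using h1
    have hA₁c : Nat.card (img K A₁) = 2 ^ (E.d.k + 1) := by
      have h1 := card_eq_mul_img (M := K) (A := A₁) hA₁K
      have h2 : Nat.card (A₁ ⊓ coreIn K : Subgroup G) = 1 := by
        rw [card_eq_one, eq_bot_iff]
        intro x hx
        exact h.toOver.bar_injOn hx.1.1 (one_mem _) (by rw [bar_one, bar_of_mem_coreIn (hOW hx.2)])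
      rw [h2, one_mul, h.card_inner_S hL] at h1
      exact h1.symm
    have hjk : j = E.d.k + 1 := by
      refine le_antisymm (hpow j ((Dvd.intro _ hN.symm).trans (card_subgroup_dvd_card _))) ?_
      have h3 := card_dvd_of_le hA₁
      rw [hA₁c, hN] at h3
      exact (Nat.pow_dvd_pow_iff_le_right (by norm_num : 1 < 2)).1
        (((Nat.coprime_two_left.2 (hL₁.odd_card_torus ht1)).pow_left _).dvd_of_dvd_mul_right h3)
    have einv' : Nat.card (Field.torus L₁ (bar K E.t)) = Nat.card (Field.torus L (bar M E.t)) := einv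
    rw [hjk, einv', ← h.two_pow_torus hL] at hj
    have hqq : (Fintype.card F₁ : ℤ) = (Fintype.card F : ℤ) := by
      refine field_size_eq (FieldModel.eps_cases _) (FieldModel.eps_cases _)
        (by exact_mod_cast hq5) (by exact_mod_cast hL₁.three) (by exact_mod_cast hqodd) hj ?_
      rw [← hL.two_mul_card, ← hL₁.two_mul_card]
      exact mul_dvd_mul_left _ (Int.natCast_dvd_natCast.2 hdL₁)
    have hcardeq : Nat.card L₁ = Nat.card L := by
      have h1 := hL₁.two_mul_card
      rw [hqq, ← hL.two_mul_card] at h1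
      exact_mod_cast mul_left_cancel₀ (two_ne_zero' ℤ) h1
    have hL₁J : L₁ ≤ (img K J) := by
      have h1 := Nat.le_of_dvd Nat.card_pos hd1
      rw [← hcardeq] at h1
      exact (eq_of_le_of_card_ge inf_le_left h1).ge.trans inf_le_right
    intro x hxK
    have ho : orderOf (bar K x * bar K E.t * (bar K x)⁻¹) = 2 := by
      rw [CfsgLib.Involutions.orderOf_conj_eq, ht1]
    obtain ⟨l, hl, el⟩ := hL₁.exists_conj_inner ht1 ho htL₁ (hinL₁ _ ho)
    obtain ⟨y, hy, hyK, rfl⟩ := mem_img.1 (hL₁J hl)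
    set d := y⁻¹ * x
    have hdK : d ∈ K := mul_mem (inv_mem hyK) hxK
    obtain ⟨o, ho', e⟩ := exists_lift_commute E.t_sq htK hdK (by
      rw [bar_mul (inv_mem hyK) hxK, bar_inv hyK]
      calc (bar K y)⁻¹ * bar K x * bar K E.t
          = (bar K y)⁻¹ * (bar K x * bar K E.t * (bar K x)⁻¹) * bar K x := by group
        _ = bar K E.t * ((bar K y)⁻¹ * bar K x) := by rw [← el]; group)
    have hoM : o ∈ M := coreIn_le M (hOW ho')
    have hdM : d ∈ M := by
      have := mul_mem (inv_mem hoM) (h.le (E.mem_H.2 e))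
      rwa [inv_mul_cancel_left] at this
    have := mul_mem (mem_pre.1 hy.2).1 hdM
    rwa [mul_inv_cancel_left] at this

end Two

end CfsgLib.GW.CaseOne
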