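import Cfsg.Agent.Lib.GW.CaseOneImage

/-!
Gorenstein–Walter, maximal subgroups over an involution centraliser whose quotient by the odd core
has two classes of involutions and whose odd core is centralised by `t`: common facts.
-/

set_option autoImplicit false
set_option linter.unusedSectionVars false
set_option linter.unusedVariables false
set_option linter.style.haveILetI false

namespace CfsgLib.GW.CaseOne

open Subgroup CfsgLib.RankOneInvol

universe u

variable {G : Type u} [Group G]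

/-- Two classes of involutions in the quotient: `L` is the normal subgroup generated by the class
of `t`, `b₁` an inner and `b` an outer reflection; `t` centralises the odd core. -/
structure Two (E : Setup G) (M : Subgroup G) (L : Subgroup (Tp M)) (b b₁ : G) : Prop extends Over E M where
  normal : L.Normal
  refl : E.Refl b
  refl₁ : E.Refl b₁
  inner : bar M b₁ ∈ L
  outer : bar M b ∉ L
  t_inner : bar M E.t ∈ L
  gen : ∀ N : Subgroup (Tp M), N.Normal → bar M E.t ∈ N → L ≤ N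
  conj : ∀ τ ∈ L, orderOf τ = 2 → ∃ g, g * bar M E.t * g⁻¹ = τ
  core_le : ∀ w ∈ coreIn M, w * E.t = E.t * w

namespace Two

variable [Finite G] {E : Setup G} {M : Subgroup G} {L : Subgroup (Tp M)} {b b₁ : G}
variable (h : Two E M L b b₁)
include h

theorem core_le_U {w : G} (hw : w ∈ coreIn M) : w ∈ E.U :=
  E.mem_U.2 ⟨h.core_le w hw, odd_orderOf_of_mem (odd_card_coreIn M) hw⟩

theorem core_inf_t : coreIn M ⊓ centralizer ({E.t} : Set G) = coreIn M :=
  inf_eq_left.2 fun w hw => mem_centralizer_singleton_iff.2 (h.core_le w hw)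

theorem conj_t_commute {m w : G} (hm : m ∈ M) (hw : w ∈ coreIn M) :
    w * (m * E.t * m⁻¹) = m * E.t * m⁻¹ * w := by
  have h1 := h.core_le _ (by simpa using conj_mem_coreIn (inv_mem hm) hw : m⁻¹ * w * m ∈ coreIn M)
  calc w * (m * E.t * m⁻¹) = m * (m⁻¹ * w * m * E.t) * m⁻¹ := by group
    _ = m * E.t * m⁻¹ * w := by rw [h1]; group

theorem outer_of_conj {v : G} {g : Tp M} (hv : g * bar M E.t * g⁻¹ = bar M v) : bar M v ∈ L :=
  hv ▸ h.normal.conj_mem _ h.t_inner g

theorem b₁_conj : ∃ m ∈ M, m * E.t * m⁻¹ = b₁ := by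
  obtain ⟨τ, hτ⟩ := h.conj _ h.inner (bar_involution (h.refl_mem h.refl₁) h.refl₁.orderOf_eq)
  exact h.toOver.exists_conj_t h.refl₁.orderOf_eq (h.refl_mem h.refl₁) hτ

theorem b₁_commute {w : G} (hw : w ∈ coreIn M) : w * b₁ = b₁ * w := by
  obtain ⟨m, hm, e⟩ := h.b₁_conj
  rw [← e]
  exact h.conj_t_commute hm hw

theorem b₁_mul_t_inner : bar M (b₁ * E.t) ∈ L := by
  rw [bar_mul (h.refl_mem h.refl₁) h.t_mem]
  exact mul_mem h.inner h.t_inner

theorem not_conj {g : G} (hg : g ∈ M) : g * E.t * g⁻¹ ≠ b ∧ g * E.t * g⁻¹ ≠ b * E.t := by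
  have hmem : bar M (g * E.t * g⁻¹) ∈ L := by
    rw [bar_conj hg h.t_mem]
    exact h.normal.conj_mem _ h.t_inner _
  refine ⟨fun e => h.outer (e ▸ hmem), fun e => h.outer ?_⟩
  have := mul_mem (e ▸ hmem : bar M (b * E.t) ∈ L) h.t_inner
  rwa [bar_mul (h.refl_mem h.refl) h.t_mem, mul_assoc, h.toOver.sq_bar E.t_sq h.t_mem, mul_one] at this

theorem one_le_k : 1 ≤ E.d.k := by
  by_contra hk
  have hk0 : E.d.k = 0 := by omega
  rcases h.refl.cases_of_commute h.refl₁.1 (E.d.comm_of_four hk0 h.refl₁.1 h.refl.1) with e | e | e | e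
  · exact h.refl₁.ne_one e
  · exact h.refl₁.ne_t e
  · exact h.outer (e ▸ h.inner)
  · refine h.outer ?_
    have := mul_mem h.inner h.t_inner
    rwa [e, bar_mul (h.refl_mem h.refl) h.t_mem, mul_assoc, h.toOver.sq_bar E.t_sq h.t_mem,
      mul_one] at this

theorem conj_S_mem_iff {s x : G} (hs : s ∈ (E.S : Subgroup G)) (hx : x ∈ M) :
    bar M (s * x * s⁻¹) ∈ L ↔ bar M x ∈ L := by
  rw [bar_conj (h.S_le hs) hx]
  refine ⟨fun e => ?_, fun e => h.normal.conj_mem _ e _⟩
  have := h.normal.conj_mem _ e (bar M s)⁻¹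
  simpa [mul_assoc] using this

/-- A reflection is conjugate in `S` to `b` or to `b₁`. -/
theorem refl_conj {c : G} (hc : E.Refl c) :
    ∃ s ∈ (E.S : Subgroup G), s * c * s⁻¹ = b ∨ s * c * s⁻¹ = b₁ := by
  obtain ⟨s, hs, e⟩ := refl_cases hc
  obtain ⟨s₀, hs₀, e₀⟩ := refl_cases h.refl
  obtain ⟨s₁, hs₁, e₁⟩ := refl_cases h.refl₁
  have hb : ∀ {x : G}, s * c * s⁻¹ = x → s₀ * b * s₀⁻¹ = x → s₀⁻¹ * s * c * (s₀⁻¹ * s)⁻¹ = b := by
    intro x h1 h2
    calc s₀⁻¹ * s * c * (s₀⁻¹ * s)⁻¹ = s₀⁻¹ * (s * c * s⁻¹) * s₀ := by group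
      _ = s₀⁻¹ * (s₀ * b * s₀⁻¹) * s₀ := by rw [h1, h2]
      _ = b := by group
  have hb₁ : ∀ {x : G}, s * c * s⁻¹ = x → s₁ * b₁ * s₁⁻¹ = x →
      s₁⁻¹ * s * c * (s₁⁻¹ * s)⁻¹ = b₁ := by
    intro x h1 h2
    calc s₁⁻¹ * s * c * (s₁⁻¹ * s)⁻¹ = s₁⁻¹ * (s * c * s⁻¹) * s₁ := by group
      _ = s₁⁻¹ * (s₁ * b₁ * s₁⁻¹) * s₁ := by rw [h1, h2]
      _ = b₁ := by group
  have hne : ∀ {x : G}, s₀ * b * s₀⁻¹ = x → s₁ * b₁ * s₁⁻¹ = x → False := fun {x} h1 h2 => by
    refine h.outer ((h.conj_S_mem_iff hs₀ (h.refl_mem h.refl)).1 ?_)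
    rw [h1, ← h2]
    exact (h.conj_S_mem_iff hs₁ (h.refl_mem h.refl₁)).2 h.inner
  have m0 := mul_mem (inv_mem hs₀) hs
  have m1 := mul_mem (inv_mem hs₁) hs
  rcases e with e | e <;> rcases e₀ with e₀ | e₀ <;> rcases e₁ with e₁ | e₁ <;>
    first
    | exact (hne e₀ e₁).elim
    | exact ⟨_, m0, Or.inl (hb e e₀)⟩
    | exact ⟨_, m1, Or.inr (hb₁ e e₁)⟩

/-- An involution of `M` is conjugate in `M` to `t` or to `b`. -/
theorem involution_conj {v : G} (hv : orderOf v = 2) (hvM : v ∈ M) :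
    ∃ m ∈ M, m * E.t * m⁻¹ = v ∨ m * b * m⁻¹ = v := by
  obtain ⟨m, hm, hmS, hmo⟩ := h.toOver.exists_conj_mem_S hvM hv
  have back : ∀ {s x : G}, s * (m * v * m⁻¹) * s⁻¹ = x → (s * m)⁻¹ * x * (s * m)⁻¹⁻¹ = v := by
    intro s x e; rw [← e]; group
  rcases Setup.eq_t_or_refl hmS hmo with e | e
  · exact ⟨m⁻¹, inv_mem hm, Or.inl (by rw [← e]; group)⟩
  · obtain ⟨s, hs, e | e⟩ := h.refl_conj e
    · exact ⟨_, inv_mem (mul_mem (h.S_le hs) hm), Or.inr (back e)⟩
    · obtain ⟨n, hn, en⟩ := h.b₁_conj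
      refine ⟨(s * m)⁻¹ * n, mul_mem (inv_mem (mul_mem (h.S_le hs) hm)) hn, Or.inl ?_⟩
      rw [← back e, ← en]; group

theorem mem_inner_iff {v : G} (hv : orderOf v = 2) (hvM : v ∈ M) :
    bar M v ∈ L ↔ ∃ m ∈ M, m * E.t * m⁻¹ = v := by
  refine ⟨fun hL => ?_, fun ⟨m, hm, e⟩ => ?_⟩
  · obtain ⟨τ, hτ⟩ := h.conj _ hL (bar_involution hvM hv)
    exact h.toOver.exists_conj_t hv hvM hτ
  · rw [← e, bar_conj hm h.t_mem]
    exact h.normal.conj_mem _ h.t_inner _

/-- Inner involutions are determined by their images. -/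
theorem inner_eq {v v' : G} (hv : orderOf v = 2) (hv' : orderOf v' = 2) (hvM : v ∈ M)
    (hv'M : v' ∈ M) (hL : bar M v ∈ L) (e : bar M v' = bar M v) : v' = v := by
  obtain ⟨m, hm, em⟩ := (h.mem_inner_iff hv hvM).1 hL
  exact eq_of_bar_eq (CfsgLib.Involutions.orderOf_eq_two_iff_mul.1 hv).2
    (CfsgLib.Involutions.orderOf_eq_two_iff_mul.1 hv').2 hvM hv'M
    (fun w hw => em ▸ h.conj_t_commute hm hw) e

/-- Every element of `L` has a lift centralising the odd core. -/
theorem exists_lift {τ : Tp M} (hτ : τ ∈ L) :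
    ∃ x ∈ M, bar M x = τ ∧ ∀ w ∈ coreIn M, w * x = x * w := by
  haveI hn : ((centralizer (coreIn M : Set G)).subgroupOf M).Normal := ⟨fun x hx g => by
    rw [mem_subgroupOf, mem_centralizer_iff] at hx ⊢
    intro w hw
    have h1 := hx _ (by simpa using conj_mem_coreIn (inv_mem g.2) hw : (g : G)⁻¹ * w * g ∈ coreIn M)
    push_cast
    calc w * (g * x * (g : G)⁻¹) = g * ((g : G)⁻¹ * w * g * x) * (g : G)⁻¹ := by group
      _ = g * x * (g : G)⁻¹ * w := by rw [h1]; group⟩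
  have hN : (img M (centralizer (coreIn M : Set G))).Normal :=
    hn.map _ (QuotientGroup.mk'_surjective _)
  obtain ⟨x, hx, hxM, e⟩ := mem_img.1 (h.gen _ hN (mem_img.2 ⟨E.t,
    mem_centralizer_iff.2 fun w hw => h.core_le w hw, h.t_mem, rfl⟩) hτ)
  exact ⟨x, hxM, e, fun w hw => mem_centralizer_iff.1 hx w hw⟩

theorem exists_mul_of_inner {x : G} (hx : x ∈ M) (hL : bar M x ∈ L) :
    ∃ c w : G, c ∈ M ∧ w ∈ coreIn M ∧ (∀ v ∈ coreIn M, v * c = c * v) ∧ x = c * w := by
  obtain ⟨c, hc, e, hcW⟩ := h.exists_lift hL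
  refine ⟨c, c⁻¹ * x, hc, ?_, hcW, by group⟩
  refine (bar_eq_one_iff (mul_mem (inv_mem hc) hx)).1 ?_
  rw [bar_mul (inv_mem hc) hx, bar_inv hc, e, inv_mul_cancel]

/-- An element over `L` inverted by `t` centralises the odd core. -/
theorem commute_of_inverted_inner {x : G} (hx : x ∈ M) (hL : bar M x ∈ L)
    (hi : E.t * x * E.t = x⁻¹) : ∀ v ∈ coreIn M, v * x = x * v := by
  obtain ⟨c, w, hc, hw, hcW, rfl⟩ := h.exists_mul_of_inner hx hL
  have hsq : ∀ v ∈ coreIn M, w * w * v = v * (w * w) := by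
    intro v hv
    have e1 : E.t * c * E.t * w = w⁻¹ * c⁻¹ := by
      rw [← mul_inv_rev, ← hi, conj_involution_mul E.t_sq,
        show E.t * w * E.t = w from (conj_eq_iff_commute E.t_sq).2 (h.core_le w hw)]
    have hc' : Commute (E.t * c * E.t) v :=
      ((show Commute E.t v from (h.core_le v hv).symm).mul_left (hcW v hv).symm).mul_left
        (show Commute E.t v from (h.core_le v hv).symm)
    have hcw : Commute (c⁻¹) w := (show Commute c w from (hcW w hw).symm).inv_left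
    have e2 : w * w = (E.t * c * E.t)⁻¹ * c⁻¹ := by
      calc w * w = (E.t * c * E.t)⁻¹ * (E.t * c * E.t * w) * w := by group
        _ = (E.t * c * E.t)⁻¹ * (w⁻¹ * (c⁻¹ * w)) := by rw [e1]; group
        _ = (E.t * c * E.t)⁻¹ * c⁻¹ := by rw [hcw.eq]; group
    rw [e2]
    exact (hc'.inv_left.mul_left (show Commute c⁻¹ v from (show Commute c v from (hcW v hv).symm).inv_left)).eq
  obtain ⟨n, hn⟩ := exists_pow_sq_eq (odd_orderOf_of_mem (odd_card_coreIn M) hw)
  intro v hv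
  have hwv : Commute w v := by
    rw [← hn, ← (Commute.refl w).mul_pow]
    exact (show Commute (w * w) v from hsq v hv).pow_left n
  exact ((show Commute c v from (hcW v hv).symm).mul_left hwv).eq.symm

/-- A two-element over `L` centralises the odd core. -/
theorem commute_of_two_inner {x : G} (hx : x ∈ M) (hL : bar M x ∈ L) {l : ℕ}
    (hl : x ^ 2 ^ l = 1) : ∀ v ∈ coreIn M, v * x = x * v := by
  obtain ⟨c, w, hc, hw, hcW, rfl⟩ := h.exists_mul_of_inner hx hL
  have hcw : Commute c w := (hcW w hw).symm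
  intro v hv
  have h1 : Commute (w ^ 2 ^ l) v := by
    have h2 : Commute (c ^ 2 ^ l) v := (show Commute c v from (hcW v hv).symm).pow_left _
    rw [hcw.mul_pow] at hl
    rw [eq_inv_of_mul_eq_one_right hl]
    exact h2.inv_left
  have hwv : Commute w v := by
    obtain ⟨m, hm⟩ : ∃ m, w = (w ^ 2 ^ l) ^ m := by
      have ho := odd_orderOf_of_mem (odd_card_coreIn M) hw
      by_cases h1 : w = 1
      · exact ⟨0, by rw [h1]; simp⟩
      · obtain ⟨m, -, hm⟩ := Nat.exists_mul_mod_eq_one_of_coprime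
          ((Nat.coprime_two_left.2 ho).pow_left l)
          (Nat.one_lt_iff_ne_zero_and_ne_one.2 ⟨(orderOf_pos _).ne', orderOf_eq_one_iff.not.2 h1⟩)
        exact ⟨m, by rw [← pow_mul, ← pow_mod_orderOf, hm, pow_one]⟩
    rw [hm]
    exact h1.pow_left m
  exact ((show Commute c v from (hcW v hv).symm).mul_left hwv).eq.symm

/-- `M` is the normaliser of its odd core when that is non-trivial. -/
theorem normalizer_le {N : Subgroup G} (hN : N ≠ ⊥) (hNM : N ≤ M)
    (hn : ∀ m ∈ M, ∀ x ∈ N, m * x * m⁻¹ ∈ N) : normalizer (N : Set G) ≤ M := by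
  have hle : M ≤ normalizer (N : Set G) := fun m hm => by
    rw [mem_normalizer_iff]
    refine fun x => ⟨hn m hm x, fun hx => ?_⟩
    have := hn _ (inv_mem hm) _ hx
    simpa [mul_assoc] using this
  rcases h.coatom.le_iff.1 hle with e | e
  · exfalso
    rcases E.eq_bot_or_top (normalizer_eq_top_iff.1 e) with e1 | e1
    · exact hN e1
    · exact h.ne_top (top_le_iff.1 (e1 ▸ hNM))
  · exact e.le

/-- The centraliser in `M` of the outer reflection, counted in the quotient. -/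
theorem card_C_b : Nat.card (M ⊓ centralizer ({b} : Set G) : Subgroup G) =
    Nat.card (coreIn M ⊓ centralizer ({b} : Set G) : Subgroup G) *
      Nat.card (centralizer ({bar M b} : Set (Tp M))) :=
  card_centralizer_bar h.refl.sq (h.refl_mem h.refl)

theorem card_H_eq : Nat.card E.H =
    Nat.card (coreIn M) * Nat.card (centralizer ({bar M E.t} : Set (Tp M))) := by
  rw [← h.toOver.M_inf_centralizer_t, card_centralizer_bar E.t_sq h.t_mem, h.core_inf_t]

/-- An involution fixes `1 + |H : C_M(b)|` cosets of `M`. -/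
theorem card_fixed {v : G} (hv : orderOf v = 2) :
    Nat.card {p : G ⧸ M // v • p = p} * Nat.card (M ⊓ centralizer ({b} : Set G) : Subgroup G) =
      Nat.card (M ⊓ centralizer ({b} : Set G) : Subgroup G) + Nat.card E.H := by
  classical
  set Cb : Subgroup G := M ⊓ centralizer ({b} : Set G)
  -- the class of an element of `M`
  have hcls : ∀ x ∈ M, Nat.card {y : G // ∃ m ∈ M, m * x * m⁻¹ = y} *
      Nat.card (M ⊓ centralizer ({x} : Set G) : Subgroup G) = Nat.card M := by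
    intro x hx
    set A : Subgroup G := M ⊓ centralizer ({x} : Set G)
    rw [← (A.subgroupOf M).card_mul_index,
      Nat.card_congr (subgroupOfEquivOfLe (inf_le_left : A ≤ M)).toEquiv, mul_comm]
    congr 1
    rw [index_eq_card]
    refine Nat.card_eq_of_bijective
      (fun y => ((⟨y.2.choose, y.2.choose_spec.1⟩ : M) : M ⧸ A.subgroupOf M)) ⟨?_, ?_⟩
    · intro y z e
      rw [QuotientGroup.eq, mem_subgroupOf, mem_inf, mem_centralizer_singleton_iff] at e
      replace e := e.2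
      push_cast at e
      refine Subtype.ext (y.2.choose_spec.2.symm.trans (Eq.trans ?_ z.2.choose_spec.2))
      set g := y.2.choose
      set g' := z.2.choose
      calc g * x * g⁻¹ = g * (x * (g⁻¹ * g')) * g'⁻¹ := by group
        _ = g' * x * g'⁻¹ := by rw [← e]; group
    · intro q
      obtain ⟨g, rfl⟩ := QuotientGroup.mk_surjective q
      let y : {y : G // ∃ m ∈ M, m * x * m⁻¹ = y} := ⟨(g : G) * x * (g : G)⁻¹, g, g.2, rfl⟩
      refine ⟨y, QuotientGroup.eq.2 (mem_subgroupOf.2 ?_)⟩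
      refine mem_inf.2 ⟨SetLike.coe_mem _, mem_centralizer_singleton_iff.2 ?_⟩
      push_cast
      have e := y.2.choose_spec.2
      set g' := y.2.choose
      calc g'⁻¹ * (g : G) * x = g'⁻¹ * ((g : G) * x * (g : G)⁻¹) * g := by group
        _ = x * (g'⁻¹ * g) := by rw [show (g : G) * x * (g : G)⁻¹ = y.1 from rfl, ← e]; group
  set N1 := {y : G // ∃ m ∈ M, m * E.t * m⁻¹ = y}
  set N2 := {y : G // ∃ m ∈ M, m * b * m⁻¹ = y}
  have hsum : Nat.card {x : G // orderOf x = 2 ∧ x ∈ M} = Nat.card N1 + Nat.card N2 := by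
    rw [← Nat.card_sum]
    refine (Nat.card_eq_of_bijective (fun s : N1 ⊕ N2 => Sum.elim
      (fun y => (⟨y.1, ?_, ?_⟩ : {x : G // orderOf x = 2 ∧ x ∈ M})) (fun y => ⟨y.1, ?_, ?_⟩) s)
      ⟨?_, ?_⟩).symm
    · obtain ⟨m, hm, e⟩ := y.2
      rw [← e, CfsgLib.Involutions.orderOf_conj_eq, E.orderOf_t]
    · obtain ⟨m, hm, e⟩ := y.2
      rw [← e]; exact mul_mem (mul_mem hm h.t_mem) (inv_mem hm)
    · obtain ⟨m, hm, e⟩ := y.2
      rw [← e, CfsgLib.Involutions.orderOf_conj_eq, h.refl.orderOf_eq]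
    · obtain ⟨m, hm, e⟩ := y.2
      rw [← e]; exact mul_mem (mul_mem hm (h.refl_mem h.refl)) (inv_mem hm)
    · have hdis : ∀ m ∈ M, ∀ m' ∈ M, m * E.t * m⁻¹ ≠ m' * b * m'⁻¹ := fun m hm m' hm' e => by
        refine (h.not_conj (mul_mem (inv_mem hm') hm)).1 ?_
        calc m'⁻¹ * m * E.t * (m'⁻¹ * m)⁻¹ = m'⁻¹ * (m * E.t * m⁻¹) * m' := by group
          _ = b := by rw [e]; group
      rintro (⟨y, my, hy, rfl⟩ | ⟨y, my, hy, rfl⟩) (⟨z, mz, hz, rfl⟩ | ⟨z, mz, hz, rfl⟩) e
      · exact congrArg Sum.inl (Subtype.ext (congrArg Subtype.val e :))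
      · exact absurd (congrArg Subtype.val e :) (hdis _ hy _ hz)
      · exact absurd (congrArg Subtype.val e :).symm (hdis _ hz _ hy)
      · exact congrArg Sum.inr (Subtype.ext (congrArg Subtype.val e :))
    · rintro ⟨x, hx, hxM⟩
      obtain ⟨m, hm, e | e⟩ := h.involution_conj hx hxM
      · exact ⟨Sum.inl ⟨x, m, hm, e⟩, rfl⟩
      · exact ⟨Sum.inr ⟨x, m, hm, e⟩, rfl⟩
  have h1 := hcls E.t h.t_mem
  rw [h.toOver.M_inf_centralizer_t] at h1
  have h2 := hcls b (h.refl_mem h.refl)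
  have h3 := card_fixed_mul E M hv
  rw [hsum] at h3
  have h4 := M.card_mul_index
  have h5 := E.H.card_mul_index
  have hM0 : 0 < Nat.card M := Nat.card_pos
  have hHi : 0 < E.H.index := Nat.pos_of_ne_zero index_ne_zero_of_finite
  refine Nat.eq_of_mul_eq_mul_right (Nat.mul_pos hHi hM0) ?_
  calc Nat.card {p : G ⧸ M // v • p = p} * Nat.card Cb * (E.H.index * Nat.card M)
      = (Nat.card {p : G ⧸ M // v • p = p} * E.H.index) * Nat.card Cb * Nat.card M := by ring
    _ = Nat.card Cb * ((Nat.card M * M.index) * Nat.card N1) +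
        (Nat.card M * M.index) * (Nat.card N2 * Nat.card Cb) := by rw [h3]; ring
    _ = Nat.card Cb * ((Nat.card E.H * E.H.index) * Nat.card N1) +
        (Nat.card E.H * E.H.index) * Nat.card M := by rw [h4, ← h5, h2]
    _ = (Nat.card Cb + Nat.card E.H) * (E.H.index * Nat.card M) := by
        conv_rhs => rw [add_mul]; arg 1; rw [← h1]
        ring

end Two

end CfsgLib.GW.CaseOne
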