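import Cfsg.Agent.Lib.GW.Basic
import Cfsg.Agent.Lib.PLocal.QdSection
import Cfsg.Agent.Lib.Solvable.Fitting
import Cfsg.Agent.Lib.DihProduct.Dihedral
import Cfsg.Agent.Lib.Coprime.Commutator
import Cfsg.Agent.Lib.PGroup.Frattini
import Cfsg.Agent.S1312

/-!
Gorenstein–Walter: an element inverted by an involutive automorphism that centralises the fixed
points of that automorphism on the Fitting subgroup lies in the Fitting subgroup, when no section is
`Qd(p)`.
-/

set_option autoImplicit false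
set_option linter.style.haveILetI false
set_option linter.unusedSectionVars false

open Subgroup
open scoped commutatorElement

namespace CfsgLib.GW

universe u v

/-- In every 2-subgroup any two elements with non-trivial square commute. -/
def TwoCyclicLike (X : Type*) [Group X] : Prop :=
  ∀ a b : X, IsPGroup 2 (closure ({a, b} : Set X)) → a * a ≠ 1 → b * b ≠ 1 → a * b = b * a

theorem twoCyclicLike_of_odd {X : Type*} [Group X] [Finite X] (h : Odd (Nat.card X)) :
    TwoCyclicLike X := by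
  intro a b hp ha _
  haveI : Fact (Nat.Prime 2) := ⟨Nat.prime_two⟩
  exfalso
  obtain ⟨k, hk⟩ := IsPGroup.iff_orderOf.1 hp ⟨a, subset_closure (Or.inl rfl)⟩
  have h1 : orderOf a = 2 ^ k := by rw [← hk, ← Subgroup.orderOf_coe]
  have h2 : Odd (orderOf a) := h.of_dvd_nat (orderOf_dvd_natCard a)
  rw [h1, Nat.odd_pow_iff (by rintro rfl; exact ha (by simp [orderOf_eq_one_iff.1 (h1.trans (pow_zero 2))]))] at h2
  exact absurd h2 (by decide)

theorem TwoCyclicLike.subgroup {X : Type*} [Group X] (h : TwoCyclicLike X) (K : Subgroup X) :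
    TwoCyclicLike K := by
  intro a b hp ha hb
  refine Subtype.ext (h a b ?_ (fun e => ha (Subtype.ext e)) fun e => hb (Subtype.ext e))
  have e : closure ({(a : X), (b : X)} : Set X) = (closure ({a, b} : Set K)).map K.subtype := by
    rw [MonoidHom.map_closure, Set.image_pair]; rfl
  rw [e]
  exact hp.map _

theorem TwoCyclicLike.map {X Y : Type*} [Group X] [Finite X] [Group Y] (h : TwoCyclicLike X)
    (f : X →* Y) (hf : Function.Surjective f) : TwoCyclicLike Y := by
  haveI : Fact (Nat.Prime 2) := ⟨Nat.prime_two⟩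
  haveI : Finite Y := Finite.of_surjective f hf
  intro u v hp hu hv
  set H := (closure ({u, v} : Set Y)).comap f
  have hmemH : ∀ x, x ∈ H ↔ f x ∈ closure ({u, v} : Set Y) := fun x => Iff.rfl
  let g : H →* closure ({u, v} : Set Y) :=
    (f.comp H.subtype).codRestrict _ fun x => (hmemH x).1 x.2
  have hg : Function.Surjective g := fun ⟨y, hy⟩ => by
    obtain ⟨x, rfl⟩ := hf y
    exact ⟨⟨x, (hmemH x).2 hy⟩, rfl⟩
  obtain ⟨T⟩ : Nonempty (Sylow 2 H) := inferInstance
  have htop : (T : Subgroup H).map g = ⊤ := by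
    have h1 := (T.mapSurjective hg).is_maximal'
      (Q := (⊤ : Subgroup (closure ({u, v} : Set Y)))) (hp.to_subgroup ⊤) le_top
    exact h1.symm
  have pick : ∀ y, y ∈ ({u, v} : Set Y) → ∃ x : H, x ∈ (T : Subgroup H) ∧ f x = y := fun y hy => by
    obtain ⟨x, hx, e⟩ : (⟨y, subset_closure hy⟩ : closure ({u, v} : Set Y)) ∈ (T : Subgroup H).map g :=
      htop ▸ mem_top _
    exact ⟨x, hx, congrArg Subtype.val e⟩
  obtain ⟨a, ha, hau⟩ := pick u (Or.inl rfl)
  obtain ⟨b, hb, hbv⟩ := pick v (Or.inr rfl)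
  have hab := h (a : X) b ?_ (fun e => hu (by rw [← hau, ← map_mul, e, map_one]))
    (fun e => hv (by rw [← hbv, ← map_mul, e, map_one]))
  · rw [← hau, ← hbv, ← map_mul, hab, map_mul]
  · refine (T.isPGroup'.map H.subtype).to_le ((closure_le _).2 ?_)
    rintro x (rfl | rfl)
    exacts [⟨a, ha, rfl⟩, ⟨b, hb, rfl⟩]

/-- A group with a dihedral Sylow 2-subgroup. -/
theorem twoCyclicLike_of_dih {X : Type*} [Group X] [Finite X] (S : Sylow 2 X)
    (d : CfsgLib.DihProduct.Dih (S : Subgroup X)) : TwoCyclicLike X := by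
  haveI : Fact (Nat.Prime 2) := ⟨Nat.prime_two⟩
  intro a b hp ha hb
  obtain ⟨Q, hQ⟩ := hp.exists_le_sylow
  obtain ⟨g, hg⟩ := MulAction.exists_smul_eq X Q S
  have key : ∀ x : X, x ∈ ({a, b} : Set X) → x * x ≠ 1 → g * x * g⁻¹ ∈ zpowers d.r := by
    intro x hx hx2
    have hxS : g * x * g⁻¹ ∈ (S : Subgroup X) := by
      rw [← hg, Sylow.coe_subgroup_smul]
      exact ⟨x, hQ (subset_closure hx), rfl⟩
    by_contra hr
    refine hx2 ?_
    have e := d.refl_sq hxS hr
    have e2 : g * (x * x) * g⁻¹ = g * 1 * g⁻¹ := by rw [mul_one, mul_inv_cancel, ← e]; group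
    exact mul_left_cancel (mul_right_cancel e2)
  obtain ⟨i, hi⟩ := key a (Or.inl rfl) ha
  obtain ⟨j, hj⟩ := key b (Or.inr rfl) hb
  have e : g * (a * b) * g⁻¹ = g * (b * a) * g⁻¹ := by
    calc g * (a * b) * g⁻¹ = (g * a * g⁻¹) * (g * b * g⁻¹) := by group
      _ = (g * b * g⁻¹) * (g * a * g⁻¹) := by
        rw [← hi, ← hj]; exact (Commute.zpow_zpow (Commute.refl d.r) i j).eq
      _ = g * (b * a) * g⁻¹ := by group
  exact mul_left_cancel (mul_right_cancel e)

/-- `Qd(p)` has a quaternion subgroup. -/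
theorem not_twoCyclicLike_qd {p : ℕ} [hp : Fact p.Prime] (hp2 : p ≠ 2) :
    ¬ TwoCyclicLike ↥(Cfsg.qd p) := by
  intro h
  have h2 : (2 : ZMod p) ≠ 0 := by
    intro e
    have e' : ((2 : ℕ) : ZMod p) = 0 := by exact_mod_cast e
    exact hp2 ((Nat.prime_dvd_prime_iff_eq hp.out Nat.prime_two).1 ((CharP.cast_eq_zero_iff (ZMod p) p 2).1 e'))
  obtain ⟨x, y, hxy⟩ := ZMod.sq_add_sq p (-1 : ZMod p)
  set mi : Matrix (Fin 3) (Fin 3) (ZMod p) := !![0, 1, 0; -1, 0, 0; 0, 0, 1] with hmi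
  set mj : Matrix (Fin 3) (Fin 3) (ZMod p) := !![x, y, 0; y, -x, 0; 0, 0, 1] with hmj
  set mz : Matrix (Fin 3) (Fin 3) (ZMod p) := !![-1, 0, 0; 0, -1, 0; 0, 0, 1] with hmz
  have di : mi.det = 1 := by simp [hmi, Matrix.det_fin_three]
  have dj : mj.det = 1 := by
    simp [hmj, Matrix.det_fin_three]; linear_combination -hxy
  set i₀ : ↥(Cfsg.qd p) := ⟨⟨mi, di⟩, subset_closure ⟨by simp [hmi], by simp [hmi], by simp [hmi]⟩⟩
  set j₀ : ↥(Cfsg.qd p) := ⟨⟨mj, dj⟩, subset_closure ⟨by simp [hmj], by simp [hmj], by simp [hmj]⟩⟩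
  have eii : mi * mi = mz := by
    ext a b; fin_cases a <;> fin_cases b <;> simp [hmi, hmz, Matrix.mul_apply, Fin.sum_univ_three]
  have ejj : mj * mj = mz := by
    ext a b
    fin_cases a <;> fin_cases b <;> simp [hmj, hmz, Matrix.mul_apply, Fin.sum_univ_three] <;>
      first | linear_combination hxy | ring
  have eij : mi * mj * mi = mj := by
    ext a b; fin_cases a <;> fin_cases b <;> simp [hmi, hmj, Matrix.mul_apply, Fin.sum_univ_three]
  have hz1 : mz ≠ 1 := by
    intro e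
    have := congrFun (congrFun e 0) 0
    simp [hmz] at this
    exact h2 (by linear_combination -this)
  have coe_mul' : ∀ a b : ↥(Cfsg.qd p),
      ((a * b : ↥(Cfsg.qd p)) : Matrix.SpecialLinearGroup (Fin 3) (ZMod p)).1 = a.1.1 * b.1.1 := fun _ _ => rfl
  have ext' : ∀ a b : ↥(Cfsg.qd p), a.1.1 = b.1.1 → a = b := fun a b e => Subtype.ext (Subtype.ext e)
  have hii : i₀ * i₀ ≠ 1 := fun e => hz1 (eii.symm.trans (congrArg (fun w => w.1.1) e))
  have hjj : j₀ * j₀ ≠ 1 := fun e => hz1 (ejj.symm.trans (congrArg (fun w => w.1.1) e))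
  have hzz : mz * mz = 1 := by
    ext a b; fin_cases a <;> fin_cases b <;> simp [hmz, Matrix.mul_apply, Fin.sum_univ_three]
  have four : ∀ a : ↥(Cfsg.qd p), a.1.1 * a.1.1 = mz → IsPGroup 2 (zpowers a) := by
    intro a ha
    have h4 : a ^ 4 = 1 := ext' _ _ (by
      show (a ^ 4).1.1 = 1
      rw [show (4 : ℕ) = 2 + 2 from rfl, pow_add, pow_two, coe_mul', coe_mul', ha, hzz])
    intro w
    obtain ⟨k, hk⟩ := w.2
    refine ⟨2, Subtype.ext ?_⟩
    rw [Subgroup.coe_pow, Subgroup.coe_one, ← hk, ← zpow_natCast, ← zpow_mul, mul_comm, zpow_mul,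
      zpow_natCast, show (2 : ℕ) ^ 2 = 4 from rfl, h4, one_zpow]
  have hiji : i₀ * j₀ * i₀ = j₀ := ext' _ _ eij
  have hconj : j₀ * i₀ * j₀⁻¹ = i₀⁻¹ := by
    rw [mul_inv_eq_iff_eq_mul, eq_inv_mul_iff_mul_eq, ← mul_assoc]
    exact hiji
  have hnorm : zpowers j₀ ≤ normalizer (zpowers i₀ : Set ↥(Cfsg.qd p)) := by
    rw [zpowers_le]
    refine mem_normalizer_of_map_conj ?_
    rw [MonoidHom.map_zpowers]
    show zpowers (j₀ * i₀ * j₀⁻¹) = _
    rw [hconj, zpowers_inv]
  have hp' : IsPGroup 2 ↥(Subgroup.closure ({i₀, j₀} : Set ↥(Cfsg.qd p))) := by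
    refine ((four i₀ eii).to_sup_of_normal_left' (four j₀ ejj) hnorm).to_le ((closure_le _).2 ?_)
    rintro w (rfl | rfl)
    exacts [mem_sup_left (mem_zpowers _), mem_sup_right (mem_zpowers _)]
  have hc := h i₀ j₀ hp' hii hjj
  have : j₀ * (i₀ * i₀) = j₀ := by rw [← mul_assoc, ← hc, hiji]
  exact hii (mul_eq_left.1 this)
where
  mem_normalizer_of_map_conj {H : Type} [Group H] [Finite H] {W : Subgroup H} {g : H}
      (h : W.map (MulAut.conj g).toMonoidHom = W) : g ∈ normalizer (W : Set H) := by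
    rw [mem_normalizer_iff]
    intro z
    constructor
    · intro hz; exact h ▸ ⟨z, hz, rfl⟩
    · intro hz
      obtain ⟨w, hw, e⟩ := h.symm ▸ hz
      have : w = z := by simpa using e
      exact this ▸ hw

variable {G : Type u} [Group G]

/-- `O_q(K)` inside `G`. -/
def pCoreIn (q : ℕ) (K : Subgroup G) : Subgroup G := (Cfsg.pCore q K).map K.subtype

/-- `F(K)` inside `G`. -/
def fitIn (K : Subgroup G) : Subgroup G := (Cfsg.fittingSubgroup K).map K.subtype

theorem pCoreIn_le_fitIn [Finite G] {q : ℕ} (hq : q.Prime) (K : Subgroup G) :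
    pCoreIn q K ≤ fitIn K :=
  Subgroup.map_mono (CfsgLib.Fitting.pCore_le_fitting hq)

/-- A subgroup containing the primary parts of `z` contains `z`. -/
theorem mem_of_primary [Finite G] {H : Subgroup G} {z : G}
    (h : ∀ q k : ℕ, q.Prime → ∀ w ∈ zpowers z, w ^ q ^ k = 1 → w ∈ H) : z ∈ H := by
  have key : ∀ n : ℕ, ∀ w ∈ zpowers z, w ^ n = 1 → 0 < n → w ∈ H := by
    intro n
    induction n using Nat.recOnPosPrimePosCoprime with
    | zero => intro w _ _ h0; exact absurd h0 (lt_irrefl 0)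
    | one => intro w _ hw _; rw [pow_one] at hw; rw [hw]; exact one_mem H
    | prime_pow q k hq hk => intro w hw hwn _; exact h q k hq w hw hwn
    | coprime a b ha hb hab iha ihb =>
      intro w hw hwn _
      have h1 := iha (w ^ b) (pow_mem hw b) (by rw [← pow_mul, mul_comm, hwn]) (by omega)
      have h2 := ihb (w ^ a) (pow_mem hw a) (by rw [← pow_mul, hwn]) (by omega)
      have hbez := Nat.gcd_eq_gcd_ab a b
      rw [show Nat.gcd a b = 1 from hab, Nat.cast_one] at hbez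
      have hweq : w = (w ^ a) ^ Nat.gcdA a b * (w ^ b) ^ Nat.gcdB a b := by
        rw [← zpow_natCast w a, ← zpow_natCast w b, ← zpow_mul, ← zpow_mul, ← zpow_add, ← hbez,
          zpow_one]
      rw [hweq]
      exact mul_mem (zpow_mem h2 _) (zpow_mem h1 _)
  exact key (orderOf z) z (mem_zpowers z) (pow_orderOf_eq_one z) (orderOf_pos z)

/-- The elementwise quadratic computation on an abelian group of odd order. -/
theorem fixed_commutator {V : Subgroup G} (hV : ∀ x ∈ V, ∀ y ∈ V, x * y = y * x)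
    (hodd : Odd (Nat.card V)) {a : G} (haV : ∀ x ∈ V, a * x * a⁻¹ ∈ V) (haodd : Odd (orderOf a))
    (σ : G →* G) (hσa : σ a = a⁻¹)
    (hfix : ∀ x ∈ V, a * (x * σ x) * a⁻¹ = x * σ x) :
    ∀ x ∈ V, a * (a * x * a⁻¹ * x⁻¹) = a * x * a⁻¹ * x⁻¹ * a := by
  let δ : G → G := fun x => a * x * a⁻¹ * x⁻¹
  have haV' : ∀ x ∈ V, a⁻¹ * x * a ∈ V := by
    intro x hx
    obtain ⟨m, hm⟩ : ∃ m, a⁻¹ = a ^ m := by
      obtain ⟨j, hj⟩ := haodd
      exact ⟨2 * j, inv_eq_of_mul_eq_one_right (by rw [← pow_succ', ← hj, pow_orderOf_eq_one])⟩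
    have key : ∀ i : ℕ, a ^ i * x * (a ^ i)⁻¹ ∈ V := by
      intro i
      induction i with
      | zero => simpa using hx
      | succ i ih =>
        have e : a ^ (i + 1) * x * (a ^ (i + 1))⁻¹ = a * (a ^ i * x * (a ^ i)⁻¹) * a⁻¹ := by
          rw [pow_succ']; group
        rw [e]; exact haV _ ih
    have := key m
    rwa [← hm, inv_inv] at this
  have hδV : ∀ x ∈ V, δ x ∈ V := fun x hx => mul_mem (haV x hx) (inv_mem hx)
  have hδσ : ∀ x ∈ V, δ (σ x) = (δ x)⁻¹ := by
    intro x hx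
    have h1 := hfix x hx
    have e : a * (x * σ x) * a⁻¹ = a * x * a⁻¹ * (a * σ x * a⁻¹) := by group
    rw [e] at h1
    have h2 : a * σ x * a⁻¹ = (a * x * a⁻¹)⁻¹ * (x * σ x) := by rw [← h1]; group
    calc δ (σ x) = (a * x * a⁻¹)⁻¹ * (x * σ x) * (σ x)⁻¹ := by simp only [δ]; rw [h2]
      _ = (a * x * a⁻¹)⁻¹ * x := by group
      _ = x * (a * x * a⁻¹)⁻¹ := hV _ (inv_mem (haV x hx)) _ hx
      _ = (δ x)⁻¹ := by simp only [δ]; group
  have hσδ : ∀ x ∈ V, σ (δ x) = a⁻¹ * δ x * a := by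
    intro x hx
    have h1 : σ (δ x) = a⁻¹ * σ x * a * (σ x)⁻¹ := by
      simp only [δ, map_mul, map_inv, hσa, inv_inv]
    have h2 : a⁻¹ * (x * σ x) * a = x * σ x := by
      conv_lhs => rw [← hfix x hx]
      group
    have h3 : a⁻¹ * σ x * a = (a⁻¹ * x * a)⁻¹ * (x * σ x) := by rw [← h2]; group
    rw [h1, h3]
    calc (a⁻¹ * x * a)⁻¹ * (x * σ x) * (σ x)⁻¹ = (a⁻¹ * x * a)⁻¹ * x := by group
      _ = x * (a⁻¹ * x * a)⁻¹ := hV _ (inv_mem (haV' x hx)) _ hx
      _ = a⁻¹ * δ x * a := by simp only [δ]; group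
  intro x hx
  set w := δ x with hw
  have hwV : w ∈ V := hδV x hx
  set u := δ w with hu
  have huV : u ∈ V := hδV w hwV
  have e1 : a⁻¹ * u * a = u⁻¹ := by
    rw [hu, ← hδσ w hwV, hσδ x hx, ← hw]
    simp only [δ]; group
  have hu1 : u = 1 := CfsgLib.RankOneInvol.eq_one_of_conj_eq_inv (g := a⁻¹)
    (by rwa [orderOf_inv]) (CfsgLib.RankOneInvol.odd_orderOf_of_mem hodd huV) (by rwa [inv_inv])
  show a * w = w * a
  have h4 : a * w * a⁻¹ * w⁻¹ = 1 := hu1
  rw [mul_inv_eq_one, mul_inv_eq_iff_eq_mul] at h4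
  exact h4

variable [Finite G]

/-- The `r`-primary case, inside `X`. -/
theorem mem_fitting_primary {X : Type u} [Group X] [Finite X] (hX : TwoCyclicLike X)
    (hC : centralizer (Cfsg.fittingSubgroup X : Set X) ≤ Cfsg.fittingSubgroup X)
    {r : ℕ} [hr : Fact r.Prime] (hr2 : r ≠ 2) (σ : X ≃* X)
    {a : X} (hat : σ a = a⁻¹) {k : ℕ} (hak : a ^ r ^ k = 1)
    (hcen : ∀ q : ℕ, q.Prime → q ≠ r → ∀ x ∈ Cfsg.pCore q X, a * x = x * a)
    (hfix : ∀ x ∈ Cfsg.pCore r X, ∃ y ∈ Cfsg.pCore r X, σ y = y ∧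
      x * σ x * (y * y)⁻¹ ∈ (frattini (Cfsg.pCore r X)).map (Cfsg.pCore r X).subtype ∧ a * y = y * a) :
    a ∈ Cfsg.fittingSubgroup X := by
  set P := Cfsg.pCore r X with hPdef
  have hPp : IsPGroup r P := CfsgLib.PCore.pCore_isPGroup
  set Φ := (frattini P).map P.subtype with hΦdef
  haveI : P.Normal := Cfsg.pCore_normal r X
  haveI hΦn : Φ.Normal := CfsgLib.PLocal.frattini_map_normal P
  have haodd : Odd (orderOf a) :=
    ((hr.out.odd_of_ne_two hr2).pow (n := k)).of_dvd_nat (orderOf_dvd_of_pow_eq_one hak)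
  -- `σ` on the quotient
  have hσP : P.map σ.toMonoidHom = P := CfsgLib.Fitting.pCore_map_mulEquiv r σ
  have hσΦ : Φ ≤ Φ.comap σ.toMonoidHom := by
    intro x hx
    obtain ⟨y, hy, rfl⟩ := hx
    let e : P ≃* P := (σ.subgroupMap P).trans (MulEquiv.subgroupCongr hσP)
    have hchar : (frattini P).map e.toMonoidHom = frattini P :=
      characteristic_iff_map_eq.1 inferInstance e
    exact ⟨e y, hchar ▸ mem_map_of_mem e.toMonoidHom hy, rfl⟩
  let π := QuotientGroup.mk' Φ
  let σ' : X ⧸ Φ →* X ⧸ Φ := QuotientGroup.map Φ Φ σ.toMonoidHom hσΦ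
  have hσπ : ∀ x, σ' (π x) = π (σ x) := fun _ => rfl
  set V := P.map π with hVdef
  haveI hVn : V.Normal := (inferInstance : P.Normal).map π (QuotientGroup.mk'_surjective _)
  have hVel : Cfsg.IsElementaryAbelian r V := CfsgLib.PLocal.elementaryAbelian_map_frattini P hPp
  have hVcomm : ∀ x ∈ V, ∀ y ∈ V, x * y = y * x := fun x hx y hy =>
    CfsgLib.Quadratic.elemAb_comm hVel hx hy
  have hVodd : Odd (Nat.card V) := by
    obtain ⟨m, hm⟩ := IsPGroup.iff_card.1 (hPp.map π)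
    rw [hVdef, hm]
    exact (hr.out.odd_of_ne_two hr2).pow
  have hquad := fixed_commutator hVcomm hVodd (a := π a) (fun x hx => hVn.conj_mem x hx _)
    (haodd.of_dvd_nat (orderOf_map_dvd π a)) σ'
    (by rw [hσπ, hat, map_inv])
    (by
      rintro _ ⟨x, hx, rfl⟩
      obtain ⟨y, _, _, hmem, hay⟩ := hfix x hx
      have e : π (x * σ x) = π (y * y) := by
        have h1 : π (x * σ x * (y * y)⁻¹) = 1 := (QuotientGroup.eq_one_iff _).2 hmem
        rwa [map_mul, map_inv, mul_inv_eq_one] at h1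
      rw [hσπ, ← map_mul, e, ← map_inv, ← map_mul, ← map_mul]
      refine congrArg π ?_
      rw [← mul_assoc a, hay, mul_assoc y, hay, ← mul_assoc y, mul_inv_cancel_right])
  -- stability on `V`
  have hmemD : π a ∈ CfsgLib.PLocal.stabD r V := by
    have hst : Cfsg.IsPStableOn r V := by
      by_contra hns
      obtain ⟨M, f, hf⟩ := CfsgLib.PLocal.exists_qd_of_not_isPStableOn hr2 V hVel hns
      exact not_twoCyclicLike_qd hr2
        (((hX.map π (QuotientGroup.mk'_surjective _)).subgroup M).map f hf)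
    refine CfsgLib.PLocal.isPStableOn_iff_stabD.1 hst _ (le_bot_iff.1 (commutator_le.2 ?_))
    -- elements acting trivially on `V / C_V(a)`
    let W : Subgroup (X ⧸ Φ) := V ⊓ centralizer ({π a} : Set (X ⧸ Φ))
    let Q : Subgroup (X ⧸ Φ) :=
      { carrier := {g | (∀ v ∈ V, g * v * g⁻¹ * v⁻¹ ∈ W) ∧ ∀ w ∈ W, g * w * g⁻¹ = w}
        one_mem' := ⟨fun v _ => by simp [one_mem], fun w _ => by group⟩
        mul_mem' := by
          rintro g h ⟨hg1, hg2⟩ ⟨hh1, hh2⟩
          refine ⟨fun v hv => ?_, fun w hw => ?_⟩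
          · have e : g * h * v * (g * h)⁻¹ * v⁻¹ =
                g * (h * v * h⁻¹ * v⁻¹) * g⁻¹ * (g * v * g⁻¹ * v⁻¹) := by group
            rw [e, hg2 _ (hh1 v hv)]
            exact mul_mem (hh1 v hv) (hg1 v hv)
          · have e : g * h * w * (g * h)⁻¹ = g * (h * w * h⁻¹) * g⁻¹ := by group
            rw [e, hh2 w hw, hg2 w hw]
        inv_mem' := by
          rintro g ⟨hg1, hg2⟩
          have hw' : ∀ w ∈ W, g⁻¹ * w * g⁻¹⁻¹ = w := fun w hw => by
            conv_lhs => rw [← hg2 w hw]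
            group
          refine ⟨fun v hv => ?_, hw'⟩
          have h1 := hw' _ (hg1 v hv)
          have e : g⁻¹ * (g * v * g⁻¹ * v⁻¹) * g⁻¹⁻¹ = (g⁻¹ * v * g⁻¹⁻¹ * v⁻¹)⁻¹ := by group
          rw [e] at h1
          rw [inv_eq_iff_eq_inv.1 h1]
          exact inv_mem (hg1 v hv) }
    have haQ : π a ∈ Q := by
      refine ⟨fun v hv => ⟨V.mul_mem (hVn.conj_mem v hv _) (V.inv_mem hv),
        mem_centralizer_singleton_iff.2 (hquad v hv).symm⟩, fun w hw => ?_⟩
      rw [← mem_centralizer_singleton_iff.1 hw.2, mul_inv_cancel_right]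
    have hW : ⁅V, zpowers (π a)⁆ ≤ W := commutator_le.2 fun v hv g hg => by
      have h1 := (zpowers_le.2 haQ hg).1 v hv
      have e : ⁅v, g⁆ = (g * v * g⁻¹ * v⁻¹)⁻¹ := by rw [commutatorElement_def]; group
      rw [e]; exact inv_mem h1
    intro w hw g hg
    obtain ⟨i, rfl⟩ := hg
    rw [mem_bot, commutatorElement_eq_one_iff_mul_comm]
    exact ((show Commute w (π a) from mem_centralizer_singleton_iff.1 (hW hw).2).zpow_right i).eq
  -- the normal subgroup
  set S : Set X := {x | ∃ q : ℕ, q.Prime ∧ q ≠ r ∧ x ∈ Cfsg.pCore q X} with hS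
  set D := (CfsgLib.PLocal.stabD r V).comap π with hD
  haveI : (CfsgLib.PLocal.stabD r V).Normal := CfsgLib.PLocal.stabD_normal r V
  set N := D ⊓ centralizer S with hN
  have hNn : N.Normal := by
    refine ⟨fun x hx g => ⟨(inferInstance : D.Normal).conj_mem x hx.1 g, mem_centralizer_iff.2 ?_⟩⟩
    rintro s ⟨q, hq, hqr, hs⟩
    have hs' : g⁻¹ * s * g⁻¹⁻¹ ∈ S := ⟨q, hq, hqr, (Cfsg.pCore_normal q X).conj_mem s hs g⁻¹⟩
    have := mem_centralizer_iff.1 hx.2 _ hs'
    calc s * (g * x * g⁻¹) = g * ((g⁻¹ * s * g⁻¹⁻¹) * x) * g⁻¹ := by group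
      _ = g * (x * (g⁻¹ * s * g⁻¹⁻¹)) * g⁻¹ := by rw [this]
      _ = g * x * g⁻¹ * s := by group
  have haN : a ∈ N := ⟨hmemD, mem_centralizer_iff.2 fun s ⟨q, hq, hqr, hs⟩ => (hcen q hq hqr s hs).symm⟩
  -- `r'`-parts of `N` are central
  have hprim : ∀ q j : ℕ, q.Prime → q ≠ r → ∀ z ∈ N, z ^ q ^ j = 1 → ∀ y ∈ N, z * y = y * z := by
    intro q j hq hqr z hz hzj y hy
    haveI := Fact.mk hq
    have hcop : (q ^ j).Coprime r :=
      Nat.Coprime.pow_left j ((Nat.coprime_primes hq hr.out).2 hqr)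
    have hzV : π z ∈ centralizer (V : Set (X ⧸ Φ)) := by
      set π₂ := QuotientGroup.mk' (centralizer (V : Set (X ⧸ Φ)))
      obtain ⟨i, hi⟩ := (CfsgLib.PCore.pCore_isPGroup (p := r)) ⟨π₂ (π z), hz.1⟩
      have hi' : π₂ (π z) ^ r ^ i = 1 := congrArg Subtype.val hi
      have h1 : π₂ (π z) ^ q ^ j = 1 := by rw [← map_pow, ← map_pow, hzj, map_one, map_one]
      refine (QuotientGroup.eq_one_iff _).1 (orderOf_eq_one_iff.1 ?_)
      exact Nat.eq_one_of_dvd_coprimes (hcop.pow_right i) (orderOf_dvd_of_pow_eq_one h1)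
        (orderOf_dvd_of_pow_eq_one hi')
    have hzP : z ∈ centralizer (P : Set X) := by
      refine CfsgLib.Coprime.le_centralizer_of_trivial_on_frattini (zpowers z) P
        (by rw [normalizer_eq_top P]; exact le_top) ?_ ?_ (mem_zpowers z)
      · obtain ⟨m, hm⟩ := IsPGroup.iff_card.1 (hPp.to_subgroup (frattini P))
        rw [Nat.card_zpowers, hm]
        exact ((hcop.coprime_dvd_left (orderOf_dvd_of_pow_eq_one hzj))).pow_right m
      · intro b hb x hx
        obtain ⟨i, rfl⟩ := hb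
        have h1 : π (z ^ i) ∈ centralizer (V : Set (X ⧸ Φ)) := by
          rw [map_zpow]; exact zpow_mem hzV i
        refine (QuotientGroup.eq_one_iff (N := Φ) _).1 ?_
        show π (z ^ i * x * (z ^ i)⁻¹ * x⁻¹) = 1
        rw [map_mul, map_mul, map_mul, ← mem_centralizer_iff.1 h1 (π x) (mem_map_of_mem π hx),
          map_inv, map_inv, mul_inv_cancel_right, mul_inv_cancel]
    have hzF : z ∈ Cfsg.fittingSubgroup X := by
      refine hC (mem_centralizer_iff.2 fun f hf => ?_)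
      have hle : Cfsg.fittingSubgroup X ≤ centralizer ({z} : Set X) := by
        rw [CfsgLib.Fitting.fitting_eq_iSup_pCore]
        refine iSup_le fun q' => ?_
        intro x hx
        rw [mem_centralizer_singleton_iff]
        by_cases hq'r : (q' : ℕ) = r
        · exact mem_centralizer_iff.1 hzP x (by rw [hPdef, ← hq'r]; exact hx)
        · exact mem_centralizer_iff.1 hz.2 x ⟨q', Nat.prime_of_mem_primeFactors q'.2, hq'r, hx⟩
      exact mem_centralizer_singleton_iff.1 (hle hf)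
    have hzq : z ∈ Cfsg.pCore q X := by
      refine Cfsg.Agent.S1312.pgroup_le_fitting_le_pCore (A := zpowers z) ?_ (zpowers_le.2 hzF) (mem_zpowers z)
      intro w
      obtain ⟨i, hi⟩ := w.2
      refine ⟨j, Subtype.ext ?_⟩
      rw [Subgroup.coe_pow, Subgroup.coe_one, ← hi, ← zpow_natCast, ← zpow_mul, mul_comm, zpow_mul,
        zpow_natCast, hzj, one_zpow]
    exact mem_centralizer_iff.1 hy.2 z ⟨q, hq, hqr, hzq⟩
  have hnil : Group.IsNilpotent N := by
    have hq : IsPGroup r (N ⧸ center N) := by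
      intro x
      obtain ⟨y, rfl⟩ := QuotientGroup.mk_surjective x
      obtain ⟨i, m, hm, hom⟩ := Nat.exists_eq_pow_mul_and_not_dvd (orderOf_pos y).ne' r hr.out.ne_one
      refine ⟨i, ?_⟩
      rw [← QuotientGroup.mk_pow, QuotientGroup.eq_one_iff]
      refine mem_of_primary fun q j hq w hw hwj => mem_center_iff.2 fun u => ?_
      by_cases hqr : q = r
      · subst hqr
        have hw1 : w = 1 := by
          have h1 : orderOf w ∣ m := by
            refine (orderOf_dvd_of_mem_zpowers hw).trans ?_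
            rw [orderOf_pow_of_dvd (pow_ne_zero _ hr.out.ne_zero) (hom ▸ dvd_mul_right _ _), hom,
              Nat.mul_div_cancel_left _ (pow_pos hr.out.pos _)]
          exact orderOf_eq_one_iff.1 (Nat.eq_one_of_dvd_coprimes
            (((hr.out.coprime_iff_not_dvd).2 hm).pow_left j) (orderOf_dvd_of_pow_eq_one hwj) h1)
        rw [hw1, mul_one, one_mul]
      · exact Subtype.ext (hprim q j hq hqr w w.2 (congrArg Subtype.val hwj) u u.2).symm
    haveI := hq.isNilpotent
    exact Group.of_quotient_center_nilpotent (inferInstance : Group.IsNilpotent (N ⧸ center N))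
  exact CfsgLib.Fitting.le_fitting hNn hnil haN

/-- An element inverted by `t` and centralising the `t`-fixed points of `F(K)` lies in `F(K)`. -/
theorem mem_fitting_of_inverted_gen {K : Subgroup G} {t a : G} (hK : TwoCyclicLike K)
    (hC : ∀ x ∈ K, x ∈ centralizer (fitIn K : Set G) → x ∈ fitIn K) (ht : t * t = 1)
    (htK : ∀ x ∈ K, t * x * t ∈ K) (ha : a ∈ K) (hat : t * a * t = a⁻¹) (hodd : Odd (orderOf a))
    (h2 : ∀ x ∈ pCoreIn 2 K, a * x = x * a)
    (hfix : ∀ x ∈ fitIn K, t * x * t = x → a * x = x * a) : a ∈ fitIn K := by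
  have hti : t⁻¹ = t := inv_eq_of_mul_eq_one_right ht
  have htt : ∀ x : G, t * (t * x * t) * t = x := fun x => by
    calc t * (t * x * t) * t = (t * t) * x * (t * t) := by group
      _ = x := by rw [ht]; group
  let σ : K ≃* K :=
    { toFun := fun x => ⟨t * x * t, htK x x.2⟩
      invFun := fun x => ⟨t * x * t, htK x x.2⟩
      left_inv := fun x => Subtype.ext (htt x)
      right_inv := fun x => Subtype.ext (htt x)
      map_mul' := fun x y => Subtype.ext (by
        show t * ((x : G) * y) * t = t * x * t * (t * y * t)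
        calc t * ((x : G) * y) * t = t * x * (t * t) * y * t := by rw [ht]; group
          _ = _ := by group) }
  have hinv : ∀ q, ∀ x ∈ pCoreIn q K, t * x * t ∈ pCoreIn q K := by
    rintro q _ ⟨x, hx, rfl⟩
    refine ⟨σ x, ?_, rfl⟩
    rw [← CfsgLib.Fitting.pCore_map_mulEquiv q σ]
    exact mem_map_of_mem σ.toMonoidHom hx
  refine mem_of_primary fun r k hr z hz hzk => ?_
  haveI := Fact.mk hr
  by_cases hr2 : r = 2
  · subst hr2
    have h1 : orderOf z ∣ orderOf a := orderOf_dvd_of_mem_zpowers hz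
    have h3 : z = 1 := orderOf_eq_one_iff.1 (Nat.eq_one_of_dvd_coprimes
      ((Nat.Coprime.pow_left k ((Nat.prime_two.coprime_iff_not_dvd).2
        fun h => Nat.not_even_iff_odd.2 hodd (even_iff_two_dvd.2 h))))
      (orderOf_dvd_of_pow_eq_one hzk) h1)
    rw [h3]; exact one_mem _
  obtain ⟨i, rfl⟩ := hz
  simp only at hzk ⊢
  have hzK : a ^ i ∈ K := zpow_mem ha i
  have hzt : t * a ^ i * t = (a ^ i)⁻¹ := by
    have e : t * a ^ i * t⁻¹ = (t * a * t⁻¹) ^ i := (conj_zpow (a := t) (b := a)).symm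
    rw [hti, hat, inv_zpow] at e
    exact e
  have hzcomm : ∀ x : G, a * x = x * a → a ^ i * x = x * a ^ i := fun x h =>
    ((show Commute a x from h).zpow_left i).eq
  have hzodd : Odd (orderOf (a ^ i)) := hodd.of_dvd_nat (orderOf_dvd_of_mem_zpowers ⟨i, rfl⟩)
  have hpn : ∀ q, ∀ x ∈ pCoreIn q K, a ^ i * x * (a ^ i)⁻¹ ∈ pCoreIn q K := by
    rintro q _ ⟨x, hx, rfl⟩
    exact ⟨⟨_, hzK⟩ * x * ⟨_, hzK⟩⁻¹, (Cfsg.pCore_normal q K).conj_mem x hx _, rfl⟩
  have hcardodd : ∀ q, q.Prime → q ≠ 2 → Odd (Nat.card (pCoreIn q K)) := by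
    intro q hq hq2
    haveI := Fact.mk hq
    obtain ⟨m, hm⟩ := IsPGroup.iff_card.1 ((CfsgLib.PCore.pCore_isPGroup (p := q) (G := K)).map K.subtype)
    rw [pCoreIn, hm]
    exact (hq.odd_of_ne_two hq2).pow
  have hC' : centralizer (Cfsg.fittingSubgroup K : Set K) ≤ Cfsg.fittingSubgroup K := by
    intro x hx
    obtain ⟨y, hy, hyx⟩ := hC x x.2 (mem_centralizer_iff.2 (by
      rintro _ ⟨f, hf, rfl⟩
      exact congrArg Subtype.val (mem_centralizer_iff.1 hx f hf)))
    rwa [← Subtype.ext hyx]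
  refine ⟨⟨a ^ i, hzK⟩, mem_fitting_primary hK hC' hr2 σ
    (Subtype.ext hzt) (k := k) (Subtype.ext hzk) (fun q hq hqr x hx => ?_) (fun x hx => ?_), rfl⟩
  · apply Subtype.ext
    have hxm : (x : G) ∈ pCoreIn q K := ⟨x, hx, rfl⟩
    show a ^ i * (x : G) = x * a ^ i
    by_cases hq2 : q = 2
    · subst hq2; exact hzcomm _ (h2 _ hxm)
    haveI := Fact.mk hq
    refine commute_of_inverted (hcardodd q hq hq2) ht (hinv q) (hpn q) hzt hzodd ?_
      (fun y hy hyt => hzcomm y (hfix y (pCoreIn_le_fitIn hq K hy) hyt)) _ hxm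
    obtain ⟨m, hm⟩ := IsPGroup.iff_card.1 ((CfsgLib.PCore.pCore_isPGroup (p := q) (G := K)).map K.subtype)
    rw [pCoreIn, hm]
    refine Nat.Coprime.pow_right m (Nat.Coprime.coprime_dvd_left (orderOf_dvd_of_pow_eq_one hzk) ?_)
    exact Nat.Coprime.pow_left k ((Nat.coprime_primes hr hq).2 (Ne.symm hqr))
  · obtain ⟨y, w, hy, hyt, hwP, hwt, hxyw⟩ := CfsgLib.RankOneInvol.exists_fixed_mul_inverted
      (hcardodd r hr hr2) ht (hinv r) (show (x : G) ∈ pCoreIn r K from ⟨x, hx, rfl⟩)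
    obtain ⟨y', hy', rfl⟩ := hy
    obtain ⟨w', hw', rfl⟩ := hwP
    refine ⟨y', hy', Subtype.ext hyt, ?_,
      Subtype.ext (hzcomm _ (hfix _ (pCoreIn_le_fitIn hr K ⟨y', hy', rfl⟩) hyt))⟩
    -- `x σ x ≡ y²` modulo the Frattini subgroup
    set P := Cfsg.pCore r K
    set Φ := (frattini P).map P.subtype
    haveI : P.Normal := Cfsg.pCore_normal r K
    haveI : Φ.Normal := CfsgLib.PLocal.frattini_map_normal P
    have hex : x = y' * w' := Subtype.ext hxyw
    have hσy : σ y' = y' := Subtype.ext hyt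
    have hσw : σ w' = w'⁻¹ := Subtype.ext hwt
    rw [← QuotientGroup.eq_one_iff, hex, map_mul σ, hσy, hσw]
    show QuotientGroup.mk' Φ (y' * w' * (y' * w'⁻¹) * (y' * y')⁻¹) = 1
    have hc : QuotientGroup.mk' Φ w' * QuotientGroup.mk' Φ y' =
        QuotientGroup.mk' Φ y' * QuotientGroup.mk' Φ w' :=
      CfsgLib.Quadratic.elemAb_comm (CfsgLib.PLocal.elementaryAbelian_map_frattini P
        CfsgLib.PCore.pCore_isPGroup) (mem_map_of_mem _ hw') (mem_map_of_mem _ hy')
    simp only [map_mul, map_inv]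
    rw [show ∀ b c : K ⧸ Φ, b * c * (b * c⁻¹) = b * (c * b) * c⁻¹ from fun b c => by group, hc]
    group

/-- The solvable case. -/
theorem mem_fitting_of_inverted {W : Subgroup G} [Group.IsSolvable W] {t a : G}
    (hW : Odd (Nat.card W)) (ht : t * t = 1) (htW : ∀ x ∈ W, t * x * t ∈ W) (ha : a ∈ W)
    (hat : t * a * t = a⁻¹) (hfix : ∀ x ∈ fitIn W, t * x * t = x → a * x = x * a) : a ∈ fitIn W := by
  haveI : Fact (Nat.Prime 2) := ⟨Nat.prime_two⟩
  refine mem_fitting_of_inverted_gen (twoCyclicLike_of_odd hW) (fun x hx hxc => ?_) ht htW ha hat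
    (CfsgLib.RankOneInvol.odd_orderOf_of_mem hW ha) (fun x hx => ?_) hfix
  · refine ⟨⟨x, hx⟩, CfsgLib.Fitting.centralizer_fitting_le (mem_centralizer_iff.2 fun f hf =>
      Subtype.ext (mem_centralizer_iff.1 hxc f ⟨f, hf, rfl⟩)), rfl⟩
  · have hbot : pCoreIn 2 W = ⊥ := by
      obtain ⟨m, hm⟩ := IsPGroup.iff_card.1 ((CfsgLib.PCore.pCore_isPGroup (p := 2) (G := W)).map W.subtype)
      have hd : Nat.card (pCoreIn 2 W) ∣ Nat.card W := card_dvd_of_le (map_subtype_le _)
      refine card_eq_one.1 ?_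
      rw [pCoreIn, hm]
      rcases Nat.eq_zero_or_pos m with rfl | hm0
      · exact pow_zero 2
      · rw [pCoreIn, hm] at hd
        exact absurd ((dvd_pow_self 2 hm0.ne').trans hd) (by
          rw [← even_iff_two_dvd, Nat.not_even_iff_odd]; exact hW)
    rw [hbot, mem_bot] at hx
    rw [hx, mul_one, one_mul]

end CfsgLib.GW
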