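import Cfsg.Agent.Lib.GW.Setup
import Cfsg.Agent.Lib.GW.Quad

/-!
Gorenstein–Walter, Step 3.1: the data of a maximal subgroup with component centralising an element
of order `r` of `O_r(C(t)) ∩ C(b)`.
-/

set_option autoImplicit false

namespace CfsgLib.GW

open Subgroup

universe u

variable {G : Type u} [Group G]

namespace Setup

/-- `O_r(C(t))`. -/
def R (E : Setup G) (r : ℕ) : Subgroup G := pCoreIn r E.H

/-- Step 3.1 of the proof: for every odd prime and every reflection, `b` centralises `O_r(C(t))` or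
fixes only `1` in it. -/
def Dichotomy (E : Setup G) : Prop :=
  ∀ r : ℕ, r.Prime → r ≠ 2 → ∀ b : G, E.Refl b → E.R r ≤ E.X b ∨ E.R r ⊓ E.X b = ⊥

end Setup

/-- A maximal subgroup `K` with perfect residual `P ∋ t, b` and an element `e` of order `r` in
`O_r(C(t)) ∩ C(b)` centralised by `P` and lying in `O(K)`, `P` being maximal among the perfect
subgroups containing `t` and `b` which centralise such an element. -/
structure Central (E : Setup G) (b : G) (r : ℕ) where
  K : Subgroup G
  P : Subgroup G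
  e : G
  isCoatom : IsCoatom K
  P_le : P ≤ K
  perfect : ⁅P, P⁆ = P
  t_mem : E.t ∈ P
  b_mem : b ∈ P
  orderOf_e : orderOf e = r
  e_mem : e ∈ E.R r ⊓ E.X b
  e_core : e ∈ coreIn K
  P_commute : ∀ x ∈ P, x * e = e * x
  normalizer_le : normalizer (zpowers e : Set G) ≤ K
  core_commute : P ≤ centralizer (coreIn K : Set G)
  le_P : ∀ Q : Subgroup G, Q ≤ K → ⁅Q, Q⁆ = Q → Q ≤ P
  maximal : ∀ (Q : Subgroup G) (c : G), ⁅Q, Q⁆ = Q → E.t ∈ Q → b ∈ Q → c ∈ E.R r ⊓ E.X b →
    orderOf c = r → (∀ x ∈ Q, x * c = c * x) → P ≤ Q → Q = P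

end CfsgLib.GW
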