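import Cfsg.Agent.Lib.GW.Formula

/-!
Gorenstein–Walter, Step 3.1e with a Sylow four-group: when `U` has a proper normal subgroup `N`
with abelian quotient inverted by the reflection and the elements outside `N` are special, the
induced character `Ind (λ - 1)` of norm three gives the order formula in the shape of the case
`k ≥ 1`.
-/

set_option autoImplicit false
set_option linter.style.haveILetI false
set_option linter.unusedSectionVars false

noncomputable section

namespace CfsgLib.GW.Exceptional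

open Subgroup Cfsg CfsgLib.Characters CfsgLib.Chars17 CfsgLib.ClassCount
open scoped Classical ComplexConjugate

universe u

variable {G : Type u} [Group G] [Finite G]

/-- The hypotheses. -/
structure Special (E : Setup G) (N A : Subgroup G) : Prop where
  hk : E.d.k = 0
  le : N ≤ E.U
  nor : ∀ u ∈ E.U, ∀ x ∈ N, u * x * u⁻¹ ∈ N
  der : ∀ u ∈ E.U, ∀ v ∈ E.U, u * v * u⁻¹ * v⁻¹ ∈ N
  ne : N ≠ E.U
  inv : ∀ u ∈ E.U, E.d.a * u * E.d.a⁻¹ * u ∈ N
  spec : ∀ u ∈ E.U, u ∉ N → centralizer ({u} : Set G) ≤ E.H ∧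
    ∃ h ∈ E.U, ∀ x, (x ∈ E.U ∧ x * u = u * x) ↔ h⁻¹ * x * h ∈ A
  memA : ∀ x ∈ A, x ∈ E.U ∧ E.d.a * x * E.d.a⁻¹ = x⁻¹
  card : Nat.card E.U = Nat.card A * Nat.card (E.X E.d.a) ^ 2

namespace Special

variable {E : Setup G} {N A : Subgroup G}

/-- The subgroup `U × ⟨t⟩` of index two in `H`. -/
def K0 (E : Setup G) : Subgroup G where
  carrier := {g | g ∈ E.U ∨ g * E.t ∈ E.U}
  one_mem' := Or.inl (one_mem _)
  mul_mem' := by
    intro x y hx hy
    have hc : ∀ {z : G}, z ∈ E.U → E.t * z = z * E.t := fun hz => ((E.mem_U.1 hz).1).symm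
    rcases hx with hx | hx <;> rcases hy with hy | hy
    · exact Or.inl (mul_mem hx hy)
    · exact Or.inr (by rw [mul_assoc]; exact mul_mem hx hy)
    · exact Or.inr (by
        have := mul_mem hx hy
        rwa [mul_assoc, hc hy, ← mul_assoc] at this)
    · refine Or.inl ?_
      have := mul_mem hx hy
      rwa [show x * E.t * (y * E.t) = x * (E.t * (y * E.t)) by group, hc hy,
        mul_assoc y, E.t_sq, mul_one] at this
  inv_mem' := by
    intro x hx
    rcases hx with hx | hx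
    · exact Or.inl (inv_mem hx)
    · refine Or.inr ?_
      have h1 := inv_mem hx
      rw [mul_inv_rev, E.t_inv] at h1
      have h2 : E.t * (E.t * x⁻¹) = E.t * x⁻¹ * E.t := ((E.mem_U.1 h1).1).symm
      rw [← mul_assoc E.t E.t, E.t_sq, one_mul] at h2
      have h3 : x⁻¹ * E.t = E.t * x⁻¹ := by
        nth_rewrite 1 [h2]
        rw [mul_assoc (E.t * x⁻¹), E.t_sq, mul_one]
      show x⁻¹ * E.t ∈ E.U
      rwa [h3]

theorem mem_K0 {g : G} : g ∈ K0 E ↔ g ∈ E.U ∨ g * E.t ∈ E.U := Iff.rfl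

theorem U_le_K0 : E.U ≤ K0 E := fun _ h => Or.inl h

theorem t_mem_K0 : E.t ∈ K0 E := Or.inr (by rw [E.t_sq]; exact one_mem _)

theorem t_notMem_U : E.t ∉ E.U := fun h => E.t_ne_one (E.eq_one_of_mem_U_S h E.t_mem_S)

theorem K0_le_H : K0 E ≤ E.H := by
  intro g hg
  rcases hg with hg | hg
  · exact E.U_le_H hg
  · have := mul_mem (E.U_le_H hg) (E.S_le_H E.t_mem_S)
    rwa [mul_assoc, E.t_sq, mul_one] at this

theorem K0_cases {g : G} (hg : g ∈ K0 E) : ∃ x ∈ E.U, g = x ∨ g = x * E.t := by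
  rcases hg with hg | hg
  · exact ⟨g, hg, Or.inl rfl⟩
  · exact ⟨g * E.t, hg, Or.inr (by rw [mul_assoc, E.t_sq, mul_one])⟩

theorem comm_t {x : G} (hx : x ∈ E.U) : x * E.t = E.t * x := (E.mem_U.1 hx).1

theorem mul_t_notMem {x : G} (hx : x ∈ E.U) : x * E.t ∉ E.U := fun h =>
  t_notMem_U (by
    have := mul_mem (inv_mem hx) h
    rwa [inv_mul_cancel_left] at this)

variable (hs : Special E N A)
include hs

theorem a_notMem : E.d.a ∉ K0 E := by
  intro h
  rcases h with h | h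
  · exact E.refl_a.ne_one (E.eq_one_of_mem_U_S h E.d.a_mem)
  · exact E.refl_a.mul_t.ne_one (E.eq_one_of_mem_U_S h E.refl_a.mul_t.1)

theorem cases_H {h : G} (hh : h ∈ E.H) : h ∈ K0 E ∨ h * E.d.a ∈ K0 E := by
  obtain ⟨x, hx, s, hsS, rfl⟩ := E.exists_mul hh
  have hz : ∀ r ∈ zpowers E.d.r, r ∈ K0 E := fun r hr => by
    rcases E.d.rot_cases hs.hk hr with e | e <;> rw [e]
    · exact one_mem _
    · exact t_mem_K0
  rcases E.d.cases s hsS with h | h
  · exact Or.inl (mul_mem (U_le_K0 hx) (hz _ h))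
  · exact Or.inr (by rw [mul_assoc]; exact mul_mem (U_le_K0 hx) (hz _ h))

/-- Elements of `U × ⟨t⟩` act trivially on `U / N`. -/
theorem conj_mem_N {h x : G} (hh : h ∈ K0 E) (hx : x ∈ E.U) : h * x * h⁻¹ * x⁻¹ ∈ N := by
  obtain ⟨y, hy, rfl | rfl⟩ := K0_cases hh
  · exact hs.der _ hy _ hx
  · rw [show y * E.t * x * (y * E.t)⁻¹ * x⁻¹ = y * (E.t * x) * E.t⁻¹ * y⁻¹ * x⁻¹ by group,
      ← comm_t hx, ← mul_assoc, mul_inv_cancel_right]
    exact hs.der _ hy _ hx

theorem conj_U {h x : G} (hh : h ∈ E.H) (hx : x ∈ E.U) : h * x * h⁻¹ ∈ E.U :=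
  E.conj_mem_U hh hx

/-- The other elements of `H` invert `U / N`. -/
theorem conj_inv_mem_N {h x : G} (hh : h ∈ E.H) (hh' : h ∉ K0 E) (hx : x ∈ E.U) :
    h * x * h⁻¹ * x ∈ N := by
  have hk : h * E.d.a ∈ K0 E := (hs.cases_H hh).resolve_left hh'
  set x' := E.d.a * x * E.d.a⁻¹
  have hx' : x' ∈ E.U := hs.conj_U E.refl_a.mem_H hx
  have := mul_mem (hs.conj_mem_N hk hx') (hs.inv x hx)
  rwa [show h * E.d.a * x' * (h * E.d.a)⁻¹ * x'⁻¹ * (x' * x) =
    h * (E.d.a * E.d.a) * x * (E.d.a * E.d.a)⁻¹ * h⁻¹ * x by simp only [x']; group,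
    E.d.sq, inv_one, mul_one, mul_one] at this

omit hs in
/-- Every element of odd order is a power of its square. -/
theorem mem_zpowers_sq {x : G} (hx : Odd (orderOf x)) : x ∈ zpowers (x * x) := by
  obtain ⟨k, hk⟩ := hx
  refine ⟨((k + 1 : ℕ) : ℤ), ?_⟩
  show (x * x) ^ ((k + 1 : ℕ) : ℤ) = x
  rw [zpow_natCast, ← pow_two, ← pow_mul, show 2 * (k + 1) = orderOf x + 1 by omega, pow_succ,
    pow_orderOf_eq_one, one_mul]

omit hs in
theorem odd_order {x : G} (hx : x ∈ E.U) : Odd (orderOf x) := (E.mem_U.1 hx).2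

/-- The centraliser of an element outside `N` lies in `U × ⟨t⟩`. -/
theorem centralizer_le {x c : G} (hx : x ∈ E.U) (hxN : x ∉ N) (hc : c * x = x * c) :
    c ∈ K0 E := by
  by_contra hcn
  have hcH : c ∈ E.H := (hs.spec x hx hxN).1 (mem_centralizer_singleton_iff.2 hc)
  have h1 := hs.conj_inv_mem_N hcH hcn hx
  rw [hc, mul_inv_cancel_right] at h1
  exact hxN (zpowers_le.2 h1 (mem_zpowers_sq (odd_order hx)))

omit hs in
/-- An element commuting with `x * t` commutes with `x`. -/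
theorem comm_of_comm_mul_t {x c : G} (hx : x ∈ E.U) (hc : Commute c (x * E.t)) :
    Commute c x := by
  have h1 : Commute c (x * x) := by
    have := hc.mul_right hc
    rwa [show x * E.t * (x * E.t) = x * (E.t * x) * E.t by group, ← comm_t hx, ← mul_assoc,
      mul_assoc (x * x), E.t_sq, mul_one] at this
  obtain ⟨k, hk⟩ := mem_zpowers_sq (odd_order hx)
  have := h1.zpow_right k
  rwa [show (x * x) ^ k = x from hk] at this

omit hs in
theorem comm_special {x h c : G} (hx : x ∈ E.U) (hh : h = x ∨ h = x * E.t)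
    (hc : Commute c h) : Commute c x := by
  rcases hh with rfl | rfl
  exacts [hc, comm_of_comm_mul_t hx hc]

/-- `t` is the only involution commuting with a special element. -/
theorem eq_t {x h s : G} (hx : x ∈ E.U) (hxN : x ∉ N) (hh : h = x ∨ h = x * E.t)
    (hs2 : orderOf s = 2) (hc : Commute s h) : s = E.t := by
  obtain ⟨y, hy, e⟩ := K0_cases (hs.centralizer_le hx hxN (comm_special hx hh hc))
  obtain ⟨h1, h2⟩ := CfsgLib.Involutions.orderOf_eq_two_iff_mul.1 hs2
  have hy2 : y * y = 1 := by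
    rcases e with rfl | rfl
    · exact h2
    · rw [show y * E.t * (y * E.t) = y * (E.t * y) * E.t by group, ← comm_t hy, ← mul_assoc,
        mul_assoc (y * y), E.t_sq, mul_one] at h2
      exact h2
  have hy1 : y = 1 := by
    have := mem_zpowers_sq (odd_order hy)
    rw [hy2, zpowers_one_eq_bot, mem_bot] at this
    exact this
  subst hy1
  rcases e with rfl | rfl
  · exact absurd rfl h1
  · exact one_mul _

/-! ### The linear character -/

theorem exists_linear : ∃ l : E.U →* ℂˣ, (∀ x : E.U, (x : G) ∈ N → l x = 1) ∧ l ≠ 1 := by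
  set N' := N.subgroupOf E.U with hN'
  haveI hn : N'.Normal := ⟨fun x hx g => hs.nor g g.2 x hx⟩
  letI : CommGroup (E.U ⧸ N') :=
    { (inferInstance : Group (E.U ⧸ N')) with
      mul_comm := fun a b => by
        refine QuotientGroup.induction_on a fun u => QuotientGroup.induction_on b fun v => ?_
        rw [← QuotientGroup.mk_mul, ← QuotientGroup.mk_mul, QuotientGroup.eq_iff_div_mem]
        show (((u * v) / (v * u) : E.U) : G) ∈ N
        rw [show (((u * v) / (v * u) : E.U) : G) = (u : G) * v * (u : G)⁻¹ * (v : G)⁻¹ by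
          simp [div_eq_mul_inv, mul_assoc]]
        exact hs.der _ u.2 _ v.2 }
  obtain ⟨x, hxU, hxN⟩ : ∃ x ∈ E.U, x ∉ N := SetLike.exists_of_lt (lt_of_le_of_ne hs.le hs.ne)
  obtain ⟨φ, hφ⟩ := CommGroup.exists_apply_ne_one_of_hasEnoughRootsOfUnity (E.U ⧸ N') ℂ
    (a := QuotientGroup.mk' N' ⟨x, hxU⟩) (fun h => hxN ((QuotientGroup.eq_one_iff (N := N') (⟨x, hxU⟩ : E.U)).1 h))
  refine ⟨φ.comp (QuotientGroup.mk' N'), fun y hy => ?_, fun h => hφ ?_⟩
  · show φ (y : E.U ⧸ N') = 1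
    rw [(QuotientGroup.eq_one_iff y).2 hy, map_one]
  · exact DFunLike.congr_fun h ⟨x, hxU⟩

end Special

/-- A linear character of `U` trivial on `N`, as a function on the group. -/
def ext (E : Setup G) (l : E.U →* ℂˣ) (g : G) : ℂ :=
  if h : g ∈ E.U then (l ⟨g, h⟩ : ℂ) else
    if h : g * E.t ∈ E.U then (l ⟨g * E.t, h⟩ : ℂ) else 0

namespace Special

variable {E : Setup G} {N A : Subgroup G}

theorem ext_mem {l : E.U →* ℂˣ} {x : G} (hx : x ∈ E.U) : ext E l x = l ⟨x, hx⟩ := dif_pos hx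

theorem ext_mul_t {l : E.U →* ℂˣ} {x : G} (hx : x ∈ E.U) : ext E l (x * E.t) = l ⟨x, hx⟩ := by
  have h2 : x * E.t * E.t = x := by rw [mul_assoc, E.t_sq, mul_one]
  rw [ext, dif_neg (mul_t_notMem hx), dif_pos (by rw [h2]; exact hx)]
  simp only [h2]

theorem ext_mul {l : E.U →* ℂˣ} {g g' : G} (hg : g ∈ K0 E) (hg' : g' ∈ K0 E) :
    ext E l (g * g') = ext E l g * ext E l g' := by
  obtain ⟨x, hx, e | e⟩ := K0_cases hg <;> obtain ⟨y, hy, e' | e'⟩ := K0_cases hg' <;> rw [e, e']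
  · rw [ext_mem (mul_mem hx hy), ext_mem hx, ext_mem hy, ← Units.val_mul, ← map_mul]
    rfl
  · rw [← mul_assoc, ext_mul_t (mul_mem hx hy), ext_mem hx, ext_mul_t hy, ← Units.val_mul,
      ← map_mul]
    rfl
  · rw [mul_assoc, ← comm_t hy, ← mul_assoc, ext_mul_t (mul_mem hx hy), ext_mul_t hx, ext_mem hy,
      ← Units.val_mul, ← map_mul]
    rfl
  · rw [show x * E.t * (y * E.t) = x * (E.t * y) * E.t by group, ← comm_t hy, ← mul_assoc,
      mul_assoc (x * y), E.t_sq, mul_one, ext_mem (mul_mem hx hy), ext_mul_t hx, ext_mul_t hy,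
      ← Units.val_mul, ← map_mul]
    rfl

theorem ext_one {l : E.U →* ℂˣ} : ext E l 1 = 1 := by
  rw [ext_mem (one_mem _)]
  simp [show (⟨1, one_mem _⟩ : E.U) = 1 from rfl]

variable (hs : Special E N A)
include hs

/-- Conjugation by a reflection inverts the linear character. -/
theorem ext_conj {l : E.U →* ℂˣ} (hl : ∀ x : E.U, (x : G) ∈ N → l x = 1) {h g : G}
    (hh : h ∈ E.H) (hg : g ∈ K0 E) :
    ext E l (h * g * h⁻¹) = if h ∈ K0 E then ext E l g else (ext E l g)⁻¹ := by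
  have key : ∀ x, x ∈ E.U → ∀ hy : h * x * h⁻¹ ∈ E.U, ∀ hx : x ∈ E.U,
      (l ⟨_, hy⟩ : ℂ) = if h ∈ K0 E then (l ⟨x, hx⟩ : ℂ) else (l ⟨x, hx⟩ : ℂ)⁻¹ := by
    intro x _ hy hx
    split_ifs with hk
    · have h1 := hl (⟨_, hy⟩ * ⟨x, hx⟩⁻¹) (hs.conj_mem_N hk hx)
      rw [map_mul, map_inv, mul_inv_eq_one] at h1
      rw [h1]
    · have h1 := hl (⟨_, hy⟩ * ⟨x, hx⟩) (hs.conj_inv_mem_N hh hk hx)
      rw [map_mul] at h1
      rw [eq_inv_of_mul_eq_one_left h1, Units.val_inv_eq_inv_val]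
  obtain ⟨x, hx, rfl | rfl⟩ := K0_cases hg
  · rw [ext_mem (hs.conj_U hh hx), ext_mem hx]
    exact key g hx _ _
  · have hht : h * E.t * h⁻¹ = E.t := by rw [(E.mem_H.1 hh), mul_inv_cancel_right]
    rw [show h * (x * E.t) * h⁻¹ = h * x * h⁻¹ * (h * E.t * h⁻¹) by group, hht,
      ext_mul_t (hs.conj_U hh hx), ext_mul_t hx]
    exact key x hx _ _

end Special

/-- The values of the exceptional function on `U`. -/
def val (E : Setup G) (l : E.U →* ℂˣ) (g : G) : ℂ := ext E l g + (ext E l g)⁻¹ - 2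

/-- The exceptional function on `H`, extended by zero. -/
def phi (E : Setup G) (l : E.U →* ℂˣ) (g : G) : ℂ :=
  if g ∈ Special.K0 E then val E l g else 0

namespace Special

variable {E : Setup G} {N A : Subgroup G}

theorem sum_phi [Fintype G] {l : E.U →* ℂˣ} (F : G → ℂ) :
    ∑ h : E.H, phi E l h * F h =
      ∑ x : E.U, (val E l x * F x + val E l ((x : G) * E.t) * F ((x : G) * E.t)) := by
  rw [← Finset.sum_subtype (Finset.univ.filter (· ∈ E.H)) (by simp) (fun g => phi E l g * F g)]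
  simp only [phi, ite_mul, zero_mul]
  rw [← Finset.sum_filter, Finset.sum_add_distrib]
  have e1 : ∀ f : G → ℂ, ∑ x : E.U, f x = ∑ g ∈ Finset.univ.filter (· ∈ E.U), f g := fun f =>
    (Finset.sum_subtype _ (by simp) f).symm
  have e2 : ∑ x : E.U, val E l ((x : G) * E.t) * F ((x : G) * E.t) =
      ∑ g ∈ Finset.univ.filter (fun g => g * E.t ∈ E.U), val E l g * F g := by
    rw [e1 fun g => val E l (g * E.t) * F (g * E.t)]
    refine Finset.sum_bij' (fun g _ => g * E.t) (fun g _ => g * E.t) ?_ ?_ ?_ ?_ ?_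
    · intro g hg
      simpa [mul_assoc, E.t_sq] using hg
    · intro g hg
      simpa [mul_assoc, E.t_sq] using hg
    · intro g _
      simp [mul_assoc, E.t_sq]
    · intro g _
      simp [mul_assoc, E.t_sq]
    · intro g _
      rfl
  rw [e1 fun g => val E l g * F g, e2, ← Finset.sum_union]
  · refine Finset.sum_congr ?_ fun g _ => rfl
    ext g
    simp only [Finset.mem_filter, Finset.mem_univ, true_and, Finset.mem_union]
    exact ⟨fun h => h.2, fun h => ⟨K0_le_H h, h⟩⟩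
  · rw [Finset.disjoint_filter]
    exact fun g _ hg hgt => mul_t_notMem hg hgt

theorem val_mul_t {l : E.U →* ℂˣ} {x : G} (hx : x ∈ E.U) :
    val E l (x * E.t) = val E l x := by
  rw [val, val, ext_mul_t hx, ext_mem hx]

variable (hs : Special E N A)
include hs

theorem index_K0 : ((K0 E).subgroupOf E.H).index = 2 := by
  rw [index_eq_two_iff]
  refine ⟨⟨E.d.a, E.refl_a.mem_H⟩, fun h => ?_⟩
  simp only [mem_subgroupOf, Subgroup.coe_mul]
  by_cases hh : (h : G) ∈ K0 E
  · refine Or.inr ⟨hh, fun h' => hs.a_notMem ?_⟩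
    exact (mul_mem_cancel_left hh).1 h'
  · exact Or.inl ⟨(hs.cases_H h.2).resolve_left hh, hh⟩

theorem card_H : Nat.card E.H = 4 * Nat.card E.U := by
  rw [E.card_H, E.card_S, hs.hk]
  ring

theorem card_K0 : Nat.card ((K0 E).subgroupOf E.H) = 2 * Nat.card E.U := by
  have h := card_mul_index ((K0 E).subgroupOf E.H)
  rw [hs.index_K0, hs.card_H] at h
  omega

variable [Fintype G] {l : E.U →* ℂˣ} (hl : ∀ x : E.U, (x : G) ∈ N → l x = 1)
include hl

/-- The exceptional function is a difference of induced characters. -/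
theorem phi_eq :
    ∃ θ₁ θ₂ : E.H → ℂ, Cfsg.IsCharacter E.H θ₁ ∧ Cfsg.IsCharacter E.H θ₂ ∧
      (fun h : E.H => phi E l h) = θ₁ - θ₂ := by
  set K := (K0 E).subgroupOf E.H with hK
  haveI hKn : K.Normal := normal_of_index_eq_two hs.index_K0
  let L : K →* ℂ :=
    { toFun := fun k => ext E l ((k : E.H) : G)
      map_one' := ext_one
      map_mul' := fun k k' => ext_mul (g := ((k : E.H) : G)) (g' := ((k' : E.H) : G)) k.2 k'.2 }
  refine ⟨Cfsg.indFun K L, Cfsg.indFun K (fun _ => (1 : ℂ)),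
    CfsgLib.Induction.isCharacter_indFun K (CfsgLib.Induction.isCharacter_monoidHom L),
    CfsgLib.Induction.isCharacter_indFun K CfsgLib.Induction.isCharacter_const_one, ?_⟩
  funext h
  rw [Pi.sub_apply]
  by_cases hh : (h : G) ∈ K0 E
  · rw [phi, if_pos hh, CfsgLib.Induction.indFun_apply, CfsgLib.Induction.indFun_apply, ← mul_sub,
      ← Finset.sum_sub_distrib]
    have hmem : ∀ x : E.H, x⁻¹ * h * x ∈ K := fun x => by
      have := hKn.conj_mem h hh x⁻¹
      rwa [inv_inv] at this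
    have hterm : ∀ x : E.H, Cfsg.extendByZero K L (x⁻¹ * h * x) -
        Cfsg.extendByZero K (fun _ => (1 : ℂ)) (x⁻¹ * h * x) =
        (if x ∈ K then ext E l h else (ext E l h)⁻¹) - 1 := fun x => by
      rw [CfsgLib.Induction.extendByZero_mem K _ (hmem x),
        CfsgLib.Induction.extendByZero_mem K _ (hmem x)]
      show ext E l ((x : G)⁻¹ * h * x) - 1 = _
      rw [show (x : G)⁻¹ * h * x = (x : G)⁻¹ * h * (x : G)⁻¹⁻¹ by rw [inv_inv],
        hs.ext_conj hl (inv_mem x.2) hh]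
      simp only [inv_mem_iff, hK, mem_subgroupOf]
    rw [Finset.sum_congr rfl fun x _ => hterm x, Finset.sum_sub_distrib, Finset.sum_ite,
      Finset.sum_const, Finset.sum_const, Finset.sum_const]
    have hc1 : (Finset.univ.filter fun x : E.H => x ∈ K).card = 2 * Nat.card E.U := by
      rw [← hs.card_K0, Nat.card_eq_fintype_card, Fintype.card_subtype]
    have hc2 : (Finset.univ.filter fun x : E.H => ¬ x ∈ K).card = 2 * Nat.card E.U := by
      have h1 := Finset.card_filter_add_card_filter_not (s := (Finset.univ : Finset E.H))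
        (fun x => x ∈ K)
      rw [hc1, Finset.card_univ, ← Nat.card_eq_fintype_card, hs.card_H] at h1
      omega
    have hU : (Nat.card E.U : ℂ) ≠ 0 := Nat.cast_ne_zero.2 Nat.card_pos.ne'
    rw [hc1, hc2, Finset.card_univ, ← Nat.card_eq_fintype_card, hs.card_H, hs.card_K0, val]
    simp only [nsmul_eq_mul, Nat.cast_mul, Nat.cast_ofNat]
    field_simp
    ring
  · rw [phi, if_neg hh, CfsgLib.Induction.indFun_normal_eq_zero K hh,
      CfsgLib.Induction.indFun_normal_eq_zero K hh, sub_zero]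

theorem val_eq_zero {x : G} (hx : x ∈ N) : val E l x = 0 := by
  rw [val, ext_mem (hs.le hx), hl _ hx]
  norm_num

omit hs hl in
theorem sum_hom {f : E.U →* ℂˣ} (hf : f ≠ 1) : ∑ x : E.U, (f x : ℂ) = 0 := by
  refine sum_hom_units_eq_zero ((Units.coeHom ℂ).comp f) fun h => hf (MonoidHom.ext fun x => ?_)
  exact Units.ext (DFunLike.congr_fun h x)

theorem sum_val (hl1 : l ≠ 1) :
    (∑ x : E.U, val E l x) = -2 * (Nat.card E.U : ℂ) ∧
      (∑ x : E.U, val E l x * conj (val E l x)) = 6 * (Nat.card E.U : ℂ) := by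
  have hodd : Odd (Nat.card E.U) := E.odd_card_U
  have hli : l⁻¹ ≠ 1 := fun h =>
    hl1 (MonoidHom.ext fun x => inv_eq_one.1 (DFunLike.congr_fun h x))
  have hl2 : l * l ≠ 1 := fun h => hl1 (MonoidHom.ext fun x => by
    obtain ⟨k, hk⟩ := mem_zpowers_sq (odd_order (E := E) x.2)
    have e : x = (x * x) ^ k := Subtype.ext (by
      rw [SubgroupClass.coe_zpow, Subgroup.coe_mul]; exact hk.symm)
    have h1 : l (x * x) = 1 := by
      rw [map_mul]; exact DFunLike.congr_fun h x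
    rw [e, map_zpow, h1, one_zpow, MonoidHom.one_apply])
  have hl2i : (l * l)⁻¹ ≠ 1 := fun h =>
    hl2 (MonoidHom.ext fun x => inv_eq_one.1 (DFunLike.congr_fun h x))
  have hconj : ∀ x : E.U, conj (l x : ℂ) = (l x : ℂ)⁻¹ := fun x => by
    rw [← irr_apply_inv ⟨_, isIrrCharacter_of_hom l⟩ x]
    simp
  have hv : ∀ x : E.U, val E l x = (l x : ℂ) + ((l⁻¹ : E.U →* ℂˣ) x : ℂ) - 2 := fun x => by
    rw [val, ext_mem x.2, MonoidHom.inv_apply, Units.val_inv_eq_inv_val]
  refine ⟨?_, ?_⟩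
  · simp only [hv, Finset.sum_sub_distrib, Finset.sum_add_distrib]
    rw [sum_hom hl1, sum_hom hli, Finset.sum_const, Finset.card_univ, ← Nat.card_eq_fintype_card,
      nsmul_eq_mul]
    ring
  · have hterm : ∀ x : E.U, val E l x * conj (val E l x) = ((l * l : E.U →* ℂˣ) x : ℂ) +
        (((l * l)⁻¹ : E.U →* ℂˣ) x : ℂ) - 4 * (l x : ℂ) - 4 * ((l⁻¹ : E.U →* ℂˣ) x : ℂ) + 6 :=
      fun x => by
      have h0 : (l x : ℂ) ≠ 0 := (l x).ne_zero
      rw [hv, map_sub, map_add, MonoidHom.inv_apply, MonoidHom.inv_apply,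
        Units.val_inv_eq_inv_val, map_inv₀, hconj, inv_inv, map_ofNat, MonoidHom.mul_apply,
        Units.val_inv_eq_inv_val, Units.val_mul]
      field_simp
      ring
    simp only [hterm, Finset.sum_add_distrib, Finset.sum_sub_distrib, ← Finset.mul_sum]
    rw [sum_hom hl1, sum_hom hli, sum_hom hl2, sum_hom hl2i, Finset.sum_const, Finset.card_univ,
      ← Nat.card_eq_fintype_card, nsmul_eq_mul]
    ring

/-- Induction is extension on the special elements. -/
theorem ind_eq {x h : G} (hx : x ∈ E.U) (hxN : x ∉ N) (hh : h = x ∨ h = x * E.t) :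
    Cfsg.indFun E.H (fun k : E.H => phi E l k) h = val E l h := by
  obtain ⟨θ₁, θ₂, h1, h2, e⟩ := hs.phi_eq hl
  have hcf : Cfsg.IsClassFunction E.H (fun k : E.H => phi E l k) := by
    rw [e]
    intro g y
    simp only [Pi.sub_apply, CfsgLib.Induction.isClassFunction_of_isCharacter h1 g y,
      CfsgLib.Induction.isClassFunction_of_isCharacter h2 g y]
  have hhK : h ∈ K0 E := by
    rcases hh with rfl | rfl
    exacts [U_le_K0 hx, mul_mem (U_le_K0 hx) t_mem_K0]
  have hterm : ∀ y : G, Cfsg.extendByZero E.H (fun k : E.H => phi E l k) (y⁻¹ * h * y) =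
      if y ∈ E.H then val E l h else 0 := by
    intro y
    split_ifs with hy
    · have := CfsgLib.Induction.extendByZero_conj E.H hcf (⟨y, hy⟩⁻¹ : E.H) h
      simp only [coe_inv, inv_inv] at this
      rw [this, CfsgLib.Induction.extendByZero_mem _ _ (K0_le_H hhK)]
      exact if_pos hhK
    · by_cases hy' : y⁻¹ * h * y ∈ E.H
      · rw [CfsgLib.Induction.extendByZero_mem _ _ hy']
        by_contra hne
        have hk' : y⁻¹ * h * y ∈ K0 E := by
          by_contra h'
          exact hne (if_neg h')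
        obtain ⟨x', hx', e'⟩ := K0_cases hk'
        have hx'N : x' ∉ N := fun h' => hne (by
          show phi E l (y⁻¹ * h * y) = 0
          rw [phi, if_pos hk']
          rcases e' with e' | e'
          · rw [e', hs.val_eq_zero hl h']
          · rw [e', val_mul_t hx', hs.val_eq_zero hl h'])
        refine hy (E.mem_H.2 ?_)
        have hc : Commute (y * E.t * y⁻¹) h := by
          have h' : Commute E.t (y⁻¹ * h * y) := (E.mem_H.1 hy').symm
          have := h'.map (MulAut.conj y).toMonoidHom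
          simpa [mul_assoc] using this
        have h3 := hs.eq_t hx hxN hh
          ((CfsgLib.Involutions.orderOf_conj_eq y E.t).trans E.orderOf_t) hc
        exact mul_inv_eq_iff_eq_mul.1 h3
      · exact CfsgLib.Induction.extendByZero_notMem _ _ hy'
  rw [CfsgLib.Induction.indFun_apply, Finset.sum_congr rfl fun y _ => hterm y,
    ← Finset.sum_filter, Finset.sum_const, nsmul_eq_mul]
  rw [show ((Finset.univ.filter fun y => y ∈ E.H).card : ℂ) = (Nat.card E.H : ℂ) by
    rw [Nat.card_eq_fintype_card, Fintype.card_subtype], inv_mul_cancel_left₀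
      (Nat.cast_ne_zero.2 Nat.card_pos.ne')]

theorem ind_t : Cfsg.indFun E.H (fun k : E.H => phi E l k) E.t = 0 := by
  rw [CfsgLib.Induction.indFun_apply, Finset.sum_eq_zero fun y _ => ?_, mul_zero]
  by_cases hy : y⁻¹ * E.t * y ∈ E.H
  · rw [CfsgLib.Induction.extendByZero_mem _ _ hy]
    show phi E l (y⁻¹ * E.t * y) = 0
    rw [phi]
    split_ifs with hk
    · obtain ⟨x, hx, e⟩ := K0_cases hk
      have h2 : y⁻¹ * E.t * y * (y⁻¹ * E.t * y) = 1 := by
        rw [show y⁻¹ * E.t * y * (y⁻¹ * E.t * y) = y⁻¹ * (E.t * E.t) * y by group, E.t_sq]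
        group
      have hx1 : x = 1 := by
        have hxx : x * x = 1 := by
          rcases e with e | e <;> rw [e] at h2
          · exact h2
          · rwa [show x * E.t * (x * E.t) = x * (E.t * x) * E.t by group, ← comm_t hx, ← mul_assoc,
              mul_assoc (x * x), E.t_sq, mul_one] at h2
        have := mem_zpowers_sq (odd_order hx)
        rwa [hxx, zpowers_one_eq_bot, mem_bot] at this
      subst hx1
      rcases e with e | e <;> rw [e]
      · exact hs.val_eq_zero hl (one_mem N)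
      · rw [val_mul_t hx]; exact hs.val_eq_zero hl (one_mem N)
    · rfl
  · exact CfsgLib.Induction.extendByZero_notMem _ _ hy

omit hl in
/-- The pairs of involutions with product a special element. -/
theorem card_pairs {x h : G} (hx : x ∈ E.U) (hxN : x ∉ N) (hh : h = x ∨ h = x * E.t) :
    (pairs E.t E.t {h}).card = 2 * Nat.card A := by
  obtain ⟨hCH, w, hwU, hw⟩ := hs.spec x hx hxN
  have hc : ∀ v : G, IsConj E.t v ↔ orderOf v = 2 := fun v => by
    refine ⟨fun h => ?_, fun h => isConj_iff.2 (E.exists_conj h)⟩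
    obtain ⟨c, hc⟩ := isConj_iff.1 h
    rw [← hc, CfsgLib.Involutions.orderOf_conj_eq, E.orderOf_t]
  have hwt : Commute w E.t := comm_t hwU
  have hat : Commute E.d.a E.t := E.refl_a.comm
  have hAinv : ∀ α ∈ A, E.d.a * α * (E.d.a * α) = 1 := fun α hα => by
    have := (hs.memA α hα).2
    rw [E.d.a_inv] at this
    rw [← mul_assoc, this, inv_mul_cancel]
  have hsq : ∀ α ∈ A, ∀ v : G, (v = 1 ∨ v = E.t) →
      orderOf (w * (E.d.a * α) * w⁻¹ * v) = 2 := by
    intro α hα v hv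
    refine CfsgLib.Involutions.orderOf_eq_two_iff_mul.2 ⟨fun h1 => hs.a_notMem ?_, ?_⟩
    · have hv' : v ∈ K0 E := by
        rcases hv with rfl | rfl
        exacts [one_mem _, t_mem_K0]
      have h3 : E.d.a = w⁻¹ * v⁻¹ * w * α⁻¹ := by
        calc E.d.a = w⁻¹ * (w * (E.d.a * α) * w⁻¹ * v) * v⁻¹ * w * α⁻¹ := by group
          _ = _ := by rw [h1]; group
      rw [h3]
      exact mul_mem (mul_mem (mul_mem (inv_mem (U_le_K0 hwU)) (inv_mem hv')) (U_le_K0 hwU))
        (inv_mem (U_le_K0 (hs.memA α hα).1))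
    · have hcv : Commute v (w * (E.d.a * α) * w⁻¹) := by
        rcases hv with rfl | rfl
        · exact Commute.one_left _
        · exact ((hwt.symm.mul_right (hat.symm.mul_right
            (comm_t (hs.memA α hα).1).symm)).mul_right hwt.symm.inv_right)
      have hv2 : v * v = 1 := by
        rcases hv with rfl | rfl
        exacts [one_mul _, E.t_sq]
      rw [show w * (E.d.a * α) * w⁻¹ * v * (w * (E.d.a * α) * w⁻¹ * v) =
        w * (E.d.a * α) * w⁻¹ * (v * (w * (E.d.a * α) * w⁻¹)) * v by group, hcv.eq,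
        show w * (E.d.a * α) * w⁻¹ * (w * (E.d.a * α) * w⁻¹ * v) * v =
          w * (E.d.a * α * (E.d.a * α)) * w⁻¹ * (v * v) by group, hAinv α hα, hv2]
      group
  have hxA : w⁻¹ * x * w ∈ A := (hw x).1 ⟨hx, rfl⟩
  have hinvx : ∀ α ∈ A, ∀ v : G, (v = 1 ∨ v = E.t) →
      (w * (E.d.a * α) * w⁻¹ * v) * x * (w * (E.d.a * α) * w⁻¹ * v)⁻¹ = x⁻¹ := by
    intro α hα v hv
    have hvx : v * x * v⁻¹ = x := by
      rcases hv with rfl | rfl
      · group
      · rw [← comm_t hx, mul_inv_cancel_right]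
    have hcomm : α * (w⁻¹ * x * w) * α⁻¹ = w⁻¹ * x * w := by
      have e1 := (hs.memA _ hxA).2
      have e2 := (hs.memA _ hα).2
      have e3 := (hs.memA _ (mul_mem hα hxA)).2
      have h : (w⁻¹ * x * w)⁻¹ * α⁻¹ = α⁻¹ * (w⁻¹ * x * w)⁻¹ := by
        rw [← mul_inv_rev, ← e3, ← e1, ← e2]
        group
      rw [← mul_inv_rev, ← mul_inv_rev, inv_inj] at h
      rw [h, mul_inv_cancel_right]
    calc _ = w * (E.d.a * (α * (w⁻¹ * (v * x * v⁻¹) * w) * α⁻¹) * E.d.a⁻¹) * w⁻¹ := by group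
      _ = _ := by
        rw [hvx, hcomm, (hs.memA _ hxA).2]
        group
  have hinvh : ∀ s : G, s * E.t = E.t * s → s * x * s⁻¹ = x⁻¹ → s * h * s⁻¹ = h⁻¹ := by
    intro s hst hsx
    rcases hh with rfl | rfl
    · exact hsx
    · rw [show s * (x * E.t) * s⁻¹ = s * x * s⁻¹ * (s * E.t * s⁻¹) by group, hsx, hst,
        mul_inv_cancel_right, mul_inv_rev, E.t_inv]
      exact (show Commute x⁻¹ E.t from (show Commute x E.t from comm_t hx).inv_left).eq
  have hfwd : ∀ α ∈ A, ∀ v : G, (v = 1 ∨ v = E.t) →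
      ((w * (E.d.a * α) * w⁻¹ * v), (w * (E.d.a * α) * w⁻¹ * v) * h) ∈ pairs E.t E.t {h} := by
    intro α hα v hv
    set s := w * (E.d.a * α) * w⁻¹ * v
    have hs2 := hsq α hα v hv
    obtain ⟨-, hss⟩ := CfsgLib.Involutions.orderOf_eq_two_iff_mul.1 hs2
    have hst : s * E.t = E.t * s := by
      have : Commute s E.t := by
        refine Commute.mul_left (((hwt.mul_left (hat.mul_left (comm_t (hs.memA α hα).1))).mul_left
          hwt.inv_left)) ?_
        rcases hv with rfl | rfl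
        exacts [Commute.one_left _, Commute.refl _]
      exact this
    have hsh := hinvh s hst (hinvx α hα v hv)
    rw [inv_eq_of_mul_eq_one_right hss] at hsh
    have hsh2 : s * h * (s * h) = 1 := by rw [← mul_assoc, hsh, inv_mul_cancel]
    have hsh1 : s * h ≠ 1 := fun h1 => by
      have e : h = s := by
        calc h = s * (s * h) := by rw [← mul_assoc, hss, one_mul]
          _ = s := by rw [h1, mul_one]
      have := hs.eq_t hx hxN hh hs2 (by rw [e])
      rw [show w * (E.d.a * α) * w⁻¹ * v = h from e.symm] at this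
      rcases hh with rfl | rfl
      · exact t_notMem_U (this ▸ hx)
      · exact hxN (by rw [mul_eq_right.1 this]; exact one_mem N)
    simp only [pairs, Finset.mem_filter, Finset.mem_product, mem_cls, hc, Finset.mem_singleton]
    exact ⟨⟨hs2, CfsgLib.Involutions.orderOf_eq_two_iff_mul.2 ⟨hsh1, hsh2⟩⟩,
      by rw [← mul_assoc, hss, one_mul]⟩
  have hcard : ((Finset.univ.filter (· ∈ A)) ×ˢ ({1, E.t} : Finset G)).card = 2 * Nat.card A := by
    rw [Finset.card_product, Finset.card_pair E.t_ne_one.symm, Nat.card_eq_fintype_card,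
      Fintype.card_subtype, mul_comm]
  rw [← hcard]
  refine (Finset.card_bij
    (fun p _ => ((w * (E.d.a * p.1) * w⁻¹ * p.2), (w * (E.d.a * p.1) * w⁻¹ * p.2) * h))
    ?_ ?_ ?_).symm
  · rintro ⟨α, v⟩ hp
    simp only [Finset.mem_product, Finset.mem_filter, Finset.mem_univ, true_and, Finset.mem_insert,
      Finset.mem_singleton] at hp
    exact hfwd α hp.1 v hp.2
  · rintro ⟨α, v⟩ hp ⟨β, v'⟩ hq e
    simp only [Finset.mem_product, Finset.mem_filter, Finset.mem_univ, true_and, Finset.mem_insert,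
      Finset.mem_singleton] at hp hq
    have e1 : w * (E.d.a * α) * w⁻¹ * v = w * (E.d.a * β) * w⁻¹ * v' := congrArg Prod.fst e
    have hvv : v' * v⁻¹ ∈ E.U := by
      rw [show v' * v⁻¹ = (w * (E.d.a * β) * w⁻¹)⁻¹ *
        (w * (E.d.a * β) * w⁻¹ * v') * v⁻¹ by group, ← e1,
        show (w * (E.d.a * β) * w⁻¹)⁻¹ * (w * (E.d.a * α) * w⁻¹ * v) * v⁻¹ =
          w * (β⁻¹ * α) * w⁻¹ by group]
      exact mul_mem (mul_mem hwU (mul_mem (inv_mem (hs.memA _ hq.1).1) (hs.memA _ hp.1).1))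
        (inv_mem hwU)
    have hv : v = v' := by
      rcases hp.2 with rfl | rfl <;> rcases hq.2 with rfl | rfl
      · rfl
      · exact absurd (by simpa using hvv) t_notMem_U
      · exact absurd (by simpa [E.t_inv] using hvv) t_notMem_U
      · rfl
    subst hv
    simp only [mul_left_inj, mul_right_inj] at e1
    rw [e1]
  · rintro ⟨s, s'⟩ hp
    simp only [pairs, Finset.mem_filter, Finset.mem_product, mem_cls, hc,
      Finset.mem_singleton] at hp
    obtain ⟨⟨hs2, hs2'⟩, hprod⟩ := hp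
    obtain ⟨-, hss⟩ := CfsgLib.Involutions.orderOf_eq_two_iff_mul.1 hs2
    obtain ⟨-, hss'⟩ := CfsgLib.Involutions.orderOf_eq_two_iff_mul.1 hs2'
    have hsh : s * h * s⁻¹ = h⁻¹ := by
      rw [← hprod, mul_inv_rev, inv_eq_of_mul_eq_one_right hss, inv_eq_of_mul_eq_one_right hss',
        ← mul_assoc s, hss, one_mul]
    set s0 := w * (E.d.a * 1) * w⁻¹ * 1
    have h0 := hinvh s0 (by
      show Commute s0 E.t
      exact ((hwt.mul_left (hat.mul_left (Commute.one_left _))).mul_left hwt.inv_left).mul_left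
        (Commute.one_left _)) (hinvx 1 (one_mem A) 1 (Or.inl rfl))
    have hc' : Commute (s0⁻¹ * s) h := by
      show s0⁻¹ * s * h = h * (s0⁻¹ * s)
      rw [mul_assoc, show s * h = h⁻¹ * s by rw [← hsh, inv_mul_cancel_right], ← h0]
      group
    have hcK := hs.centralizer_le hx hxN (comm_special hx hh hc')
    obtain ⟨y, hy, hye⟩ := K0_cases hcK
    have hyx : Commute y x := by
      have h1 := comm_special hx hh hc'
      rcases hye with e | e <;> rw [e] at h1
      · exact h1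
      · have := h1.mul_left (comm_t hx).symm
        rwa [mul_assoc, E.t_sq, mul_one] at this
    have hα : w⁻¹ * y * w ∈ A := (hw y).1 ⟨hy, hyx⟩
    obtain ⟨v, hv, hye⟩ : ∃ v : G, (v = 1 ∨ v = E.t) ∧ s0⁻¹ * s = y * v := by
      rcases hye with e | e
      exacts [⟨1, Or.inl rfl, by rw [e, mul_one]⟩, ⟨_, Or.inr rfl, e⟩]
    refine ⟨(w⁻¹ * y * w, v), ?_, ?_⟩
    · simpa using ⟨hα, hv⟩
    · have e : w * (E.d.a * (w⁻¹ * y * w)) * w⁻¹ * v = s := by
        calc _ = s0 * (y * v) := by simp only [s0]; group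
          _ = s := by rw [← hye, mul_inv_cancel_left]
      rw [e, ← hprod, ← mul_assoc, hss, one_mul]

/-! ### The order formula -/

end Special

open Special in
/-- The order formula from the exceptional character. -/
theorem exists_degree' {E : Setup G} {N A : Subgroup G} (hs : Special E N A) :
    ∃ (f : ℕ) (δ : ℤ), (δ = 1 ∨ δ = -1) ∧ 3 ≤ f ∧ (δ = 1 → 5 ≤ f) ∧ (4 : ℤ) ∣ (f : ℤ) - δ ∧
      (Nat.card G : ℚ) * ((f : ℚ) - δ) ^ 2 = f * ((f : ℚ) + δ) * 2 ^ 3 *
        (Nat.card E.U : ℚ) ^ 3 * (2 / (Nat.card (E.X E.d.a) : ℚ)) ^ 2 := by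
  letI := Fintype.ofFinite G
  haveI : Fact (Nat.Prime 2) := ⟨Nat.prime_two⟩
  haveI := E.simple
  have hperf : commutator G = ⊤ := by
    refine ((inferInstance : (commutator G).Normal).eq_bot_or_eq_top).resolve_left fun h => ?_
    refine E.H_ne_top (top_le_iff.1 fun g _ => E.mem_H.2 ?_)
    have := (commutator_eq_bot_iff_le_centralizer.1 h) (mem_top g)
    exact (mem_centralizer_iff.1 this E.t (mem_top _)).symm
  obtain ⟨l, hl, hl1⟩ := hs.exists_linear
  obtain ⟨θ₁, θ₂, hθ₁, hθ₂, hθ⟩ := hs.phi_eq hl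
  set Φ := Cfsg.indFun E.H (fun k : E.H => phi E l k) with hΦ
  have hΦgen : IsGeneralizedCharacter G Φ := by
    rw [hΦ, hθ, CfsgLib.Induction.indFun_sub]
    exact isGeneralizedCharacter_sub
      (isGeneralizedCharacter_of_isCharacter (CfsgLib.Induction.isCharacter_indFun E.H hθ₁))
      (isGeneralizedCharacter_of_isCharacter (CfsgLib.Induction.isCharacter_indFun E.H hθ₂))
  have hΦcl := CfsgLib.Induction.isClassFunction_indFun E.H (fun k : E.H => phi E l k)
  choose m hm using (isGeneralizedCharacter_iff.mp hΦgen).2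
  have hU0 : (Nat.card E.U : ℂ) ≠ 0 := Nat.cast_ne_zero.2 Nat.card_pos.ne'
  have hH : (Nat.card E.H : ℂ) = 4 * Nat.card E.U := by rw [hs.card_H]; push_cast; rfl
  obtain ⟨hS1, hS2⟩ := hs.sum_val hl hl1
  have hred : ∀ {ψ : G → ℂ}, IsClassFunction G ψ → classInner Φ ψ = (4 * (Nat.card E.U : ℂ))⁻¹ *
      ∑ x : E.U, (val E l x * conj (ψ x) + val E l ((x : G) * E.t) * conj (ψ ((x : G) * E.t))) := by
    intro ψ hψ
    rw [hΦ, CfsgLib.Induction.classInner_indFun E.H _ hψ]
    simp only [Cfsg.classInner, hH]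
    rw [sum_phi (fun g => conj (ψ g))]
  -- norm three
  have hnorm : ∑ χ, m χ ^ 2 = 3 := by
    have h : classInner Φ Φ = 3 := by
      rw [hred hΦcl]
      have e : ∀ x : E.U, val E l x * conj (Φ x) + val E l ((x : G) * E.t) *
          conj (Φ ((x : G) * E.t)) = 2 * (val E l x * conj (val E l x)) := by
        intro x
        simp only [hΦ]
        rw [val_mul_t x.2]
        by_cases hxN : (x : G) ∈ N
        · rw [hs.val_eq_zero hl hxN]; ring
        · rw [hs.ind_eq hl x.2 hxN (Or.inl rfl), hs.ind_eq hl x.2 hxN (Or.inr rfl),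
            val_mul_t x.2]
          ring
      rw [Finset.sum_congr rfl fun x _ => e x, ← Finset.mul_sum, hS2]
      field_simp
      ring
    rw [classInner_self_eq_sum_sq hΦcl hm] at h
    exact_mod_cast h
  -- the principal character
  set p0 := principalIrr G with hp0
  have hp : ∀ g, (p0 : G → ℂ) g = 1 := fun _ => rfl
  have hm0 : m p0 = -1 := by
    have h := hm p0
    rw [hred (irr_isClassFunction p0)] at h
    simp only [hp, map_one, mul_one] at h
    rw [Finset.sum_congr rfl fun x _ => by rw [val_mul_t x.2], Finset.sum_add_distrib, hS1] at h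
    field_simp at h
    have : ((m p0 : ℤ) : ℂ) = ((-1 : ℤ) : ℂ) := by
      push_cast
      linear_combination (-1 / 4 : ℂ) * h
    exact_mod_cast this
  -- the principal block
  obtain ⟨M, hM⟩ := CfsgLib.Blocks.exists_isPModular (p := 2)
  have hK := CfsgLib.GW.Formula.isKleinFour E.d hs.hk
  have hone : ∀ s t : G, orderOf s = 2 → orderOf t = 2 → IsConj s t := fun s t h1 h2 =>
    (isConj_iff.2 (E.exists_conj h1)).symm.trans (isConj_iff.2 (E.exists_conj h2))
  obtain ⟨x, y, w, ε, hε, h2, h3, hxy, hxw, hyw, hB, hval, dx, dy, dw, -⟩ :=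
    Cfsg.Agent.S0948.result M hM E.S hK hone
  obtain ⟨v1, v2, v3⟩ := hval E.t E.orderOf_t
  have h4 : (w : G → ℂ) ≠ fun _ => 1 := fun e => by
    rw [e] at v3
    norm_num at v3
  obtain ⟨hEv, -⟩ := CfsgLib.KleinOrder.block_data E.S hK hone hM E.t_mem_S E.orderOf_t hB
    ⟨h2, h3, h4, hxy, hxw, hyw⟩ (ε₁ := 1) (ε₂ := ε) (ε₃ := -1)
    ⟨Or.inl rfl, hε, Or.inr rfl⟩ ⟨by simpa using v1, v2, by simpa using v3⟩
  let θ : G → ℂ := fun g => if 2 ∣ orderOf g then 1 else 0
  have hθcl : IsClassFunction G θ := fun g c => by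
    simp only [θ, CfsgLib.Involutions.orderOf_conj_eq]
  have hblock : m p0 + m x + ε * m y - m w = -2 := by
    have hA : classInner Φ θ = -1 / 2 := by
      rw [hred hθcl]
      have e : ∀ v : E.U, val E l v * conj (θ v) + val E l ((v : G) * E.t) *
          conj (θ ((v : G) * E.t)) = val E l v := by
        intro v
        have ho : ¬ 2 ∣ orderOf (v : G) := by
          rw [← even_iff_two_dvd, Nat.not_even_iff_odd]; exact odd_order v.2
        have he : 2 ∣ orderOf ((v : G) * E.t) := by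
          rw [(show Commute (v : G) E.t from comm_t v.2).orderOf_mul_eq_mul_orderOf_of_coprime
            (by rw [E.orderOf_t]; exact Nat.coprime_two_right.2 (odd_order v.2)), E.orderOf_t]
          exact dvd_mul_left _ _
        simp only [θ, if_neg ho, if_pos he, map_zero, map_one, mul_zero, zero_add, mul_one]
        exact val_mul_t v.2
      rw [Finset.sum_congr rfl fun v _ => e v, hS1]
      field_simp
      ring
    have hcoef : ∀ χ : IrrCharacter G, classInner θ (χ : G → ℂ) = (1 / 4 : ℂ) *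
        ((if χ = p0 then 1 else 0) + (if χ = x then ((1 : ℤ) : ℂ) else 0) +
          (if χ = y then (ε : ℂ) else 0) + (if χ = w then ((-1 : ℤ) : ℂ) else 0)) := by
      intro χ
      simp only [Cfsg.classInner, θ, ite_mul, one_mul, zero_mul]
      rw [← Finset.sum_filter, hEv χ]
      have : (Nat.card G : ℂ) ≠ 0 := Nat.cast_ne_zero.2 Nat.card_pos.ne'
      field_simp
      rfl
    rw [classInner_eq_sum_mul hθcl] at hA
    simp only [hm, hcoef, map_mul, map_add, apply_ite (conj : ℂ →+* ℂ), map_one, map_zero,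
      map_intCast, map_div₀, map_ofNat, mul_add, mul_ite, mul_zero, Finset.sum_add_distrib,
      Finset.sum_ite_eq', Finset.mem_univ, if_true] at hA
    have : ((m p0 + m x + ε * m y - m w : ℤ) : ℂ) = ((-2 : ℤ) : ℂ) := by
      push_cast at hA ⊢
      linear_combination (4 : ℂ) * hA
    exact_mod_cast this
  -- the two other constituents
  have hsupp : ∃ c₁ c₂ : IrrCharacter G, c₁ ≠ c₂ ∧ c₁ ≠ p0 ∧ c₂ ≠ p0 ∧
      (m c₁ = 1 ∨ m c₁ = -1) ∧ (m c₂ = 1 ∨ m c₂ = -1) ∧
      ∀ c, c ≠ p0 → c ≠ c₁ → c ≠ c₂ → m c = 0 := by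
    set T := (Finset.univ.erase p0).filter fun c => m c ≠ 0 with hT
    have hsum2 : ∑ c ∈ Finset.univ.erase p0, m c ^ 2 = 2 := by
      have := Finset.add_sum_erase Finset.univ (fun c => m c ^ 2) (Finset.mem_univ p0)
      rw [hnorm, hm0] at this
      linarith
    have hsT : ∑ c ∈ T, m c ^ 2 = 2 := by
      rw [← hsum2]
      refine Finset.sum_subset (Finset.filter_subset _ _) fun c hc hc' => ?_
      have : m c = 0 := by
        by_contra h
        exact hc' (Finset.mem_filter.2 ⟨hc, h⟩)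
      rw [this]; ring
    have hone' : ∀ c ∈ T, m c ^ 2 = 1 := by
      intro c hc
      have h1 : m c ^ 2 ≤ 2 := hsT ▸ Finset.single_le_sum (f := fun c => m c ^ 2)
        (fun c _ => sq_nonneg _) hc
      have h0 := (Finset.mem_filter.1 hc).2
      have h2 : -1 ≤ m c ∧ m c ≤ 1 := by constructor <;> nlinarith
      rcases (show m c = 1 ∨ m c = -1 by omega) with e | e <;> rw [e] <;> norm_num
    have hcard : T.card = 2 := by
      rw [Finset.sum_congr rfl hone', Finset.sum_const, nsmul_one] at hsT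
      exact_mod_cast hsT
    obtain ⟨c₁, c₂, hne, hTe⟩ := Finset.card_eq_two.1 hcard
    have hmem : ∀ c, c ∈ T → c ≠ p0 ∧ (m c = 1 ∨ m c = -1) := fun c hc =>
      ⟨(Finset.mem_erase.1 (Finset.mem_filter.1 hc).1).1, sq_eq_one_iff.1 (hone' c hc)⟩
    obtain ⟨a1, b1⟩ := hmem c₁ (by rw [hTe]; simp)
    obtain ⟨a2, b2⟩ := hmem c₂ (by rw [hTe]; simp)
    refine ⟨c₁, c₂, hne, a1, a2, b1, b2, fun c h0 h1 h2' => ?_⟩
    by_contra h
    have : c ∈ T := Finset.mem_filter.2 ⟨Finset.mem_erase.2 ⟨h0, Finset.mem_univ c⟩, h⟩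
    rw [hTe] at this
    simp [h1, h2'] at this
  obtain ⟨c₁, c₂, hne, hc10, hc20, he1, he2, hzero⟩ := hsupp
  -- exactly one of them is in the principal block
  have hnx : x ≠ p0 := fun e => h2 (congrArg Subtype.val e)
  have hny : y ≠ p0 := fun e => h3 (congrArg Subtype.val e)
  have hnw : w ≠ p0 := fun e => h4 (congrArg Subtype.val e)
  obtain ⟨c, c', δ, hδ, hcc, hcm, hcm', hvc, hdeg, hzero'⟩ :
      ∃ (c c' : IrrCharacter G) (δ : ℤ), (δ = 1 ∨ δ = -1) ∧ (c ≠ c' ∧ c ≠ p0 ∧ c' ≠ p0) ∧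
        m c = -δ ∧ (m c' = 1 ∨ m c' = -1) ∧ (c : G → ℂ) E.t = δ ∧
        (4 : ℤ) ∣ (charDegree (c : G → ℂ) : ℤ) - δ ∧
        ∀ ψ, ψ ≠ p0 → ψ ≠ c → ψ ≠ c' → m ψ = 0 := by
    have hsc : ∀ c, (c = c₁ ∨ c = c₂) → ∀ δ : ℤ, (δ = 1 ∨ δ = -1) → δ * m c = -1 →
        (c : G → ℂ) E.t = δ → (4 : ℤ) ∣ (charDegree (c : G → ℂ) : ℤ) - δ →
        ∃ (c c' : IrrCharacter G) (δ : ℤ), (δ = 1 ∨ δ = -1) ∧ (c ≠ c' ∧ c ≠ p0 ∧ c' ≠ p0) ∧
        m c = -δ ∧ (m c' = 1 ∨ m c' = -1) ∧ (c : G → ℂ) E.t = δ ∧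
        (4 : ℤ) ∣ (charDegree (c : G → ℂ) : ℤ) - δ ∧
        ∀ ψ, ψ ≠ p0 → ψ ≠ c → ψ ≠ c' → m ψ = 0 := by
      intro c hc δ hδ hδm hv hd
      have hmc : m c = -δ := by rcases hδ with rfl | rfl <;> omega
      rcases hc with rfl | rfl
      · exact ⟨c, c₂, δ, hδ, ⟨hne, hc10, hc20⟩, hmc, he2, hv, hd, hzero⟩
      · exact ⟨c, c₁, δ, hδ, ⟨hne.symm, hc20, hc10⟩, hmc, he1, hv, hd,
          fun ψ a b c => hzero ψ a c b⟩
    have hcases : ∀ ψ, ψ ≠ p0 → m ψ = 0 ∨ ((ψ = c₁ ∨ ψ = c₂) ∧ (m ψ = 1 ∨ m ψ = -1)) := by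
      intro ψ hψ
      by_cases h1 : ψ = c₁
      · exact Or.inr ⟨Or.inl h1, h1 ▸ he1⟩
      by_cases h2 : ψ = c₂
      · exact Or.inr ⟨Or.inr h2, h2 ▸ he2⟩
      exact Or.inl (hzero ψ hψ h1 h2)
    have hodd : m x + ε * m y - m w = -1 := by linarith
    have htwo : ¬ (m x ≠ 0 ∧ m y ≠ 0 ∧ m w ≠ 0) := by
      rintro ⟨a, b, c⟩
      rcases ((hcases x hnx).resolve_left a).1 with e1 | e1 <;>
        rcases ((hcases y hny).resolve_left b).1 with e2 | e2 <;>
        rcases ((hcases w hnw).resolve_left c).1 with e3 | e3 <;>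
        first
        | exact hxy (e1.trans e2.symm)
        | exact hxw (e1.trans e3.symm)
        | exact hyw (e2.trans e3.symm)
    rcases hcases x hnx with ex | ⟨cx, ex⟩
    · rcases hcases y hny with ey | ⟨cy, ey⟩
      · rcases hcases w hnw with ew | ⟨cw, ew⟩
        · rw [ex, ey, ew] at hodd; omega
        · rw [ex, ey] at hodd
          exact hsc w cw (-1) (Or.inr rfl) (by omega) (by rw [v3]; push_cast; rfl)
            (by simpa [sub_neg_eq_add] using dw)
      · rcases hcases w hnw with ew | ⟨cw, ew⟩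
        · rw [ex, ew] at hodd
          exact hsc y cy ε hε (by omega) v2 dy
        · exfalso
          rw [ex] at hodd
          rcases hε with rfl | rfl <;> omega
    · rcases hcases y hny with ey | ⟨cy, ey⟩
      · rcases hcases w hnw with ew | ⟨cw, ew⟩
        · rw [ey, ew] at hodd
          exact hsc x cx 1 (Or.inl rfl) (by omega) (by rw [v1]; push_cast; rfl) dx
        · exfalso
          rw [ey] at hodd
          omega
      · rcases hcases w hnw with ew | ⟨cw, ew⟩
        · exfalso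
          rw [ew] at hodd
          rcases hε with rfl | rfl <;> omega
        · exact absurd ⟨by omega, by omega, by omega⟩ htwo
  obtain ⟨hcc', hc0, hc'0⟩ := hcc
  have hexp : ∀ F : IrrCharacter G → ℂ, ∑ χ, (m χ : ℂ) * F χ =
      -F p0 + ((-δ : ℤ) : ℂ) * F c + (m c' : ℂ) * F c' := by
    intro F
    rw [← Finset.sum_subset (Finset.subset_univ ({p0, c, c'} : Finset (IrrCharacter G)))
      (fun ψ _ hψ => by
        simp only [Finset.mem_insert, Finset.mem_singleton, not_or] at hψ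
        rw [hzero' ψ hψ.1 hψ.2.1 hψ.2.2, Int.cast_zero, zero_mul]),
      Finset.sum_insert (by simp [hc0.symm, hc'0.symm]), Finset.sum_pair hcc', hm0, hcm]
    push_cast
    ring
  -- values at `1` and at `t`
  have hvalues : ∀ g, Φ g = ∑ χ, (m χ : ℂ) * (χ : G → ℂ) g := fun g => by
    conv_lhs => rw [classFunction_eq_sum (show IsClassFunction G Φ from hΦcl)]
    simp [Finset.sum_apply, hm]
  set f := charDegree (c : G → ℂ) with hf
  set d' := charDegree (c' : G → ℂ) with hd'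
  have h1v : (m c' : ℤ) * d' = 1 + δ * f := by
    have h := hvalues 1
    rw [hΦ, CfsgLib.Induction.indFun_one_apply, hexp fun χ => (χ : G → ℂ) 1] at h
    have hφ1 : phi E l ((1 : E.H) : G) = 0 := by
      rw [OneMemClass.coe_one, phi, if_pos (one_mem _)]
      exact hs.val_eq_zero hl (one_mem N)
    simp only [hφ1, mul_zero, hp, ← cast_irrDegree c, ← cast_irrDegree c', ← hf, ← hd'] at h
    have : (((m c' : ℤ) * d' : ℤ) : ℂ) = ((1 + δ * f : ℤ) : ℂ) := by
      push_cast at h ⊢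
      linear_combination -h
    exact_mod_cast this
  have htv : (c' : G → ℂ) E.t * (c' : G → ℂ) E.t = 4 := by
    have h := hvalues E.t
    rw [hΦ, hs.ind_t hl, hexp fun χ => (χ : G → ℂ) E.t, hvc] at h
    simp only [hp] at h
    have hδδ : (δ : ℂ) * δ = 1 := by rcases hδ with rfl | rfl <;> norm_num
    have h' : (m c' : ℂ) * (c' : G → ℂ) E.t = 2 := by
      push_cast at h
      linear_combination hδδ - h
    have hmm : (m c' : ℂ) * m c' = 1 := by rcases hcm' with e | e <;> rw [e] <;> norm_num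
    linear_combination (-(c' : G → ℂ) E.t * (c' : G → ℂ) E.t) * hmm +
      ((m c' : ℂ) * (c' : G → ℂ) E.t + 2) * h'
  -- class sums
  have hcount : -32 * (Nat.card A : ℂ) * (Nat.card E.U : ℂ) ^ 2 = (Nat.card G : ℂ) *
      (-1 + ((-δ : ℤ) : ℂ) / (f : ℂ) + (m c' : ℂ) * 4 / (d' : ℂ)) := by
    have hC : Nat.card (centralizer ({E.t} : Set G)) = 4 * Nat.card E.U := hs.card_H
    have hP : ∀ g : G, ((pairs E.t E.t {g}).card : ℂ) * (4 * (Nat.card E.U : ℂ)) ^ 2 =
        ∑ χ : IrrCharacter G, (cofDegree χ : ℂ) *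
          ((χ : G → ℂ) E.t * (χ : G → ℂ) E.t * conj ((χ : G → ℂ) g)) := fun g => by
      have h := card_pairs_mul_centralizers E.t E.t {g}
      rw [hC] at h
      simp only [Finset.sum_singleton, irr_apply_inv] at h
      push_cast at h
      rw [← h]
      ring
    have e1 : ∑ h : E.H, phi E l h * (((pairs E.t E.t {(h : G)}).card : ℂ) *
        (4 * (Nat.card E.U : ℂ)) ^ 2) = -8 * (Nat.card A : ℂ) * (Nat.card E.U : ℂ) *
        (4 * (Nat.card E.U : ℂ)) ^ 2 := by
      simp only [← mul_assoc, ← Finset.sum_mul]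
      rw [sum_phi fun g => ((pairs E.t E.t {g}).card : ℂ)]
      congr 1
      have e : ∀ v : E.U, val E l v * ((pairs E.t E.t {(v : G)}).card : ℂ) +
          val E l ((v : G) * E.t) * ((pairs E.t E.t {(v : G) * E.t}).card : ℂ) =
          (4 * (Nat.card A : ℂ)) * val E l v := by
        intro v
        rw [val_mul_t v.2]
        by_cases hvN : (v : G) ∈ N
        · rw [hs.val_eq_zero hl hvN]; ring
        · rw [hs.card_pairs v.2 hvN (Or.inl rfl), hs.card_pairs v.2 hvN (Or.inr rfl)]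
          push_cast
          ring
      rw [Finset.sum_congr rfl fun v _ => e v, ← Finset.mul_sum, hS1]
      ring
    simp only [hP, Finset.mul_sum] at e1
    rw [Finset.sum_comm] at e1
    have e2 : ∀ χ : IrrCharacter G, ∑ h : E.H, phi E l h * ((cofDegree χ : ℂ) *
        ((χ : G → ℂ) E.t * (χ : G → ℂ) E.t * conj ((χ : G → ℂ) h))) =
        (m χ : ℂ) * ((4 * (Nat.card E.U : ℂ)) * ((Nat.card G : ℂ) / (χ : G → ℂ) 1 *
          ((χ : G → ℂ) E.t * (χ : G → ℂ) E.t))) := fun χ => by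
      have h := hm χ
      rw [hΦ, CfsgLib.Induction.classInner_indFun E.H _ (irr_isClassFunction χ)] at h
      simp only [Cfsg.classInner, hH] at h
      rw [← h, card_div_degree, Finset.mul_sum, Finset.sum_mul]
      refine Finset.sum_congr rfl fun v _ => ?_
      field_simp
    rw [Finset.sum_congr rfl fun χ _ => e2 χ, hexp fun χ => (4 * (Nat.card E.U : ℂ)) *
      ((Nat.card G : ℂ) / (χ : G → ℂ) 1 * ((χ : G → ℂ) E.t * (χ : G → ℂ) E.t)), hvc, htv,
      ← cast_irrDegree c, ← cast_irrDegree c', ← hf, ← hd'] at e1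
    simp only [hp, div_one, mul_one] at e1
    have hδδ : (δ : ℂ) * δ = 1 := by rcases hδ with rfl | rfl <;> norm_num
    rw [hδδ] at e1
    refine mul_left_cancel₀ (mul_ne_zero (by norm_num : (4 : ℂ) ≠ 0) hU0) ?_
    linear_combination -e1
  -- conclusion
  have hf1 : f ≠ 1 := fun e => hc0 (Subtype.ext
    ((CfsgLib.GW.Formula.eq_principal_of_perfect hperf c (hf ▸ e)).trans rfl))
  have hfpos : 0 < f := irrDegree_pos c
  have hd'pos : 0 < d' := irrDegree_pos c'
  refine ⟨f, δ, hδ, by rcases hδ with rfl | rfl <;> omega,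
    fun e => by subst e; omega, hdeg, ?_⟩
  have hcQ : -32 * (Nat.card A : ℚ) * (Nat.card E.U : ℚ) ^ 2 = (Nat.card G : ℚ) *
      (-1 + ((-δ : ℤ) : ℚ) / (f : ℚ) + (m c' : ℚ) * 4 / (d' : ℚ)) := by
    have h : (((-32 * (Nat.card A : ℚ) * (Nat.card E.U : ℚ) ^ 2 : ℚ)) : ℂ) =
        (((Nat.card G : ℚ) * (-1 + ((-δ : ℤ) : ℚ) / (f : ℚ) + (m c' : ℚ) * 4 / (d' : ℚ)) : ℚ) : ℂ) := by
      push_cast
      push_cast at hcount
      exact hcount
    exact_mod_cast h
  have hX : (Nat.card (E.X E.d.a) : ℚ) ≠ 0 := Nat.cast_ne_zero.2 Nat.card_pos.ne'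
  have hfQ : (f : ℚ) ≠ 0 := Nat.cast_ne_zero.2 hfpos.ne'
  have hfd : (f : ℚ) + δ ≠ 0 := by
    intro h
    have : (f : ℤ) + δ = 0 := by exact_mod_cast h
    rcases hδ with rfl | rfl <;> omega
  have hterm : (m c' : ℚ) * 4 / (d' : ℚ) = 4 * δ / ((f : ℚ) + δ) := by
    have h : (m c' : ℚ) * d' = 1 + δ * f := by exact_mod_cast h1v
    have hd0 : (d' : ℚ) ≠ 0 := Nat.cast_ne_zero.2 hd'pos.ne'
    rw [div_eq_div_iff hd0 hfd]
    rcases hδ with e | e <;> subst e <;> rcases hcm' with e' | e' <;> rw [e'] at h ⊢ <;>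
      push_cast at h ⊢ <;> linarith
  rw [hterm] at hcQ
  have hu : (Nat.card E.U : ℚ) = Nat.card A * (Nat.card (E.X E.d.a) : ℚ) ^ 2 := by
    exact_mod_cast hs.card
  have hδδ : (δ : ℚ) * δ = 1 := by rcases hδ with rfl | rfl <;> norm_num
  push_cast at hcQ
  rw [div_pow, mul_div_assoc', eq_div_iff (pow_ne_zero 2 hX)]
  field_simp at hcQ
  linear_combination ((Nat.card (E.X E.d.a) : ℚ) ^ 2) * hcQ -
    32 * (f : ℚ) * ((f : ℚ) + δ) * (Nat.card E.U : ℚ) ^ 2 * hu

/-- Step 3.1e, Sylow four-groups: the order formula. -/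
theorem exists_degree (E : Setup G) (hk : E.d.k = 0) (N A : Subgroup G) (hNU : N ≤ E.U)
    (hNn : ∀ u ∈ E.U, ∀ x ∈ N, u * x * u⁻¹ ∈ N)
    (hder : ∀ u ∈ E.U, ∀ v ∈ E.U, u * v * u⁻¹ * v⁻¹ ∈ N) (hN : N ≠ E.U)
    (hb : ∀ u ∈ E.U, E.d.a * u * E.d.a⁻¹ * u ∈ N)
    (hspec : ∀ u ∈ E.U, u ∉ N → centralizer ({u} : Set G) ≤ E.H ∧
      ∃ h ∈ E.U, ∀ x, (x ∈ E.U ∧ x * u = u * x) ↔ h⁻¹ * x * h ∈ A)
    (hA : ∀ x ∈ A, x ∈ E.U ∧ E.d.a * x * E.d.a⁻¹ = x⁻¹)
    (hcard : Nat.card E.U = Nat.card A * Nat.card (E.X E.d.a) ^ 2) :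
    ∃ (f : ℕ) (δ : ℤ), (δ = 1 ∨ δ = -1) ∧ 3 ≤ f ∧ (δ = 1 → 5 ≤ f) ∧ (4 : ℤ) ∣ (f : ℤ) - δ ∧
      (Nat.card G : ℚ) * ((f : ℚ) - δ) ^ 2 = f * ((f : ℚ) + δ) * 2 ^ 3 *
        (Nat.card E.U : ℚ) ^ 3 * (2 / (Nat.card (E.X E.d.a) : ℚ)) ^ 2 :=
  exists_degree' ⟨hk, hNU, hNn, hder, hN, hb, hspec, hA, hcard⟩

end CfsgLib.GW.Exceptional
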