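import Cfsg.Agent.Lib.GW.TopModelAut
import Cfsg.Agent.Lib.PSL2.MinimalSimple

/-!
Field automorphisms of `PSL₂(q)`, `q` odd: the field part of an automorphism, cyclic tori, the
subgroup over the fixed field and the arithmetic of torus orders.
-/

set_option autoImplicit false
set_option linter.unusedSectionVars false

open Matrix

namespace CfsgLib.GW.FieldModel

open CfsgLib.PSL2 CfsgLib.AutPSL CfsgLib.FieldGalois CfsgLib.GWCons.OuterTorus
  CfsgLib.GWCons.TwoOuter CfsgLib.GW.TopModel

variable {F : Type*} [Field F] [Fintype F]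

local notation "M2" => Matrix (Fin 2) (Fin 2) F
local notation "PGL" => ProjGenLinGroup (Fin 2) F
local notation "PSL" => ProjectiveSpecialLinearGroup (Fin 2) F
local notation "toP" => (ProjectiveSpecialLinearGroup.toPGL : PSL →* ProjGenLinGroup (Fin 2) F)

/-! ### The field part -/

theorem field_unique {g h : GL (Fin 2) F} {σ τ : F ≃+* F}
    (e : (conjAut g * fieldAut σ : MulAut PSL) = conjAut h * fieldAut τ) : σ = τ := by
  have e1 : conjAut (h⁻¹ * g) * fieldAut (σ * τ⁻¹) = (1 : MulAut PSL) := by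
    rw [map_mul conjAut, map_inv conjAut, map_mul fieldAut, map_inv fieldAut, mul_assoc (conjAut h)⁻¹,
      ← mul_assoc (conjAut g), e]
    group
  exact mul_inv_eq_one.1 (eq_of_conj_field_eq_one le_rfl e1).1

/-- The field component of an automorphism. -/
noncomputable def part (τ : MulAut PSL) : F ≃+* F :=
  (exists_conj_field τ).choose_spec.choose

theorem part_spec (τ : MulAut PSL) : ∃ g : GL (Fin 2) F, τ = conjAut g * fieldAut (part τ) :=
  ⟨_, (exists_conj_field τ).choose_spec.choose_spec⟩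

theorem part_eq {τ : MulAut PSL} {g : GL (Fin 2) F} {σ : F ≃+* F}
    (h : τ = conjAut g * fieldAut σ) : part τ = σ := by
  obtain ⟨g', hg'⟩ := part_spec τ
  exact field_unique (hg'.symm.trans h)

/-- The homomorphism to the automorphisms of the field. -/
noncomputable def partHom : MulAut PSL →* (F ≃+* F) where
  toFun := part
  map_one' := part_eq (g := 1) (by rw [map_one, map_one, mul_one])
  map_mul' τ τ' := by
    obtain ⟨g, hg⟩ := part_spec τ
    obtain ⟨g', hg'⟩ := part_spec τ'
    refine part_eq (g := g * glField (part τ) g') ?_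
    conv_lhs => rw [hg, hg']
    rw [map_mul, map_mul, mul_assoc (conjAut g), ← mul_assoc (fieldAut (part τ)),
      fieldAut_mul_conjAut]
    simp only [mul_assoc]

theorem mem_range_aut {τ : MulAut PSL} : (∃ g, τ = aut F g) ↔ partHom τ = 1 := by
  constructor
  · rintro ⟨g, rfl⟩
    induction g using ProjGenLinGroup.induction_on with | mk A =>
    exact part_eq (g := A) (by rw [aut_mk, map_one, mul_one])
  · intro h
    obtain ⟨g, hg⟩ := part_spec τ
    refine ⟨ProjGenLinGroup.mk g, ?_⟩
    rw [aut_mk, hg, show part τ = 1 from h, map_one, mul_one]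

theorem hasFour_of_involution (h2 : (2 : F) ≠ 0) {γ : MulAut PSL} (hγ : γ * γ = 1)
    (hp : partHom γ ≠ 1) : HasFour γ := by
  by_contra h4
  obtain ⟨M, hd, -, -, e⟩ := exists_outer h2 hγ h4
  exact hp (part_eq (g := gl M hd) (by rw [map_one, mul_one, e]))

theorem part_conj_field (k : GL (Fin 2) F) (σ : F ≃+* F) :
    partHom (conjAut k * fieldAut σ * (conjAut k)⁻¹ : MulAut PSL) = σ := by
  have e1 : partHom (conjAut k : MulAut PSL) = 1 := mem_range_aut.1 ⟨_, (aut_mk k).symm⟩
  have e2 : partHom (fieldAut σ : MulAut PSL) = σ :=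
    part_eq (g := 1) (by rw [map_one, one_mul])
  rw [map_mul, map_mul, map_inv, e1, e2]
  simp

theorem orderOf_conj_field (k : GL (Fin 2) F) (σ : F ≃+* F) :
    orderOf (conjAut k * fieldAut σ * (conjAut k)⁻¹ : MulAut PSL) = orderOf σ := by
  rw [← orderOf_injective _ (fieldAut_injective (n := 2) (F := F) le_rfl) σ]
  exact MulEquiv.orderOf_eq (MulAut.conj (conjAut k : MulAut PSL)) (fieldAut σ)

/-! ### Tori are cyclic -/

theorem torus_cyclic (h2 : (2 : F) ≠ 0) {M : M2} (hM : M.trace = 0) (hd : M.det ≠ 0) :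
    IsCyclic (torus M hM) := by
  obtain ⟨x, y, h, ho⟩ : ∃ (x y : F) (h : (x • 1 + y • M).det ≠ 0),
      orderOf (pmk (x • 1 + y • M) h) = Nat.card (torus M hM) := by
    rw [card_torus h2 hM hd]
    split_ifs with hs
    · exact exists_split h2 hM hd hs
    · exact exists_nonsplit h2 hM hd hs
  refine isCyclic_of_orderOf_eq_card (α := torus M hM) ⟨_, x, y, h, rfl⟩ ?_
  exact (orderOf_injective (torus M hM).subtype Subtype.val_injective ⟨_, x, y, h, rfl⟩).symm.trans ho

theorem inTorus_of_commute_odd (h2 : (2 : F) ≠ 0) {M : M2} (hM : M.trace = 0) (hd : M.det ≠ 0)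
    {g : PGL} (hodd : Odd (orderOf g)) (hg : Commute g (pmk M hd)) : InTorus M g := by
  rcases cent_cases h2 hM hd hg with h | ⟨N, hN, rfl, hNt, -⟩
  · exact h
  · rw [orderOf_eq_prime (by rw [pow_two]; exact pmk_mul_self hNt hN) (pmk_ne_one h2 hNt hN)] at hodd
    exact absurd hodd (by decide)

theorem mem_pslImage_of_odd {g : PGL} (hodd : Odd (orderOf g)) :
    g ∈ pslImage F := by
  obtain ⟨m, hm⟩ := hodd
  have e : g = (g ^ (m + 1)) ^ 2 := by
    rw [← pow_mul, show (m + 1) * 2 = orderOf g + 1 by omega, pow_succ, pow_orderOf_eq_one, one_mul]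
  rw [e, pow_two]
  by_cases h : g ^ (m + 1) ∈ pslImage F
  · exact mul_mem h h
  · exact mul_mem_pslImage_of_not_mem h h

/-- The sign `ε ≡ q (mod 4)`. -/
def eps (q : ℕ) : ℤ := if q % 4 = 1 then 1 else -1

theorem eps_cases (q : ℕ) : eps q = 1 ∨ eps q = -1 := by
  unfold eps; split_ifs <;> simp

theorem four_dvd_sub_eps {q : ℕ} (h : Odd q) : (4 : ℤ) ∣ (q : ℤ) - eps q := by
  rw [Nat.odd_iff] at h
  unfold eps
  split_ifs <;> omega

theorem card_torus_square (h2 : (2 : F) ≠ 0) {M : M2} (hM : M.trace = 0) (hd : M.det ≠ 0)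
    (hs : IsSquare M.det) :
    (Nat.card (torus M hM) : ℤ) = (Fintype.card F : ℤ) - eps (Fintype.card F) := by
  have hq := Nat.odd_iff.1 (odd_card (F := F) h2)
  have h1 : IsSquare (-M.det) ↔ Fintype.card F % 4 = 1 := by
    obtain ⟨d, hdd⟩ := hs
    have hd0 : d ≠ 0 := fun e => hd (by rw [hdd, e, mul_zero])
    constructor
    · rintro ⟨r, hr⟩
      have : IsSquare (-1 : F) := ⟨r / d, by field_simp; linear_combination hr + hdd⟩
      rw [FiniteField.isSquare_neg_one_iff] at this
      omega
    · intro h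
      obtain ⟨i, hi⟩ : IsSquare (-1 : F) := by rw [FiniteField.isSquare_neg_one_iff]; omega
      exact ⟨i * d, by rw [hdd]; linear_combination (d * d) * hi⟩
  have := Fintype.one_lt_card (α := F)
  rw [card_torus h2 hM hd]
  unfold eps
  by_cases h : Fintype.card F % 4 = 1
  · rw [if_pos (h1.2 h), if_pos h]; omega
  · rw [if_neg (fun e => h (h1.1 e)), if_neg h]; omega

theorem card_torus_nonsquare (h2 : (2 : F) ≠ 0) {M : M2} (hM : M.trace = 0) (hd : M.det ≠ 0)
    (hs : ¬ IsSquare M.det) :
    (Nat.card (torus M hM) : ℤ) = (Fintype.card F : ℤ) + eps (Fintype.card F) := by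
  have hq := Nat.odd_iff.1 (odd_card (F := F) h2)
  have h1 := neg_one_square_iff h2 hs
  rw [FiniteField.isSquare_neg_one_iff] at h1
  have := Fintype.one_lt_card (α := F)
  rw [card_torus h2 hM hd]
  unfold eps
  by_cases h : Fintype.card F % 4 = 1
  · rw [if_neg (h1.1 (by omega)), if_pos h]; omega
  · have h' : IsSquare (-M.det) := by
      by_contra hn
      have := h1.2 hn
      omega
    rw [if_pos h', if_neg h]; omega

/-! ### The subgroup over a subfield -/

variable {K : Type*} [Field K]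

local notation "PSLK" => ProjectiveSpecialLinearGroup (Fin 2) K

/-- The map of `PSL₂` induced by a field extension. -/
def embed (ι : K →+* F) : PSLK →* PSL :=
  QuotientGroup.map _ _ (SpecialLinearGroup.map ι) (by
    intro X hX
    haveI : Fintype K := @Fintype.ofFinite _ (Finite.of_injective ι ι.injective)
    rw [Subgroup.mem_comap, CfsgLib.SpecLin.SLTwo.mem_center_iff']
    rcases CfsgLib.SpecLin.SLTwo.mem_center_iff'.1 hX with h | h
    · left
      show ι.mapMatrix (X : Matrix (Fin 2) (Fin 2) K) = 1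
      rw [h, map_one]
    · right
      show ι.mapMatrix (X : Matrix (Fin 2) (Fin 2) K) = -1
      rw [h, map_neg, map_one])

theorem embed_mk (ι : K →+* F) (X : SpecialLinearGroup (Fin 2) K) :
    embed ι (QuotientGroup.mk X) = QuotientGroup.mk (SpecialLinearGroup.map ι X) := rfl

theorem embed_injective (ι : K →+* F) : Function.Injective (embed ι : PSLK →* PSL) := by
  haveI : Fintype K := @Fintype.ofFinite _ (Finite.of_injective ι ι.injective)
  rw [injective_iff_map_eq_one]
  intro x hx
  obtain ⟨X, rfl⟩ := QuotientGroup.mk_surjective x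
  rw [embed_mk, QuotientGroup.eq_one_iff, CfsgLib.SpecLin.SLTwo.mem_center_iff'] at hx
  rw [QuotientGroup.eq_one_iff, CfsgLib.SpecLin.SLTwo.mem_center_iff']
  have hinj : Function.Injective (fun A : Matrix (Fin 2) (Fin 2) K => ι.mapMatrix A) :=
    Matrix.map_injective ι.injective
  rcases hx with h | h
  · left
    exact hinj (show ι.mapMatrix (X : Matrix (Fin 2) (Fin 2) K) = ι.mapMatrix 1 by
      rw [map_one]; exact h)
  · right
    exact hinj (show ι.mapMatrix (X : Matrix (Fin 2) (Fin 2) K) = ι.mapMatrix (-1) by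
      rw [map_neg, map_one]; exact h)

/-- An element fixed by an odd field automorphism comes from the fixed field. -/
theorem exists_embed (h2 : (2 : F) ≠ 0) {σ : F ≃+* F} (hodd : Odd (orderOf σ)) {z : PSL}
    (hz : fieldAut σ z = z) : ∃ w, embed (fixedSub σ).subtype w = z := by
  obtain ⟨S, rfl⟩ := QuotientGroup.mk_surjective z
  have hmap : (S : M2).map σ = (S : M2) := by
    have e := congrArg toP hz
    rw [fieldAut_mk, toPGL_mk', toPGL_mk', GWCons.TwoOuter.mk_eq_pmk, GWCons.TwoOuter.mk_eq_pmk, pmk_eq_iff] at e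
    obtain ⟨c, hc⟩ := e
    have hc' : c • (S : M2).map σ = (S : M2) := hc
    have hd1 : ((S : M2).map σ).det = 1 := by
      rw [show (S : M2).map σ = σ.toRingHom.mapMatrix (S : M2) from rfl, ← RingHom.map_det, S.2,
        map_one]
    have hc2 : c * c = 1 := by
      have := congrArg Matrix.det hc'
      rw [Matrix.det_smul, hd1, S.2, Fintype.card_fin, mul_one] at this
      rw [← pow_two]; exact this
    rcases mul_self_eq_mul_self_iff.1 (hc2.trans (one_mul 1).symm) with rfl | rfl
    · rwa [one_smul] at hc'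
    · exfalso
      have hneg : ∀ i j, σ ((S : M2) i j) = -((S : M2) i j) := fun i j => by
        have := congrFun (congrFun hc' i) j
        simp only [Matrix.smul_apply, Matrix.map_apply, smul_eq_mul, neg_one_mul] at this
        linear_combination -this
      have hit : ∀ (k : ℕ) i j, (σ ^ k) ((S : M2) i j) = (-1 : F) ^ k * (S : M2) i j := by
        intro k
        induction k with
        | zero => intro i j; simp
        | succ k ih =>
          intro i j
          rw [pow_succ' σ, RingAut.mul_apply, ih, map_mul, map_pow, map_neg, map_one, hneg,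
            pow_succ]
          ring
      have h0 : (S : M2) = 0 := by
        ext i j
        have e1 := hit (orderOf σ) i j
        rw [pow_orderOf_eq_one, hodd.neg_one_pow, RingAut.one_apply] at e1
        have h3 : (2 : F) * (S : M2) i j = 0 := by linear_combination e1
        simpa [h2] using h3
      have := S.2
      rw [h0, Matrix.det_zero] at this
      exact zero_ne_one this
  let A : Matrix (Fin 2) (Fin 2) (fixedSub σ) := fun i j =>
    ⟨(S : M2) i j, congrFun (congrFun hmap i) j⟩
  have hA : A.det = 1 := (fixedSub σ).subtype.injective (by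
    rw [RingHom.map_det, map_one]; exact S.2)
  exact ⟨QuotientGroup.mk ⟨A, hA⟩, congrArg _ (Subtype.ext rfl)⟩

theorem fieldAut_embed {σ : F ≃+* F} (w : ProjectiveSpecialLinearGroup (Fin 2) (fixedSub σ)) :
    fieldAut σ (embed (fixedSub σ).subtype w) = embed (fixedSub σ).subtype w := by
  obtain ⟨X, rfl⟩ := QuotientGroup.mk_surjective w
  rw [embed_mk, fieldAut_mk]
  refine congrArg _ (Subtype.ext ?_)
  ext i j
  exact (X.1 i j).2

theorem two_ne_zero_sub (ι : K →+* F) (h2 : (2 : F) ≠ 0) : (2 : K) ≠ 0 := fun e =>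
  h2 (by simpa [map_ofNat] using congrArg ι e)

/-- Two commuting involutions of `PSL₂` have an element rotating them. -/
theorem exists_rotation (h2 : (2 : F) ≠ 0) {a b : PSL} (ha : orderOf a = 2) (hb : orderOf b = 2)
    (hab : Commute a b) (hne : a ≠ b) : ∃ g, g * a * g⁻¹ = b ∧ g * b * g⁻¹ = a * b := by
  obtain ⟨A, rfl⟩ := QuotientGroup.mk_surjective a
  obtain ⟨B, rfl⟩ := QuotientGroup.mk_surjective b
  obtain ⟨hA, hAt, hAns⟩ := lift_orderOf_two h2 ha
  obtain ⟨hB, hBt, -⟩ := lift_orderOf_two h2 hb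
  have hanti : (B : M2) * A = -((A : M2) * B) := by
    have e := hab.eq
    rw [← QuotientGroup.mk_mul, ← QuotientGroup.mk_mul, QuotientGroup.eq,
      CfsgLib.SpecLin.SLTwo.mem_center_iff'] at e
    rcases e with e | e
    · exfalso
      have e1 : (A * B)⁻¹ * (B * A) = 1 := Subtype.ext e
      have e1' : A * B = B * A := inv_mul_eq_one.1 e1
      have e2 : (A : M2) * B = (B : M2) * A := congrArg Subtype.val e1'
      obtain ⟨x, y, hxy⟩ := CfsgLib.SL2Tori.commutant hAns e2.symm
      have hx : x = 0 := by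
        have := congrArg Matrix.trace hxy
        rw [Matrix.trace_add, Matrix.trace_smul, Matrix.trace_smul, hAt, hBt, Matrix.trace_one] at this
        simpa [h2] using this.symm
      rw [hx, zero_smul, zero_add] at hxy
      have hy : y * y = 1 := by
        have := congrArg Matrix.det hxy
        rw [Matrix.det_smul, B.2, A.2, Fintype.card_fin, mul_one] at this
        rw [← pow_two]; exact this.symm
      refine hne ?_
      rcases mul_self_eq_mul_self_iff.1 (hy.trans (one_mul 1).symm) with rfl | rfl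
      · rw [one_smul] at hxy
        rw [show B = A from Subtype.ext hxy]
      · rw [QuotientGroup.eq, CfsgLib.SpecLin.SLTwo.mem_center_iff']
        right
        rw [neg_one_smul] at hxy
        have e3 : (A⁻¹).1 * A.1 = 1 := congrArg Subtype.val (inv_mul_cancel A)
        show (A⁻¹).1 * B.1 = -1
        rw [hxy, mul_neg, e3]
    · have e2 : (B : M2) * A = ((A : M2) * B) * ((((A * B)⁻¹ * (B * A)) : SpecialLinearGroup (Fin 2) F) : M2) :=
        congrArg Subtype.val (mul_inv_cancel_left (A * B) (B * A)).symm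
      rw [e, mul_neg, mul_one] at e2
      exact e2
  have hq : QPair (A : M2) (B : M2) := ⟨hA, hB, by rw [hanti, neg_neg]⟩
  set R : M2 := (2⁻¹ : F) • (1 + ((A : M2) + B + A * B)) with hR
  have hR1 : R.det = 1 := by
    rw [hR, Matrix.det_smul, hq.det_rElt h2, Fintype.card_fin]; field_simp; norm_num
  have hA' : ∀ X : M2, (A : M2) * ((A : M2) * X) = -X := fun X => by
    rw [← mul_assoc, hA, neg_one_mul]
  have hB' : ∀ X : M2, (B : M2) * ((B : M2) * X) = -X := fun X => by
    rw [← mul_assoc, hB, neg_one_mul]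
  have hanti' : ∀ X : M2, (B : M2) * ((A : M2) * X) = -((A : M2) * ((B : M2) * X)) := fun X => by
    rw [← mul_assoc, hanti, neg_mul, mul_assoc]
  have e1 : R * (A : M2) = (B : M2) * R := by
    rw [hR, Matrix.smul_mul, Matrix.mul_smul]
    refine congrArg _ ?_
    simp only [mul_add, add_mul, mul_one, one_mul, mul_assoc, hA, hB, hA', hB', hanti, hanti',
      mul_neg, neg_mul, neg_neg]
    abel
  have e2 : R * (B : M2) = (A : M2) * B * R := by
    rw [hR, Matrix.smul_mul, Matrix.mul_smul]
    refine congrArg _ ?_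
    simp only [mul_add, add_mul, mul_one, one_mul, mul_assoc, hA, hB, hA', hB', hanti, hanti',
      mul_neg, neg_mul, neg_neg]
    abel
  let r : SpecialLinearGroup (Fin 2) F := ⟨R, hR1⟩
  refine ⟨QuotientGroup.mk r, ?_, ?_⟩
  · rw [mul_inv_eq_iff_eq_mul, ← QuotientGroup.mk_mul, ← QuotientGroup.mk_mul]
    exact congrArg _ (Subtype.ext e1)
  · rw [mul_inv_eq_iff_eq_mul, ← QuotientGroup.mk_mul, ← QuotientGroup.mk_mul, ← QuotientGroup.mk_mul]
    exact congrArg _ (Subtype.ext e2)

/-- The elements of odd order commuting with an involution have order dividing the torus. -/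
theorem orderOf_dvd_eps (h2 : (2 : F) ≠ 0) {a z : PSL} (ha : orderOf a = 2)
    (hc : Commute z a) (hodd : Odd (orderOf z)) :
    (orderOf z : ℤ) ∣ (Fintype.card F : ℤ) - eps (Fintype.card F) := by
  obtain ⟨M, hd, hM, hs, e⟩ := exists_matrix ha
  rw [← card_torus_square h2 hM hd hs, Int.natCast_dvd_natCast,
    ← orderOf_injective _ ProjectiveSpecialLinearGroup.toPGL_injective z]
  have hmem : toP z ∈ torus M hM := inTorus_of_commute_odd h2 hM hd
    (by rwa [orderOf_injective _ ProjectiveSpecialLinearGroup.toPGL_injective])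
    (e ▸ hc.map toP)
  have := orderOf_dvd_natCard (⟨toP z, hmem⟩ : torus M hM)
  rwa [Subgroup.orderOf_mk] at this

/-- A fixed element of odd order commuting with a fixed involution lives over the fixed field. -/
theorem orderOf_dvd_fixed (h2 : (2 : F) ≠ 0) {σ : F ≃+* F} (hodd : Odd (orderOf σ)) {a z : PSL}
    (ha : orderOf a = 2) (hc : Commute z a) (hz : Odd (orderOf z)) (hfa : fieldAut σ a = a)
    (hfz : fieldAut σ z = z) :
    (orderOf z : ℤ) ∣ (Nat.card (fixedSub σ) : ℤ) - eps (Nat.card (fixedSub σ)) := by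
  haveI : Fintype (fixedSub σ) := Fintype.ofFinite _
  obtain ⟨a', rfl⟩ := exists_embed h2 hodd hfa
  obtain ⟨z', rfl⟩ := exists_embed h2 hodd hfz
  set ι := (fixedSub σ).subtype
  rw [orderOf_injective _ (embed_injective ι)] at ha hz ⊢
  rw [Nat.card_eq_fintype_card]
  exact orderOf_dvd_eps (two_ne_zero_sub ι h2) ha (embed_injective ι (by
    rw [map_mul, map_mul]; exact hc.eq)) hz

/-! ### Arithmetic -/

theorem eps_pow {q0 r : ℕ} (h : Odd q0) (hr : Odd r) : eps (q0 ^ r) = eps q0 := by
  obtain ⟨k, rfl⟩ := hr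
  have e : q0 ^ (2 * k + 1) % 4 = q0 % 4 := by
    rw [pow_succ, pow_mul, Nat.mul_mod, Nat.pow_mod, show q0 ^ 2 % 4 = 1 by
      rw [Nat.pow_mod]; rcases (show q0 % 4 = 1 ∨ q0 % 4 = 3 by
        have := Nat.odd_iff.1 h; omega) with e | e <;> rw [e] <;> rfl]
    simp
  unfold eps
  rw [e]

/-- `q₀ⁿ - ε = (q₀ - ε) S`. -/
theorem exists_factor {q0 n : ℕ} (h : Odd q0) (hn : Odd n) :
    ∃ S : ℤ, ((q0 ^ n : ℕ) : ℤ) - eps (q0 ^ n) = ((q0 : ℤ) - eps q0) * S ∧
      (1 < n → 3 ≤ q0 → S ≠ 1 ∧ S ≠ -1) ∧ ((n : ℤ) ∣ (q0 : ℤ) - eps q0 → (n : ℤ) ∣ S) ∧ Odd S := by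
  have he := eps_pow h hn
  have hen : eps q0 ^ n = eps q0 := by
    rcases eps_cases q0 with e | e <;> rw [e]
    · rw [one_pow]
    · rw [hn.neg_one_pow]
  refine ⟨∑ i ∈ Finset.range n, (q0 : ℤ) ^ i * eps q0 ^ (n - 1 - i), ?_, ?_, ?_, ?_⟩
  · rw [he, mul_comm, geom_sum₂_mul, hen]
    push_cast; ring
  · intro h1 h3
    have hS := geom_sum₂_mul (q0 : ℤ) (eps q0) n
    rw [hen] at hS
    have hpow : (q0 : ℤ) * (q0 * q0) ≤ (q0 : ℤ) ^ n := by
      have : q0 ^ 3 ≤ q0 ^ n := Nat.pow_le_pow_right (by omega) (by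
        rcases hn with ⟨k, rfl⟩; omega)
      calc (q0 : ℤ) * (q0 * q0) = ((q0 ^ 3 : ℕ) : ℤ) := by push_cast; ring
        _ ≤ ((q0 ^ n : ℕ) : ℤ) := by exact_mod_cast this
        _ = _ := by push_cast; ring
    have h3' : (3 : ℤ) ≤ q0 := by exact_mod_cast h3
    have h9 : (9 : ℤ) ≤ q0 * q0 := by nlinarith
    have h9' : 9 * (q0 : ℤ) ≤ q0 * (q0 * q0) := by nlinarith
    constructor <;> intro e <;> rw [e] at hS <;>
      rcases eps_cases q0 with e' | e' <;> rw [e'] at hS <;> omega
  · intro hdvd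
    exact dvd_geom_sum₂_self (by exact_mod_cast hdvd)
  · have hodd : ∀ i, Odd ((q0 : ℤ) ^ i * eps q0 ^ (n - 1 - i)) := fun i => by
      refine (Odd.pow (by exact_mod_cast h)).mul (Odd.pow ?_)
      rcases eps_cases q0 with e | e <;> rw [e] <;> decide
    rw [Int.odd_iff, Finset.sum_int_mod, Finset.sum_congr rfl (fun i _ => Int.odd_iff.1 (hodd i)),
      Finset.sum_const, Finset.card_range, nsmul_one]
    exact_mod_cast Nat.odd_iff.1 hn

/-- A multiplier of order dividing an odd prime on a cyclic `r`-group. -/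
theorem dvd_mult {r a : ℕ} (hr : r.Prime) (hodd : Odd r) {m : ℤ} (hm : (r : ℤ) ∣ m - 1)
    (h : ((r ^ a : ℕ) : ℤ) ∣ m ^ r - 1) : ((r ^ a : ℕ) : ℤ) ∣ (m - 1) * r := by
  obtain ⟨u, hu⟩ := hm
  have hS := odd_sq_dvd_geom_sum₂_sub (R := ℤ) (a := 1) (b := u) (p := r) hodd
  simp only [one_pow, mul_one, mul_one, ← hu, add_sub_cancel] at hS
  set S := ∑ i ∈ Finset.range r, m ^ i
  obtain ⟨v, hv⟩ := hS
  have hS' : S = (r : ℤ) * (1 + r * v) := by linear_combination hv
  have e : m ^ r - 1 = (m - 1) * r * (1 + r * v) := by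
    rw [← geom_sum_mul, show (∑ i ∈ Finset.range r, m ^ i) = S from rfl, hS']; ring
  rw [e] at h
  refine IsCoprime.dvd_of_dvd_mul_right ?_ h
  push_cast
  exact IsCoprime.pow_left ⟨-v, 1, by ring⟩

end CfsgLib.GW.FieldModel
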