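import Cfsg.Agent.Lib.GW.Max32Corner

/-!
Gorenstein–Walter, Step 3.2: no `O_r(C(t))` is centralised by a reflection.
-/

set_option autoImplicit false

namespace CfsgLib.GW.Max32

open Subgroup CfsgLib.GW

universe u

variable {G : Type u} [Group G]

/-- **Step 3.2.** -/
theorem false_of_le_X (E : Setup G) [Finite G] (hH : IsCoatom E.H) (hU : E.U ≠ ⊥) {b : G}
    (hb : E.Refl b) {r : ℕ} (hr : r.Prime) (hr2 : r ≠ 2) (hD : E.Dichotomy) (hne : E.R r ≠ ⊥)
    (hle : E.R r ≤ E.X b) : False := by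
  obtain ⟨g, hgt, hgb, -⟩ := hb.exists_rot
  have C : Ctx E b g r := ⟨hH, hU, hb, hgt, hgb, hr, hr2, hD, hne, hle⟩
  obtain rfl : r = 3 := C.card_eq_three.1
  exact C.false_of_three

end CfsgLib.GW.Max32
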