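import Mathlib.Tactic
import Mathlib.Data.Fintype.BigOperators
import Mathlib.Algebra.Order.BigOperators.Ring.Finset
import Cfsg.Agent.Lib.GW.ThetaLattice

/-!
Gorenstein–Walter, Sylow four-groups: three orthogonal vectors of norm four with equal parities,
and the equations for the degrees.
-/

set_option autoImplicit false
set_option linter.style.haveILetI false
set_option linter.unusedSectionVars false

namespace CfsgLib.GW.ThetaMoved

open scoped Classical

variable {ι : Type*} [Fintype ι]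

/-- Three orthogonal vectors of norm four, orthogonal to positive weights and of equal parity,
are the non-trivial rows of a Hadamard matrix, and the weights are equal on their support. -/
theorem shape {v : Fin 3 → ι → ℤ} {x : ι → ℕ} (hx : ∀ c, 0 < x c)
    (hgram : ∀ i j, ∑ c, v i c * v j c = if i = j then 4 else 0)
    (hdeg : ∀ i, ∑ c, v i c * (x c : ℤ) = 0)
    (hpar : ∀ c i, v i c ≠ 0 → ∀ j, (2 : ℤ) ∣ v j c - v i c) :
    ∃ (A : ℕ) (σ : ℤ), 0 < A ∧ (σ = 1 ∨ σ = -1) ∧ (∀ c, v 0 c ≠ 0 → x c = A) ∧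
      ∑ c, v 0 c * ((v 0 c + v 1 c + v 2 c) * (v 0 c + v 1 c + v 2 c)) = 8 * σ := by
  have hb : ∀ i c, v i c = 0 ∨ v i c = 1 ∨ v i c = -1 := fun i c => by
    have h := abs_le.1 (ThetaLattice.abs_le_one_of_four
      (by simpa using hgram i i) hx (hdeg i) c)
    omega
  have hsupp : ∀ i c, v i c ≠ 0 → ∀ j, v j c ≠ 0 := fun i c h j hj => by
    have h2 := hpar c i h j
    rcases hb i c with e | e | e
    · exact h e
    all_goals rw [hj, e] at h2; norm_num at h2
  set P : Finset ι := Finset.univ.filter fun c => v 0 c ≠ 0 with hP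
  have hmem : ∀ c ∈ P, ∀ i, v i c = 1 ∨ v i c = -1 := fun c hc i =>
    (hb i c).resolve_left (hsupp 0 c (Finset.mem_filter.1 hc).2 i)
  have hzero : ∀ c, c ∉ P → ∀ i, v i c = 0 := fun c hc i => by
    by_contra h
    exact hc (Finset.mem_filter.2 ⟨Finset.mem_univ _, hsupp i c h 0⟩)
  have hres : ∀ i (f : ι → ℤ), ∑ c ∈ P, v i c * f c = ∑ c, v i c * f c := fun i f =>
    Finset.sum_subset (Finset.subset_univ _) fun c _ hc => by rw [hzero c hc i, zero_mul]
  have hcard : ∑ _c ∈ P, (1 : ℤ) = 4 := by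
    have e := hgram 0 0
    rw [if_pos rfl, ← hres 0 (v 0)] at e
    rw [← e]
    refine Finset.sum_congr rfl fun c hc => ?_
    rcases hmem c hc 0 with h | h <;> rw [h] <;> norm_num
  set s : ι → ℤ := fun c => v 0 c * v 1 c * v 2 c with hs
  set Q : ι → ι → ℤ := fun c d => v 0 c * v 0 d + v 1 c * v 1 d + v 2 c * v 2 d + s c * s d with hQ
  have horth : ∀ c ∈ P, ∀ d ∈ P, d ≠ c → Q c d = 0 := by
    intro c hc d hd hdc
    have hsq : ∑ e ∈ P, Q c e * Q c e = 16 := by
      have e1 : ∀ e ∈ P, Q c e * Q c e = 4 * 1 + 4 * ((v 0 c * v 1 c) * (v 0 e * v 1 e) +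
          (v 0 c * v 2 c) * (v 0 e * v 2 e) + (v 1 c * v 2 c) * (v 1 e * v 2 e)) := fun e he => by
        simp only [hQ, hs]
        rcases hmem c hc 0 with a0 | a0 <;> rcases hmem c hc 1 with a1 | a1 <;>
          rcases hmem c hc 2 with a2 | a2 <;> rcases hmem e he 0 with b0 | b0 <;>
          rcases hmem e he 1 with b1 | b1 <;> rcases hmem e he 2 with b2 | b2 <;>
          rw [a0, a1, a2, b0, b1, b2] <;> norm_num
      rw [Finset.sum_congr rfl e1, Finset.sum_add_distrib, ← Finset.mul_sum, hcard, ← Finset.mul_sum]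
      simp only [Finset.sum_add_distrib, ← Finset.mul_sum]
      rw [hres 0 (v 1), hres 0 (v 2), hres 1 (v 2), hgram, hgram, hgram]
      simp
    have hQc : Q c c * Q c c = 16 := by
      simp only [hQ, hs]
      rcases hmem c hc 0 with a0 | a0 <;> rcases hmem c hc 1 with a1 | a1 <;>
        rcases hmem c hc 2 with a2 | a2 <;> rw [a0, a1, a2] <;> norm_num
    rw [← Finset.add_sum_erase _ _ hc, hQc, add_eq_left,
      Finset.sum_eq_zero_iff_of_nonneg fun e _ => mul_self_nonneg _] at hsq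
    exact mul_self_eq_zero.1 (hsq d (Finset.mem_erase.2 ⟨hdc, hd⟩))
  set D : ℤ := ∑ d ∈ P, s d * (x d : ℤ) with hD
  have hxD : ∀ c ∈ P, s c * D = 4 * (x c : ℤ) := by
    intro c hc
    have e : ∑ d ∈ P, Q c d * (x d : ℤ) = s c * D := by
      simp only [hQ, add_mul, Finset.sum_add_distrib, mul_assoc, ← Finset.mul_sum, hD]
      rw [hres 0 (fun d => (x d : ℤ)), hres 1 (fun d => (x d : ℤ)), hres 2 (fun d => (x d : ℤ)),
        hdeg, hdeg, hdeg]
      ring
    rw [← e, Finset.sum_eq_single c (fun d hd h => by rw [horth c hc d hd h, zero_mul])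
      (fun h => absurd hc h)]
    congr 1
    simp only [hQ, hs]
    rcases hmem c hc 0 with a0 | a0 <;> rcases hmem c hc 1 with a1 | a1 <;>
      rcases hmem c hc 2 with a2 | a2 <;> rw [a0, a1, a2] <;> norm_num
  have hs1 : ∀ c ∈ P, s c = 1 ∨ s c = -1 := fun c hc => by
    simp only [hs]
    rcases hmem c hc 0 with a0 | a0 <;> rcases hmem c hc 1 with a1 | a1 <;>
      rcases hmem c hc 2 with a2 | a2 <;> rw [a0, a1, a2] <;> norm_num
  obtain ⟨c₀, hc₀⟩ : P.Nonempty := Finset.nonempty_of_sum_ne_zero (f := fun _ => (1 : ℤ))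
    (by rw [hcard]; norm_num)
  have hconst : ∀ c ∈ P, s c = s c₀ ∧ x c = x c₀ := fun c hc => by
    have h1 := hxD c hc
    have h2 := hxD c₀ hc₀
    have p1 := hx c
    have p2 := hx c₀
    rcases hs1 c hc with a | a <;> rcases hs1 c₀ hc₀ with b | b <;> rw [a] at h1 <;>
      rw [b] at h2 <;> rw [a, b] <;> constructor <;> omega
  refine ⟨x c₀, s c₀, hx c₀, hs1 c₀ hc₀, fun c hc =>
    (hconst c (Finset.mem_filter.2 ⟨Finset.mem_univ _, hc⟩)).2, ?_⟩
  have hsum : ∀ i, ∑ c, v i c = 0 := fun i => by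
    have e : ∑ c, v i c * (x c : ℤ) = (∑ c, v i c) * (x c₀ : ℤ) := by
      rw [Finset.sum_mul]
      refine Finset.sum_congr rfl fun c _ => ?_
      by_cases hc : c ∈ P
      · rw [(hconst c hc).2]
      · rw [hzero c hc i, zero_mul, zero_mul]
    rw [hdeg, eq_comm, mul_eq_zero] at e
    exact e.resolve_right (by have := hx c₀; omega)
  calc ∑ c, v 0 c * ((v 0 c + v 1 c + v 2 c) * (v 0 c + v 1 c + v 2 c))
      = ∑ c ∈ P, v 0 c * ((v 0 c + v 1 c + v 2 c) * (v 0 c + v 1 c + v 2 c)) :=
        (hres 0 _).symm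
    _ = ∑ c ∈ P, (3 * v 0 c + 2 * v 1 c + 2 * v 2 c + 2 * s c₀ * 1) := by
        refine Finset.sum_congr rfl fun c hc => ?_
        rw [← (hconst c hc).1]
        simp only [hs]
        rcases hmem c hc 0 with a0 | a0 <;> rcases hmem c hc 1 with a1 | a1 <;>
          rcases hmem c hc 2 with a2 | a2 <;> rw [a0, a1, a2] <;> norm_num
    _ = 8 * s c₀ := by
        simp only [Finset.sum_add_distrib, ← Finset.mul_sum]
        rw [hcard, Finset.sum_subset (Finset.subset_univ P) (fun c _ hc => hzero c hc 0),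
          Finset.sum_subset (Finset.subset_univ P) (fun c _ hc => hzero c hc 1),
          Finset.sum_subset (Finset.subset_univ P) (fun c _ hc => hzero c hc 2), hsum, hsum, hsum]
        ring

theorem no_pos {A c : ℕ} (hc : 11 ≤ c) (h : A * ((c + 1) * (c + 1)) = 8 * (c * (c - 1))) : False := by
  obtain ⟨e, rfl⟩ : ∃ e, c = e + 11 := ⟨c - 11, by omega⟩
  rw [show e + 11 - 1 = e + 10 by omega] at h
  have h1 : A < 8 := by
    by_contra hlt
    push Not at hlt
    have := Nat.mul_le_mul_right ((e + 11 + 1) * (e + 11 + 1)) hlt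
    nlinarith
  have h2 : 6 ≤ A := by
    by_contra hlt
    push Not at hlt
    have := Nat.mul_le_mul_right ((e + 11 + 1) * (e + 11 + 1)) (show A ≤ 5 by omega)
    nlinarith
  interval_cases A
  · nlinarith
  · have : e ≤ 11 := by nlinarith
    interval_cases e <;> omega

theorem no_neg {A a b c : ℕ} (hb : 7 ≤ b) (hc : 7 ≤ c) (hb4 : b % 4 = 3) (hc4 : c % 4 = 3)
    (ha : a + 1 = b + c)
    (h : A * ((a + 1) * ((b - 1) * (c - 1))) = 8 * (a * (b * c))) : False := by
  wlog hbc : b ≤ c generalizing b c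
  · refine this hc hb hc4 hb4 (by omega) ?_ (by omega)
    rw [mul_comm (c - 1), mul_comm c b]
    exact h
  obtain ⟨e, rfl⟩ : ∃ e, b = e + 7 := ⟨b - 7, by omega⟩
  obtain ⟨f, rfl⟩ : ∃ f, c = e + 7 + f := ⟨c - (e + 7), by omega⟩
  obtain rfl : a = 2 * e + f + 13 := by omega
  rw [show e + 7 - 1 = e + 6 by omega, show e + 7 + f - 1 = e + 6 + f by omega] at h
  have h1 : 9 ≤ A := by
    by_contra hlt
    have := Nat.mul_le_mul_right ((2 * e + f + 13 + 1) * ((e + 6) * (e + 6 + f)))
      (show A ≤ 8 by omega)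
    nlinarith
  have h2 : A ≤ 10 := by
    by_contra hlt
    have := Nat.mul_le_mul_right ((2 * e + f + 13 + 1) * ((e + 6) * (e + 6 + f)))
      (show 11 ≤ A by omega)
    nlinarith [Nat.zero_le (e * e * e), Nat.zero_le (e * e * f), Nat.zero_le (e * f * f),
      Nat.zero_le (e * e), Nat.zero_le (e * f), Nat.zero_le (f * f)]
  interval_cases A
  · have he : e ≤ 11 := by
      by_contra hlt
      push Not at hlt
      nlinarith [Nat.mul_le_mul hlt (Nat.le_refl ((2 * e + f + 13) * (e + 7 + f))),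
        Nat.mul_le_mul hlt (Nat.le_refl (e + f)), Nat.mul_le_mul hlt hlt]
    interval_cases e <;> try omega
    all_goals
      have hf : f ≤ 32 := by nlinarith
      interval_cases f <;> omega
  · have he : e ≤ 3 := by
      by_contra hlt
      push Not at hlt
      nlinarith [Nat.mul_le_mul hlt (Nat.le_refl ((2 * e + f + 13) * (e + 7 + f))),
        Nat.mul_le_mul hlt (Nat.le_refl (e + f)), Nat.mul_le_mul hlt hlt]
    interval_cases e <;> try omega
    all_goals
      have hf : f ≤ 32 := by nlinarith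
      interval_cases f <;> omega

end CfsgLib.GW.ThetaMoved
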