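import Cfsg.Agent.Lib.GW.ThetaMovedBase
import Cfsg.Agent.Lib.GW.ThetaMovedArith
import Cfsg.Agent.Lib.GW.ThetaBlock

/-!
Gorenstein–Walter, the character lemma behind Step 3.3 for every order of the Sylow subgroup: for
a four-group the linear character may be moved by the normaliser, and three translates of it still
force `U` to be abelian.
-/

set_option autoImplicit false
set_option linter.style.haveILetI false
set_option linter.unusedSectionVars false

namespace CfsgLib.GW.ThetaMoved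

open Subgroup Cfsg CfsgLib.Characters CfsgLib.CharCorr CfsgLib.GW.ThetaBase CfsgLib.GW.ThetaRoot
  CfsgLib.GW.ThetaRot CfsgLib.GW.ThetaCore CfsgLib.GW.ThetaBlock
open scoped Classical ComplexConjugate

universe u

variable {G : Type u} [Group G] [Fintype G] {E : Setup G}

theorem mem_four_of_mem_S (hk : E.d.k = 0) {s : G} (hs : s ∈ (E.S : Subgroup G)) :
    s ∈ four E E.d.a :=
  ⟨hs, mem_centralizer_singleton_iff.2 (E.d.comm_of_four hk hs E.d.a_mem)⟩

theorem refl_cases (hk : E.d.k = 0) {b : G} (hb : E.Refl b) : b = E.d.a ∨ b = E.d.a * E.t := by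
  rcases E.refl_a.cases_of_commute hb.1 (E.d.comm_of_four hk hb.1 E.d.a_mem) with h | h | h | h
  · exact absurd h hb.ne_one
  · exact absurd h hb.ne_t
  · exact Or.inl h
  · exact Or.inr h

theorem mem_four_of_two' (hk : E.d.k = 0) {x : G} (hx : x ∈ NV E) {j : ℕ}
    (hj : orderOf x = 2 ^ j) : x ∈ four E E.d.a := by
  haveI : Fact (Nat.Prime 2) := ⟨Nat.prime_two⟩
  have hp : IsPGroup 2 (zpowers x) :=
    IsPGroup.of_card (n := j) (by rw [Nat.card_zpowers]; exact hj)
  have hle : zpowers x ≤ normalizer ((E.S : Subgroup G) : Set G) := by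
    have e : (E.S : Subgroup G) = four E E.d.a :=
      le_antisymm (fun s hs => mem_four_of_mem_S hk hs) inf_le_left
    rw [e]
    exact zpowers_le.2 hx
  have h := E.S.is_maximal' (E.S.2.to_sup_of_normal_left' hp hle) le_sup_left
  exact mem_four_of_mem_S hk
    (h.le ((le_sup_right : zpowers x ≤ (E.S : Subgroup G) ⊔ zpowers x) (mem_zpowers x)))

section Vec

variable {θ : E.U →* ℂˣ}
  (hS : ∀ s (hs : s ∈ (E.S : Subgroup G)) (x : E.U),
    θ ⟨s * x * s⁻¹, E.conj_mem_U (E.S_le_H hs) x.2⟩ = θ x)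

theorem mm_eq (χ : IrrCharacter G) : (mm E hS χ : ℂ) =
    (Nat.card E.U : ℂ)⁻¹ * ∑ w : E.U, conj ((θ w : ℂˣ) : ℂ) * (χ : G → ℂ) (E.t * w) := by
  rw [show (mm E hS χ : ℂ) = Phi E θ χ E.t from (Phi_hz E hS χ).symm, Phi]
  refine congrArg _ (Finset.sum_congr rfl fun w _ => ?_)
  rw [(E.mem_U.1 w.2).1]

theorem root_iff (χ : IrrCharacter G) : Root E χ (thI θ) ↔ mm E hS χ ≠ 0 := by
  simp [Root, thI, ← Int.cast_ne_zero (α := ℂ), mm_eq hS χ]

theorem mm_eq_K (hk : E.d.k = 0) (χ : IrrCharacter G) : mm E hS χ = K E hS χ 1 := by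
  have hq : q E = 2 := by show 2 ^ (E.d.k + 1) = 2; rw [hk]; rfl
  have e : mm E hS χ =
      -∑ j ∈ Finset.range (q E), (-1 : ℤ) ^ j * K E hS χ (j : ZMod (q E)) := by
    rw [mm, ← sum_zmod_range (q := q E) fun j => (-1 : ℤ) ^ j * K E hS χ (j : ZMod (q E))]
    simp only [ZMod.natCast_zmod_val]
  rw [e, show Finset.range (q E) = Finset.range 2 from congrArg _ hq, Finset.sum_range_succ, Finset.sum_range_one, Nat.cast_zero, K_zero, Nat.cast_one]
  ring

end Vec

/-- Orthogonality of the columns on `t U` for two invariant characters. -/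
theorem sum_Phi_t (hk : E.d.k = 0) (θ θ' : E.U →* ℂˣ)
    (hS' : ∀ s (hs : s ∈ (E.S : Subgroup G)) (x : E.U),
      θ' ⟨s * x * s⁻¹, E.conj_mem_U (E.S_le_H hs) x.2⟩ = θ' x) :
    ∑ χ : IrrCharacter G, Phi E θ χ E.t * conj (Phi E θ' χ E.t) = if θ = θ' then 4 else 0 := by
  have hcol : ∀ v w : G, ∑ χ : IrrCharacter G, (χ : G → ℂ) v * conj ((χ : G → ℂ) w) =
      ∑ g : G, if g * v * g⁻¹ = w then (1 : ℂ) else 0 := by
    intro v w
    rw [Finset.sum_boole, column_orth]
    split_ifs with h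
    · obtain ⟨g₀, hg₀⟩ := isConj_iff.1 h
      rw [← Fintype.card_subtype, ← Nat.card_eq_fintype_card]
      refine congrArg _ (Nat.card_congr
        { toFun := fun c => ⟨g₀ * c.1, ?_⟩
          invFun := fun g => ⟨g₀⁻¹ * g.1, mem_centralizer_singleton_iff.2 ?_⟩
          left_inv := fun c => Subtype.ext (by simp)
          right_inv := fun g => Subtype.ext (by simp) })
      · have h1 : (c : G) * v = v * c := mem_centralizer_singleton_iff.1 c.2
        rw [← hg₀, mul_assoc g₀, h1]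
        group
      · have h1 : g.1 * v * g.1⁻¹ = g₀ * v * g₀⁻¹ := g.2.trans hg₀.symm
        rw [mul_inv_eq_iff_eq_mul] at h1
        rw [mul_assoc, h1]
        group
    · rw [Finset.filter_eq_empty_iff.2 fun g _ hg => h (isConj_iff.2 ⟨g, hg⟩), Finset.card_empty,
        Nat.cast_zero]
  have hcoset : ∀ (g : G) (v : E.U),
      (∑ w : E.U, ((θ' w : ℂˣ) : ℂ) *
        (if g * ((v : G) * E.t) * g⁻¹ = (w : G) * E.t then (1 : ℂ) else 0)) =
      if g ∈ E.H then ((θ' v : ℂˣ) : ℂ) else 0 := by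
    intro g v
    by_cases hgH : g ∈ E.H
    · have e : g * ((v : G) * E.t) * g⁻¹ = g * v * g⁻¹ * E.t := by
        calc g * ((v : G) * E.t) * g⁻¹ = g * v * (E.t * g⁻¹) := by group
          _ = g * v * (g⁻¹ * E.t) := by rw [(E.mem_H.1 (inv_mem hgH)).symm]
          _ = g * v * g⁻¹ * E.t := by group
      rw [if_pos hgH, Finset.sum_eq_single ⟨g * v * g⁻¹, E.conj_mem_U hgH v.2⟩
        (fun w _ hw => by
          rw [if_neg fun h => hw (Subtype.ext (mul_right_cancel (h.symm.trans e))), mul_zero])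
        (fun h => absurd (Finset.mem_univ _) h), if_pos e, mul_one]
      exact congrArg Units.val (theta_conj hS' hgH v)
    · rw [if_neg hgH]
      refine Finset.sum_eq_zero fun w _ => ?_
      rw [if_neg fun h => hgH (mem_H_of_conj E v.2 w.2 (hz_ne_zero E) (hz_ne_zero E)
        (by rw [rz_hz]; exact h)), mul_zero]
  have hu : (Nat.card E.U : ℂ) ≠ 0 := Nat.cast_ne_zero.2 Nat.card_pos.ne'
  have hH : (∑ g : G, if g ∈ E.H then (1 : ℂ) else 0) = 4 * Nat.card E.U := by
    rw [Finset.sum_boole, ← Fintype.card_subtype, ← Nat.card_eq_fintype_card]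
    show ((Nat.card E.H : ℕ) : ℂ) = _
    rw [E.card_H, E.card_S, hk]
    push_cast
    ring
  have hθ : (∑ v : E.U, conj ((θ v : ℂˣ) : ℂ) * ((θ' v : ℂˣ) : ℂ)) =
      if θ = θ' then (Nat.card E.U : ℂ) else 0 := by
    have h := classInner_irr (thI θ') (thI θ)
    rw [classInner, inv_mul_eq_iff_eq_mul₀ hu] at h
    rw [Finset.sum_congr rfl fun v _ => mul_comm _ _]
    refine h.trans ?_
    by_cases e : θ = θ'
    · rw [if_pos e, if_pos (by rw [e]), mul_one]
    · rw [if_neg e, if_neg (fun e' => e (MonoidHom.ext fun v => Units.ext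
        (congrFun (congrArg Subtype.val e') v).symm)), mul_zero]
  calc ∑ χ : IrrCharacter G, Phi E θ χ E.t * conj (Phi E θ' χ E.t)
      = (Nat.card E.U : ℂ)⁻¹ ^ 2 * ∑ v : E.U, conj ((θ v : ℂˣ) : ℂ) * ∑ w : E.U,
          ((θ' w : ℂˣ) : ℂ) * ∑ χ : IrrCharacter G,
            (χ : G → ℂ) ((v : G) * E.t) * conj ((χ : G → ℂ) ((w : G) * E.t)) := by
        simp only [Phi, map_mul, map_inv₀, map_natCast, map_sum, Complex.conj_conj, Finset.mul_sum,
          Finset.sum_mul]
        rw [Finset.sum_comm]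
        conv_rhs => rw [Finset.sum_comm]
        refine Finset.sum_congr rfl fun v' _ => ?_
        rw [Finset.sum_comm]
        exact Finset.sum_congr rfl fun v _ => Finset.sum_congr rfl fun χ _ => by ring
    _ = (Nat.card E.U : ℂ)⁻¹ ^ 2 * ∑ v : E.U, conj ((θ v : ℂˣ) : ℂ) *
          (((θ' v : ℂˣ) : ℂ) * (4 * Nat.card E.U)) := by
        refine congrArg _ (Finset.sum_congr rfl fun v _ => congrArg _ ?_)
        simp only [hcol]
        rw [← hH, Finset.mul_sum]
        simp only [Finset.mul_sum]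
        rw [Finset.sum_comm]
        refine Finset.sum_congr rfl fun g _ => ?_
        rw [hcoset]
        split_ifs <;> simp
    _ = _ := by
        simp only [← mul_assoc]
        rw [← Finset.sum_mul, ← Finset.sum_mul, hθ]
        split_ifs
        · field_simp
        · simp

section Translates

variable (hk : E.d.k = 0) (T : NV E → E.U →* ℂˣ)
  (hT : ∀ n, ∀ s (hs : s ∈ (E.S : Subgroup G)) (x : E.U),
    T n ⟨s * x * s⁻¹, E.conj_mem_U (E.S_le_H hs) x.2⟩ = T n x)
  (hres : ∀ n c, T n (inclX E.d.a c) = T 1 (inclX E.d.a (actX n c)))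

include hk hT hres in
/-- Only translates agree with a translate. -/
theorem eq_translate_of_like {M : Ideal AlgInt} (hM : IsPModular 2 M) {η : IrrCharacter E.U} (n : NV E)
    (hlike : Like E M η (thI (T n))) : ∃ m : NV E, η = thI (T m) := by
  have hn := hT n
  by_cases hN : normalizer (stab E η : Set G) ≤ E.H
  · exact ⟨n, eq_of_like_of_normalizer E hM (irrH_thI hn) hN hlike⟩
  haveI : Fact (Nat.Prime 2) := ⟨Nat.prime_two⟩
  have hrefl : ∃ b ∈ stab E η, E.Refl b := by
    by_contra hno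
    push Not at hno
    refine hN fun x hx => E.mem_H.2 (mul_inv_eq_iff_eq_mul.1 ?_)
    have h1 : x * E.t * x⁻¹ ∈ stab E η := (mem_normalizer_iff.1 hx _).1 (t_mem_stab E η)
    refine (Setup.eq_t_or_refl (stab_le E η h1) ?_).resolve_right (hno _ h1)
    rw [CfsgLib.Involutions.orderOf_conj_eq, E.orderOf_t]
  obtain ⟨b, hb, hbR⟩ := hrefl
  have ha : E.d.a ∈ stab E η := by
    rcases refl_cases hk hbR with rfl | rfl
    · exact hb
    · have := mul_mem hb (t_mem_stab E η)
      rwa [mul_assoc, E.t_sq, mul_one] at this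
  have hinv : Inv (actFour E.d.a) η := apply_act E (four_le_H E.d.a) fun s hs => by
    have : s ∈ stab E η := by
      rcases cases_four E.refl_a hs with rfl | rfl | rfl | rfl
      exacts [one_mem _, t_mem_stab E η, ha, mul_mem ha (t_mem_stab E η)]
    exact this.2
  obtain ⟨γ, hγ, -⟩ := existsUnique_mult Nat.prime_two (isPGroup_four E.d.a) isFixedHom
    not_two_dvd_U hinv
  have hθγ : ∀ m : NV E, ¬ 2 ∣ mult (inclX E.d.a) (thI (T m)) (thX (T m) E.d.a) :=
    fun m => by rw [mult_thI]; norm_num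
  obtain ⟨m, hm⟩ := exists_conj_corr hM E.refl_a hinv (inv_thI hn E.d.a) hγ (hθγ n)
    (fun x hxV ⟨j, hj⟩ => absurd (mem_four_of_two' hk x.2 hj) hxV) hlike
  refine ⟨n * m, mult_injective Nat.prime_two (isPGroup_four E.d.a) isFixedHom not_two_dvd_U hinv
    (inv_thI (hT _) E.d.a) hγ ?_⟩
  suffices e : γ = thX (T (n * m)) E.d.a by rw [e]; exact hθγ _
  refine Subtype.ext (funext fun x => ?_)
  have h1 := congrFun (congrArg Subtype.val hm) (actX m x)
  rw [irrN, irrPerm_apply] at h1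
  have e2 : actX m⁻¹ (actX m x) = x := by
    rw [map_inv]
    exact (actX m).symm_apply_apply x
  rw [show conjHom (fun _ hn _ hx => conj_mem_CX E.refl_a hn hx) m⁻¹ (actX m x) = x from e2] at h1
  rw [h1]
  simp only [thX]
  rw [hres n, hres (n * m), map_mul, MulAut.mul_apply]

variable (g : NV E) (hinj : Function.Injective fun i : Fin 3 => T (![1, g, g⁻¹] i))
  (hcases : ∀ n, ∃ i : Fin 3, T n = T (![1, g, g⁻¹] i))

/-- The translates. -/
noncomputable abbrev tr (i : Fin 3) : E.U →* ℂˣ := T (![1, g, g⁻¹] i)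

/-- Their integral vectors. -/
noncomputable abbrev vv (i : Fin 3) (χ : IrrCharacter G) : ℤ :=
  mm E (hT (![1, g, g⁻¹] i)) χ

include hk hT hres hinj hcases in
theorem expand {χ : IrrCharacter G} {i : Fin 3} (h : vv T hT g i χ ≠ 0) (w : E.U) :
    (χ : G → ℂ) (E.t * w) =
      ∑ j, (vv T hT g j χ : ℂ) * ((tr T g j w : ℂˣ) : ℂ) := by
  obtain ⟨M, hM⟩ := CfsgLib.Blocks.exists_isPModular (p := 2)
  let ψ : E.U → ℂ := fun w => (χ : G → ℂ) (E.t * w)
  have hψ : IsClassFunction E.U ψ := fun a c => by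
    simp only [ψ, Subgroup.coe_mul, Subgroup.coe_inv]
    rw [show E.t * ((c : G) * a * (c : G)⁻¹) = (c : G) * (E.t * a) * (c : G)⁻¹ by
      rw [← mul_assoc, ← mul_assoc, ← (E.mem_U.1 c.2).1, mul_assoc (c : G)]]
    exact irr_isClassFunction χ _ _
  have hI : Function.Injective fun j : Fin 3 => thI (tr T g j) := fun a b e =>
    hinj (MonoidHom.ext fun v => Units.ext (congrFun (congrArg Subtype.val e) v))
  show ψ w = _
  conv_lhs => rw [classFunction_eq_sum hψ]
  rw [Finset.sum_apply, ← Finset.sum_subset (Finset.subset_univ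
    (Finset.univ.image fun j : Fin 3 => thI (tr T g j))) fun η _ hη => ?_,
    Finset.sum_image hI.injOn]
  · refine Finset.sum_congr rfl fun j _ => ?_
    simp only [Pi.smul_apply, smul_eq_mul, classInner, mm_eq]
    congr 2
    exact Finset.sum_congr rfl fun w _ => mul_comm _ _
  · have h0 : classInner ψ (η : E.U → ℂ) = 0 := by
      by_contra hne
      have hr : Root E χ η := fun hz => hne (by
        rw [classInner, ← mul_zero ((Nat.card E.U : ℂ)⁻¹), ← hz]
        congr 1
        exact Finset.sum_congr rfl fun w _ => mul_comm _ _)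
      obtain ⟨m, hm⟩ := eq_translate_of_like hk T hT hres hM _
        (like_of_root E hM hr ((root_iff (hT _) χ).2 h))
      obtain ⟨j, hj⟩ := hcases m
      exact hη (Finset.mem_image.2 ⟨j, Finset.mem_univ _, by rw [hm, hj]⟩)
    simp [h0]

include hk hT hres hinj hcases in
/-- The vectors have equal parities. -/
theorem parity {χ : IrrCharacter G} {i : Fin 3} (h : vv T hT g i χ ≠ 0) (j : Fin 3) :
    (2 : ℤ) ∣ vv T hT g j χ - vv T hT g i χ := by
  set jX : CX E E.d.a →* G := E.U.subtype.comp (inclX E.d.a) with hjX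
  have hc : ∀ n : NV E, classInner ((χ : G → ℂ) ∘ jX) (thX (T n) E.d.a : CX E E.d.a → ℂ) =
      classInner ((χ : G → ℂ) ∘ jX) (thX (T 1) E.d.a : CX E E.d.a → ℂ) := fun n => by
    rw [← classInner_comp_equiv (actX n) ((χ : G → ℂ) ∘ jX)
      (thX (T 1) E.d.a : CX E E.d.a → ℂ)]
    congr 1
    · funext x
      exact (irr_isClassFunction χ _ _).symm
    · funext x
      simp only [thX, Function.comp_apply]
      rw [hres n]
  have key : ∀ l : Fin 3, ∃ m : ℕ,
      classInner ((χ : G → ℂ) ∘ jX) (thX (T 1) E.d.a : CX E E.d.a → ℂ) +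
        (vv T hT g l χ : ℂ) = 2 * (m : ℂ) := by
    intro l
    have hχ : IsCharacter (CX E E.d.a × ℤˣ)
        ((χ : G → ℂ) ∘ (piU E).comp ((inclX E.d.a).prodMap (MonoidHom.id ℤˣ))) :=
      CfsgLib.CharCorr.isCharacter_comp (irr_isCharacter χ) _
    have hη : IsCharacter (CX E E.d.a × ℤˣ)
        ((thX (tr T g l) E.d.a : CX E E.d.a → ℂ) ∘ MonoidHom.fst (CX E E.d.a) ℤˣ) :=
      CfsgLib.CharCorr.isCharacter_comp (irr_isCharacter _) _
    obtain ⟨m, hm⟩ := classInner_char_nat hχ hη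
    refine ⟨m, ?_⟩
    have hd : classInner (fun x : CX E E.d.a => (χ : G → ℂ) ((x : G) * E.t))
        (thX (tr T g l) E.d.a : CX E E.d.a → ℂ) = (vv T hT g l χ : ℂ) := by
      have e : (fun x : CX E E.d.a => (χ : G → ℂ) ((x : G) * E.t)) = ∑ j : Fin 3,
          (vv T hT g j χ : ℂ) • (thX (tr T g j) E.d.a : CX E E.d.a → ℂ) := by
        funext x
        rw [Finset.sum_apply, (E.mem_U.1 x.2.1).1]
        exact expand hk T hT hres g hinj hcases h (inclX E.d.a x)
      rw [e, classInner_sum_left, Finset.sum_eq_single l]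
      · rw [classInner_smul_left, classInner_irr_self (thX (tr T g l) E.d.a).2, mul_one]
      · intro j _ hj
        rw [classInner_smul_left, classInner_irr,
          if_neg fun e => hj (hinj (eq_of_res (hT _) (hT _) fun c =>
            Units.ext (congrFun (congrArg Subtype.val e) c))), mul_zero]
      · exact fun h => absurd (Finset.mem_univ _) h
    rw [← hc (![1, g, g⁻¹] l), ← hd, ← hm]
    simp only [classInner, Fintype.sum_prod_type_right, Nat.card_prod, Nat.card_eq_fintype_card,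
      Fintype.card_prod, Fintype.card_units_int, univ_units_int, piU, tpow, MonoidHom.coe_mk,
      OneHom.coe_mk, Function.comp_apply, MonoidHom.coe_fst, MonoidHom.coe_comp,
      MonoidHom.coe_prodMap, Prod.map_apply, MonoidHom.id_apply]
    rw [Finset.sum_pair (by decide)]
    simp only [if_true, mul_one, show ((-1 : ℤˣ) = 1) = False by simp, if_false,
      Subgroup.coe_subtype, hjX]
    push_cast
    ring!
  obtain ⟨m, hm⟩ := key i
  obtain ⟨m', hm'⟩ := key j
  refine ⟨(m' : ℤ) - m, ?_⟩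
  have e : (vv T hT g j χ : ℂ) - (vv T hT g i χ : ℂ) = 2 * ((m' : ℂ) - m) := by
    linear_combination hm' - hm
  exact_mod_cast e

include hk hT hres hinj hcases in
/-- Three different translates of a non-principal character force `U` to be abelian. -/
theorem comm_of_moved : ∀ x ∈ E.U, ∀ y ∈ E.U, x * y = y * x := by
  set x : IrrCharacter G → ℕ := fun χ => charDegree (χ : G → ℂ)
  have hgram : ∀ i j, ∑ χ, vv T hT g i χ * vv T hT g j χ =
      if i = j then 4 else 0 := by
    intro i j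
    have e := sum_Phi_t hk (tr T g i) _ (hT (![1, g, g⁻¹] j))
    rw [Finset.sum_congr rfl fun χ (_ : χ ∈ Finset.univ) => show _ =
      ((vv T hT g i χ * vv T hT g j χ : ℤ) : ℂ) by
        rw [Phi_hz E (hT _) χ, Phi_hz E (hT _) χ, map_intCast, ← Int.cast_mul]
        rfl] at e
    by_cases hij : i = j
    · rw [if_pos hij]
      rw [if_pos (by rw [hij])] at e
      exact_mod_cast e
    · rw [if_neg hij]
      rw [if_neg fun h => hij (hinj h)] at e
      exact_mod_cast e
  have hdeg : ∀ i, ∑ χ, vv T hT g i χ * (x χ : ℤ) = 0 := by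
    intro i
    have e := sum_Phi_degree E (hT (![1, g, g⁻¹] i)) (hz E) (hz_ne_zero E)
    simp only [rz_hz, Phi_hz E (hT _), ← CfsgLib.Chars17.cast_irrDegree] at e
    exact_mod_cast e
  obtain ⟨A, σ, hA0, hσ, hAx, hsum⟩ :=
    shape (v := vv T hT g) (x := x) CfsgLib.Chars17.irrDegree_pos hgram hdeg
      fun χ i h j => parity hk T hT hres g hinj hcases h j
  set u : ℚ := (Nat.card E.U : ℚ)
  set C : ℚ := 2 ^ 3 * u ^ 3 * (2 / (Nat.card (E.X E.d.a) : ℚ)) ^ 2 with hC
  have hN : (0 : ℚ) < Nat.card G := by exact_mod_cast Nat.card_pos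
  have hC0 : 0 < C := by
    have h1 : (0 : ℚ) < Nat.card E.U := by exact_mod_cast Nat.card_pos
    have h2 : (0 : ℚ) < Nat.card (E.X E.d.a) := by exact_mod_cast Nat.card_pos
    positivity
  have hAC : (A : ℚ) * C = 8 * σ * Nat.card G := by
    have hR := sum_K_one E (hT (![1, g, g⁻¹] 0))
    have hX : E.X (E.d.r * E.d.a) = E.X E.d.a := by
      rw [show E.d.r = E.t by rw [Setup.t, CfsgLib.DihProduct.Dih.z, hk, pow_zero, pow_one],
        ← E.refl_a.comm, E.refl_a.X_mul_t]
    have hterm : ∀ χ, (K E (hT (![1, g, g⁻¹] 0)) χ 1 : ℂ) *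
        ((χ : G → ℂ) E.t) ^ 2 / (χ : G → ℂ) 1 =
        ((vv T hT g 0 χ * ((vv T hT g 0 χ + vv T hT g 1 χ +
          vv T hT g 2 χ) * (vv T hT g 0 χ + vv T hT g 1 χ +
          vv T hT g 2 χ)) : ℤ) : ℂ) / (A : ℂ) := by
      intro χ
      rw [show K E (hT (![1, g, g⁻¹] 0)) χ 1 = vv T hT g 0 χ from
        (mm_eq_K _ hk χ).symm]
      by_cases h : vv T hT g 0 χ = 0
      · rw [h]
        simp
      have e := expand hk T hT hres g hinj hcases h 1
      simp only [OneMemClass.coe_one, mul_one, map_one, Units.val_one, Fin.sum_univ_three] at e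
      rw [e, ← CfsgLib.Chars17.cast_irrDegree, show charDegree (χ : G → ℂ) = A from hAx χ h]
      push_cast
      ring
    rw [Finset.sum_congr rfl fun χ _ => hterm χ, ← Finset.sum_div, ← Int.cast_sum, hsum, hX] at hR
    have hq : q E = 2 := by show 2 ^ (E.d.k + 1) = 2; rw [hk]; rfl
    have hRq : (((8 * σ : ℤ) : ℚ) / A : ℚ) = C / Nat.card G := by
      have : ((((8 * σ : ℤ) : ℚ) / A : ℚ) : ℂ) = ((C / Nat.card G : ℚ) : ℂ) := by
        rw [hC]
        push_cast
        rw [show u = (Nat.card E.U : ℚ) from rfl]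
        push_cast at hR ⊢
        rw [hR, hk]
        push_cast
        ring
      exact_mod_cast this
    rw [div_eq_div_iff (by exact_mod_cast hA0.ne') hN.ne'] at hRq
    push_cast at hRq
    linarith
  have hσ1 : σ = 1 := by
    refine hσ.resolve_right fun e => ?_
    rw [e] at hAC
    push_cast at hAC
    have : (0 : ℚ) < A := by exact_mod_cast hA0
    nlinarith [mul_pos this hC0]
  rw [hσ1, Int.cast_one, mul_one] at hAC
  have hperf : commutator G = ⊤ :=
    (E.eq_bot_or_top (inferInstance : (commutator G).Normal)).resolve_left fun h => E.H_ne_top (by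
      rw [eq_top_iff]
      intro y _
      rw [E.mem_H, ← mul_inv_eq_iff_eq_mul, ← mul_inv_eq_one, E.t_inv]
      have := commutator_mem_commutator (mem_top y) (mem_top E.t)
        (H₁ := (⊤ : Subgroup G)) (H₂ := (⊤ : Subgroup G))
      rw [← _root_.commutator_def, h, Subgroup.mem_bot, commutatorElement_def, E.t_inv] at this
      exact this)
  obtain ⟨a, b, c, ha4, hc4, ha, hc, ⟨hb4, hb, hc', hG⟩ | ⟨hb4, hb, ha', hG, hthree⟩⟩ :=
    CfsgLib.GW.Formula.exists_alpha' E.S E.d hk (fun z hz => E.exists_conj hz) hperf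
  · exfalso
    have e : (Nat.card G : ℚ) * ((c : ℚ) + 1) ^ 2 = c * ((c : ℚ) - 1) * C := by
      refine hG.trans ?_
      rw [hC, hk]
      show _ * (Nat.card E.U : ℚ) ^ 3 * (2 / (Nat.card (E.X E.d.a) : ℚ)) ^ 2 = _
      ring
    refine no_pos (A := A) (c := c) (by omega) ?_
    have e2 : (A : ℚ) * (((c : ℚ) + 1) * ((c : ℚ) + 1)) = 8 * ((c : ℚ) * ((c : ℚ) - 1)) := by
      refine mul_right_cancel₀ hC0.ne' ?_
      linear_combination ((c : ℚ) + 1) ^ 2 * hAC + 8 * e
    have : (1 : ℕ) ≤ c := by omega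
    rw [← Nat.cast_inj (R := ℚ)]
    push_cast [Nat.cast_sub this]
    exact e2
  by_cases hsmall : b = 3 ∨ c = 3
  · obtain ⟨χ, h3, hval⟩ := hthree hsmall
    refine comm_of_small (E := E) (θ := 1) (χ := χ) ?_ (m := -1) (fun v => ?_) ?_
    · intro e
      have h1 := CfsgLib.Chars17.cast_irrDegree χ
      rw [h3, e] at h1
      norm_num at h1
    · show (χ : G → ℂ) (E.d.z * v) = _
      rw [hval v v.2]
      simp
    · rw [h3]; norm_num
  exfalso
  push Not at hsmall
  have e : (Nat.card G : ℚ) = (a : ℚ) * b * c / (((a : ℚ) + 1) * ((b : ℚ) - 1) * ((c : ℚ) - 1)) * C := by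
    refine hG.trans ?_
    rw [hC, hk]
    show _ * (Nat.card E.U : ℚ) ^ 3 * (2 / (Nat.card (E.X E.d.a) : ℚ)) ^ 2 = _
    ring
  refine no_neg (A := A) (a := a) (b := b) (c := c) (by omega) (by omega) hb4 hc4 ha' ?_
  have hden : (((a : ℚ) + 1) * ((b : ℚ) - 1) * ((c : ℚ) - 1)) ≠ 0 := by
    have h1 : (3 : ℚ) ≤ b := by exact_mod_cast hb
    have h2 : (3 : ℚ) ≤ c := by exact_mod_cast hc
    exact (mul_pos (mul_pos (by positivity) (by linarith)) (by linarith)).ne'
  have e2 : (A : ℚ) * (((a : ℚ) + 1) * (((b : ℚ) - 1) * ((c : ℚ) - 1))) =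
      8 * ((a : ℚ) * ((b : ℚ) * c)) := by
    refine mul_right_cancel₀ hC0.ne' ?_
    rw [div_mul_eq_mul_div, eq_div_iff hden] at e
    linear_combination (((a : ℚ) + 1) * (((b : ℚ) - 1) * ((c : ℚ) - 1))) * hAC + 8 * e
  rw [← Nat.cast_inj (R := ℚ)]
  push_cast [Nat.cast_sub (show 1 ≤ b by omega), Nat.cast_sub (show 1 ≤ c by omega)]
  exact e2

end Translates

/-- **Sylow four-groups.** If some linear character of `X = C_U(S)` is non-principal and each one
extends to an invariant linear character of `U`, then `U` is abelian. -/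
theorem comm_of_extend {G : Type u} [Group G] [Finite G] (E : Setup G) (hk : E.d.k = 0) {b : G}
    (hb : E.Refl b) (hne : ∃ ψ : E.X b →* ℂˣ, ψ ≠ 1)
    (hext : ∀ ψ : E.X b →* ℂˣ, ∃ θ : E.U →* ℂˣ,
      (∀ s (hs : s ∈ (E.S : Subgroup G)) (x : E.U),
        θ ⟨s * x * s⁻¹, E.conj_mem_U (E.S_le_H hs) x.2⟩ = θ x) ∧
      ∀ x : E.X b, θ ⟨x, x.2.1⟩ = ψ x) :
    ∀ x ∈ E.U, ∀ y ∈ E.U, x * y = y * x := by
  haveI := Fintype.ofFinite G
  have ha := E.refl_a
  have hXb : E.X b = CX E E.d.a := by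
    rcases refl_cases hk hb with rfl | rfl
    · exact (CX_eq_X ha).symm
    · rw [ha.X_mul_t, CX_eq_X ha]
  obtain ⟨ψ₀, hψ₀⟩ := hne
  set e : E.X b ≃* CX E E.d.a := MulEquiv.subgroupCongr hXb with he
  choose T hT hTψ using fun n : NV E =>
    hext (ψ₀.comp (e.symm.toMonoidHom.comp ((actX n).toMonoidHom.comp e.toMonoidHom)))
  have hval : ∀ n c, T n (inclX E.d.a c) = ψ₀ (e.symm (actX n c)) := fun n c => by
    have h := hTψ n (e.symm c)
    simp only [MonoidHom.comp_apply, MulEquiv.coe_toMonoidHom, MulEquiv.apply_symm_apply] at h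
    exact (congrArg (T n) (Subtype.ext rfl)).trans h
  have hres : ∀ n c, T n (inclX E.d.a c) = T 1 (inclX E.d.a (actX n c)) := fun n c => by
    rw [hval, hval, map_one, MulAut.one_apply]
  obtain ⟨g₀, hgt, hgb, hgbt⟩ := ha.exists_rot
  obtain ⟨hgN, -⟩ := exists_pow_conj ha hgt hgb
  set g : NV E := ⟨g₀, hgN⟩
  by_cases hfix : T g = T 1
  · have hone : T g⁻¹ = T 1 := eq_of_res (hT _) (hT _) fun c => by
      have h := DFunLike.congr_fun hfix (inclX E.d.a (actX g⁻¹ c))
      rw [hres g, map_inv, MulAut.apply_inv_self] at h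
      rw [hres g⁻¹, map_inv]
      exact h.symm
    have hθ : T 1 ≠ 1 := fun h => hψ₀ (MonoidHom.ext fun x => by
      have h1 := hTψ 1 x
      rw [h] at h1
      simpa using h1.symm)
    have hfix' : ∀ n : NV E, T n = T 1 → ∀ x y : E.U, (x : G) ∈ E.X E.d.a →
        (y : G) = (n : G) * x * (n : G)⁻¹ → T 1 y = T 1 x := by
      intro n hn x y hx hy
      have h := DFunLike.congr_fun hn (inclX E.d.a ⟨x, (CX_eq_X ha).symm ▸ hx⟩)
      rw [hres] at h
      exact (congrArg (T 1) (Subtype.ext hy)).trans h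
    refine isMulCommutative_U E (T 1) hθ (hT 1) fun b' hb' => ?_
    rcases refl_cases hk hb' with rfl | rfl
    · exact ⟨g₀, hgt, hgb, hfix' g hfix⟩
    · have e1 : g₀⁻¹ * E.t * g₀ = E.d.a * E.t := by
        calc g₀⁻¹ * E.t * g₀ = g₀⁻¹ * (g₀ * (E.d.a * E.t) * g₀⁻¹) * g₀ := by rw [hgbt]
          _ = E.d.a * E.t := by group
      have e2 : g₀⁻¹ * (E.d.a * E.t) * g₀ = E.d.a := by
        calc g₀⁻¹ * (E.d.a * E.t) * g₀ = g₀⁻¹ * (g₀ * E.d.a * g₀⁻¹) * g₀ := by rw [hgb]
          _ = E.d.a := by group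
      refine ⟨g₀⁻¹, by rw [inv_inv]; exact e1, ?_, fun x y hx hy => hfix' g⁻¹ hone x y
        (ha.X_mul_t ▸ hx) hy⟩
      rw [inv_inv, e2, mul_assoc, E.t_sq, mul_one]
  refine comm_of_moved hk T hT hres g (fun i j h => ?_) fun n => ?_
  · have k1 := translate_eq_one_of_eq T hT hres g hgt hgbt
    fin_cases i <;> fin_cases j <;> simp at h ⊢ <;> refine absurd (k1 ?_) hfix
    exacts [Or.inl h.symm, Or.inr (Or.inl h.symm), Or.inl h, Or.inr (Or.inr h),
      Or.inr (Or.inl h), Or.inr (Or.inr h.symm)]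
  · rcases translate_cases T hT hres g hgt hgbt n with h | h | h
    exacts [⟨0, h⟩, ⟨1, h⟩, ⟨2, h⟩]

/-- **The character hypothesis of Step 3.3 holds.** -/
theorem linearAbelian {G : Type u} [Group G] [Finite G] (E : Setup G) : Max33.LinearAbelian E := by
  haveI := Fintype.ofFinite G
  intro θ hθ hS0 hg0 hX
  have hS : ∀ s (hs : s ∈ (E.S : Subgroup G)) (x : E.U),
      θ ⟨s * x * s⁻¹, E.conj_mem_U (E.S_le_H hs) x.2⟩ = θ x := fun s hs x => hS0 s hs x _ rfl
  rcases Nat.eq_zero_or_pos E.d.k with hk | hk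
  swap
  · refine isMulCommutative_U E θ hθ hS fun b hb => ?_
    obtain ⟨g, h1, h2, h3⟩ := hg0 hk b hb
    exact ⟨g, h1, h2, fun x y hx hy => h3 x y hx hy.symm⟩
  have hA := allInverted_of hX
  set e : E.X E.d.a ≃* CX E E.d.a := MulEquiv.subgroupCongr (CX_eq_X E.refl_a).symm
  refine comm_of_extend E hk E.refl_a ⟨(θ.comp (inclX E.d.a)).comp e.toMonoidHom, fun h => ?_⟩
    fun ψ => ⟨(ψ.comp e.symm.toMonoidHom).comp (proj hA), fun s hs x => ?_, fun x => ?_⟩
  · refine hθ (MonoidHom.ext fun x => ?_)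
    have h1 := DFunLike.congr_fun h (e.symm (proj hA x))
    simp only [MonoidHom.comp_apply, MulEquiv.coe_toMonoidHom, MulEquiv.apply_symm_apply] at h1
    rwa [theta_proj hS hA] at h1
  · simp only [MonoidHom.comp_apply]
    rw [proj_conj hA hs]
  · simp only [MonoidHom.comp_apply, MulEquiv.coe_toMonoidHom]
    rw [show (⟨x, x.2.1⟩ : E.U) = inclX E.d.a (e x) from Subtype.ext rfl, proj_inclX,
      MulEquiv.symm_apply_apply]

end CfsgLib.GW.ThetaMoved
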