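import Cfsg.Agent.Lib.GW.TopModel
import Cfsg.Agent.Lib.GWCons.TwoOuter
import Cfsg.Agent.Lib.PSL2.Involution
import Cfsg.Agent.Lib.PSL2.PglClassify

/-!
`PGL₂(q)` inside the automorphisms of `PSL₂(q)`, `q` odd: centralisers of inner and outer
involutions, odd elements centralising two commuting involutions.
-/

set_option autoImplicit false
set_option linter.unusedSectionVars false

open Matrix

namespace CfsgLib.GW.TopModel

open CfsgLib.PSL2 CfsgLib.AutPSL CfsgLib.FieldGalois CfsgLib.GWCons.OuterTorus CfsgLib.GWCons.TwoOuter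

variable {F : Type*} [Field F] [Fintype F]

local notation "M2" => Matrix (Fin 2) (Fin 2) F
local notation "PGL" => ProjGenLinGroup (Fin 2) F
local notation "PSL" => ProjectiveSpecialLinearGroup (Fin 2) F
local notation "toP" => (ProjectiveSpecialLinearGroup.toPGL : PSL →* ProjGenLinGroup (Fin 2) F)

variable (F) in
/-- The automorphism of `PSL₂` given by an element of `PGL₂`. -/
noncomputable def aut : ProjGenLinGroup (Fin 2) F →* MulAut PSL :=
  (MulAut.congr pslEquiv.symm).toMonoidHom.comp MulAut.conjNormal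

theorem toP_pslEquiv (x : PSL) : ((pslEquiv x : pslImage F) : PGL) = toP x := rfl

theorem toP_mem (x : PSL) : toP x ∈ pslImage F := toP_pslEquiv x ▸ (pslEquiv x).2

theorem exists_toP {g : PGL} (hg : g ∈ pslImage F) : ∃ x : PSL, toP x = g := by
  rw [← range_toPGL] at hg; exact hg

theorem toP_aut (g : PGL) (x : PSL) : toP (aut F g x) = g * toP x * g⁻¹ := by
  have h : pslEquiv (aut F g x) = MulAut.conjNormal g (pslEquiv x) := by
    show pslEquiv (pslEquiv.symm (MulAut.conjNormal g (pslEquiv.symm.symm x))) = _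
    rw [MulEquiv.apply_symm_apply, MulEquiv.symm_symm]
  rw [← toP_pslEquiv, h, MulAut.conjNormal_apply, toP_pslEquiv]

theorem aut_mk (g : GL (Fin 2) F) : aut F (ProjGenLinGroup.mk g) = conjAut g := by
  apply MulEquiv.ext
  intro x
  apply ProjectiveSpecialLinearGroup.toPGL_injective
  rw [toP_aut, toPGL_conjAut]

theorem aut_toP (x : PSL) : aut F (toP x) = MulAut.conj x := by
  apply MulEquiv.ext
  intro y
  apply ProjectiveSpecialLinearGroup.toPGL_injective
  rw [toP_aut, MulAut.conj_apply, map_mul, map_mul, map_inv]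

theorem aut_injective : Function.Injective (aut F) := by
  rw [injective_iff_map_eq_one]
  intro g hg
  induction g using ProjGenLinGroup.induction_on with | mk A =>
  rw [aut_mk, conjAut_eq_one_iff (le_refl 2)] at hg
  obtain ⟨u, rfl⟩ := hg
  exact ProjGenLinGroup.mk_scalar u

theorem aut_fix_iff (g : PGL) (x : PSL) : aut F g x = x ↔ Commute g (toP x) := by
  rw [← ProjectiveSpecialLinearGroup.toPGL_injective.eq_iff, toP_aut, mul_inv_eq_iff_eq_mul]
  rfl

theorem commute_aut_iff (g : PGL) (x : PSL) :
    Commute (aut F g) (MulAut.conj x) ↔ aut F g x = x := by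
  rw [aut_fix_iff, ← aut_toP]
  exact ⟨fun h => aut_injective (by rw [map_mul, map_mul]; exact h.eq), fun h => h.map (aut F)⟩

/-- An involution of `PSL₂` as a traceless matrix with square determinant. -/
theorem exists_matrix {x : PSL} (hx : orderOf x = 2) :
    ∃ (M : M2) (hd : M.det ≠ 0), M.trace = 0 ∧ IsSquare M.det ∧ toP x = pmk M hd := by
  obtain ⟨A, hA, hAx⟩ := pmk_surjective (toP x)
  have hsq : toP x * toP x = 1 := by
    have h := pow_orderOf_eq_one x
    rw [hx, pow_two] at h
    rw [← map_mul, h, map_one]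
  have hne : toP x ≠ 1 := fun e => by
    rw [← map_one toP] at e
    rw [ProjectiveSpecialLinearGroup.toPGL_injective e, orderOf_one] at hx
    omega
  rw [← hAx] at hsq hne
  exact ⟨A, hA, trace_eq_zero_of_involution hsq hne, pmk_mem_pslImage.1 (hAx ▸ toP_mem x), hAx.symm⟩

/-! ### The centraliser of an outer involution -/

/-- The torus as a subgroup. -/
def torus (M : M2) (hM : M.trace = 0) : Subgroup PGL where
  carrier := {g | InTorus M g}
  one_mem' := InTorus.one M
  mul_mem' := InTorus.mul hM
  inv_mem' := InTorus.inv hM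

theorem mem_torus {M : M2} {hM : M.trace = 0} {g : PGL} : g ∈ torus M hM ↔ InTorus M g := Iff.rfl

open Classical in
theorem card_torus (h2 : (2 : F) ≠ 0) {M : M2} (hM : M.trace = 0) (hd : M.det ≠ 0) :
    Nat.card (torus M hM) =
      if IsSquare (-M.det) then Fintype.card F - 1 else Fintype.card F + 1 := by
  classical
  let X := {x : F // x ^ 2 + M.det ≠ 0}
  have hdet : ∀ x : F, (x • 1 + (1 : F) • M).det = x ^ 2 + M.det := fun x => by
    rw [det_lin M hM]; ring
  let f : Option X → torus M hM := fun o => o.elim 1 fun x =>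
    ⟨pmk ((x : F) • 1 + (1 : F) • M) (by rw [hdet]; exact x.2), _, _, _, rfl⟩
  have hne : ∀ (x : F) h, pmk (x • 1 + (1 : F) • M) h ≠ 1 := fun x h e => by
    obtain ⟨c, hc⟩ := pmk_eq_one_iff.1 e
    exact one_ne_zero (eq_zero_of_lin_eq_scalar (ne_scalar_of_trace h2 hM hd) hc)
  have hf : Function.Bijective f := by
    constructor
    · rintro (_ | ⟨x, hx⟩) (_ | ⟨y, hy⟩) e
      · rfl
      · exact absurd (congrArg Subtype.val e).symm (hne y _)
      · exact absurd (congrArg Subtype.val e) (hne x _)
      · obtain ⟨c, hc⟩ := pmk_eq_iff.1 (congrArg Subtype.val e)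
        have h1 : (c * x - y) • 1 + (c - 1) • M = (0 : F) • 1 := by
          rw [zero_smul]
          rw [← sub_eq_zero] at hc
          refine Eq.trans ?_ hc
          simp only [smul_add, smul_smul, sub_smul, one_smul]
          abel
        have h3 := eq_zero_of_lin_eq_scalar (ne_scalar_of_trace h2 hM hd) h1
        have hc1 : c = 1 := sub_eq_zero.1 h3
        subst hc1
        rw [h3, zero_smul, add_zero, one_mul] at h1
        have : x = y := sub_eq_zero.1 (smul_one_ext h1)
        subst this
        rfl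
    · rintro ⟨g, x, y, h, rfl⟩
      by_cases hy : y = 0
      · refine ⟨none, Subtype.ext ?_⟩
        show (1 : PGL) = _
        symm
        rw [pmk_eq_one_iff]
        exact ⟨x, by rw [hy, zero_smul, add_zero]⟩
      · refine ⟨some ⟨x / y, ?_⟩, Subtype.ext ?_⟩
        · rw [det_lin M hM] at h
          intro e
          refine h ?_
          have : (x / y) ^ 2 * y ^ 2 = x ^ 2 := by field_simp
          linear_combination y ^ 2 * e - this
        · show pmk _ _ = pmk _ _
          rw [pmk_eq_iff]
          refine ⟨y, ?_⟩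
          rw [smul_add, smul_smul, smul_smul, mul_one, mul_div_cancel₀ _ hy]
  rw [← Nat.card_eq_of_bijective f hf, Finite.card_option]
  have hX : Nat.card X + Nat.card {x : F // x ^ 2 + M.det = 0} = Fintype.card F := by
    rw [Nat.card_eq_fintype_card, Nat.card_eq_fintype_card, Fintype.card_subtype_compl,
      Nat.sub_add_cancel (Fintype.card_subtype_le _)]
  have hroots : Nat.card {x : F // x ^ 2 + M.det = 0} = if IsSquare (-M.det) then 2 else 0 := by
    split_ifs with hs
    · obtain ⟨r, hr⟩ := hs
      have hr0 : r ≠ 0 := fun e => hd (by rw [e, mul_zero, neg_eq_zero] at hr; exact hr)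
      rw [Nat.card_eq_two_iff]
      refine ⟨⟨r, by linear_combination -hr⟩, ⟨-r, by linear_combination -hr⟩, fun e => ?_, ?_⟩
      · have e' : r = -r := congrArg Subtype.val e
        exact mul_ne_zero h2 hr0 (by linear_combination e')
      · refine Set.eq_univ_of_forall fun z => ?_
        have : (z : F) * z = r * r := by linear_combination z.2 + hr
        rcases mul_self_eq_mul_self_iff.1 this with e | e
        · exact Or.inl (Subtype.ext e)
        · exact Or.inr (Subtype.ext e)
    · rw [Nat.card_eq_zero]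
      left
      exact ⟨fun z => hs ⟨z, by linear_combination -z.2⟩⟩
  rw [hroots] at hX
  have := Fintype.one_lt_card (α := F)
  split_ifs at hX ⊢ <;> omega

theorem mem_centralizer_pmk {M : M2} {hd : M.det ≠ 0} {g : PGL} :
    g ∈ Subgroup.centralizer ({pmk M hd} : Set PGL) ↔ Commute g (pmk M hd) := by
  rw [Subgroup.mem_centralizer_singleton_iff]; rfl

/-- The centraliser in `PGL₂` of an involution is twice the torus. -/
theorem card_centralizer (h2 : (2 : F) ≠ 0) {M : M2} (hM : M.trace = 0) (hd : M.det ≠ 0) :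
    Nat.card (Subgroup.centralizer ({pmk M hd} : Set PGL)) = 2 * Nat.card (torus M hM) := by
  set C := Subgroup.centralizer ({pmk M hd} : Set PGL)
  have hle : torus M hM ≤ C := fun g hg => mem_centralizer_pmk.2 (hg.commute (InTorus.self M hd))
  obtain ⟨N, hN, hNt, hNM⟩ := exists_anti h2 hM hd
  obtain ⟨hc, hnT, -⟩ := anti_facts h2 hM hd hNt hN hNM
  have hidx : ((torus M hM).subgroupOf C).index = 2 := by
    refine Subgroup.index_eq_two_iff.2 ⟨⟨pmk N hN, mem_centralizer_pmk.2 hc⟩, fun b => ?_⟩
    have key : ¬ InTorus M (b : PGL) → InTorus M ((b : PGL) * pmk N hN) := by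
      intro hb
      rcases cent_cases h2 hM hd (mem_centralizer_pmk.1 b.2) with h | ⟨B, hB, hbB, hBt, hBM⟩
      · exact absurd h hb
      · rcases cent_cases h2 hM hd ((mem_centralizer_pmk.1 b.2).mul_left hc) with
          h | ⟨D, hD, hbD, hDt, hDM⟩
        · exact h
        · exfalso
          have e : pmk (B * N) (by rw [det_mul]; exact mul_ne_zero hB hN) = pmk D hD := by
            rw [← pmk_mul B N hB hN, ← hbB, hbD]
          obtain ⟨c, hc'⟩ := pmk_eq_iff.1 e
          have h1 : B * N * M = M * (B * N) := by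
            rw [mul_assoc, hNM, mul_neg, ← mul_assoc, hBM, neg_mul, neg_neg, mul_assoc]
          rw [← hc', Matrix.smul_mul, Matrix.mul_smul, h1] at hDM
          have h3 : (2 * c) • (M * (B * N)) = 0 := by
            rw [← sub_eq_zero.2 hDM]; module
          have hc0 : c ≠ 0 := fun e' => hD (by rw [← hc', e', zero_smul]; simp)
          have := congrArg Matrix.det ((smul_eq_zero.1 h3).resolve_left (mul_ne_zero h2 hc0))
          rw [det_mul, det_mul, Matrix.det_zero] at this
          exact mul_ne_zero hd (mul_ne_zero hB hN) this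
    by_cases hb : InTorus M (b : PGL)
    · refine Or.inr ⟨hb, fun hbn => hnT ?_⟩
      exact ((torus M hM).mul_mem_cancel_left (x := (b : PGL)) hb).1 hbn
    · exact Or.inl ⟨key hb, hb⟩
  have h := ((torus M hM).subgroupOf C).card_mul_index
  rw [hidx, Nat.card_congr (Subgroup.subgroupOfEquivOfLe hle).toEquiv] at h
  omega

/-- The fixed points of an outer involution. -/
theorem card_fixed_outer (h2 : (2 : F) ≠ 0) {M : M2} (hM : M.trace = 0) (hd : M.det ≠ 0)
    (hns : ¬ IsSquare M.det) :
    Nat.card {x : PSL // aut F (pmk M hd) x = x} =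
      if Fintype.card F % 4 = 1 then Fintype.card F + 1 else Fintype.card F - 1 := by
  set m := pmk M hd
  set C := Subgroup.centralizer ({m} : Set PGL)
  have hm : m ∉ pslImage F := fun h => hns (pmk_mem_pslImage.1 h)
  have hmC : m ∈ C := mem_centralizer_pmk.2 (Commute.refl _)
  have hidx : ((pslImage F).subgroupOf C).index = 2 := by
    refine Subgroup.index_eq_two_iff.2 ⟨⟨m, hmC⟩, fun b => ?_⟩
    by_cases hb : (b : PGL) ∈ pslImage F
    · exact Or.inr ⟨hb, fun h => hm (((pslImage F).mul_mem_cancel_left hb).1 h)⟩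
    · exact Or.inl ⟨mul_mem_pslImage_of_not_mem hb hm, hb⟩
  let e : {x : PSL // aut F m x = x} ≃ (pslImage F).subgroupOf C :=
    Equiv.ofBijective (fun x => ⟨⟨toP x.1, mem_centralizer_pmk.2 ((aut_fix_iff m x.1).1 x.2).symm⟩,
      toP_mem x.1⟩) ⟨fun x y h => Subtype.ext (ProjectiveSpecialLinearGroup.toPGL_injective
        (congrArg (fun z : (pslImage F).subgroupOf C => ((z : C) : PGL)) h)), fun z => by
        obtain ⟨x, hx⟩ := exists_toP z.2
        exact ⟨⟨x, (aut_fix_iff m x).2 (hx ▸ (mem_centralizer_pmk.1 z.1.2).symm)⟩,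
          Subtype.ext (Subtype.ext hx)⟩⟩
  have h := ((pslImage F).subgroupOf C).card_mul_index
  rw [hidx, ← Nat.card_congr e, card_centralizer h2 hM hd, card_torus h2 hM hd] at h
  have h4 : IsSquare (-M.det) ↔ ¬ Fintype.card F % 4 = 1 := by
    have hq := Nat.odd_iff.1 (odd_card (F := F) h2)
    have h1 := neg_one_square_iff h2 hns
    rw [FiniteField.isSquare_neg_one_iff] at h1
    constructor
    · intro hs h'
      exact (h1.1 (by omega)) hs
    · intro h'
      by_contra hs
      exact h' (by have := h1.2 hs; omega)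
  split_ifs at h ⊢ <;> simp_all <;> omega

/-- Outer involutions are conjugate under `PSL₂`. -/
theorem exists_conj_outer (h2 : (2 : F) ≠ 0) {M M' : M2} (hM : M.trace = 0) (hd : M.det ≠ 0)
    (hM' : M'.trace = 0) (hd' : M'.det ≠ 0) (hns : ¬ IsSquare M.det) (hns' : ¬ IsSquare M'.det) :
    ∃ x : PSL, toP x * pmk M hd * (toP x)⁻¹ = pmk M' hd' := by
  have hsq : IsSquare (M'.det / M.det) := by
    have h := (isSquare_mul_of_not hns' hns).div (IsSquare.mul_self M.det)
    rwa [mul_div_mul_right _ _ hd] at h
  obtain ⟨g, hg⟩ := exists_conj h2 hM hd hM' hd' hsq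
  by_cases hgI : g ∈ pslImage F
  · obtain ⟨x, rfl⟩ := exists_toP hgI
    exact ⟨x, hg⟩
  · obtain ⟨x, hx⟩ := exists_toP (mul_mem_pslImage_of_not_mem hgI
      (fun h => hns (pmk_mem_pslImage.1 h) : pmk M hd ∉ pslImage F))
    refine ⟨x, ?_⟩
    rw [hx, show g * pmk M hd * pmk M hd * (g * pmk M hd)⁻¹ = g * pmk M hd * g⁻¹ by group]
    exact hg

/-- An odd element centralising two commuting involutions is a field automorphism up to
conjugation. -/
theorem exists_field_form (h2 : (2 : F) ≠ 0) {τ : MulAut PSL} (hodd : Odd (orderOf τ)) {a b : PGL}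
    (ha : a * a = 1) (ha1 : a ≠ 1) (hb : b * b = 1) (hb1 : b ≠ 1) (hab : Commute a b) (hne : a ≠ b)
    (hτa : Commute τ (aut F a)) (hτb : Commute τ (aut F b)) :
    ∃ (k : GL (Fin 2) F) (σ : F ≃+* F), Odd (orderOf σ) ∧
      τ = conjAut k * fieldAut σ * (conjAut k)⁻¹ := by
  obtain ⟨g, σ, rfl⟩ := exists_conj_field τ
  have hoddσ : Odd (orderOf σ) := by
    refine hodd.of_dvd_nat ?_
    have h1 := pow_orderOf_eq_one (conjAut g * fieldAut σ : MulAut PSL)
    rw [conj_field_pow] at h1
    exact orderOf_dvd_of_pow_eq_one (eq_of_conj_field_eq_one (le_refl 2) h1).1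
  have hp : (conjAut g * fieldAut σ : MulAut PSL) ^ orderOf σ =
      aut F (ProjGenLinGroup.mk (cocy σ g (orderOf σ))) := by
    rw [conj_field_pow, pow_orderOf_eq_one, map_one, mul_one, aut_mk]
  set u : PGL := ProjGenLinGroup.mk (cocy σ g (orderOf σ))
  have hcm : ∀ c : PGL, Commute (conjAut g * fieldAut σ) (aut F c) → Commute u c := fun c hc =>
    aut_injective (by rw [map_mul, map_mul, ← hp]; exact (hc.pow_left _).eq)
  have hsq := sq_eq_one_of_two h2 ha ha1 hb hb1 hab hne (hcm a hτa) (hcm b hτb)
  have hu : (conjAut g * fieldAut σ : MulAut PSL) ^ orderOf σ = 1 := by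
    rw [← orderOf_eq_one_iff]
    refine Nat.eq_one_of_dvd_coprimes (Nat.coprime_two_left.2 hodd) ?_ (orderOf_pow_dvd _)
    rw [hp, orderOf_injective _ aut_injective]
    exact orderOf_dvd_of_pow_eq_one (by rw [pow_two]; exact hsq)
  obtain ⟨k, hk⟩ := conj_of_pow_eq_one (le_refl 2) σ g hu
  exact ⟨k, σ, hoddσ, hk⟩

/-- Over any subfield a quaternion pair extends a traceless unimodular matrix. -/
theorem exists_qpair {K : Type*} [Field K] [Fintype K] (h2 : (2 : K) ≠ 0)
    {A : Matrix (Fin 2) (Fin 2) K} (hA : A.trace = 0) (hA1 : A.det = 1) :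
    ∃ B : Matrix (Fin 2) (Fin 2) K, QPair A B := by
  obtain ⟨a, b, c, rfl⟩ : ∃ a b c : K, A = !![a, b; c, -a] := by
    refine ⟨A 0 0, A 0 1, A 1 0, ?_⟩
    rw [Matrix.trace_fin_two] at hA
    conv_lhs => rw [Matrix.eta_fin_two A, show A 1 1 = -A 0 0 by linear_combination hA]
  have hd : -(a * a) - b * c = 1 := by
    rw [Matrix.det_fin_two_of] at hA1; linear_combination hA1
  suffices ∃ α β γ : K, 2 * a * α + b * γ + c * β = 0 ∧ -(α * α) - β * γ = 1 by
    obtain ⟨α, β, γ, h1, h3⟩ := this
    refine ⟨!![α, β; γ, -α], ?_, ?_, ?_⟩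
    · rw [Matrix.mul_fin_two]
      ext i j
      fin_cases i <;> fin_cases j <;> simp <;>
        first
        | ring1
        | linear_combination -hd
    · rw [Matrix.mul_fin_two]
      ext i j
      fin_cases i <;> fin_cases j <;> simp <;>
        first
        | ring1
        | linear_combination -h3
    · rw [Matrix.mul_fin_two, Matrix.mul_fin_two]
      ext i j
      fin_cases i <;> fin_cases j <;> simp <;>
        first
        | linear_combination h1
        | ring1
  by_cases hb : b = 0
  · have ha : a ≠ 0 := fun e => one_ne_zero (α := K) (by rw [← hd, e, hb]; ring)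
    refine ⟨-c / (2 * a), 1, -(1 + (-c / (2 * a)) * (-c / (2 * a))), ?_, by ring⟩
    rw [hb]; field_simp; ring
  · open Polynomial in
    obtain ⟨u, β, huβ⟩ := FiniteField.exists_root_sum_quadratic (R := K)
      (f := C (-1 : K) * X ^ 2) (g := C (-1 / (b * b)) * X ^ 2 + C (-1))
      (by rw [Polynomial.degree_C_mul_X_pow 2 (by simp)]; rfl)
      (by
        rw [Polynomial.degree_add_C (by
          rw [Polynomial.degree_C_mul_X_pow 2 (div_ne_zero (by simp) (mul_ne_zero hb hb))]
          decide), Polynomial.degree_C_mul_X_pow 2 (div_ne_zero (by simp) (mul_ne_zero hb hb))]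
        rfl)
      (Nat.odd_iff.1 (odd_card h2))
    simp only [Polynomial.eval_mul, Polynomial.eval_C, Polynomial.eval_pow, Polynomial.eval_X,
      Polynomial.eval_add] at huβ
    refine ⟨u + a * β / b, β, -(2 * a * (u + a * β / b) + c * β) / b, ?_, ?_⟩
    · field_simp; ring
    · field_simp at huβ ⊢
      linear_combination huβ - β ^ 2 * hd

/-- A fixed involution of an odd field automorphism lies in a fixed four-group with a fixed
three-cycle. -/
theorem field_fixed_four (h2 : (2 : F) ≠ 0) {σ : F ≃+* F} (hodd : Odd (orderOf σ)) {s : PSL}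
    (hs : orderOf s = 2) (hfix : fieldAut σ s = s) :
    ∃ w g : PSL, orderOf w = 2 ∧ Commute s w ∧ w ≠ s ∧ fieldAut σ w = w ∧ fieldAut σ g = g ∧
      g * s * g⁻¹ = w ∧ g * w * g⁻¹ = s * w := by
  obtain ⟨S, rfl⟩ := QuotientGroup.mk_surjective s
  obtain ⟨-, hS, hSns⟩ := lift_orderOf_two h2 hs
  have hS1 : (S : M2).det = 1 := S.2
  have hmap : (S : M2).map σ = (S : M2) := by
    have e := congrArg toP hfix
    rw [fieldAut_mk, toPGL_mk', toPGL_mk', mk_eq_pmk, mk_eq_pmk, pmk_eq_iff] at e
    obtain ⟨c, hc⟩ := e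
    have hc' : c • (S : M2).map σ = (S : M2) := hc
    have hd1 : ((S : M2).map σ).det = 1 := by
      rw [show (S : M2).map σ = σ.toRingHom.mapMatrix (S : M2) from rfl, ← RingHom.map_det, hS1,
        map_one]
    have hc2 : c * c = 1 := by
      have := congrArg Matrix.det hc'
      rw [Matrix.det_smul, hd1, hS1, Fintype.card_fin, mul_one] at this
      rw [← pow_two]; exact this
    rcases mul_self_eq_mul_self_iff.1 (hc2.trans (one_mul 1).symm) with rfl | rfl
    · rwa [one_smul] at hc'
    · exfalso
      have hit : ∀ k : ℕ, (S : M2).map ⇑(σ ^ k) = ((-1 : F) ^ k) • (S : M2) := by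
        intro k
        induction k with
        | zero => ext i j; simp
        | succ k ih =>
          have hneg : ∀ i j, σ ((S : M2) i j) = -((S : M2) i j) := fun i j => by
            have := congrFun (congrFun hc' i) j
            simp only [Matrix.smul_apply, Matrix.map_apply, smul_eq_mul, neg_one_mul] at this
            linear_combination -this
          ext i j
          have := congrFun (congrFun ih i) j
          simp only [Matrix.smul_apply, Matrix.map_apply, smul_eq_mul] at this ⊢
          rw [pow_succ' σ, RingAut.mul_apply, this, map_mul, map_pow, map_neg, map_one, hneg,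
            pow_succ]
          ring
      have e1 := hit (orderOf σ)
      rw [pow_orderOf_eq_one, hodd.neg_one_pow] at e1
      refine ne_scalar_of_trace h2 hS (by rw [hS1]; exact one_ne_zero) 0 ?_
      rw [zero_smul]
      ext i j
      have := congrFun (congrFun e1 i) j
      simp only [Matrix.smul_apply, Matrix.map_apply, smul_eq_mul, RingAut.one_apply] at this
      have h3 : (2 : F) * (S : M2) i j = 0 := by linear_combination this
      simpa [h2] using h3
  let K := fixedSub σ
  haveI : Fintype K := Fintype.ofFinite _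
  let A : Matrix (Fin 2) (Fin 2) K := fun i j =>
    ⟨(S : M2) i j, congrFun (congrFun hmap i) j⟩
  let ι : K →+* F := (fixedSub σ).subtype
  have hιA : ι.mapMatrix A = (S : M2) := rfl
  have hA : A.trace = 0 := ι.injective (by
    rw [map_zero, ← hS, Matrix.trace_fin_two, Matrix.trace_fin_two, map_add]; rfl)
  have hA1 : A.det = 1 := ι.injective (by rw [RingHom.map_det, hιA, hS1, map_one])
  have h2K : (2 : K) ≠ 0 := fun e => h2 (by simpa [ι, map_ofNat] using congrArg ι e)
  obtain ⟨B, hq⟩ := exists_qpair h2K hA hA1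
  let up : Matrix.SpecialLinearGroup (Fin 2) K → PSL := fun X =>
    QuotientGroup.mk (Matrix.SpecialLinearGroup.map ι X)
  have hup : ∀ X, fieldAut σ (up X) = up X := fun X => by
    show fieldAut σ (QuotientGroup.mk _) = _
    rw [fieldAut_mk]
    refine congrArg _ (Subtype.ext ?_)
    ext i j
    exact (X.1 i j).2
  have hB1 : B.det = 1 := hq.symm.det_eq_one h2K
  have hR := hq.det_rElt h2K
  set R : Matrix (Fin 2) (Fin 2) K := (2⁻¹ : K) • (1 + (A + B + A * B))
  have hR1 : R.det = 1 := by
    rw [Matrix.det_smul, hR, Fintype.card_fin]; field_simp; norm_num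
  let a : Matrix.SpecialLinearGroup (Fin 2) K := ⟨A, hA1⟩
  let b : Matrix.SpecialLinearGroup (Fin 2) K := ⟨B, hB1⟩
  let r : Matrix.SpecialLinearGroup (Fin 2) K := ⟨R, hR1⟩
  have ha : up a = QuotientGroup.mk S := congrArg _ (Subtype.ext rfl)
  have hq' : QPair (ι.mapMatrix A) (ι.mapMatrix B) :=
    ⟨by rw [← map_mul, hq.hI, map_neg, map_one], by rw [← map_mul, hq.hJ, map_neg, map_one],
      by rw [← map_mul, ← map_mul, ← map_neg, ← hq.hIJ]⟩
  have e1 := hq'.rElt_lab h2 0
  have e2 := hq'.rElt_lab h2 1
  have tr : toP (up r) = hq'.rElt h2 := by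
    show toP (QuotientGroup.mk _) = _
    rw [toPGL_mk', mk_eq_pmk, QPair.rElt, pmk_eq_iff]
    refine ⟨2, ?_⟩
    show (2 : F) • ι.mapMatrix R = _
    rw [show R = (2⁻¹ : K) • (1 + (A + B + A * B)) from rfl]
    ext i j
    simp only [Matrix.smul_apply, RingHom.mapMatrix_apply, Matrix.map_apply, smul_eq_mul, map_mul,
      map_inv₀, map_ofNat, Matrix.add_apply, map_add]
    rw [← mul_assoc, mul_inv_cancel₀ h2, one_mul]
    simp [Matrix.mul_apply, Matrix.one_apply, apply_ite ι]
  have tA : toP (up a) = hq'.lab h2 0 := by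
    show toP (QuotientGroup.mk _) = _
    rw [toPGL_mk', mk_eq_pmk]; rfl
  have tB : toP (up b) = hq'.lab h2 1 := by
    show toP (QuotientGroup.mk _) = _
    rw [toPGL_mk', mk_eq_pmk]; rfl
  have tAB : toP (up a * up b) = hq'.lab h2 2 := by
    rw [map_mul, tA, tB]; exact hq'.ei_mul_ej h2
  refine ⟨up b, up r, ?_, ?_, ?_, hup b, hup r, ?_, ?_⟩
  · rw [← orderOf_injective _ ProjectiveSpecialLinearGroup.toPGL_injective, tB]
    exact orderOf_eq_prime (by rw [pow_two]; exact hq'.ej_mul_self h2) (hq'.ej_ne_one h2)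
  · rw [← ha]
    show _ * _ = _ * _
    apply ProjectiveSpecialLinearGroup.toPGL_injective
    rw [map_mul, map_mul, tA, tB]
    exact (hq'.ei_mul_ej h2).trans (hq'.ej_mul_ei h2).symm
  · rw [← ha]
    intro e
    exact hq'.ei_ne_ej h2 ((tA.symm.trans (congrArg toP e.symm)).trans tB)
  · rw [← ha]
    apply ProjectiveSpecialLinearGroup.toPGL_injective
    rw [map_mul, map_mul, map_inv, tr, tA, tB, mul_inv_eq_iff_eq_mul]
    exact e1
  · rw [← ha]
    apply ProjectiveSpecialLinearGroup.toPGL_injective
    rw [tAB, map_mul, map_mul, map_inv, tr, tB, mul_inv_eq_iff_eq_mul]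
    exact e2

end CfsgLib.GW.TopModel
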