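import Cfsg.Agent.Lib.GW.Basic
import Cfsg.Agent.Lib.GW.TopModelAut
import Cfsg.Agent.Lib.GWCons.DihedralGenerated
import Cfsg.Agent.Lib.Mitchell.RecogA7
import Cfsg.Agent.Lib.PF.OddOrder
import Cfsg.Agent.Lib.RankOneInvol.OddGroup

/-!
Gorenstein–Walter: facts about the core-free groups with dihedral Sylow 2-subgroups of known shape.
-/

set_option autoImplicit false
set_option linter.unusedSectionVars false
set_option linter.style.haveILetI false

namespace CfsgLib.GW.TopFacts

open Subgroup CfsgLib.PSL2 CfsgLib.GWCons CfsgLib.GWCons.TwoOuter CfsgLib.GW.TopModel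

universe u

/-- No elementary abelian subgroup of order eight. -/
def NoEight (Y : Type u) [Group Y] : Prop :=
  ∀ A : Subgroup Y, (∀ x ∈ A, ∀ y ∈ A, x * y = y * x) → (∀ x ∈ A, x ^ 2 = 1) → Nat.card A ≤ 4

theorem noEight_of_dihedral {Y : Type u} [Group Y] [Finite Y] (P : Sylow 2 Y) {n : ℕ}
    (e : Nonempty ((P : Subgroup Y) ≃* DihedralGroup n)) : NoEight Y := by
  obtain ⟨e⟩ := e
  haveI : NeZero n := ⟨fun h => by
    subst h
    haveI : Finite (DihedralGroup 0) := Finite.of_equiv _ e.toEquiv
    haveI : Finite ℤ :=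
      (Finite.of_injective DihedralGroup.r fun a b h => by injection h : Finite (ZMod 0))
    exact not_finite ℤ⟩
  exact fun A hc hs => DihedralGenerated.card_le_four P e A hc hs

/-- An embedding of `Y` in `Aut PSL₂(q)` over a normal self-centralising copy of `PSL₂(q)`. -/
structure Emb (Y : Type u) [Group Y] (F : Type) [Field F] [Fintype F] where
  L : Subgroup Y
  norm : L.Normal
  φ : Y →* MulAut (Matrix.ProjectiveSpecialLinearGroup (Fin 2) F)
  inj : Function.Injective φ
  e : L ≃* Matrix.ProjectiveSpecialLinearGroup (Fin 2) F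
  map_L : ∀ l : L, φ l = MulAut.conj (e l)
  odd : Odd (Fintype.card F)
  gt : 3 < Fintype.card F

variable {Y : Type u} [Group Y] [Finite Y] {F : Type} [Field F] [Fintype F]

local notation "PGL" => Matrix.ProjGenLinGroup (Fin 2) F
local notation "PSL" => Matrix.ProjectiveSpecialLinearGroup (Fin 2) F
local notation "toP" => (Matrix.ProjectiveSpecialLinearGroup.toPGL : PSL →* Matrix.ProjGenLinGroup (Fin 2) F)

theorem exists_emb (L : Subgroup Y) [L.Normal] (hC : centralizer (L : Set Y) = ⊥)
    (hodd : Odd (Fintype.card F)) (h3 : 3 < Fintype.card F) (e : L ≃* PSL) :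
    ∃ E : Emb Y F, E.L = L := by
  let f : Y →* MulAut PSL := (MulAut.congr e).toMonoidHom.comp MulAut.conjNormal
  have hf : Function.Injective f := by
    rw [injective_iff_map_eq_one]
    intro g hg
    have hg' : (MulAut.conjNormal g : MulAut L) = 1 := by
      apply (MulAut.congr e).injective
      rw [map_one]
      exact hg
    have : g ∈ centralizer (L : Set Y) := by
      rw [mem_centralizer_iff]
      intro x hx
      have h1 := congrArg Subtype.val (DFunLike.congr_fun hg' (⟨x, hx⟩ : L))
      rw [MulAut.conjNormal_apply] at h1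
      exact (mul_inv_eq_iff_eq_mul.1 h1).symm
    rwa [hC, mem_bot] at this
  refine ⟨⟨L, inferInstance, f, hf, e, fun l => ?_, hodd, h3⟩, rfl⟩
  apply MulEquiv.ext
  intro b
  show e (MulAut.conjNormal (l : Y) (e.symm b)) = e l * b * (e l)⁻¹
  have h1 : (MulAut.conjNormal (l : Y) (e.symm b) : L) = l * e.symm b * l⁻¹ :=
    Subtype.ext (MulAut.conjNormal_apply _ _)
  rw [h1, map_mul, map_mul, map_inv, e.apply_symm_apply]

namespace Emb

variable (E : Emb Y F)

include E in
theorem two_ne : (2 : F) ≠ 0 := two_ne_zero_of_odd E.odd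

theorem conj_injective : Function.Injective (MulAut.conj : PSL →* MulAut PSL) := fun x y h => by
  rw [← aut_toP, ← aut_toP] at h
  exact Matrix.ProjectiveSpecialLinearGroup.toPGL_injective (aut_injective h)

theorem map_L' {y : Y} (hy : y ∈ E.L) : E.φ y = aut F (toP (E.e ⟨y, hy⟩)) := by
  rw [aut_toP]; exact E.map_L ⟨y, hy⟩

theorem mem_L_iff {y : Y} {g : PGL} (h : E.φ y = aut F g) : y ∈ E.L ↔ g ∈ pslImage F := by
  constructor
  · intro hy
    rw [E.map_L' hy] at h
    rw [← aut_injective h]
    exact toP_mem _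
  · intro hg
    obtain ⟨x, rfl⟩ := exists_toP hg
    rw [aut_toP, ← E.e.apply_symm_apply x, ← E.map_L] at h
    rw [E.inj h]
    exact (E.e.symm x).2

theorem e_conj (y : Y) (l : E.L) (h : y * l * y⁻¹ ∈ E.L) :
    E.e ⟨y * l * y⁻¹, h⟩ = E.φ y (E.e l) := by
  apply conj_injective
  rw [← E.map_L, map_mul, map_mul, map_inv, E.map_L l]
  apply MulEquiv.ext
  intro x
  simp [MulAut.mul_apply, MulAut.conj_apply]

theorem commute_iff {v : Y} {g : PGL} (hv : E.φ v = aut F g) (l : E.L) :
    Commute (l : Y) v ↔ Commute (toP (E.e l)) g := by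
  constructor
  · intro h
    have := h.map E.φ
    rw [E.map_L l, ← aut_toP, hv] at this
    exact aut_injective (by rw [map_mul, map_mul]; exact this.eq)
  · intro h
    refine E.inj ?_
    rw [map_mul, map_mul, E.map_L l, ← aut_toP, hv, ← map_mul, ← map_mul, h.eq]

theorem not_hasFour (hY : NoEight Y) {v : Y} (hv : v * v = 1) (hvL : v ∉ E.L) :
    ¬ HasFour (E.φ v) := by
  rintro ⟨s, t, hs, ht, hne, hc, hfs, hft⟩
  set a : Y := ((E.e.symm s : E.L) : Y)
  set b : Y := ((E.e.symm t : E.L) : Y)
  have hvfix : ∀ x : PSL, E.φ v x = x → Commute v ((E.e.symm x : E.L) : Y) := fun x hx => by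
    refine E.inj ?_
    rw [map_mul, map_mul, E.map_L, E.e.apply_symm_apply]
    apply MulEquiv.ext
    intro w
    simp [MulAut.mul_apply, MulAut.conj_apply, hx]
  have hab : Commute a b :=
    show a * b = b * a from congrArg Subtype.val (hc.map E.e.symm.toMonoidHom).eq
  have hva : Commute v a := hvfix s hfs
  have hvb : Commute v b := hvfix t hft
  have sq : ∀ x : PSL, orderOf x = 2 → ((E.e.symm x : E.L) : Y) * (E.e.symm x : E.L) = 1 := by
    intro x hx
    rw [← Subgroup.coe_mul, ← map_mul, ← pow_two, show x ^ 2 = 1 by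
        have h := pow_orderOf_eq_one x
        rwa [hx] at h,
      map_one, Subgroup.coe_one]
  set A := closure ({a, b, v} : Set Y) with hA
  haveI : IsMulCommutative A := isMulCommutative_closure fun x hx y hy => by
    rcases hx with rfl | rfl | rfl <;> rcases hy with rfl | rfl | rfl <;>
      first
      | rfl
      | exact hab.eq
      | exact hab.eq.symm
      | exact hva.eq
      | exact hva.eq.symm
      | exact hvb.eq
      | exact hvb.eq.symm
  have hcA : ∀ x ∈ A, ∀ y ∈ A, x * y = y * x := fun x hx y hy =>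
    congrArg Subtype.val (mul_comm' (⟨x, hx⟩ : A) ⟨y, hy⟩)
  have hsA : ∀ x ∈ A, x ^ 2 = 1 := by
    intro x hx
    induction hx using closure_induction with
    | mem x hx =>
      rw [pow_two]
      rcases hx with rfl | rfl | rfl
      · exact sq s hs
      · exact sq t ht
      · exact hv
    | one => exact one_pow 2
    | mul x y hxm hym hx hy => rw [(show Commute x y from hcA x hxm y hym).mul_pow, hx, hy, one_mul]
    | inv x _ hx => rw [inv_pow, hx, inv_one]
  have hle := hY A hcA hsA
  have haA : a ∈ A := subset_closure (by simp)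
  have hbA : b ∈ A := subset_closure (by simp)
  have hvA : v ∈ A := subset_closure (by simp)
  have haL : a ∈ E.L := (E.e.symm s).2
  have hbL : b ∈ E.L := (E.e.symm t).2
  have hne' : a ≠ b := fun h => hne (E.e.symm.injective (Subtype.ext h))
  have one : ∀ x : PSL, orderOf x = 2 → ((E.e.symm x : E.L) : Y) ≠ 1 := fun x hx h => by
    rw [← Subgroup.coe_one E.L, Subtype.coe_inj, EmbeddingLike.map_eq_one_iff] at h
    rw [h, orderOf_one] at hx
    omega
  have ha1 : a ≠ 1 := one s hs
  have hb1 : b ≠ 1 := one t ht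
  have hab1 : a * b ≠ 1 := fun h => hne' (mul_left_cancel ((sq s hs).trans h.symm))
  classical
  haveI : Fintype A := Fintype.ofFinite _
  have h5 := (Finset.card_le_univ
    ({1, ⟨a, haA⟩, ⟨b, hbA⟩, ⟨a * b, mul_mem haA hbA⟩, ⟨v, hvA⟩} : Finset A)).trans
    (le_of_eq_of_le (Nat.card_eq_fintype_card).symm hle)
  have hv1 : v ≠ 1 := fun h => hvL (h ▸ one_mem _)
  have hva' : v ≠ a := fun h => hvL (h ▸ haL)
  have hvb' : v ≠ b := fun h => hvL (h ▸ hbL)
  have hvab : v ≠ a * b := fun h => hvL (h ▸ mul_mem haL hbL)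
  have haab : a ≠ a * b := fun h => hb1 (left_eq_mul.1 h)
  have hbab : b ≠ a * b := fun h => ha1 (right_eq_mul.1 h)
  rw [Finset.card_insert_of_notMem, Finset.card_insert_of_notMem, Finset.card_insert_of_notMem,
    Finset.card_insert_of_notMem, Finset.card_singleton] at h5
  · omega
  all_goals simp [Subtype.ext_iff, Ne.symm ha1, Ne.symm hb1, Ne.symm hab1, Ne.symm hv1, hne', haab,
    hbab, Ne.symm hva', Ne.symm hvb', Ne.symm hvab]

/-- Involutions act as traceless matrices. -/
theorem involution (hY : NoEight Y) {v : Y} (hv : v * v = 1) (hv1 : v ≠ 1) :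
    ∃ (M : Matrix (Fin 2) (Fin 2) F) (hd : M.det ≠ 0),
      M.trace = 0 ∧ E.φ v = aut F (pmk M hd) ∧ (v ∈ E.L ↔ IsSquare M.det) := by
  have h2 := E.two_ne
  by_cases hvL : v ∈ E.L
  · obtain ⟨M, hd, hM, hsq, hx⟩ := exists_matrix (x := E.e ⟨v, hvL⟩) (by
      rw [MulEquiv.orderOf_eq]
      refine orderOf_eq_prime (Subtype.ext (by simpa [pow_two] using hv)) fun h => hv1 ?_
      exact congrArg Subtype.val h)
    exact ⟨M, hd, hM, by rw [E.map_L' hvL, hx], iff_of_true hvL hsq⟩
  · obtain ⟨M, hd, hM, hns, hg⟩ := exists_outer h2 (γ := E.φ v)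
      (by rw [← map_mul, hv, map_one]) (E.not_hasFour hY hv hvL)
    refine ⟨M, hd, hM, ?_, iff_of_false hvL hns⟩
    rw [hg, ← aut_mk]
    rfl

/-- The commutator of an involution with any element lies in `L`. -/
theorem commutator_mem (hY : NoEight Y) {v : Y} (hv : v * v = 1) (x : Y) :
    x * v * x⁻¹ * v ∈ E.L := by
  haveI := E.norm
  have hvi : v⁻¹ = v := inv_eq_of_mul_eq_one_right hv
  by_cases hv1 : v = 1
  · subst hv1; simp
  by_cases hvL : v ∈ E.L
  · exact mul_mem (E.norm.conj_mem v hvL x) hvL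
  · obtain ⟨M, hd, hM, hg, hi⟩ := E.involution hY hv hv1
    have hx : x * v * x⁻¹ ∉ E.L := fun h => hvL (by
      have := E.norm.conj_mem _ h x⁻¹
      simpa [mul_assoc] using this)
    obtain ⟨M', hd', hM', hg', hi'⟩ := E.involution hY (v := x * v * x⁻¹)
      (by rw [show x * v * x⁻¹ * (x * v * x⁻¹) = x * (v * v) * x⁻¹ by group, hv]; group)
      (by rw [ne_eq, conj_eq_one_iff]; exact hv1)
    refine (E.mem_L_iff (g := pmk M' hd' * pmk M hd) ?_).2 (mul_mem_pslImage_of_not_mem
      (fun h => hx (hi'.2 (pmk_mem_pslImage.1 h))) fun h => hvL (hi.2 (pmk_mem_pslImage.1 h)))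
    rw [map_mul, hg', hg, map_mul]

/-- The centraliser in `L` of an element acting as an involution of `PGL₂`. -/
theorem card_cent {v : Y} {g : PGL} (hv : E.φ v = aut F g) :
    Nat.card ↥(E.L ⊓ centralizer ({v} : Set Y)) = Nat.card {x : PSL // aut F g x = x} := by
  refine Nat.card_congr (Equiv.ofBijective (fun y => ⟨E.e ⟨y.1, y.2.1⟩, (aut_fix_iff g _).2
    ((E.commute_iff hv ⟨y.1, y.2.1⟩).1 (mem_centralizer_singleton_iff.1 y.2.2)).symm⟩) ⟨?_, ?_⟩)
  · intro a b h
    exact Subtype.ext (congrArg Subtype.val (E.e.injective (congrArg Subtype.val h)) :)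
  · intro x
    refine ⟨⟨(E.e.symm x.1 : E.L), (E.e.symm x.1).2, mem_centralizer_singleton_iff.2
      ((E.commute_iff hv _).2 ?_).eq⟩, Subtype.ext ?_⟩
    · rw [E.e.apply_symm_apply]; exact ((aut_fix_iff g _).1 x.2).symm
    · show E.e ⟨_, _⟩ = _
      rw [Subtype.coe_eta, E.e.apply_symm_apply]

theorem card_cent_inner {v : Y} (hv : v ∈ E.L) (h2 : orderOf v = 2) :
    Nat.card ↥(E.L ⊓ centralizer ({v} : Set Y)) =
      if Fintype.card F % 4 = 1 then Fintype.card F - 1 else Fintype.card F + 1 := by
  have ho : orderOf (E.e ⟨v, hv⟩) = 2 := by rw [MulEquiv.orderOf_eq, Subgroup.orderOf_mk, h2]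
  rw [E.card_cent (E.map_L' hv), ← card_centralizer_involution E.odd ho]
  refine Nat.card_congr (Equiv.subtypeEquivRight fun x => ?_)
  rw [aut_fix_iff, mem_centralizer_singleton_iff]
  exact ⟨fun h => Matrix.ProjectiveSpecialLinearGroup.toPGL_injective (by
    rw [map_mul, map_mul]; exact h.symm.eq), fun h => by
    have h' : Commute (E.e ⟨v, hv⟩) x := h.symm
    exact h'.map toP⟩

theorem card_cent_outer (hY : NoEight Y) {v : Y} (hv : v ∉ E.L) (hsq : v * v = 1) :
    Nat.card ↥(E.L ⊓ centralizer ({v} : Set Y)) =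
      if Fintype.card F % 4 = 1 then Fintype.card F + 1 else Fintype.card F - 1 := by
  obtain ⟨M, hd, hM, hg, hi⟩ := E.involution hY hsq fun h => hv (h ▸ one_mem _)
  rw [E.card_cent hg, card_fixed_outer E.two_ne hM hd fun h => hv (hi.2 h)]

end Emb

/-- An invertible matrix normalising an abelian odd group of parabolic elements has an eigenvector. -/
theorem exists_eigen {M : Matrix (Fin 2) (Fin 2) F} (hM0 : M ≠ 0) (hdet : M.det = 0) :
    ∃ w : Fin 2 → F, w ≠ 0 ∧ ∀ {G : Matrix (Fin 2) (Fin 2) F} {μ : F},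
      M * G = μ • (G * M) → ∃ a : F, G.mulVec w = a • w := by
  obtain ⟨w, hw, hMw⟩ := Matrix.exists_mulVec_eq_zero_iff.2 hdet
  refine ⟨w, hw, fun {G μ} h => ?_⟩
  have h1 : M.mulVec (G.mulVec w) = 0 := by
    rw [Matrix.mulVec_mulVec, h, Matrix.smul_mulVec, ← Matrix.mulVec_mulVec, hMw,
      Matrix.mulVec_zero, smul_zero]
  obtain ⟨i, a, b, hab, hrow⟩ : ∃ (i : Fin 2) (a b : F), (a ≠ 0 ∨ b ≠ 0) ∧
      ∀ u : Fin 2 → F, M.mulVec u i = a * u 0 + b * u 1 := by
    by_contra hcon
    push Not at hcon
    refine hM0 ?_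
    ext i j
    by_contra hij
    obtain ⟨u, hu⟩ := hcon i (M i 0) (M i 1) (by
      fin_cases j
      · exact Or.inl hij
      · exact Or.inr hij)
    exact hu (by simp [Matrix.mulVec, dotProduct, Fin.sum_univ_two])
  set u := G.mulVec w
  have e1 : a * u 0 + b * u 1 = 0 := by rw [← hrow, h1]; rfl
  have e2 : a * w 0 + b * w 1 = 0 := by rw [← hrow, hMw]; rfl
  have hcross : u 0 * w 1 = u 1 * w 0 := by
    rcases hab with ha | hb
    · exact mul_left_cancel₀ ha (by linear_combination w 1 * e1 - u 1 * e2)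
    · exact mul_left_cancel₀ hb (by linear_combination u 0 * e2 - w 0 * e1)
  by_cases h0 : w 0 = 0
  · have h1' : w 1 ≠ 0 := fun e => hw (funext fun j => by fin_cases j <;> assumption)
    refine ⟨u 1 / w 1, funext fun j => ?_⟩
    rw [h0, mul_zero] at hcross
    fin_cases j
    · show u 0 = u 1 / w 1 * w 0
      rw [h0, mul_zero, (mul_eq_zero.1 hcross).resolve_right h1']
    · show u 1 = u 1 / w 1 * w 1
      rw [div_mul_cancel₀ _ h1']
  · refine ⟨u 0 / w 0, funext fun j => ?_⟩
    fin_cases j
    · show u 0 = u 0 / w 0 * w 0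
      rw [div_mul_cancel₀ _ h0]
    · show u 1 = u 0 / w 0 * w 1
      field_simp
      linear_combination -hcross


theorem odd_orderOf {B : Subgroup Y} (hB : Odd (Nat.card B)) {x : Y} (hx : x ∈ B) :
    Odd (orderOf x) :=
  CfsgLib.RankOneInvol.odd_orderOf_of_mem hB hx

theorem eq_one_of_sq {x : Y} (hx : Odd (orderOf x)) (h : x * x = 1) : x = 1 := by
  rw [← orderOf_eq_one_iff]
  exact Nat.eq_one_of_dvd_coprimes (Nat.coprime_two_left.2 hx)
    (orderOf_dvd_of_pow_eq_one (by rw [pow_two]; exact h)) dvd_rfl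

/-- An odd subgroup has a nontrivial abelian subgroup invariant under everything normalising it. -/
theorem exists_abelian (B : Subgroup Y) (hB : Odd (Nat.card B)) (hne : B ≠ ⊥) :
    ∃ A : Subgroup Y, A ≤ B ∧ A ≠ ⊥ ∧ (∀ a ∈ A, ∀ b ∈ A, a * b = b * a) ∧
      ∀ g : Y, (∀ x ∈ B, g * x * g⁻¹ ∈ B) → ∀ x ∈ A, g * x * g⁻¹ ∈ A := by
  by_cases hab : ⁅B, B⁆ = ⊥
  · refine ⟨B, le_rfl, hne, fun a ha b hb => ?_, fun g hg => hg⟩
    have := commutator_mem_commutator ha hb
    rw [hab, mem_bot] at this
    exact commutatorElement_eq_one_iff_mul_comm.1 this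
  · have hlt : ⁅B, B⁆ < B := by
      haveI := CfsgLib.PF.oddSolvable.{u} B hB
      refine lt_of_le_of_ne ?_ fun h => ?_
      · rw [commutator_le]
        exact fun a ha b hb => mul_mem (mul_mem (mul_mem ha hb) (inv_mem ha)) (inv_mem hb)
      · haveI : Nontrivial B := (nontrivial_iff_ne_bot B).2 hne
        refine (Group.IsSolvable.commutator_lt_top_of_nontrivial B).ne ?_
        refine map_injective B.subtype_injective ?_
        rw [map_subtype_commutator, h, ← MonoidHom.range_eq_map, Subgroup.range_subtype]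
    have hcard : Nat.card (⁅B, B⁆ : Subgroup Y) < Nat.card B := by
      rcases lt_or_eq_of_le (card_le_of_le hlt.le) with h | h
      · exact h
      · exact absurd (eq_of_le_of_card_ge hlt.le h.ge) hlt.ne
    obtain ⟨A, hA, hA1, hAab, hAinv⟩ := exists_abelian ⁅B, B⁆
      (hB.of_dvd_nat (card_dvd_of_le hlt.le)) hab
    refine ⟨A, hA.trans hlt.le, hA1, hAab, fun g hg => hAinv g ?_⟩
    have hmap : (⁅B, B⁆ : Subgroup Y).map (MulAut.conj g).toMonoidHom ≤ ⁅B, B⁆ := by
      rw [map_commutator]
      exact commutator_mono (by rintro _ ⟨x, hx, rfl⟩; exact hg x hx)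
        (by rintro _ ⟨x, hx, rfl⟩; exact hg x hx)
    exact fun x hx => hmap ⟨x, hx, rfl⟩
termination_by Nat.card B
decreasing_by exact hcard

namespace Emb

variable (E : Emb Y F)

include E in
/-- Odd subgroups normalised by the centraliser of an involution commute with it. -/
theorem centralizes (hY : NoEight Y) {v : Y} (hv : orderOf v = 2) {B : Subgroup Y}
    (hB : Odd (Nat.card B)) (hn : ∀ c, c * v = v * c → ∀ x ∈ B, c * x * c⁻¹ ∈ B) :
    ∀ x ∈ B, x * v = v * x := by
  haveI := E.norm
  have h2 := E.two_ne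
  obtain ⟨hv1, hvv⟩ : v ≠ 1 ∧ v * v = 1 := CfsgLib.Involutions.orderOf_eq_two_iff_mul.1 hv
  have hvi : v⁻¹ = v := inv_eq_of_mul_eq_one_right hvv
  obtain ⟨V, hVd, hV, hφv, hVsq⟩ := E.involution hY hvv hv1
  -- the part inside `L`
  have key : ∀ y ∈ B, y ∈ E.L → y * v = v * y := by
    intro y hyB hyL
    by_cases hbot : B ⊓ E.L = ⊥
    · have : y ∈ B ⊓ E.L := ⟨hyB, hyL⟩
      rw [hbot, mem_bot] at this
      simp [this]
    obtain ⟨A, hAB, hA1, hAab, hAinv⟩ := exists_abelian (B ⊓ E.L)
      (hB.of_dvd_nat (card_dvd_of_le inf_le_left)) hbot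
    haveI : Nontrivial A := (nontrivial_iff_ne_bot A).2 hA1
    obtain ⟨⟨z, hzA⟩, hz1⟩ := exists_ne (1 : A)
    replace hz1 : z ≠ 1 := fun h => hz1 (Subtype.ext h)
    have hAL : ∀ a ∈ A, a ∈ E.L := fun a ha => (hAB ha).2
    have hzodd : Odd (orderOf z) := odd_orderOf hB (hAB hzA).1
    set zP : PGL := toP (E.e ⟨z, hAL z hzA⟩) with hzP
    have hzmap : E.φ z = aut F zP := E.map_L' _
    have hz2 : zP * zP ≠ 1 := fun h => hz1 (eq_one_of_sq hzodd (E.inj (by
      rw [map_mul, hzmap, ← map_mul, h, map_one, map_one])))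
    have hcom : ∀ g : Y, ∀ gP : PGL, E.φ g = aut F gP →
        (∀ x ∈ B ⊓ E.L, g * x * g⁻¹ ∈ B ⊓ E.L) → Commute (gP * zP * gP⁻¹) zP := by
      intro g gP hg hgn
      have h1 := hAinv g hgn z hzA
      have h2' : Commute (g * z * g⁻¹) z := hAab _ h1 _ hzA
      refine aut_injective ?_
      have := congrArg E.φ h2'.eq
      simp only [map_mul, map_inv, hg, hzmap] at this ⊢
      exact this
    have hnv : ∀ c, c * v = v * c → ∀ x ∈ B ⊓ E.L, c * x * c⁻¹ ∈ B ⊓ E.L := fun c hc x hx =>
      ⟨hn c hc x hx.1, E.norm.conj_mem x hx.2 c⟩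
    -- elements of `L` centralising `v`
    set C := E.L ⊓ centralizer ({v} : Set Y)
    have hCcom : ∀ c : Y, ∀ hc : c ∈ C, Commute (toP (E.e ⟨c, hc.1⟩)) (pmk V hVd) := fun c hc =>
      (E.commute_iff hφv ⟨c, hc.1⟩).1 (mem_centralizer_singleton_iff.1 hc.2)
    have hCn : ∀ c : Y, ∀ hc : c ∈ C,
        Commute (toP (E.e ⟨c, hc.1⟩) * zP * (toP (E.e ⟨c, hc.1⟩))⁻¹) zP := fun c hc =>
      hcom c _ (E.map_L' hc.1) (hnv c (mem_centralizer_singleton_iff.1 hc.2))
    have hVn : Commute (pmk V hVd * zP * (pmk V hVd)⁻¹) zP := hcom v _ hφv (hnv v rfl)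
    obtain ⟨Z, hZd, hZe⟩ := pmk_surjective zP
    set M : Matrix (Fin 2) (Fin 2) F := (2 : F) • Z - Z.trace • 1 with hMdef
    have hM : M.trace = 0 := by
      rw [hMdef, Matrix.trace_sub, Matrix.trace_smul, Matrix.trace_smul, Matrix.trace_one]
      simp [mul_comm]
    by_cases hMd : M.det = 0
    · -- parabolic case: a common eigenvector
      exfalso
      have hM0 : M ≠ 0 := fun h => by
        refine hz2 ?_
        have : zP = 1 := by
          rw [← hZe, pmk_eq_one_iff]
          refine ⟨Z.trace / 2, ?_⟩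
          rw [hMdef, sub_eq_zero] at h
          rw [div_eq_inv_mul, ← smul_smul, ← h, smul_smul, inv_mul_cancel₀ h2, one_smul]
        rw [this, one_mul]
      have htr : Z.trace ≠ 0 := fun h => by
        rw [hMdef, h, zero_smul, sub_zero, Matrix.det_smul] at hMd
        simp [h2, hZd] at hMd
      obtain ⟨w, hw, heig⟩ := exists_eigen hM0 hMd
      have main : ∀ (G : Matrix (Fin 2) (Fin 2) F) (hG : G.det ≠ 0),
          Commute (pmk G hG * zP * (pmk G hG)⁻¹) zP → ∃ a : F, G.mulVec w = a • w := by
        intro G hG hc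
        obtain ⟨Gu, hGu⟩ : IsUnit G := (Matrix.isUnit_iff_isUnit_det G).2 (Ne.isUnit hG)
        set G' : Matrix (Fin 2) (Fin 2) F :=
          ((Gu⁻¹ : (Matrix (Fin 2) (Fin 2) F)ˣ) : Matrix (Fin 2) (Fin 2) F) with hG'def
        have hGG : G * G' = 1 := by rw [← hGu]; exact Gu.mul_inv
        have hGG' : G' * G = 1 := by rw [← hGu]; exact Gu.inv_mul
        have hG' : G'.det ≠ 0 := fun h => by
          have := congrArg Matrix.det hGG
          rw [Matrix.det_mul, h, mul_zero, Matrix.det_one] at this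
          exact zero_ne_one this
        have hinv : (pmk G hG)⁻¹ = pmk G' hG' := by
          rw [inv_eq_iff_mul_eq_one, pmk_mul, pmk_eq_one_iff]
          exact ⟨1, by rw [one_smul, hGG]⟩
        set Z' := G * Z * G' with hZ'
        have hZ'd : Z'.det ≠ 0 := by
          rw [hZ', Matrix.det_mul, Matrix.det_mul]; exact mul_ne_zero (mul_ne_zero hG hZd) hG'
        have hc' : pmk Z' hZ'd * pmk Z hZd = pmk Z hZd * pmk Z' hZ'd := by
          have e : pmk Z' hZ'd = pmk G hG * zP * (pmk G hG)⁻¹ := by
            rw [hinv, ← hZe, pmk_mul, pmk_mul]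
          rw [e, hZe]; exact hc.eq
        rw [pmk_mul, pmk_mul] at hc'
        obtain ⟨c, hcc⟩ := pmk_eq_iff.1 hc'
        have hc1 : c = 1 := by
          obtain ⟨Zu, hZu⟩ : IsUnit Z' := (Matrix.isUnit_iff_isUnit_det Z').2 (Ne.isUnit hZ'd)
          have h1 := congrArg (fun X => ((Zu⁻¹ : (Matrix (Fin 2) (Fin 2) F)ˣ) :
            Matrix (Fin 2) (Fin 2) F) * X) hcc
          simp only [Matrix.mul_smul] at h1
          rw [← mul_assoc, ← hZu, Units.inv_mul, one_mul] at h1
          have h3 := congrArg Matrix.trace h1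
          rw [Matrix.trace_smul, ← mul_assoc, Matrix.trace_mul_cycle, Units.mul_inv, one_mul,
            smul_eq_mul] at h3
          exact mul_right_cancel₀ htr (h3.trans (one_mul _).symm)
        rw [hc1, one_smul] at hcc
        have hns : ∀ s : F, Z ≠ s • 1 := fun s e => by
          refine hM0 ?_
          rw [hMdef, e, Matrix.trace_smul, Matrix.trace_one, smul_smul]
          simp [mul_comm]
        obtain ⟨x, y, hxy⟩ := CfsgLib.SL2Tori.commutant hns hcc
        have hM' : G * M * G' = y • M := by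
          have htr' : Z'.trace = Z.trace := by
            rw [hZ', Matrix.trace_mul_cycle, hGG', one_mul]
          have e1 : G * M * G' = (2 : F) • Z' - Z.trace • 1 := by
            rw [hMdef, mul_sub, sub_mul, Matrix.mul_smul, Matrix.smul_mul, Matrix.mul_smul,
              Matrix.smul_mul, mul_one, hGG]
          have e2 : Z.trace = 2 * x + y * Z.trace := by
            conv_lhs => rw [← htr', hxy, CfsgLib.SL2Tori.trace_comb]
          rw [e1, hxy, hMdef]
          conv_lhs => arg 2; rw [e2]
          module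
        have hy : y ≠ 0 := fun h => hM0 (by
          rw [h, zero_smul] at hM'
          calc M = G' * (G * M * G') * G := by
                rw [show G' * (G * M * G') * G = (G' * G) * M * (G' * G) by
                  simp only [mul_assoc], hGG', one_mul, mul_one]
            _ = 0 := by rw [hM', mul_zero, zero_mul])
        refine heig (μ := y⁻¹) ?_
        calc M * G = (y⁻¹ • (y • M)) * G := by rw [inv_smul_smul₀ hy]
          _ = y⁻¹ • (G * M * G' * G) := by rw [Matrix.smul_mul, hM']
          _ = y⁻¹ • (G * M) := by rw [mul_assoc (G * M), hGG', mul_one]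
      obtain ⟨a, ha⟩ := main V hVd hVn
      -- an element of `L` anticommuting with `v`
      obtain ⟨N, hNd, hNV, hcN⟩ : ∃ (N : Matrix (Fin 2) (Fin 2) F) (hNd : N.det ≠ 0),
          V * N = -(N * V) ∧ Commute (pmk N hNd * zP * (pmk N hNd)⁻¹) zP := by
        by_cases hvL : v ∈ E.L
        · obtain ⟨d, hdd⟩ := hVsq.1 hvL
          have hd0 : d ≠ 0 := fun e => hVd (by rw [hdd, e, mul_zero])
          obtain ⟨N, hq⟩ := exists_qpair h2 (A := d⁻¹ • V) (by rw [Matrix.trace_smul, hV, smul_zero])
            (by rw [Matrix.det_smul, Fintype.card_fin, hdd]; field_simp)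
          have hN1 := hq.symm.det_eq_one h2
          have hNd : N.det ≠ 0 := by rw [hN1]; exact one_ne_zero
          have hNV : V * N = -(N * V) := by
            have := hq.hIJ
            rw [Matrix.smul_mul, Matrix.mul_smul, ← smul_neg] at this
            exact smul_right_injective _ (inv_ne_zero hd0) this
          obtain ⟨x, hx⟩ := exists_toP (g := pmk N hNd) (pmk_mem_pslImage.2 (hN1 ▸ IsSquare.one))
          have hxv : Commute ((E.e.symm x : E.L) : Y) v := by
            rw [E.commute_iff hφv, E.e.apply_symm_apply, hx]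
            show _ * _ = _ * _
            rw [pmk_mul, pmk_mul, pmk_eq_iff]
            exact ⟨-1, by rw [neg_one_smul, hNV]⟩
          refine ⟨N, hNd, hNV, ?_⟩
          have := hCn _ ⟨(E.e.symm x).2, mem_centralizer_singleton_iff.2 hxv.eq⟩
          rwa [Subtype.coe_eta, E.e.apply_symm_apply, hx] at this
        · haveI : Fact (Nat.Prime 2) := ⟨Nat.prime_two⟩
          have hev : 2 ∣ Nat.card C := by
            rw [E.card_cent_outer hY hvL hvv]
            have := Nat.odd_iff.1 E.odd
            split_ifs <;> omega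
          obtain ⟨⟨c, hcC⟩, hc2⟩ := exists_prime_orderOf_dvd_card' 2 hev
          rw [Subgroup.orderOf_mk] at hc2
          obtain ⟨N, hNd, hNe⟩ := pmk_surjective (toP (E.e ⟨c, hcC.1⟩))
          have hcom' := hCcom c hcC
          rw [← hNe] at hcom'
          have hcn := hCn c hcC
          rw [← hNe] at hcn
          have hsq : pmk N hNd * pmk N hNd = 1 ∧ pmk N hNd ≠ 1 := by
            rw [hNe]
            obtain ⟨hc1, hcc⟩ := CfsgLib.Involutions.orderOf_eq_two_iff_mul.1 hc2
            refine ⟨by rw [← map_mul, ← map_mul, show (⟨c, hcC.1⟩ : E.L) * ⟨c, hcC.1⟩ = 1 from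
              Subtype.ext hcc, map_one, map_one], fun h => hc1 ?_⟩
            have : E.φ c = 1 := by rw [E.map_L' hcC.1, h, map_one]
            exact E.inj (this.trans (map_one _).symm)
          rcases cent_cases h2 hV hVd hcom' with hT | ⟨N', hN', he, -, hNV⟩
          · exfalso
            refine hvL (hVsq.2 ((pmk_mem_pslImage (hA := hVd)).1 ?_))
            rw [← hT.involution h2 hV hVd hsq.1 hsq.2, hNe]
            exact toP_mem _
          · exact ⟨N', hN', by rw [hNV, neg_neg], he ▸ hcn⟩
      obtain ⟨b, hb⟩ := main N hNd hcN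
      exact OuterTorus.no_common_eigen h2 hVd hNd hNV w hw ha hb
    · -- the torus case
      have hzT : InTorus M zP := by
        have hZ : (Z.trace / 2) • (1 : Matrix (Fin 2) (Fin 2) F) + (2⁻¹ : F) • M = Z := by
          rw [hMdef, smul_sub, smul_smul, smul_smul, inv_mul_cancel₀ h2, one_smul, div_eq_inv_mul]
          abel
        exact ⟨_, _, by rw [hZ]; exact hZd, hZe.symm.trans (pmk_eq_iff.2 ⟨1, by rw [one_smul, hZ]⟩)⟩
      have hfixM : ∀ g : Y, ∀ gP : PGL, E.φ g = aut F gP →
          (∀ x ∈ B ⊓ E.L, g * x * g⁻¹ ∈ B ⊓ E.L) → Commute gP (pmk M hMd) := fun g gP hg hgn =>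
        commute_of_conj h2 hM hMd hzT hz2 (InTorus.of_commute h2 hM hMd hzT hz2 (hcom g gP hg hgn))
      set m := pmk M hMd with hm
      set p := pmk V hVd with hp
      have hmp : m = p := by
        by_contra hne
        have hpm : Commute p m := hfixM v p hφv (hnv v rfl)
        have hCsub : ∀ c : Y, ∀ hc : c ∈ C, toP (E.e ⟨c, hc.1⟩) = 1 ∨ toP (E.e ⟨c, hc.1⟩) = p ∨
            toP (E.e ⟨c, hc.1⟩) = m ∨ toP (E.e ⟨c, hc.1⟩) = p * m := by
          intro c hc
          have hcp := hCcom c hc
          have hcm : Commute (toP (E.e ⟨c, hc.1⟩)) m := hfixM c _ (E.map_L' hc.1)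
            (hnv c (mem_centralizer_singleton_iff.1 hc.2))
          set g := toP (E.e ⟨c, hc.1⟩)
          have hone : ∀ g : PGL, Commute g p → Commute g m → InTorus V g → g = 1 ∨ g = p := by
            intro g hgp hgm hT
            by_cases hg1 : g = 1
            · exact Or.inl hg1
            refine Or.inr (hT.involution h2 hV hVd ?_ hg1)
            exact sq_eq_one_of_two h2 (pmk_mul_self hV hVd) (pmk_ne_one h2 hV hVd)
              (pmk_mul_self hM hMd) (pmk_ne_one h2 hM hMd) hpm (Ne.symm hne) hgp hgm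
          rcases cent_cases h2 hV hVd hcp with hT | ⟨N, hN, hgN, hNt, hNV⟩
          · rcases hone g hcp hcm hT with h | h
            · exact Or.inl h
            · exact Or.inr (Or.inl h)
          · rcases cent_cases h2 hV hVd hpm.symm with hT | ⟨M', hM', hmM, hMt, hMV⟩
            · exact absurd (hT.involution h2 hV hVd (pmk_mul_self hM hMd) (pmk_ne_one h2 hM hMd)) hne
            · have hT : InTorus V (g * m) := by
                rcases cent_cases h2 hV hVd (hcp.mul_left hpm.symm) with
                  h | ⟨D, hD, hgD, -, hDV⟩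
                · exact h
                · exfalso
                  rw [hgN, hmM, pmk_mul] at hgD
                  obtain ⟨k, hk⟩ := pmk_eq_iff.1 hgD
                  have h1 : N * M' * V = V * (N * M') := by
                    rw [mul_assoc, hMV, mul_neg, ← mul_assoc, hNV, neg_mul, neg_neg, mul_assoc]
                  rw [← hk, Matrix.smul_mul, Matrix.mul_smul, h1] at hDV
                  have h3 : (2 * k) • (V * (N * M')) = 0 := by
                    rw [← sub_eq_zero.2 hDV]; module
                  have hk0 : k ≠ 0 := fun e' => hD (by rw [← hk, e', zero_smul]; simp)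
                  have := congrArg Matrix.det ((smul_eq_zero.1 h3).resolve_left (mul_ne_zero h2 hk0))
                  rw [Matrix.det_mul, Matrix.det_mul, Matrix.det_zero] at this
                  exact mul_ne_zero hVd (mul_ne_zero hN hM') this
              rcases hone (g * m) (hcp.mul_left hpm.symm) (hcm.mul_left (Commute.refl m)) hT with h | h
              · refine Or.inr (Or.inr (Or.inl ?_))
                rw [mul_eq_one_iff_eq_inv] at h
                rw [h, inv_eq_of_mul_eq_one_right (pmk_mul_self hM hMd)]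
              · refine Or.inr (Or.inr (Or.inr ?_))
                rw [← h, mul_assoc, hm, pmk_mul_self hM hMd, mul_one]
        -- the image of `C` lies in a four-group
        classical
        haveI : Fintype C := Fintype.ofFinite _
        let f : C → PGL := fun c => toP (E.e ⟨c.1, c.2.1⟩)
        have hfinj : Function.Injective f := fun a b h => Subtype.ext (congrArg Subtype.val
          (E.e.injective (Matrix.ProjectiveSpecialLinearGroup.toPGL_injective h)) :)
        have hle : Finset.univ.image f ⊆ {1, p, m, p * m} := by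
          intro g hg
          simp only [Finset.mem_image, Finset.mem_univ, true_and] at hg
          obtain ⟨c, rfl⟩ := hg
          rcases hCsub c.1 c.2 with h | h | h | h <;> simp [f, h]
        have hcard := Finset.card_le_card hle
        rw [Finset.card_image_of_injective _ hfinj, Finset.card_univ, ← Nat.card_eq_fintype_card]
          at hcard
        have h4 : ({1, p, m, p * m} : Finset PGL).card ≤ 4 := Finset.card_le_four
        have := E.gt
        have hq := Nat.odd_iff.1 E.odd
        by_cases hvL : v ∈ E.L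
        · have hc := E.card_cent_inner hvL hv
          have hq5 : Fintype.card F % 4 = 1 ∧ Fintype.card F - 1 = 4 := by
            rw [hc] at hcard
            split_ifs at hcard with h <;> omega
          have hC4 : Nat.card C = 4 := by rw [hc, if_pos hq5.1, hq5.2]
          -- the four-group is the image, so `m` is inner
          have heq : Finset.univ.image f = {1, p, m, p * m} := by
            refine Finset.eq_of_subset_of_card_le hle ?_
            rw [Finset.card_image_of_injective _ hfinj, Finset.card_univ, ← Nat.card_eq_fintype_card,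
              hC4]
            exact h4
          have hmI : m ∈ Finset.univ.image f := by rw [heq]; simp
          simp only [Finset.mem_image, Finset.mem_univ, true_and] at hmI
          obtain ⟨⟨l, hlC⟩, hl⟩ := hmI
          have hl' : toP (E.e ⟨l, hlC.1⟩) = m := hl
          have hlo : orderOf l = 2 := by
            have hll : E.φ l = aut F m := by rw [E.map_L' hlC.1, hl']
            rw [← orderOf_injective E.φ E.inj, hll, orderOf_injective _ aut_injective]
            exact orderOf_eq_prime (by rw [pow_two]; exact pmk_mul_self hM hMd)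
              (pmk_ne_one h2 hM hMd)
          have hzl : z ∈ E.L ⊓ centralizer ({l} : Set Y) := ⟨hAL z hzA,
            mem_centralizer_singleton_iff.2 ((E.commute_iff (g := m) (by rw [E.map_L' hlC.1, hl'])
              ⟨z, hAL z hzA⟩).2 (hzT.commute (InTorus.self M hMd))).eq⟩
          have h4' := (E.L ⊓ centralizer ({l} : Set Y)).orderOf_dvd_natCard hzl
          rw [E.card_cent_inner hlC.1 hlo, if_pos hq5.1, hq5.2] at h4'
          refine hz1 (orderOf_eq_one_iff.1 (Nat.eq_one_of_dvd_coprimes ?_ dvd_rfl h4'))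
          exact ((Nat.coprime_two_left.2 hzodd).pow_left 2).symm
        · rw [E.card_cent_outer hY hvL hvv] at hcard
          split_ifs at hcard <;> omega
      have hy' := hfixM y _ (E.map_L' hyL) fun x hx =>
        ⟨B.mul_mem (B.mul_mem hyB hx.1) (B.inv_mem hyB), E.norm.conj_mem x hx.2 y⟩
      rw [hmp] at hy'
      exact ((E.commute_iff hφv ⟨y, hyL⟩).2 hy').eq
  intro x hx
  set y := x * v * x⁻¹ * v with hy
  have hyB : y ∈ B := by
    have h1 := hn v rfl x⁻¹ (inv_mem hx)
    rw [hvi] at h1
    rw [hy, show x * v * x⁻¹ * v = x * (v * x⁻¹ * v) by group]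
    exact mul_mem hx h1
  have hyv := key y hyB (E.commutator_mem hY hvv x)
  have hy2 : y * y = 1 := by
    have e : y * v = x * v * x⁻¹ := by rw [hy, mul_assoc (x * v * x⁻¹), hvv, mul_one]
    calc y * y = y * y * (v * v) := by rw [hvv, mul_one]
      _ = y * (y * v) * v := by group
      _ = y * (v * y) * v := by rw [hyv]
      _ = (y * v) * (y * v) := by group
      _ = x * (v * v) * x⁻¹ := by rw [e]; group
      _ = 1 := by rw [hvv]; group
  have h1 := eq_one_of_sq (odd_orderOf hB hyB) hy2
  rw [hy] at h1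
  calc x * v = (x * v * x⁻¹ * v) * v⁻¹ * x := by group
    _ = v * x := by rw [h1, hvi, one_mul]

end Emb

theorem key_seven : ∀ σ : Equiv.Perm (Fin 7), σ * σ * σ = 1 →
    σ * (Equiv.swap 0 2 * Equiv.swap 1 3) = Equiv.swap 0 2 * Equiv.swap 1 3 * σ →
    σ * (Equiv.swap 0 1 * Equiv.swap 2 3) = Equiv.swap 0 1 * Equiv.swap 2 3 * σ := by
  set_option maxRecDepth 100000 in decide +kernel

theorem key_four : ∀ v x : Equiv.Perm (Fin 4), v * v = 1 → v ≠ 1 → x * x * x = 1 → x * v ≠ v * x →
    ∃ c, c * v = v * c ∧ c * x * c⁻¹ ≠ x ∧ c * x * c⁻¹ ≠ x * x := by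
  set_option maxRecDepth 100000 in decide +kernel

theorem key_four_alt : ∀ v x : Equiv.Perm (Fin 4),
    (Equiv.Perm.sign v = 1 ∧ v * v = 1 ∧ v ≠ 1 ∧ x * x * x = 1 ∧ x ≠ 1) →
      v * x * v⁻¹ ≠ x ∧ v * x * v⁻¹ ≠ x * x := by
  set_option maxRecDepth 100000 in decide +kernel

theorem odd_dvd_four {n : ℕ} (hn : Odd n) (h : n ∣ 24) : n ∣ 3 :=
  Nat.Coprime.dvd_of_dvd_mul_left ((Nat.coprime_two_left.2 hn).pow_left 3).symm
    (show n ∣ 2 ^ 3 * 3 from h)

/-- An odd subgroup of a subgroup of `S₄`. -/
theorem four_step {B : Subgroup Y} (hB : Odd (Nat.card B)) {f : Y →* Equiv.Perm (Fin 4)}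
    (hf : Function.Injective f) : Nat.card B ∣ 3 ∧ ∀ x ∈ B, ∀ y ∈ B, x ≠ 1 → y = 1 ∨ y = x ∨ y = x * x := by
  have hd : Nat.card B ∣ 24 := by
    have h := card_subgroup_dvd_card (B.map f)
    rw [card_map_of_injective hf, Nat.card_perm, Nat.card_fin] at h
    exact h
  have h3 := odd_dvd_four hB hd
  refine ⟨h3, fun x hx y hy hx1 => ?_⟩
  by_contra hcon
  push Not at hcon
  classical
  haveI : Fintype B := Fintype.ofFinite _
  have hxx : x * x ≠ 1 := fun h => hx1 (eq_one_of_sq (odd_orderOf hB hx) h)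
  have hxxx : x ≠ x * x := fun h => hx1 (left_eq_mul.1 h)
  have h4 := (Finset.card_le_univ ({1, ⟨x, hx⟩, ⟨x * x, mul_mem hx hx⟩, ⟨y, hy⟩} : Finset B))
  rw [Finset.card_insert_of_notMem, Finset.card_insert_of_notMem, Finset.card_insert_of_notMem,
    Finset.card_singleton, ← Nat.card_eq_fintype_card] at h4
  · have := Nat.le_of_dvd (by norm_num) h3
    omega
  all_goals simp [Subtype.ext_iff, Ne.symm hx1, Ne.symm hxx, hxxx, Ne.symm hcon.1, Ne.symm hcon.2.1,
    Ne.symm hcon.2.2]

/-- Odd subgroups normalised by the centraliser of an involution commute with it. -/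
theorem centralizes_of_normalized (hY : Top Y) (P : Sylow 2 Y) {n : ℕ}
    (e : Nonempty ((P : Subgroup Y) ≃* DihedralGroup n)) {v : Y} (hv : orderOf v = 2)
    {B : Subgroup Y} (hB : Odd (Nat.card B))
    (hn : ∀ c, c * v = v * c → ∀ x ∈ B, c * x * c⁻¹ ∈ B) : ∀ x ∈ B, x * v = v * x := by
  obtain ⟨hv1, hvv⟩ : v ≠ 1 ∧ v * v = 1 := CfsgLib.Involutions.orderOf_eq_two_iff_mul.1 hv
  have hvi : v⁻¹ = v := inv_eq_of_mul_eq_one_right hvv
  have cube : ∀ {Z : Type} [Group Z] (f : Y →* Z), Nat.card B ∣ 3 → ∀ x ∈ B, f x * f x * f x = 1 := by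
    intro Z _ f h x hx
    rw [← map_mul, ← map_mul, ← pow_two, ← pow_succ,
      orderOf_dvd_iff_pow_eq_one.1 ((B.orderOf_dvd_natCard hx).trans h), map_one]
  rcases hY with h2 | ⟨⟨a⟩⟩ | ⟨⟨a⟩⟩ | ⟨L, hL, hC, ⟨F, i1, i2, hodd, h3, ⟨f⟩⟩ | ⟨⟨f⟩⟩⟩
  · intro x hx
    obtain ⟨k, hk⟩ := h2 x
    have : x = 1 := orderOf_eq_one_iff.1 (Nat.eq_one_of_dvd_coprimes
      ((Nat.coprime_two_left.2 (odd_orderOf hB hx)).pow_left k)
      (orderOf_dvd_of_pow_eq_one hk) dvd_rfl)
    simp [this]
  · let f : Y →* Equiv.Perm (Fin 4) := (alternatingGroup (Fin 4)).subtype.comp a.toMonoidHom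
    have hf : Function.Injective f := fun x y h => a.injective (Subtype.ext h)
    obtain ⟨h3', hsub⟩ := four_step hB hf
    intro x hx
    by_cases hx1 : x = 1
    · simp [hx1]
    have hk := key_four_alt (f v) (f x) ⟨Equiv.Perm.mem_alternatingGroup.1 (a v).2,
      by rw [← map_mul, hvv, map_one], fun h => hv1 (hf (h.trans (map_one f).symm)),
      cube f h3' x hx, fun h => hx1 (hf (h.trans (map_one f).symm))⟩
    rw [← map_inv, ← map_mul, ← map_mul, ← map_mul f x x, hf.ne_iff, hf.ne_iff] at hk
    rcases hsub x hx _ (hn v rfl x hx) hx1 with h | h | h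
    · exact absurd (conj_eq_one_iff.1 h) hx1
    · exact absurd h hk.1
    · exact absurd h hk.2
  · obtain ⟨h3', hsub⟩ := four_step hB (f := a.toMonoidHom) a.injective
    intro x hx
    by_cases hx1 : x = 1
    · simp [hx1]
    by_contra hne
    obtain ⟨c, hc, hc1, hc2⟩ := key_four (a v) (a x) (by rw [← map_mul, hvv, map_one])
      (fun h => hv1 (a.injective (h.trans (map_one a).symm)))
      (cube a.toMonoidHom h3' x hx) (fun h => hne (a.injective (by rw [map_mul, map_mul, h])))
    obtain ⟨d, rfl⟩ := a.surjective c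
    rw [← map_inv, ← map_mul, ← map_mul, a.injective.ne_iff] at hc1
    rw [← map_inv, ← map_mul, ← map_mul, ← map_mul, a.injective.ne_iff] at hc2
    rcases hsub x hx _ (hn d (a.injective (by rw [map_mul, map_mul, hc])) x hx) hx1 with h | h | h
    · exact absurd (conj_eq_one_iff.1 h) hx1
    · exact absurd h hc1
    · exact absurd h hc2
  · haveI := hL
    obtain ⟨E, -⟩ := exists_emb L hC hodd h3 f
    exact E.centralizes (noEight_of_dihedral P e) hv hB hn
  · haveI := hL
    have hN : NoEight Y := noEight_of_dihedral P e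
    -- `Y = L`
    obtain ⟨eY⟩ : Nonempty (Y ≃* alternatingGroup (Fin 7)) := by
      let φ : Y →* MulAut (alternatingGroup (Fin 7)) :=
        (MulAut.congr f).toMonoidHom.comp MulAut.conjNormal
      have hφ : Function.Injective φ := by
        rw [injective_iff_map_eq_one]
        intro g hg
        have hg' : (MulAut.conjNormal g : MulAut L) = 1 := by
          apply (MulAut.congr f).injective
          rw [map_one]
          exact hg
        have : g ∈ centralizer (L : Set Y) := by
          rw [mem_centralizer_iff]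
          intro x hx
          have h1 := congrArg Subtype.val (DFunLike.congr_fun hg' (⟨x, hx⟩ : L))
          rw [MulAut.conjNormal_apply] at h1
          exact (mul_inv_eq_iff_eq_mul.1 h1).symm
        rwa [hC, mem_bot] at this
      have hle := Nat.card_le_card_of_injective φ hφ
      rw [CfsgLib.DimThreeMax.card_mulAut_alt_seven] at hle
      have hc := L.card_mul_index
      rw [Nat.card_congr f.toEquiv, CfsgLib.DimThreeMax.card_alt_seven] at hc
      by_cases hidx : L.index = 1
      · rw [index_eq_one] at hidx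
        exact ⟨((MulEquiv.subgroupCongr hidx).trans topEquiv).symm.trans f⟩
      · exfalso
        have hne : L.index ≠ 0 := index_ne_zero_of_finite
        have h2' : Nat.card Y = 5040 := by omega
        let ψ : Y ≃* Equiv.Perm (Fin 7) :=
          (MulEquiv.ofBijective φ ((Nat.bijective_iff_injective_and_card φ).2
            ⟨hφ, by rw [h2', CfsgLib.DimThreeMax.card_mulAut_alt_seven]⟩)).trans
          (MulEquiv.ofBijective _ (Cfsg.Agent.S2119.result 7 (by norm_num) (by norm_num))).symm
        obtain ⟨e⟩ := e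
        haveI : NeZero n := ⟨fun h => by
          subst h
          haveI : Finite (DihedralGroup 0) := Finite.of_equiv _ e.toEquiv
          haveI : Finite ℤ :=
            (Finite.of_injective DihedralGroup.r fun a b h => by injection h : Finite (ZMod 0))
          exact not_finite ℤ⟩
        exact DihedralGenerated.not_perm_seven P e ψ
    let g : Y →* Equiv.Perm (Fin 7) := (alternatingGroup (Fin 7)).subtype.comp eY.toMonoidHom
    have hg : Function.Injective g := fun x y h => eY.injective (Subtype.ext h)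
    have hct : (g v).cycleType = ({2, 2} : Multiset ℕ) := by
      have h1 := CfsgLib.Mitchell.cycleType_even_seven _ (Equiv.Perm.mem_alternatingGroup.1 (eY v).2)
      have h2 : (g v).cycleType.lcm = 2 := by
        rw [Equiv.Perm.lcm_cycleType, orderOf_injective g hg, hv]
      simp only [List.mem_cons, List.not_mem_nil, or_false] at h1
      rw [show g v = ((eY v : alternatingGroup (Fin 7)) : Equiv.Perm (Fin 7)) from rfl] at h2 ⊢
      rcases h1 with h | h | h | h | h | h | h | h <;>
        first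
        | exact h
        | (rw [h] at h2; exact absurd h2 (by decide))
    set v₀ : Equiv.Perm (Fin 7) := Equiv.swap 0 1 * Equiv.swap 2 3 with hv₀
    set s₀ : Equiv.Perm (Fin 7) := Equiv.swap 0 2 * Equiv.swap 1 3 with hs₀
    obtain ⟨c, hc⟩ := isConj_iff.1 (Equiv.Perm.isConj_iff_cycleType_eq.2
      (hct.trans (show ({2, 2} : Multiset ℕ) = v₀.cycleType by decide +kernel)))
    obtain ⟨s, hs⟩ : ∃ s : Y, g s = c⁻¹ * s₀ * c := by
      refine ⟨eY.symm ⟨c⁻¹ * s₀ * c, ?_⟩, ?_⟩
      · rw [Equiv.Perm.mem_alternatingGroup, map_mul, map_mul, map_inv, hs₀]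
        simp
      · show ((eY (eY.symm _) : alternatingGroup (Fin 7)) : Equiv.Perm (Fin 7)) = _
        rw [eY.apply_symm_apply]
    have hgv : g v = c⁻¹ * v₀ * c := by rw [← hc]; group
    have back : ∀ {a b : Equiv.Perm (Fin 7)} {x y : Y}, g x = c⁻¹ * a * c → g y = c⁻¹ * b * c →
        (x * y = y * x ↔ a * b = b * a) := by
      intro a b x y hx hy
      rw [← hg.eq_iff, map_mul, map_mul, hx, hy]
      constructor
      · intro h
        have := congrArg (fun z => c * z * c⁻¹) h
        simpa [mul_assoc] using this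
      · intro h
        calc c⁻¹ * a * c * (c⁻¹ * b * c) = c⁻¹ * (a * b) * c := by group
          _ = _ := by rw [h]; group
    have hsv : s * v = v * s := (back hs hgv).2 (by decide +kernel)
    have hss : s * s = 1 := hg (by
      rw [map_mul, map_one, hs, show c⁻¹ * s₀ * c * (c⁻¹ * s₀ * c) = c⁻¹ * (s₀ * s₀) * c by group,
        show s₀ * s₀ = 1 by decide +kernel]; group)
    have hst : v * s * (v * s) = 1 := by
      rw [show v * s * (v * s) = v * (s * v) * s by group, hsv, ← mul_assoc v v s, hvv, one_mul, hss]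
    -- the fixed points of `s` and `v * s` are fixed by `v`
    have hodd3 : ∀ (w : Y) (w₀ : Equiv.Perm (Fin 7)), g w = c⁻¹ * w₀ * c →
        (∀ σ : Equiv.Perm (Fin 7), σ * σ * σ = 1 → σ * w₀ = w₀ * σ → σ * v₀ = v₀ * σ) →
        (∀ σ : Equiv.Perm (Fin 7), Odd (orderOf σ) → σ * w₀ = w₀ * σ → σ * σ * σ = 1) →
        ∀ x ∈ B, x * w = w * x → x * v = v * x := by
      intro w w₀ hw hk hcube x hx hxw
      have hx' : g x = c⁻¹ * (c * g x * c⁻¹) * c := by group
      refine (back hx' hgv).2 (hk _ (hcube _ ?_ ((back hx' hw).1 hxw)) ((back hx' hw).1 hxw))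
      rw [show c * g x * c⁻¹ = MulAut.conj c (g x) from rfl, MulEquiv.orderOf_eq,
        orderOf_injective g hg]
      exact odd_orderOf hB hx
    have key2 : ∀ σ : Equiv.Perm (Fin 7), σ * σ * σ = 1 → σ * (v₀ * s₀) = v₀ * s₀ * σ →
        σ * v₀ = v₀ * σ := by
      intro σ h3 h
      set d : Equiv.Perm (Fin 7) := Equiv.swap 2 3
      have hdv : d * v₀ * d⁻¹ = v₀ := by decide +kernel
      have hds : d * (v₀ * s₀) * d⁻¹ = s₀ := by decide +kernel
      have := key_seven (d * σ * d⁻¹)
        (by rw [show d * σ * d⁻¹ * (d * σ * d⁻¹) * (d * σ * d⁻¹) = d * (σ * σ * σ) * d⁻¹ by group,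
          h3]; group)
        (by
          rw [← hs₀, ← hds, show d * σ * d⁻¹ * (d * (v₀ * s₀) * d⁻¹) = d * (σ * (v₀ * s₀)) * d⁻¹ by
            group, h]
          group)
      rw [← hv₀, ← hdv] at this
      calc σ * v₀ = d⁻¹ * (d * σ * d⁻¹ * (d * v₀ * d⁻¹)) * d := by group
        _ = _ := by rw [this]; group
    have hcube : ∀ w₀ : Equiv.Perm (Fin 7), Nat.card (centralizer ({w₀} : Set (Equiv.Perm (Fin 7)))) ∣ 48 →
        ∀ σ : Equiv.Perm (Fin 7), Odd (orderOf σ) → σ * w₀ = w₀ * σ → σ * σ * σ = 1 := by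
      intro w₀ h48 σ hσ h
      have h1 := ((centralizer ({w₀} : Set (Equiv.Perm (Fin 7)))).orderOf_dvd_natCard
        (mem_centralizer_singleton_iff.2 h)).trans h48
      rw [← pow_two, ← pow_succ, ← orderOf_dvd_iff_pow_eq_one]
      exact Nat.Coprime.dvd_of_dvd_mul_left ((Nat.coprime_two_left.2 hσ).pow_left 4).symm
        (show _ ∣ 2 ^ 4 * 3 from h1)
    have h48 : ∀ w₀ : Equiv.Perm (Fin 7), w₀.cycleType = ({2, 2} : Multiset ℕ) →
        Nat.card (centralizer ({w₀} : Set (Equiv.Perm (Fin 7)))) ∣ 48 := by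
      intro w₀ hw
      rw [Equiv.Perm.nat_card_centralizer, hw]
      decide +kernel
    intro x hx
    have hmemB : ∀ {w : Y}, w * v = v * w → w⁻¹ = w → ∀ y ∈ B, w * y * w ∈ B := fun {w} hw hwi y hy => by
      have := hn w hw y hy
      rwa [hwi] at this
    set L' := centralizer ({v} : Set Y)
    suffices B ≤ L' from mem_centralizer_singleton_iff.1 (this hx)
    have tw : ∀ {w y : Y}, w * w = 1 → w * y * w = y → y * w = w * y := fun {w y} hw h => by
      calc y * w = w * y * w * w := by rw [h]
        _ = w * y := by rw [mul_assoc, hw, mul_one]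
    refine CfsgLib.RankOneInvol.le_of_fourGroup_fixed hB hvv hss hsv.symm
      (hmemB rfl hvi) (hmemB hsv (inv_eq_of_mul_eq_one_right hss))
      (fun y _ h => mem_centralizer_singleton_iff.2 (tw hvv h))
      (fun y hy h => mem_centralizer_singleton_iff.2 (hodd3 s s₀ hs key_seven
        (hcube _ (h48 _ (by decide +kernel))) y hy (tw hss h)))
      (fun y hy h => mem_centralizer_singleton_iff.2 (hodd3 (v * s) (v₀ * s₀)
        (by rw [map_mul, hgv, hs]; group) key2
        (hcube _ (h48 _ (by decide +kernel))) y hy (tw hst h)))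

end CfsgLib.GW.TopFacts
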