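import Cfsg.Agent.Lib.GW.Setup
import Cfsg.Agent.Lib.Components.FStar
import Cfsg.Agent.Lib.Techniques.QdElements
import Cfsg.Agent.Lib.LocalEvenSix.QdControl
import Cfsg.Agent.Lib.Solvable.Fitting
import Cfsg.Agent.S0664
import Cfsg.Agent.S1312

/-!
Gorenstein–Walter, Step 2: a maximal subgroup over `C(t)` whose Fitting subgroup is an `r`-group.
-/

set_option autoImplicit false
set_option linter.style.haveILetI false
set_option linter.unusedSectionVars false

namespace CfsgLib.GW.Uniq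

open Subgroup CfsgLib.DihProduct

universe u

variable {G : Type u} [Group G] [Finite G]

/-! ### No section is isomorphic to `Qd(p)` -/

/-- Two non-commuting linear elements of order four generating a quaternion group. -/
theorem exists_quaternion (p : ℕ) [hp : Fact p.Prime] (hp2 : p ≠ 2) :
    ∃ x y : Cfsg.qd p, x * x ≠ 1 ∧ y * y ≠ 1 ∧ x * y ≠ y * x ∧
      IsPGroup 2 (Subgroup.closure ({x, y} : Set (Cfsg.qd p))) := by
  obtain ⟨a, b, hab⟩ := ZMod.sq_add_sq p (-1 : ZMod p)
  let X : Matrix.SpecialLinearGroup (Fin 2) (ZMod p) := ⟨!![0, -1; 1, 0], by simp [Matrix.det_fin_two]⟩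
  let Y : Matrix.SpecialLinearGroup (Fin 2) (ZMod p) :=
    ⟨!![a, b; b, -a], by rw [Matrix.det_fin_two]; simp; linear_combination -hab⟩
  have h2 : (2 : ZMod p) ≠ 0 := by
    intro h
    have h' : ((2 : ℕ) : ZMod p) = 0 := by exact_mod_cast h
    rw [ZMod.natCast_eq_zero_iff] at h'
    exact hp2 ((Nat.prime_dvd_prime_iff_eq hp.out Nat.prime_two).1 h')
  have hXX : X * X = -1 := by
    apply Subtype.ext
    simp only [Matrix.SpecialLinearGroup.coe_mul, Matrix.SpecialLinearGroup.coe_neg, Matrix.SpecialLinearGroup.coe_one]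
    ext i j
    fin_cases i <;> fin_cases j <;> simp [X, Matrix.mul_apply, Fin.sum_univ_two]
  have hYY : Y * Y = -1 := by
    apply Subtype.ext
    simp only [Matrix.SpecialLinearGroup.coe_mul, Matrix.SpecialLinearGroup.coe_neg, Matrix.SpecialLinearGroup.coe_one]
    ext i j
    fin_cases i <;> fin_cases j <;> simp [Y, Matrix.mul_apply, Fin.sum_univ_two] <;>
      first | linear_combination hab | ring
  have hYX : Y * X = -1 * (X * Y) := by
    apply Subtype.ext
    simp only [Matrix.SpecialLinearGroup.coe_mul, Matrix.SpecialLinearGroup.coe_neg, Matrix.SpecialLinearGroup.coe_one]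
    ext i j
    fin_cases i <;> fin_cases j <;> simp [X, Y, Matrix.mul_apply, Fin.sum_univ_two]
  have hne : (-1 : Matrix.SpecialLinearGroup (Fin 2) (ZMod p)) ≠ 1 := by
    intro h
    have h' := congrFun (congrFun (congrArg Subtype.val h) 0) 0
    simp at h'
    exact h2 (by linear_combination -h')
  set ι := CfsgLib.Techniques.QdElements.linEmb (p := p)
  have hinj : Function.Injective ι := fun u w h => by
    rw [← CfsgLib.Techniques.QdElements.linPart_linEmb u, ← CfsgLib.Techniques.QdElements.linPart_linEmb w]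
    exact congrArg _ h
  haveI : Fact (Nat.Prime 2) := ⟨Nat.prime_two⟩
  have hX4 : (ι X) ^ 4 = 1 := by
    rw [← map_pow, show X ^ 4 = (X * X) * (X * X) by simp only [pow_succ, pow_zero, one_mul, mul_assoc], hXX, neg_one_mul, neg_neg, map_one]
  have hY4 : (ι Y) ^ 4 = 1 := by
    rw [← map_pow, show Y ^ 4 = (Y * Y) * (Y * Y) by simp only [pow_succ, pow_zero, one_mul, mul_assoc], hYY, neg_one_mul, neg_neg, map_one]
  refine ⟨ι X, ι Y, ?_, ?_, ?_, ?_⟩
  · rw [← map_mul, hXX, ← map_one ι]; exact hinj.ne hne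
  · rw [← map_mul, hYY, ← map_one ι]; exact hinj.ne hne
  · rw [← map_mul, ← map_mul]
    refine hinj.ne fun h => ?_
    rw [hYX] at h
    exact hne (mul_right_cancel (h.symm.trans (one_mul _).symm))
  · have hp2' : ∀ z : Cfsg.qd p, z ^ 4 = 1 → IsPGroup 2 (zpowers z) := fun z hz => by
      obtain ⟨e, -, he⟩ := (Nat.dvd_prime_pow Nat.prime_two).1
        (orderOf_dvd_of_pow_eq_one (x := z) (n := 2 ^ 2) (by simpa using hz))
      exact IsPGroup.of_card (n := e) (by rw [Nat.card_zpowers, he])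
    have hconj : ι Y * ι X * (ι Y)⁻¹ = (ι X)⁻¹ := by
      rw [← map_inv, ← map_inv, ← map_mul, ← map_mul]
      congr 1
      rw [hYX, eq_inv_iff_mul_eq_one, show -1 * (X * Y) * Y⁻¹ * X = -1 * (X * X) by group, hXX]
      rw [neg_one_mul, neg_neg]
    have hle : zpowers (ι Y) ≤ normalizer (zpowers (ι X) : Set (Cfsg.qd p)) := by
      rw [zpowers_le]
      refine mem_normalizer_iff_map_conj_eq.2 ?_
      rw [MonoidHom.map_zpowers]
      show zpowers (ι Y * ι X * (ι Y)⁻¹) = zpowers (ι X)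
      rw [hconj, zpowers_inv]
    refine (IsPGroup.to_sup_of_normal_right' (hp2' _ hY4) (hp2' _ hX4) hle).to_le ?_
    rw [Subgroup.closure_le]
    rintro w (rfl | rfl)
    · exact mem_sup_right (mem_zpowers _)
    · exact mem_sup_left (mem_zpowers _)

/-- A group with dihedral Sylow 2-subgroups does not involve `Qd(p)`. -/
theorem not_involves_qd (E : Setup G) (p : ℕ) [hp : Fact p.Prime] (hp2 : p ≠ 2) :
    ¬ Cfsg.Involves ↥(Cfsg.qd p) G := by
  rintro ⟨K, R, hR, ⟨e⟩⟩
  haveI : Fact (Nat.Prime 2) := ⟨Nat.prime_two⟩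
  obtain ⟨x, y, hx, hy, hxy, hQ⟩ := exists_quaternion p hp2
  set φ : K →* Cfsg.qd p := e.toMonoidHom.comp (QuotientGroup.mk' (R.subgroupOf K)) with hφ
  have hsurj : Function.Surjective φ := e.surjective.comp (QuotientGroup.mk'_surjective _)
  set Q := Subgroup.closure ({x, y} : Set (Cfsg.qd p)) with hQdef
  set K0 : Subgroup K := Q.comap φ with hK0
  set ψ : K0 →* Q := φ.subgroupComap Q with hψ
  have hψs : Function.Surjective ψ := MonoidHom.subgroupComap_surjective_of_surjective _ _ hsurj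
  set T : Sylow 2 K0 := default with hT
  set U := T.mapSurjective hψs with hU
  have hUtop : (U : Subgroup Q) = ⊤ :=
    (U.is_maximal' (
      hQ.of_equiv (Subgroup.topEquiv (G := Q)).symm) le_top).symm
  obtain ⟨n, hn⟩ := CfsgLib.Involutions.exists_conj_le_sylow
    ((T.2.map K0.subtype).map K.subtype) E.S
  have hlift : ∀ q : Q, ∃ k : K0, k ∈ (T : Subgroup K0) ∧ ψ k = q := by
    intro q
    have : q ∈ (U : Subgroup Q) := hUtop ▸ mem_top q
    rw [hU, Sylow.coe_mapSurjective] at this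
    exact this
  obtain ⟨kx, hkx, ex⟩ := hlift ⟨x, subset_closure (by simp)⟩
  obtain ⟨ky, hky, ey⟩ := hlift ⟨y, subset_closure (by simp)⟩
  set j : K0 →* G := K.subtype.comp K0.subtype with hj
  have key : ∀ k ∈ (T : Subgroup K0), n * j k * n⁻¹ ∈ (E.S : Subgroup G) := fun k hk =>
    hn _ (mem_map_of_mem _ (mem_map_of_mem _ hk))
  have hsq : ∀ k ∈ (T : Subgroup K0), ψ k * ψ k ≠ 1 → n * j k * n⁻¹ ∈ zpowers E.d.r := by
    intro k hk hne
    by_contra h
    refine hne ?_
    have h1 := E.d.refl_sq (key k hk) h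
    have h2 : k * k = 1 := by
      apply K.subtype_injective.comp K0.subtype_injective
      show j (k * k) = j 1
      rw [map_one, map_mul]
      calc j k * j k = n⁻¹ * (n * j k * n⁻¹ * (n * j k * n⁻¹)) * n := by group
        _ = 1 := by rw [h1]; group
    rw [← map_mul, h2, map_one]
  have hk := E.d.rot_comm (hsq kx hkx (fun h => hx (by rw [ex] at h; exact congrArg Subtype.val h)))
    (hsq ky hky (fun h => hy (by rw [ey] at h; exact congrArg Subtype.val h)))
  refine hxy ?_
  have h2 : kx * ky = ky * kx := by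
    apply K.subtype_injective.comp K0.subtype_injective
    show j (kx * ky) = j (ky * kx)
    rw [map_mul, map_mul]
    calc j kx * j ky = n⁻¹ * (n * j kx * n⁻¹ * (n * j ky * n⁻¹)) * n := by group
      _ = j ky * j kx := by rw [hk]; group
  have h3 := congrArg (fun k => (ψ k : Cfsg.qd p)) h2
  simpa [map_mul, ex, ey] using h3

/-! ### Lemmas on involutions acting on subgroups -/

/-- An involution normalising a subgroup of even order centralises an even part of it. -/
theorem two_dvd_card_inf_centralizer {C : Subgroup G} {v : G} (hv : v * v = 1)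
    (hn : ∀ c ∈ C, v * c * v ∈ C) (h2 : 2 ∣ Nat.card C) :
    2 ∣ Nat.card (C ⊓ centralizer ({v} : Set G) : Subgroup G) := by
  classical
  haveI : Fintype C := Fintype.ofFinite C
  let f : Equiv.Perm C :=
    { toFun := fun c => ⟨v * c * v, hn c c.2⟩
      invFun := fun c => ⟨v * c * v, hn c c.2⟩
      left_inv := fun c => Subtype.ext (by
        show v * (v * c * v) * v = c
        rw [← mul_assoc, ← mul_assoc, hv, one_mul, mul_assoc, hv, mul_one])
      right_inv := fun c => Subtype.ext (by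
        show v * (v * c * v) * v = c
        rw [← mul_assoc, ← mul_assoc, hv, one_mul, mul_assoc, hv, mul_one]) }
  haveI : Fact (Nat.Prime 2) := ⟨Nat.prime_two⟩
  have hf : f ^ 2 ^ 1 = 1 := by
    ext c
    simp only [pow_one, pow_two, Equiv.Perm.coe_mul, Function.comp_apply, Equiv.Perm.coe_one, id_eq]
    exact Subtype.ext_iff.1 (f.left_inv c)
  have h1 := Equiv.Perm.card_compl_support_modEq (p := 2) (n := 1) hf
  have h3 : Nat.card (C ⊓ centralizer ({v} : Set G) : Subgroup G) = f.supportᶜ.card := by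
    rw [← Nat.card_eq_finsetCard]
    refine Nat.card_congr
      { toFun := fun c => ⟨⟨c, c.2.1⟩, ?_⟩
        invFun := fun c => ⟨c.1, c.1.2, ?_⟩
        left_inv := fun c => rfl
        right_inv := fun c => rfl }
    · simp only [Finset.mem_compl, Equiv.Perm.mem_support, not_not]
      refine Subtype.ext ?_
      show v * c * v = c
      rw [← mem_centralizer_singleton_iff.1 c.2.2, mul_assoc, hv, mul_one]
    · have hc := c.2
      simp only [Finset.mem_compl, Equiv.Perm.mem_support, not_not] at hc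
      have h : v * (c.1 : G) * v = c.1 := congrArg Subtype.val hc
      refine mem_centralizer_singleton_iff.2 ?_
      calc (c.1 : G) * v = v * c.1 * v * v := by rw [h]
        _ = v * c.1 := by rw [mul_assoc, hv, mul_one]
  rw [h3]
  exact Nat.modEq_zero_iff_dvd.1 (h1.trans (Nat.modEq_zero_iff_dvd.2 (by
    rwa [← Nat.card_eq_fintype_card])))

/-- A coset fixed by an involution contains a fixed element. -/
theorem exists_fixed_coset_rep {M X : Subgroup G} {v c : G} (hX : Odd (Nat.card X)) (hv : v * v = 1)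
    (hn : ∀ x ∈ X, v * x * v ∈ X) (hc : c ∈ X) (hfix : c⁻¹ * (v * c * v) ∈ M) :
    ∃ y ∈ X, v * y * v = y ∧ y⁻¹ * c ∈ M := by
  obtain ⟨y, z, hy, hyv, hz, hzv, rfl⟩ :=
    CfsgLib.RankOneInvol.exists_fixed_mul_inverted hX hv hn hc
  refine ⟨y, hy, hyv, ?_⟩
  have h1 : z⁻¹ * z⁻¹ ∈ M := by
    have e : (y * z)⁻¹ * (v * (y * z) * v) = z⁻¹ * z⁻¹ := by
      have : v * (y * z) * v = (v * y * v) * (v * z * v) := by
        calc v * (y * z) * v = v * y * (v * v) * z * v := by rw [hv, mul_one]; group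
          _ = _ := by group
      rw [this, hyv, hzv]; group
    rwa [e] at hfix
  obtain ⟨k, hk⟩ := CfsgLib.RankOneInvol.exists_pow_sq_eq
    (CfsgLib.RankOneInvol.odd_orderOf_of_mem hX (inv_mem hz))
  have h2 : z⁻¹ ∈ M := by
    rw [← hk, ← (Commute.refl z⁻¹).mul_pow]
    exact pow_mem h1 k
  rw [inv_mul_cancel_left]
  simpa using inv_mem h2

variable (E : Setup G)

/-- If `t` normalises an odd subgroup and fixes the conjugate of `M ≥ C(t)` by one of its elements,
that element lies in `M`. -/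
theorem mem_of_odd {M : Subgroup G} (hHM : E.H ≤ M) {O : Subgroup G} (hO : Odd (Nat.card O))
    (hnt : ∀ x ∈ O, E.t * x * E.t ∈ O) {c : G} (hc : c ∈ O) (htc : E.t ∈ conjBy M c) : c ∈ M := by
  have htM : E.t ∈ M := hHM (E.S_le_H E.t_mem_S)
  have hfix : c⁻¹ * (E.t * c * E.t) ∈ M := by
    rw [show c⁻¹ * (E.t * c * E.t) = c⁻¹ * E.t * c * E.t by group]
    exact mul_mem (mem_conjBy.1 htc) htM
  obtain ⟨y, -, hyt, hyc⟩ := exists_fixed_coset_rep hO E.t_sq hnt hc hfix
  have hyH : y ∈ E.H := E.mem_H.2 (by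
    calc y * E.t = E.t * y * E.t * E.t := by rw [hyt]
      _ = E.t * y := by rw [mul_assoc, E.t_sq, mul_one])
  simpa using mul_mem (hHM hyH) hyc

/-- The odd part of a subgroup of order twice an odd number containing the involution `b`. -/
theorem exists_odd_part {C : Subgroup G} {b : G} (hb : b * b = 1) (hb1 : b ≠ 1) (hbC : b ∈ C)
    (h4 : ¬ 4 ∣ Nat.card C) :
    ∃ O : Subgroup G, Odd (Nat.card O) ∧ (∀ x, x ∈ O ↔ x ∈ C ∧ Odd (orderOf x)) ∧
      ∀ x ∈ C, x ∈ O ∨ x * b ∈ O := by
  haveI : Fact (Nat.Prime 2) := ⟨Nat.prime_two⟩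
  have hob : orderOf (⟨b, hbC⟩ : C) = 2 :=
    CfsgLib.Involutions.orderOf_eq_two_iff_mul.2
      ⟨fun h => hb1 (congrArg Subtype.val h), Subtype.ext hb⟩
  have h2 : 2 ∣ Nat.card C := hob ▸ orderOf_dvd_natCard _
  set P : Sylow 2 C := default with hP
  have hPc : Nat.card (P : Subgroup C) = 2 := by
    rw [Sylow.card_eq_multiplicity]
    have h1 : (Nat.card C).factorization 2 = 1 := by
      have hne : Nat.card C ≠ 0 := Nat.card_pos.ne'
      have h1 : 1 ≤ (Nat.card C).factorization 2 :=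
        (Nat.Prime.pow_dvd_iff_le_factorization Nat.prime_two hne).1 (by simpa using h2)
      have h3 : (Nat.card C).factorization 2 < 2 := by
        by_contra h
        exact h4 ((Nat.Prime.pow_dvd_iff_le_factorization Nat.prime_two hne).2 (by omega : 2 ≤ _))
      omega
    rw [h1, pow_one]
  haveI hcyc : IsCyclic (P : Subgroup C) := isCyclic_of_prime_card hPc
  have hmin : (Nat.card C).minFac = 2 := (Nat.minFac_eq_two_iff _).2 h2
  have hN := IsCyclic.normalizer_le_centralizer hmin (P := P) hcyc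
  have hK := MonoidHom.ker_transferSylow_isComplement' P hN
  set K : Subgroup C := (MonoidHom.transferSylow P hN).ker with hKdef
  have hKi : K.index = 2 := by rw [hK.symm.index_eq_card, hPc]
  have hKodd : Odd (Nat.card K) := by
    rw [Nat.odd_iff]
    by_contra h
    have h3 : 2 ∣ Nat.card K := by omega
    refine h4 ?_
    rw [← K.card_mul_index, hKi]
    obtain ⟨l, hl⟩ := h3
    exact ⟨l, by omega⟩
  have hmem : ∀ x : C, x ∈ K ↔ Odd (orderOf x) := by
    intro x
    refine ⟨fun hx => CfsgLib.RankOneInvol.odd_orderOf_of_mem hKodd hx, fun hx => ?_⟩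
    obtain ⟨j, hj⟩ := CfsgLib.RankOneInvol.exists_pow_sq_eq hx
    rw [← hj]
    exact Subgroup.mul_self_mem_of_index_two hKi _
  refine ⟨K.map C.subtype, by rwa [card_map_of_injective C.subtype_injective], fun x => ?_, fun x hx => ?_⟩
  · constructor
    · rintro ⟨y, hy, rfl⟩
      exact ⟨y.2, by rw [C.coe_subtype, Subgroup.orderOf_coe]; exact (hmem y).1 hy⟩
    · rintro ⟨hxC, hx⟩
      exact ⟨⟨x, hxC⟩, (hmem _).2 (by rwa [Subgroup.orderOf_mk]), rfl⟩
  · by_cases h : (⟨x, hx⟩ : C) ∈ K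
    · exact Or.inl ⟨_, h, rfl⟩
    · refine Or.inr ⟨⟨x, hx⟩ * ⟨b, hbC⟩, ?_, rfl⟩
      rw [SetLike.mem_coe, Subgroup.mul_mem_iff_of_index_two hKi]
      refine iff_of_false h fun h' => ?_
      have h5 := (hmem _).1 h'
      rw [hob] at h5
      exact absurd h5 (by decide)

/-- A subgroup of order divisible by four, normalised by a four-group Sylow subgroup, contains it. -/
theorem t_mem_of_four_dvd {b : G} (hb : E.Refl b) (hk : E.d.k = 0) {C : Subgroup G}
    (hCt : ∀ c ∈ C, E.t * c * E.t ∈ C) (hCb : ∀ c ∈ C, b * c * b ∈ C) (h4 : 4 ∣ Nat.card C) :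
    E.t ∈ C := by
  haveI : Fact (Nat.Prime 2) := ⟨Nat.prime_two⟩
  set N := normalizer (C : Set G) with hN
  have hmem : ∀ v : G, v * v = 1 → (∀ c ∈ C, v * c * v ∈ C) → v ∈ N := fun v hv h => by
    have hvi : v⁻¹ = v := inv_eq_of_mul_eq_one_right hv
    refine mem_normalizer_iff.2 fun c => ?_
    rw [hvi]
    refine ⟨h c, fun hc => ?_⟩
    have h1 := h _ hc
    rwa [← mul_assoc, ← mul_assoc, hv, one_mul, mul_assoc, hv, mul_one] at h1
  have hSN : (E.S : Subgroup G) ≤ N := by
    intro s hs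
    rcases hb.cases_of_commute hs (E.d.comm_of_four hk hs hb.1) with rfl | rfl | rfl | rfl
    · exact one_mem _
    · exact hmem _ E.t_sq hCt
    · exact hmem _ hb.sq hCb
    · exact mul_mem (hmem _ hb.sq hCb) (hmem _ E.t_sq hCt)
  obtain ⟨T, hT⟩ := Sylow.exists_subgroup_card_pow_prime (G := C) 2 (n := 2) (by simpa using h4)
  have hTp : IsPGroup 2 ((T.map C.subtype).subgroupOf N) := by
    refine IsPGroup.of_card (n := 2) ?_
    rw [Nat.card_congr (subgroupOfEquivOfLe ((map_subtype_le T).trans le_normalizer)).toEquiv,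
      card_map_of_injective C.subtype_injective, hT]
  obtain ⟨n, hn⟩ := CfsgLib.Involutions.exists_conj_le_sylow hTp (E.S.subtype hSN)
  set T' := T.map ((MulAut.conj (n : G)).toMonoidHom.comp C.subtype) with hT'
  have hT'S : T' ≤ (E.S : Subgroup G) := by
    rintro _ ⟨y, hy, rfl⟩
    have := hn ⟨(y : G), le_normalizer y.2⟩ (mem_subgroupOf.2 (mem_map_of_mem _ hy))
    exact mem_subgroupOf.1 this
  have hT'C : T' ≤ C := by
    rintro _ ⟨y, -, rfl⟩
    exact (mem_normalizer_iff.1 n.2 _).1 y.2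
  have heq : T' = (E.S : Subgroup G) := by
    refine eq_of_le_of_card_ge hT'S ?_
    rw [E.card_S, hk, card_map_of_injective ((MulAut.conj (n : G)).injective.comp C.subtype_injective),
      hT]
  exact hT'C (heq ▸ E.t_mem_S)

/-- Step 2, single prime: an element of `O_r(M)` centralised by `b` is centralised by `t`. -/
theorem commute_single (E : Setup G) {M : Subgroup G} (hM : IsCoatom M) (hHM : E.H ≤ M) {b : G}
    (hb : E.Refl b) (hfb : ∀ g ∈ M, g * E.t * g⁻¹ ≠ b)
    (hfbt : ∀ g ∈ M, g * E.t * g⁻¹ ≠ b * E.t) (hO2 : Cfsg.pCore 2 ↥M = ⊥)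
    (hlayer : Cfsg.layer ↥M = ⊥) {r : ℕ} (hr : r.Prime)
    (hone : ∀ q : ℕ, q.Prime → q ∣ Nat.card (Cfsg.fittingSubgroup ↥M) → q = r) {a : G}
    (ha : a ∈ Cfsg.Agent.S1312.coreIn r M) (hab : a * b = b * a) : a * E.t = E.t * a := by
  classical
  haveI := Fact.mk hr
  rcases eq_or_ne a 1 with rfl | ha1
  · rw [one_mul, mul_one]
  have hr2 : r ≠ 2 := by
    rintro rfl
    rw [Cfsg.Agent.S1312.coreIn, hO2, Subgroup.map_bot, mem_bot] at ha
    exact ha1 ha
  set R : Subgroup G := Cfsg.Agent.S1312.coreIn r M with hRdef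
  have hRM : R ≤ M := Cfsg.Agent.S1312.coreIn_le r M
  have hRn : ∀ m ∈ M, ∀ x ∈ R, m * x * m⁻¹ ∈ R := by
    rintro m hm _ ⟨y, hy, rfl⟩
    exact ⟨⟨m, hm⟩ * y * ⟨m, hm⟩⁻¹, (Cfsg.pCore_normal r M).conj_mem y hy _, rfl⟩
  -- `C_M(R) ≤ R`
  have hF : Cfsg.fittingSubgroup ↥M ≤ Cfsg.pCore r ↥M := by
    rw [CfsgLib.Fitting.fitting_eq_iSup_pCore]
    refine iSup_le fun q => ?_
    have hq := Nat.prime_of_mem_primeFactors q.2
    haveI := Fact.mk hq
    by_cases h : (q : ℕ) = r
    · rw [h]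
    · refine le_of_eq_of_le ?_ bot_le
      by_contra hne
      refine h (hone q hq ?_)
      obtain ⟨n, hn⟩ := IsPGroup.iff_card.1 (CfsgLib.PCore.pCore_isPGroup (p := (q : ℕ)) (G := ↥M))
      have hn0 : n ≠ 0 := by
        rintro rfl
        exact hne ((card_eq_one).1 (by simpa using hn))
      exact ((dvd_pow_self _ hn0).trans (hn ▸ dvd_rfl)).trans
        (card_dvd_of_le (CfsgLib.Fitting.pCore_le_fitting hq))
  have hFs : Cfsg.generalizedFittingSubgroup ↥M = Cfsg.pCore r ↥M := by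
    rw [Cfsg.generalizedFittingSubgroup, hlayer, bot_sup_eq]
    exact le_antisymm hF (CfsgLib.Fitting.pCore_le_fitting hr)
  have hc : centralizer (Cfsg.pCore r ↥M : Set ↥M) ≤ Cfsg.pCore r ↥M := by
    rw [← hFs]
    exact CfsgLib.Components.centralizer_generalizedFitting_le
  -- `M = N(ZJ(P))`
  have hqd := not_involves_qd E r hr2
  have hqdM : ¬ Cfsg.Involves ↥(Cfsg.qd r) ↥M :=
    CfsgLib.LocalEvenSix.QdStable.not_involves_subgroup hqd M
  set P0 : Sylow r ↥M := default with hP0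
  set Z : Subgroup G := CfsgLib.PLocal.zj 0 ((P0 : Subgroup ↥M).map M.subtype) with hZdef
  have hZmap : Z = (CfsgLib.PLocal.zj 0 (P0 : Subgroup ↥M)).map M.subtype :=
    CfsgLib.PLocal.zj_map M.subtype_injective _
  have hZn : (CfsgLib.PLocal.zj 0 (P0 : Subgroup ↥M)).Normal := by
    have := Cfsg.Agent.S0664.result hr2 (fun ⟨K, R', hR', h⟩ => hqdM ⟨K, R', hR', h⟩) hc P0
    rwa [CfsgLib.PLocal.centerThompsonAOf_eq, ← CfsgLib.PLocal.zj_zero] at this
  have hRP0 : Cfsg.pCore r ↥M ≤ (P0 : Subgroup ↥M) := CfsgLib.PCore.pCore_le_sylow P0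
  have hRP : R ≤ (P0 : Subgroup ↥M).map M.subtype := map_mono hRP0
  have hP0ne : (P0 : Subgroup ↥M) ≠ ⊥ := fun h => by
    obtain ⟨y, hy, rfl⟩ := ha
    have := hRP0 hy
    rw [h, mem_bot] at this
    exact ha1 (by rw [this]; rfl)
  have hZne : Z ≠ ⊥ := by
    rw [hZmap, Ne, map_eq_bot_iff_of_injective _ M.subtype_injective, CfsgLib.PLocal.zj_zero]
    exact CfsgLib.PLocal.centerJ_zero_ne_bot P0.2 hP0ne
  have hMN : M ≤ normalizer (Z : Set G) := by
    rw [hZmap]
    haveI := hZn
    exact Cfsg.Agent.S1312.le_normalizer_map _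
  have hNne : normalizer (Z : Set G) ≠ ⊤ := by
    intro h
    rcases E.eq_bot_or_top (normalizer_eq_top_iff.1 h) with h1 | h1
    · exact hZne h1
    · refine hM.1 (top_le_iff.1 (h1 ▸ ?_))
      rw [hZmap]
      exact map_subtype_le _
  have hMeq : normalizer (Z : Set G) = M :=
    ((hM.le_iff.1 hMN).resolve_left hNne)
  -- `P` is a Sylow subgroup of `G`
  obtain ⟨P, hPle⟩ := (P0.2.map M.subtype).exists_le_sylow
  have hP : (P : Subgroup G) = (P0 : Subgroup ↥M).map M.subtype := by
    refine le_antisymm ?_ hPle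
    by_contra hnot
    have hlt := lt_of_le_not_ge hPle hnot
    have hnil : Group.IsNilpotent (P : Subgroup G) := P.2.isNilpotent
    set A := ((P0 : Subgroup ↥M).map M.subtype).subgroupOf (P : Subgroup G) with hA
    have hAtop : A ≠ ⊤ := fun h => hnot (subgroupOf_eq_top.1 h)
    have hNA := (Group.normalizerCondition_of_isNilpotent : NormalizerCondition (P : Subgroup G)) A (lt_top_iff_ne_top.2 hAtop)
    obtain ⟨x, hx, hxA⟩ := SetLike.exists_of_lt hNA
    have hxN : (x : G) ∈ normalizer (((P0 : Subgroup ↥M).map M.subtype : Subgroup G) : Set G) := by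
      rw [mem_normalizer_iff]
      intro y
      constructor
      · intro hy
        have := (mem_normalizer_iff.1 hx ⟨y, hPle hy⟩).1 (mem_subgroupOf.2 hy)
        exact mem_subgroupOf.1 this
      · intro hy
        have hyP : y ∈ (P : Subgroup G) := by
          have := mul_mem (mul_mem (inv_mem x.2) (hPle hy)) x.2
          simpa [mul_assoc] using this
        have := (mem_normalizer_iff.1 hx ⟨y, hyP⟩).2 (mem_subgroupOf.2 hy)
        exact mem_subgroupOf.1 this
    have hxM : (x : G) ∈ M := hMeq ▸ CfsgLib.PLocal.normalizer_le_normalizer_zj 0 _ hxN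
    refine hxA (mem_subgroupOf.2 ?_)
    have hp : IsPGroup r ((P : Subgroup G).subgroupOf M) := P.2.comap_subtype
    have heq := P0.is_maximal' hp (fun y hy => mem_subgroupOf.2 (hPle (mem_map_of_mem _ hy)))
    exact ⟨⟨x, hxM⟩, heq ▸ mem_subgroupOf.2 x.2, rfl⟩
  -- fusion
  have hfus : ∀ D : Subgroup G, D ≤ (P : Subgroup G) → ∀ x : G,
      (∀ d ∈ D, x * d * x⁻¹ ∈ (P : Subgroup G)) →
      ∃ n ∈ M, ∀ d ∈ D, x * d * x⁻¹ = n * d * n⁻¹ := by
    intro D hD x hx
    obtain ⟨n, hn, h⟩ := CfsgLib.LocalEvenSix.QdControl.ctrl_of_not_involves (e := 0) hr2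
      (Or.inl rfl) hqd P (P : Subgroup G) ⟨le_rfl, fun _ _ _ h => h⟩ D hD x
      (by rintro _ ⟨d, hd, rfl⟩; exact hx d hd)
    refine ⟨n, ?_, h⟩
    rwa [hP, ← hZdef, hMeq] at hn
  have hclosed : ∀ x ∈ R, ∀ y : G, y * x * y⁻¹ ∈ M → y * x * y⁻¹ ∈ R := by
    intro x hx y hy
    obtain ⟨k, hk⟩ := P.2 ⟨x, hP ▸ hRP hx⟩
    have hxk : x ^ r ^ k = 1 := congrArg Subtype.val hk
    have hp : IsPGroup r (zpowers (⟨y * x * y⁻¹, hy⟩ : M)) := by
      obtain ⟨e, -, he⟩ := (Nat.dvd_prime_pow hr).1 (orderOf_dvd_of_pow_eq_one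
        (x := (⟨y * x * y⁻¹, hy⟩ : M)) (n := r ^ k)
        (Subtype.ext (by simp [hxk])))
      exact IsPGroup.of_card (n := e) (by rw [Nat.card_zpowers, he])
    obtain ⟨m, hm⟩ := CfsgLib.Involutions.exists_conj_le_sylow hp P0
    have h1 : (m : G) * (y * x * y⁻¹) * (m : G)⁻¹ ∈ (P : Subgroup G) := by
      rw [hP]
      exact ⟨_, hm _ (mem_zpowers _), rfl⟩
    obtain ⟨n, hn, h⟩ := hfus (zpowers x) (zpowers_le.2 (hP ▸ hRP hx)) ((m : G) * y) (by
      rintro _ ⟨i, rfl⟩
      rw [← MulAut.conj_apply, map_zpow, MulAut.conj_apply]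
      refine zpow_mem ?_ i
      simpa [mul_assoc] using h1)
    have h2 := hRn n hn x hx
    rw [← h x (mem_zpowers x)] at h2
    have h3 := hRn (m : G)⁻¹ (inv_mem m.2) _ h2
    simpa [mul_assoc] using h3
  -- the conjugate of `M` over `C(b)`
  obtain ⟨g, hgt, hgb, hgbt⟩ := hb.exists_rot
  have hgM : g ∉ M := fun h => hfb g h hgt
  have hCb : centralizer ({b} : Set G) ≤ conjBy M g := hgt ▸ E.centralizer_le_conjBy hHM g
  have hbM : b ∈ M := hHM hb.mem_H
  have htM : E.t ∈ M := hHM (E.S_le_H E.t_mem_S)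
  set D : Subgroup G := R ⊓ conjBy R g with hDdef
  have hD : ∀ x, x ∈ D ↔ x ∈ R ∧ g⁻¹ * x * g ∈ R := fun x => by
    rw [hDdef, mem_inf, mem_conjBy]
  have haD : a ∈ D := by
    refine (hD a).2 ⟨ha, ?_⟩
    have h1 := mem_conjBy.1 (hCb (mem_centralizer_singleton_iff.2 hab))
    have h2 := hclosed a ha g⁻¹ (by simpa using h1)
    simpa using h2
  set C : Subgroup G := centralizer (D : Set G) with hCdef
  have hnorm : ∀ v : G, v ∈ M → v ∈ conjBy M g → ∀ x ∈ D, v * x * v⁻¹ ∈ D := by
    intro v hv hv' x hx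
    obtain ⟨h1, h2⟩ := (hD x).1 hx
    refine (hD _).2 ⟨hRn v hv x h1, ?_⟩
    have := hRn _ (mem_conjBy.1 hv') _ h2
    simpa [mul_assoc] using this
  have htM' : E.t ∈ conjBy M g := hCb (mem_centralizer_singleton_iff.2 hb.comm.symm)
  have hbM' : b ∈ conjBy M g := hCb (mem_centralizer_singleton_iff.2 rfl)
  have hCn : ∀ v : G, (∀ x ∈ D, v * x * v⁻¹ ∈ D) → ∀ c ∈ C, v⁻¹ * c * v ∈ C := by
    intro v hv c hc
    refine mem_centralizer_iff.2 fun x hx => ?_
    have h := mem_centralizer_iff.1 hc _ (hv x hx)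
    calc x * (v⁻¹ * c * v) = v⁻¹ * (v * x * v⁻¹ * c) * v := by group
      _ = v⁻¹ * (c * (v * x * v⁻¹)) * v := by rw [h]
      _ = v⁻¹ * c * v * x := by group
  have hCt : ∀ c ∈ C, E.t * c * E.t ∈ C := fun c hc => by
    simpa [E.t_inv] using hCn _ (hnorm _ htM htM') c hc
  have hCbn : ∀ c ∈ C, b * c * b ∈ C := fun c hc => by
    simpa [hb.inv] using hCn _ (hnorm _ hbM hbM') c hc
  -- some element of `C` moves `M` to the conjugate over `C(b)`
  obtain ⟨c, hcC, hcM⟩ : ∃ c ∈ C, conjBy M c = conjBy M g := by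
    obtain ⟨n, hn, h⟩ := hfus D (fun x hx => hP ▸ hRP ((hD x).1 hx).1) g⁻¹ (fun x hx => by
      rw [inv_inv, hP]
      exact hRP ((hD x).1 hx).2)
    refine ⟨g * n, mem_centralizer_iff.2 fun x hx => ?_, ?_⟩
    · have h' := h x hx
      rw [inv_inv] at h'
      calc x * (g * n) = g * (g⁻¹ * x * g) * n := by group
        _ = g * (n * x * n⁻¹) * n := by rw [h']
        _ = g * n * x := by group
    · rw [← conjBy_mul, conjBy_of_mem hn]
  have htc : E.t ∈ conjBy M c := hcM ▸ htM'
  have hcnot : c ∉ M := by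
    intro hc
    rw [conjBy_of_mem hc] at hcM
    have hgn : g ∈ normalizer (M : Set G) :=
      mem_normalizer_iff.2 fun y => by
        have e : g * y * g⁻¹ ∈ conjBy M g ↔ y ∈ M := by
          rw [mem_conjBy, show g⁻¹ * (g * y * g⁻¹) * g = y by group]
        rw [← hcM] at e
        exact e.symm
    rcases hM.le_iff.1 (le_normalizer (H := M)) with h | h
    · rcases E.eq_bot_or_top (normalizer_eq_top_iff.1 h) with h1 | h1
      · exact E.t_ne_one (mem_bot.1 (h1 ▸ htM))
      · exact hM.1 h1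
    · exact hgM (h ▸ hgn)
  have h2C : 2 ∣ Nat.card C := by
    by_contra h
    exact hcnot (mem_of_odd E hHM (Nat.odd_iff.2 (Nat.two_dvd_ne_zero.1 h)) hCt hcC htc)
  -- an involution of the four-group centralises `D`
  obtain ⟨w, hwC, hw1, hwcases⟩ :
      ∃ w ∈ C, w ≠ 1 ∧ (w = E.t ∨ w = b ∨ w = b * E.t) := by
    haveI : Fact (Nat.Prime 2) := ⟨Nat.prime_two⟩
    have h1 := two_dvd_card_inf_centralizer E.t_sq hCt h2C
    have hn' : ∀ x ∈ C ⊓ centralizer ({E.t} : Set G), b * x * b ∈ C ⊓ centralizer ({E.t} : Set G) :=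
      fun x hx => ⟨hCbn x hx.1, mul_mem (mul_mem hb.mem_H hx.2) hb.mem_H⟩
    have h2 := two_dvd_card_inf_centralizer hb.sq hn' h1
    obtain ⟨w, hw⟩ := exists_prime_orderOf_dvd_card' 2 h2
    rw [← Subgroup.orderOf_coe] at hw
    obtain ⟨hw1, hww⟩ := CfsgLib.Involutions.orderOf_eq_two_iff_mul.1 hw
    obtain ⟨⟨hwC, hwt⟩, hwb⟩ := w.2
    refine ⟨(w : G), hwC, hw1, ?_⟩
    obtain ⟨v, hv, y, hy, e⟩ :=
      hb.exists_eq_mul (mem_centralizer_singleton_iff.1 hwt) (mem_centralizer_singleton_iff.1 hwb)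
    obtain ⟨hy1, hy2, hy3⟩ := hb.mem_X.1 hy
    have hvy : Commute v y := by
      rcases hv with rfl | rfl | rfl | rfl
      · exact Commute.one_left _
      · exact hy1.symm
      · exact hy2.symm
      · exact ((show Commute y b from hy2).mul_right hy1).symm
    have hvv : v * v = 1 := by
      rcases hv with rfl | rfl | rfl | rfl
      · exact one_mul 1
      · exact E.t_sq
      · exact hb.sq
      · exact hb.mul_t.sq
    have hyy : y * y = 1 := by
      have e2 : v * y * (v * y) = v * v * (y * y) := by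
        rw [mul_assoc v y, ← mul_assoc y v y, ← hvy.eq]; group
      rw [e, e2, hvv, one_mul] at hww
      exact hww
    rw [CfsgLib.RankOneInvol.eq_one_of_sq_of_odd hy3 hyy, mul_one] at e
    rcases hv with rfl | h
    · exact absurd e hw1
    · exact e ▸ h
  have hcomm : ∀ v ∈ C, a * v = v * a := fun v hv => mem_centralizer_iff.1 hv a haD
  rcases hwcases with hw | hw | hw <;> rw [hw] at hwC
  · exact hcomm _ hwC
  swap
  · have h1 : Commute a (b * (b * E.t)) :=
      (show Commute a b from hab).mul_right (hcomm _ hwC)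
    rwa [← mul_assoc, hb.sq, one_mul] at h1
  · -- `b` centralises `D`
    rcases Nat.eq_zero_or_pos E.d.k with hk | hk
    · by_cases h4 : 4 ∣ Nat.card C
      · have ht : E.t ∈ C := t_mem_of_four_dvd E hb hk hCt hCbn h4
        exact hcomm _ ht
      · obtain ⟨O, hOodd, hOmem, hOcov⟩ := exists_odd_part hb.sq hb.ne_one hwC h4
        have hOt : ∀ x ∈ O, E.t * x * E.t ∈ O := fun x hx => by
          obtain ⟨h1, h2⟩ := (hOmem x).1 hx
          refine (hOmem _).2 ⟨hCt x h1, ?_⟩
          have := CfsgLib.RankOneInvol.odd_orderOf_conj h2 E.t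
          rwa [E.t_inv] at this
        rcases hOcov c hcC with hcO | hcO
        · exact absurd (mem_of_odd E hHM hOodd hOt hcO htc) hcnot
        · refine absurd ?_ hcnot
          have hb' : conjBy M (c * b) = conjBy M c := by rw [← conjBy_mul, conjBy_of_mem hbM]
          have := mem_of_odd E hHM hOodd hOt hcO (hb' ▸ htc)
          simpa [mul_assoc, hb.sq] using mul_mem this hbM
    · obtain ⟨hst, hsb⟩ := hb.swap hk
      set σ := E.d.t with hσ
      have hσM : σ ∈ M := hHM (E.S_le_H E.d.t_mem)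
      set a' := σ * a * σ⁻¹ with ha'
      have ha'R : a' ∈ R := hRn σ hσM a ha
      have e1 : a' * (b * E.t) = b * E.t * a' := by
        have := Setup.commute_conj (g := σ) hab
        rwa [hsb] at this
      set x := g * a' * g⁻¹ with hx
      have e2 : x * E.t = E.t * x := by
        have := Setup.commute_conj (g := g) e1
        rwa [hgbt] at this
      have hxR : x ∈ R := hclosed a' ha'R g (hHM (E.mem_H.2 e2))
      have hxD : x ∈ D := (hD x).2 ⟨hxR, by rw [hx]; simpa [mul_assoc] using ha'R⟩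
      have e3 : x * b = b * x := mem_centralizer_iff.1 hwC x hxD
      have e4 : a' * E.t = E.t * a' := by
        have := Setup.commute_conj (g := g⁻¹) e3
        rw [← hgt] at this
        simpa [hx, mul_assoc] using this
      have := Setup.commute_conj (g := σ⁻¹) e4
      have e5 : σ⁻¹ * E.t * σ⁻¹⁻¹ = E.t := by
        nth_rewrite 1 [← hst]
        group
      rw [e5] at this
      simpa [ha', mul_assoc] using this

end CfsgLib.GW.Uniq
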