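import Cfsg.Agent.Lib.GW.UniqTwoAct
import Cfsg.Agent.Lib.GW.UniqOne
import Cfsg.Agent.Lib.GW.Quad
import Cfsg.Agent.Lib.GW.TopFacts
import Cfsg.Agent.Lib.GW.Main
import Cfsg.Agent.Lib.Tech46.Bender
import Cfsg.Agent.Lib.Components.Local

/-!
Gorenstein–Walter, Step 2: a maximal subgroup over `C(t)` whose Fitting subgroup involves two primes.
-/

set_option autoImplicit false
set_option linter.style.haveILetI false
set_option linter.unusedSectionVars false

namespace CfsgLib.GW.Uniq

open Subgroup CfsgLib.DihProduct Cfsg.Tech46.Bender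
open scoped commutatorElement

universe u

variable {G : Type u} [Group G] [Finite G]

/-! ### Conjugates -/

theorem conjBy_le_iff {X Y : Subgroup G} {g : G} : X ≤ conjBy Y g ↔ conjBy X g⁻¹ ≤ Y := by
  constructor
  · intro h x hx
    rw [mem_conjBy, inv_inv] at hx
    have := h hx
    simpa [mem_conjBy, mul_assoc] using this
  · intro h x hx
    rw [mem_conjBy]
    refine h ?_
    rw [mem_conjBy, inv_inv]
    simpa [mul_assoc] using hx

theorem pCoreOf_conjBy (q : ℕ) (M : Subgroup G) (g : G) :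
    Cfsg.Agent.S1312.coreIn q (conjBy M g) = conjBy (Cfsg.Agent.S1312.coreIn q M) g := by
  let e : M ≃* conjBy M g :=
    M.equivMapOfInjective (MulAut.conj g).toMonoidHom (MulAut.conj g).injective
  show (Cfsg.pCore q (conjBy M g)).map (conjBy M g).subtype =
    ((Cfsg.pCore q M).map M.subtype).map (MulAut.conj g).toMonoidHom
  rw [← CfsgLib.PCore.map_pCore_equiv e, map_map, map_map]
  rfl

theorem isCoatom_conjBy {M : Subgroup G} (hM : IsCoatom M) (g : G) : IsCoatom (conjBy M g) := by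
  refine ⟨fun h => hM.1 (eq_top_iff.2 fun x _ => ?_), fun Z hZ => ?_⟩
  · have := h.symm ▸ mem_top (g * x * g⁻¹)
    simpa [mem_conjBy, mul_assoc] using this
  · have h1 : M < conjBy Z g⁻¹ := by
      refine lt_of_le_of_ne (fun x hx => ?_) fun he => hZ.ne ?_
      · rw [mem_conjBy, inv_inv]
        exact hZ.le (mem_conjBy.2 (by simpa [mul_assoc] using hx))
      · rw [he, conjBy_mul, mul_inv_cancel, conjBy_of_mem (one_mem Z)]
    refine eq_top_iff.2 fun x _ => ?_
    have := (hM.2 _ h1).symm ▸ mem_top (g⁻¹ * x * g)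
    rw [mem_conjBy, inv_inv] at this
    simpa [mul_assoc] using this

theorem dvd_fitting_conjBy {q : ℕ} (hq : q.Prime) {M : Subgroup G} (g : G) :
    q ∣ Nat.card (Cfsg.fittingSubgroup (conjBy M g)) ↔ q ∣ Nat.card (Cfsg.fittingSubgroup M) := by
  constructor
  · intro h
    by_contra h'
    refine coreIn_ne_bot hq h ?_
    rw [pCoreOf_conjBy, coreIn_eq_bot hq h']
    exact Subgroup.map_bot _
  · intro h
    by_contra h'
    refine coreIn_ne_bot hq h ((Subgroup.map_eq_bot_iff_of_injective _ (f := (MulAut.conj g).toMonoidHom) (MulAut.conj g).injective).1 ?_)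
    show conjBy _ g = ⊥
    rw [← pCoreOf_conjBy, coreIn_eq_bot hq h']

variable (E : Setup G)

include E in
/-- A maximal subgroup is its own normaliser. -/
theorem mem_of_conjBy_eq {M : Subgroup G} (hM : IsCoatom M) (hM0 : M ≠ ⊥) {g : G}
    (h : conjBy M g = M) : g ∈ M := by
  have hgn : g ∈ normalizer (M : Set G) :=
    mem_normalizer_iff.2 fun y => by
      have e : g * y * g⁻¹ ∈ conjBy M g ↔ y ∈ M := by
        rw [mem_conjBy, show g⁻¹ * (g * y * g⁻¹) * g = y by group]
      rw [h] at e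
      exact e.symm
  rcases hM.le_iff.1 (le_normalizer (H := M)) with h | h
  · rcases E.eq_bot_or_top (normalizer_eq_top_iff.1 h) with h1 | h1
    · exact absurd h1 hM0
    · exact absurd h1 hM.1
  · exact h ▸ hgn

/-- The involutions commuting with `t` and `b` are `t`, `b` and `b * t`. -/
theorem involution_cases {b w : G} (hb : E.Refl b) (hw : orderOf w = 2)
    (hwt : w * E.t = E.t * w) (hwb : w * b = b * w) : w = E.t ∨ w = b ∨ w = b * E.t := by
  obtain ⟨hw1, hww⟩ := CfsgLib.Involutions.orderOf_eq_two_iff_mul.1 hw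
  obtain ⟨v, hv, y, hy, e⟩ := hb.exists_eq_mul hwt hwb
  obtain ⟨hy1, hy2, hy3⟩ := hb.mem_X.1 hy
  have hvy : Commute v y := by
    rcases hv with rfl | rfl | rfl | rfl
    · exact Commute.one_left _
    · exact hy1.symm
    · exact hy2.symm
    · exact ((show Commute y b from hy2).mul_right hy1).symm
  have hvv : v * v = 1 := by
    rcases hv with rfl | rfl | rfl | rfl
    · exact one_mul 1
    · exact E.t_sq
    · exact hb.sq
    · exact hb.mul_t.sq
  have hyy : y * y = 1 := by
    have e2 : v * y * (v * y) = v * v * (y * y) := by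
      rw [mul_assoc v y, ← mul_assoc y v y, ← hvy.eq]; group
    rw [e, e2, hvv, one_mul] at hww
    exact hww
  rw [CfsgLib.RankOneInvol.eq_one_of_sq_of_odd hy3 hyy, mul_one] at e
  rcases hv with rfl | h
  · exact absurd e hw1
  · exact e ▸ h

/-- An element of an odd subgroup of `K` inverted by an involution `v` of a four-group whose
centraliser normalises the subgroup lies in the odd core of `K`. -/
theorem mem_coreIn_of_normalized {b v : G} (hb : E.Refl b) {K B : Subgroup G} (hK : K ≠ ⊤)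
    (htK : E.t ∈ K) (hbK : b ∈ K) (hvK : v ∈ K) (hv : orderOf v = 2)
    (hBK : B ≤ K) (hB : Odd (Nat.card B))
    (hn : ∀ c ∈ K, c * v = v * c → ∀ x ∈ B, c * x * c⁻¹ ∈ B)
    {a : G} (ha : a ∈ B) (hva : v * a * v = a⁻¹) : a ∈ coreIn K := by
  haveI : Fact (Nat.Prime 2) := ⟨Nat.prime_two⟩
  obtain ⟨hv1, hvv⟩ := CfsgLib.Involutions.orderOf_eq_two_iff_mul.1 hv
  have hO : (Nat.card (Cfsg.oddCore K)).Coprime 2 := CfsgLib.PCore.pPrimeCore_coprime
  have hOodd : Odd (Nat.card (Cfsg.oddCore K)) := Nat.coprime_two_right.1 hO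
  let π := QuotientGroup.mk' (Cfsg.oddCore K)
  have hπ : ∀ k : K, π k = 1 ↔ k ∈ Cfsg.oddCore K := fun k => QuotientGroup.eq_one_iff k
  have hinv : ∀ (z : G) (hz : z ∈ K), z * z = 1 → z ≠ 1 → π ⟨z, hz⟩ ≠ 1 := by
    intro z hz hzz hz1 h
    refine hz1 ?_
    have h2 := CfsgLib.RankOneInvol.eq_one_of_mem_of_sq hOodd ((hπ _).1 h)
      (Subtype.ext (show z * z = 1 from hzz))
    exact congrArg Subtype.val h2
  have hvo : orderOf (π ⟨v, hvK⟩) = 2 := by
    refine CfsgLib.Involutions.orderOf_eq_two_iff_mul.2 ⟨hinv v hvK hvv hv1, ?_⟩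
    rw [← map_mul, show (⟨v, hvK⟩ : K) * ⟨v, hvK⟩ = 1 from Subtype.ext hvv, map_one]
  -- the Sylow subgroups of the top are dihedral
  have hdih : ∃ (P : Sylow 2 (K ⧸ Cfsg.oddCore K)) (n : ℕ),
      Nonempty ((P : Subgroup (K ⧸ Cfsg.oddCore K)) ≃* DihedralGroup n) := by
    set V0 : Subgroup K := ((E.S : Subgroup G) ⊓ centralizer ({b} : Set G)).subgroupOf K with hV0
    have hp : IsPGroup 2 (V0.map π) :=
      (((E.S : Sylow 2 G).2.to_le inf_le_left).comap_subtype).map π
    obtain ⟨P, hP⟩ := hp.exists_le_sylow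
    refine ⟨P, ?_⟩
    have hdc : Main.DC (K ⧸ Cfsg.oddCore K) :=
      Main.dc_quotient ((Main.dc_of_sylow E.S (Or.inl E.eS)).subgroup K)
    rcases hdc (P : Subgroup _) P.2 with hc | ⟨m, -, hm⟩
    · exfalso
      have htP : π ⟨E.t, htK⟩ ∈ (P : Subgroup _) := hP ⟨⟨E.t, htK⟩,
        mem_subgroupOf.2 ⟨E.t_mem_S, mem_centralizer_singleton_iff.2 hb.comm.symm⟩, rfl⟩
      have hbP : π ⟨b, hbK⟩ ∈ (P : Subgroup _) := hP ⟨⟨b, hbK⟩,
        mem_subgroupOf.2 ⟨hb.1, mem_centralizer_singleton_iff.2 rfl⟩, rfl⟩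
      have ht1 := hinv _ htK E.t_sq E.t_ne_one
      have hb1 := hinv _ hbK hb.sq hb.ne_one
      have hbt1 := hinv _ (mul_mem hbK htK) hb.mul_t.sq hb.mul_t.ne_one
      classical
      haveI := Fintype.ofFinite (P : Subgroup (K ⧸ Cfsg.oddCore K))
      have h2 : ({1, ⟨_, htP⟩, ⟨_, hbP⟩} : Finset (P : Subgroup (K ⧸ Cfsg.oddCore K))) ⊆
          Finset.univ.filter fun x => x ^ 2 = 1 := by
        intro x hx
        simp only [Finset.mem_insert, Finset.mem_singleton] at hx
        rw [Finset.mem_filter]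
        refine ⟨Finset.mem_univ _, ?_⟩
        rcases hx with rfl | rfl | rfl
        · exact one_pow 2
        · rw [pow_two]
          refine Subtype.ext (show π ⟨E.t, htK⟩ * π ⟨E.t, htK⟩ = 1 from ?_)
          rw [← map_mul, show (⟨E.t, htK⟩ : K) * ⟨E.t, htK⟩ = 1 from Subtype.ext E.t_sq, map_one]
        · rw [pow_two]
          refine Subtype.ext (show π ⟨b, hbK⟩ * π ⟨b, hbK⟩ = 1 from ?_)
          rw [← map_mul, show (⟨b, hbK⟩ : K) * ⟨b, hbK⟩ = 1 from Subtype.ext hb.sq, map_one]
      haveI := hc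
      have h3 := (Finset.card_le_card h2).trans
        (IsCyclic.card_pow_eq_one_le (α := (P : Subgroup (K ⧸ Cfsg.oddCore K))) two_pos)
      have hne : π ⟨E.t, htK⟩ ≠ π ⟨b, hbK⟩ := fun h => hbt1 (by
        rw [show (⟨b * E.t, mul_mem hbK htK⟩ : K) = ⟨b, hbK⟩ * ⟨E.t, htK⟩ from rfl, map_mul, h,
          ← map_mul, show (⟨b, hbK⟩ : K) * ⟨b, hbK⟩ = 1 from Subtype.ext hb.sq, map_one])
      rw [Finset.card_insert_of_notMem, Finset.card_insert_of_notMem, Finset.card_singleton] at h3
      · omega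
      · rw [Finset.mem_singleton]
        exact fun h => hne (congrArg Subtype.val h)
      · simp only [Finset.mem_insert, Finset.mem_singleton, not_or]
        exact ⟨fun h => ht1 (congrArg Subtype.val h).symm, fun h => hb1 (congrArg Subtype.val h).symm⟩
    · exact ⟨m, hm⟩
  obtain ⟨P, n, hPn⟩ := hdih
  set Bq := (B.subgroupOf K).map π with hBq
  have hBodd : Odd (Nat.card Bq) := Odd.of_dvd_nat
    (by rwa [← Nat.card_congr (subgroupOfEquivOfLe hBK).toEquiv] at hB) (card_map_dvd _ _)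
  have key := TopFacts.centralizes_of_normalized (E.good K hK) P hPn hvo hBodd ?_
    (π ⟨a, hBK ha⟩) ⟨_, mem_subgroupOf.2 ha, rfl⟩
  · refine ⟨⟨a, hBK ha⟩, (hπ _).1 ?_, rfl⟩
    refine CfsgLib.RankOneInvol.eq_one_of_mem_of_sq hBodd ⟨_, mem_subgroupOf.2 ha, rfl⟩ ?_
    have e : (⟨v, hvK⟩ : K) * ⟨a, hBK ha⟩ * ⟨v, hvK⟩ = ⟨a, hBK ha⟩⁻¹ := Subtype.ext hva
    have e2 := congrArg π e
    rw [map_mul, map_mul, map_inv, mul_assoc, key, ← mul_assoc, ← map_mul,
      show (⟨v, hvK⟩ : K) * ⟨v, hvK⟩ = 1 from Subtype.ext hvv, map_one, one_mul] at e2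
    exact eq_inv_iff_mul_eq_one.1 e2
  · intro c hc x hx
    have hp : IsPGroup 2 (zpowers (⟨v, hvK⟩ : K)) := by
      refine CfsgLib.Involutions.isPGroup_two_zpowers ?_
      rw [Subgroup.orderOf_mk, hv]
    have hc' : c ∈ centralizer (((zpowers (⟨v, hvK⟩ : K)).map π : Subgroup _) : Set (K ⧸ Cfsg.oddCore K)) := by
      rw [MonoidHom.map_zpowers, zpowers_eq_closure, centralizer_closure, mem_centralizer_singleton_iff]
      exact hc
    rw [← CfsgLib.Components.map_centralizer_quotient hO hp] at hc'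
    obtain ⟨k, hk, rfl⟩ := hc'
    obtain ⟨y, hy, rfl⟩ := hx
    rw [zpowers_eq_closure, centralizer_closure, SetLike.mem_coe, mem_centralizer_singleton_iff] at hk
    refine ⟨k * y * k⁻¹, mem_subgroupOf.2 ?_, by rw [map_mul, map_mul, map_inv]⟩
    exact hn k k.2 (congrArg Subtype.val hk) y (mem_subgroupOf.1 hy)

variable {E}

/-- The conjugate over `C(b)`: an element of `O_r(M)` centralised by `b`, inverted by `t`, centralises
`O_m(M')` for `m ≠ r`. -/
theorem commute_core_conj {M : Subgroup G} (hHM : E.H ≤ M) (hO2 : Cfsg.pCore 2 M = ⊥) {b g : G}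
    (hb : E.Refl b) (hgt : g * E.t * g⁻¹ = b) {r m : ℕ} (hr : r.Prime) (hm : m.Prime) (hmr : m ≠ r)
    {a : G} (ha : a ∈ Cfsg.Agent.S1312.coreIn r M) (hab : a * b = b * a)
    (hat : E.t * a * E.t = a⁻¹) :
    ∀ x ∈ Cfsg.Agent.S1312.coreIn m (conjBy M g), a * x = x * a := by
  have hCb : centralizer ({b} : Set G) ≤ conjBy M g := hgt ▸ E.centralizer_le_conjBy hHM g
  have haM' : a ∈ conjBy M g := hCb (mem_centralizer_singleton_iff.2 hab)
  have htM' : E.t ∈ conjBy M g := hCb (mem_centralizer_singleton_iff.2 hb.comm.symm)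
  set P := Cfsg.Agent.S1312.coreIn m (conjBy M g) with hP
  have hn : ∀ k ∈ conjBy M g, ∀ x ∈ P, k * x * k⁻¹ ∈ P := fun k hk x hx =>
    (mem_normalizer_iff.1 (coreIn_le_normalizer m _ hk) x).1 hx
  by_cases hr2 : r = 2
  · subst hr2
    have : a = 1 := by
      obtain ⟨y, hy, rfl⟩ := ha
      replace hy : y ∈ Cfsg.pCore 2 M := hy
      rw [hO2, mem_bot] at hy
      rw [hy]; rfl
    intro x _
    rw [this, one_mul, mul_one]
  have hodd : Odd (Nat.card P) := by
    by_cases hm2 : m = 2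
    · subst hm2
      have : P = ⊥ := by
        rw [hP, pCoreOf_conjBy, Cfsg.Agent.S1312.coreIn, hO2, Subgroup.map_bot]
        exact Subgroup.map_bot _
      rw [this, card_bot]
      exact odd_one
    · haveI := Fact.mk hm
      obtain ⟨k, hk⟩ := IsPGroup.iff_card.1 (coreIn_isPGroup hm (conjBy M g))
      rw [hP, hk]
      exact ((hm.odd_of_ne_two hm2)).pow
  have hcop : (orderOf a).Coprime (Nat.card P) := by
    haveI := Fact.mk hm
    obtain ⟨k, hk⟩ := IsPGroup.iff_card.1 (coreIn_isPGroup hm (conjBy M g))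
    rw [hP, hk]
    exact (orderOf_coprime_of_isPGroup hr hm hmr.symm (coreIn_isPGroup hr M) ha).pow_right k
  refine commute_of_inverted hodd E.t_sq
    (fun x hx => by simpa [E.t_inv] using hn _ htM' x hx) (hn a haM') hat ?_ hcop fun x hx hxt => ?_
  · haveI := Fact.mk hr
    obtain ⟨k, hk⟩ := IsPGroup.iff_card.1 (coreIn_isPGroup hr M)
    exact CfsgLib.RankOneInvol.odd_orderOf_of_mem
      (by rw [hk]; exact (hr.odd_of_ne_two hr2).pow) ha
  · have hxM : x ∈ M := hHM (E.mem_H.2 (by
      calc x * E.t = E.t * x * E.t * E.t := by rw [hxt]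
        _ = E.t * x := by rw [mul_assoc, E.t_sq, mul_one]))
    exact (commute_of_disjoint
      (IsPGroup.disjoint_of_ne r m hmr.symm _ _ (coreIn_isPGroup hr M) (coreIn_isPGroup hm _)
        (hp₁ := ⟨hr⟩) (hp₂ := ⟨hm⟩))
      ha hx (coreIn_le_normalizer m _ haM') (coreIn_le_normalizer r M hxM)).eq

theorem fixed_iff_commute {v x : G} (hv : v * v = 1) : v * x * v = x ↔ x * v = v * x := by
  constructor
  · intro h
    calc x * v = v * x * v * v := by rw [h]
      _ = v * x := by rw [mul_assoc, hv, mul_one]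
  · intro h
    rw [mul_assoc, h, ← mul_assoc, hv, one_mul]

/-- `O_r(M) ∩ O_r(M') = 1`: the quadratic case. -/
theorem eq_one_of_disjoint {M : Subgroup G} (hHM : E.H ≤ M) (hO2 : Cfsg.pCore 2 M = ⊥)
    (hlayer : Cfsg.layer M = ⊥) {b g : G} (hb : E.Refl b) (hgt : g * E.t * g⁻¹ = b)
    (hgbt : g * (b * E.t) * g⁻¹ = E.t) {r : ℕ} (hr : r.Prime) (hr2 : r ≠ 2)
    (hD : Cfsg.Agent.S1312.coreIn r M ⊓ Cfsg.Agent.S1312.coreIn r (conjBy M g) = ⊥)
    {a : G} (ha : a ∈ Cfsg.Agent.S1312.coreIn r M) (hab : a * b = b * a)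
    (hat : E.t * a * E.t = a⁻¹) : a = 1 := by
  haveI := Fact.mk hr
  have hCb : centralizer ({b} : Set G) ≤ conjBy M g := hgt ▸ E.centralizer_le_conjBy hHM g
  have haM' : a ∈ conjBy M g := hCb (mem_centralizer_singleton_iff.2 hab)
  have hbt : g⁻¹ * E.t * g = b * E.t := by
    conv_lhs => rw [← hgbt]
    group
  have hbtM : b * E.t ∈ M := hHM (E.S_le_H (mul_mem hb.1 E.t_mem_S))
  obtain ⟨k, hk⟩ := IsPGroup.iff_card.1 (coreIn_isPGroup hr M)
  have haodd : Odd (orderOf a) := CfsgLib.RankOneInvol.odd_orderOf_of_mem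
    (by rw [hk]; exact (hr.odd_of_ne_two hr2).pow) ha
  have hself : ∀ x ∈ M, x ∈ centralizer (fitIn M : Set G) → x ∈ fitIn M := by
    intro x hx hxc
    refine ⟨⟨x, hx⟩, CfsgLib.Components.centralizer_generalizedFitting_le_fitting ?_, rfl⟩
    rw [Cfsg.generalizedFittingSubgroup, hlayer, bot_sup_eq, mem_centralizer_iff]
    exact fun y hy => Subtype.ext (mem_centralizer_iff.1 hxc _ (mem_map_of_mem _ hy))
  have hF := mem_fitting_of_inverted_gen (K := M) (t := b * E.t) (a := g⁻¹ * a * g)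
    ((twoCyclicLike_of_dih E.S E.d).subgroup M) hself hb.mul_t.sq
    (fun x hx => mul_mem (mul_mem hbtM hx) hbtM) (mem_conjBy.1 haM')
    (by
      rw [← hbt]
      calc g⁻¹ * E.t * g * (g⁻¹ * a * g) * (g⁻¹ * E.t * g) = g⁻¹ * (E.t * a * E.t) * g := by group
        _ = _ := by rw [hat]; group)
    (by simpa using CfsgLib.RankOneInvol.odd_orderOf_conj haodd g⁻¹)
    (by
      intro x hx
      rw [pCoreIn, hO2, Subgroup.map_bot, mem_bot] at hx
      rw [hx, mul_one, one_mul])
    ?_
  · have hR' : a ∈ Cfsg.Agent.S1312.coreIn r (conjBy M g) := by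
      rw [pCoreOf_conjBy, mem_conjBy]
      obtain ⟨f, hf, hfe⟩ := hF
      refine ⟨f, Cfsg.Agent.S1312.pgroup_le_fitting_le_pCore (A := zpowers f) ?_
        (zpowers_le.2 hf) (mem_zpowers f), hfe⟩
      obtain ⟨i, -, hi⟩ := (Nat.dvd_prime_pow hr).1 (hk ▸ orderOf_dvd_natCard _ ha)
      refine IsPGroup.of_card (n := i) ?_
      rw [Nat.card_zpowers, ← Subgroup.orderOf_coe, show (f : G) = g⁻¹ * a * g from hfe, ← hi]
      simpa using orderOf_injective (MulAut.conj g⁻¹).toMonoidHom (MulAut.conj g⁻¹).injective a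
    have : a ∈ (⊥ : Subgroup G) := hD ▸ ⟨ha, hR'⟩
    exact mem_bot.1 this
  · intro z hz hzfix
    have hzt : z * (b * E.t) = b * E.t * z := (fixed_iff_commute hb.mul_t.sq).1 hzfix
    refine commute_of_parts hz fun m hm w hw hwm => ?_
    have hw' : g * w * g⁻¹ ∈ Cfsg.Agent.S1312.coreIn m (conjBy M g) := by
      rw [pCoreOf_conjBy]
      exact ⟨w, hwm, rfl⟩
    have hwt : w * (b * E.t) = b * E.t * w := by
      obtain ⟨i, rfl⟩ := mem_zpowers_iff.1 hw
      exact ((show Commute z (b * E.t) from hzt).zpow_left i).eq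
    have hc : a * (g * w * g⁻¹) = g * w * g⁻¹ * a := by
      rcases eq_or_ne m r with rfl | hmr
      · have hwH : g * w * g⁻¹ ∈ M := hHM (E.mem_H.2 (by
          have h := Setup.commute_conj (g := g) hwt
          rwa [hgbt] at h))
        exact (commute_of_disjoint (disjoint_iff.2 hD) ha hw' (coreIn_le_normalizer m _ haM')
          (coreIn_le_normalizer m M hwH)).eq
      · exact commute_core_conj hHM hO2 hb hgt hr hm hmr ha hab hat _ hw'
    have h := Setup.commute_conj (g := g⁻¹) hc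
    show g⁻¹ * a * g * w = w * (g⁻¹ * a * g)
    simpa [mul_assoc] using h

/-- Step 2, two primes, for an inverted element. -/
theorem eq_one_of_two (E : Setup G) {M : Subgroup G} (hM : IsCoatom M) (hHM : E.H ≤ M) {b : G}
    (hb : E.Refl b) (hfb : ∀ g ∈ M, g * E.t * g⁻¹ ≠ b)
    (hO2 : Cfsg.pCore 2 M = ⊥) (hlayer : Cfsg.layer M = ⊥) {r : ℕ} (hr : r.Prime) (hr2 : r ≠ 2)
    {j : ℕ} (hj : j.Prime) (hjr : j ≠ r) (hjM : j ∣ Nat.card (Cfsg.fittingSubgroup M))
    {a : G} (ha : a ∈ Cfsg.Agent.S1312.coreIn r M) (hab : a * b = b * a)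
    (hat : E.t * a * E.t = a⁻¹) : a = 1 := by
  haveI := E.simple
  haveI := Fact.mk hr
  haveI := Fact.mk hj
  haveI : Fact (Nat.Prime 2) := ⟨Nat.prime_two⟩
  obtain ⟨g, hgt, hgb, hgbt⟩ := hb.exists_rot
  set R := Cfsg.Agent.S1312.coreIn r M with hR
  set M' := conjBy M g with hM'
  set M'' := conjBy M g⁻¹ with hM''
  set R' := Cfsg.Agent.S1312.coreIn r M' with hR'
  by_cases hD : R ⊓ R' = ⊥
  · exact eq_one_of_disjoint hHM hO2 hlayer hb hgt hgbt hr hr2 hD ha hab hat
  set D := R ⊓ R' with hDdef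
  have hbt : g⁻¹ * E.t * g = b * E.t := by
    conv_lhs => rw [← hgbt]
    group
  have hgtb : g⁻¹ * b * g = E.t := by
    conv_lhs => rw [← hgt]
    group
  have hgbtb : g⁻¹ * (b * E.t) * g = b := by
    conv_lhs => rw [← hgb]
    group
  have htM : E.t ∈ M := hHM (E.S_le_H E.t_mem_S)
  have hbM : b ∈ M := hHM hb.mem_H
  have hM0 : M ≠ ⊥ := fun h => E.t_ne_one (mem_bot.1 (h ▸ htM))
  have hgM : g ∉ M := fun h => hfb g h hgt
  have hne : M ≠ M' := fun h => hgM (mem_of_conjBy_eq E hM hM0 h.symm)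
  have hCb : centralizer ({b} : Set G) ≤ M' := hgt ▸ E.centralizer_le_conjBy hHM g
  have hCbt : centralizer ({b * E.t} : Set G) ≤ M'' := by
    have h := E.centralizer_le_conjBy hHM g⁻¹
    rwa [inv_inv, hbt] at h
  have htM' : E.t ∈ M' := hCb (mem_centralizer_singleton_iff.2 hb.comm.symm)
  have hbM' : b ∈ M' := hCb (mem_centralizer_singleton_iff.2 rfl)
  have haM' : a ∈ M' := hCb (mem_centralizer_singleton_iff.2 hab)
  have hM'c : IsCoatom M' := isCoatom_conjBy hM g
  have hrM : r ∣ Nat.card (Cfsg.fittingSubgroup M) := by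
    by_contra h
    exact hD (le_bot_iff.1 (inf_le_left.trans (coreIn_eq_bot hr h).le))
  have hnM := normalizer_eq_of_isCoatom hM
  -- normalisers of `D`
  have hnormD : ∀ x ∈ M, x ∈ normalizer (R' : Set G) → x ∈ normalizer (D : Set G) :=
    fun x hx hx' => inf_normalizer_le_normalizer_inf ⟨coreIn_le_normalizer r M hx, hx'⟩
  have hDtop : normalizer (D : Set G) ≠ ⊤ := by
    intro h
    rcases E.eq_bot_or_top (normalizer_eq_top_iff.1 h) with h1 | h1
    · exact hD h1
    · exact hM.1 (top_le_iff.1 (h1 ▸ inf_le_left.trans (Cfsg.Agent.S1312.coreIn_le r M)))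
  obtain ⟨K, hKc, hNK⟩ := (eq_top_or_exists_le_coatom (normalizer (D : Set G))).resolve_left hDtop
  have htK : E.t ∈ K := hNK (hnormD _ htM (coreIn_le_normalizer r M' htM'))
  have hbK : b ∈ K := hNK (hnormD _ hbM (coreIn_le_normalizer r M' hbM'))
  have hMK : Cfsg.leadsTo M K :=
    ⟨D, hD, inf_le_left.trans (map_mono (CfsgLib.Fitting.pCore_le_fitting hr)), inf_le_right.trans hNK⟩
  have hM'K : Cfsg.leadsTo M' K :=
    ⟨D, hD, inf_le_right.trans (map_mono (CfsgLib.Fitting.pCore_le_fitting hr)), inf_le_right.trans hNK⟩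
  have hjC : ∀ X : Subgroup G, D ≤ Cfsg.Agent.S1312.coreIn r X → ∀ k : ℕ, k.Prime → k ≠ r →
      Cfsg.Agent.S1312.coreIn k X ≤ K := fun X hX k hk hkr x hx => hNK (centralizer_le_normalizer _
        (mem_centralizer_iff.2 fun d hd => (commute_coreIn_of_ne hr hk (Ne.symm hkr) (hX hd) hx).eq))
  -- the cores of `K` lie in `M` and `M'`
  have hcores : ∀ q : ℕ, q.Prime → Cfsg.Agent.S1312.coreIn q K ≤ M ⊓ M' := by
    intro q hq
    haveI := Fact.mk hq
    by_cases hqM : q ∣ Nat.card (Cfsg.fittingSubgroup M)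
    · obtain ⟨s, hs, hqs, hsM⟩ : ∃ s : ℕ, s.Prime ∧ q ≠ s ∧ s ∣ Nat.card (Cfsg.fittingSubgroup M) := by
        by_cases h : q = r
        · exact ⟨j, hj, h ▸ Ne.symm hjr, hjM⟩
        · exact ⟨r, hr, h, hrM⟩
      exact le_inf (coreIn_le_of_two_primes hnM hMK hq hs hqs hqM hsM)
        (coreIn_le_of_two_primes (normalizer_eq_of_isCoatom hM'c) hM'K hq hs hqs
          ((dvd_fitting_conjBy hq g).2 hqM) ((dvd_fitting_conjBy hs g).2 hsM))
    suffices hA0 : Cfsg.Agent.S1312.coreIn q K = ⊥ by rw [hA0]; exact bot_le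
    set A := Cfsg.Agent.S1312.coreIn q K with hA
    have hAM : A ⊓ M = ⊥ := coreIn_inf_eq_bot hMK hq hqM
    have hAM' : A ⊓ M' = ⊥ :=
      coreIn_inf_eq_bot hM'K hq (fun h => hqM ((dvd_fitting_conjBy hq g).1 h))
    have hnA : ∀ k ∈ K, ∀ x ∈ A, k * x * k⁻¹ ∈ A := fun k hk x hx =>
      (mem_normalizer_iff.1 (coreIn_le_normalizer q K hk) x).1 hx
    have hAt : ∀ x ∈ A, E.t * x * E.t ∈ A := fun x hx => by simpa [E.t_inv] using hnA _ htK x hx
    have hAb : ∀ x ∈ A, b * x * b ∈ A := fun x hx => by simpa [hb.inv] using hnA _ hbK x hx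
    have hfixt : ∀ x ∈ A, x * E.t = E.t * x → x = 1 := fun x hx h =>
      mem_bot.1 (hAM ▸ mem_inf.2 ⟨hx, hHM (E.mem_H.2 h)⟩)
    have hAodd : Odd (Nat.card A) := by
      by_contra h
      rw [Nat.not_odd_iff_even, even_iff_two_dvd] at h
      have h2 := two_dvd_card_inf_centralizer E.t_sq hAt h
      have : A ⊓ centralizer ({E.t} : Set G) = ⊥ := eq_bot_iff.2 fun x hx =>
        mem_bot.2 (hfixt x hx.1 (mem_centralizer_singleton_iff.1 hx.2))
      rw [this, card_bot] at h2
      omega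
    have hinv : ∀ x ∈ A, E.t * x * E.t = x⁻¹ := by
      intro x hx
      obtain ⟨y, z, hy, hyt, -, hzt, rfl⟩ :=
        CfsgLib.RankOneInvol.exists_fixed_mul_inverted hAodd E.t_sq hAt hx
      rw [hfixt y hy ((fixed_iff_commute E.t_sq).1 hyt), one_mul, hzt]
    have hinvb : ∀ x ∈ A, b * x * b = x⁻¹ := by
      intro x hx
      obtain ⟨y, z, hy, hyt, -, hzt, rfl⟩ :=
        CfsgLib.RankOneInvol.exists_fixed_mul_inverted hAodd hb.sq hAb hx
      have : y = 1 := mem_bot.1 (hAM' ▸ mem_inf.2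
        ⟨hy, hCb (mem_centralizer_singleton_iff.2 ((fixed_iff_commute hb.sq).1 hyt))⟩)
      rw [this, one_mul, hzt]
    have hcomm : ∀ x ∈ A, ∀ y ∈ A, Commute x y := by
      intro x hx y hy
      have h : (x * y)⁻¹ = x⁻¹ * y⁻¹ := by
        rw [← hinv _ (mul_mem hx hy), ← hinv x hx, ← hinv y hy]
        calc E.t * (x * y) * E.t = E.t * x * (E.t * E.t) * y * E.t := by rw [E.t_sq, mul_one]; group
          _ = _ := by group
      have h2 := congrArg (·⁻¹) h
      show x * y = y * x
      simpa [mul_inv_rev] using h2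
    have hAM'' : A ≤ M'' := fun x hx => by
      refine hCbt (mem_centralizer_singleton_iff.2 ((fixed_iff_commute hb.mul_t.sq).1 ?_))
      calc b * E.t * x * (b * E.t) = b * (E.t * x * E.t) * b := by
            conv_lhs => arg 2; rw [hb.comm]
            group
        _ = b * x⁻¹ * b := by rw [hinv x hx]
        _ = x := by rw [hinvb _ (inv_mem hx), inv_inv]
    -- `A` centralises the cores of `M''`
    have hcent : ∀ k : ℕ, k.Prime →
        ∀ x ∈ Cfsg.Agent.S1312.coreIn k M'', ∀ α ∈ A, α * x = x * α := by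
      intro k hk
      haveI := Fact.mk hk
      set P := Cfsg.Agent.S1312.coreIn k M'' with hP
      by_cases hkM : k ∣ Nat.card (Cfsg.fittingSubgroup M)
      swap
      · intro x hx α _
        have h0 : P = ⊥ := coreIn_eq_bot hk fun h => hkM ((dvd_fitting_conjBy hk g⁻¹).1 h)
        rw [h0, mem_bot] at hx
        rw [hx, mul_one, one_mul]
      have hkq : k ≠ q := fun h => hqM (h ▸ hkM)
      have hk2 : k ≠ 2 := by
        rintro rfl
        refine coreIn_ne_bot hk hkM ?_
        rw [Cfsg.Agent.S1312.coreIn, hO2, Subgroup.map_bot]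
      obtain ⟨i, hi⟩ := IsPGroup.iff_card.1 (coreIn_isPGroup hk M'')
      have hPodd : Odd (Nat.card P) := by rw [hP, hi]; exact (hk.odd_of_ne_two hk2).pow
      have hbt'' : b * E.t ∈ M'' := hCbt (mem_centralizer_singleton_iff.2 rfl)
      have ht'' : E.t ∈ M'' := hCbt (mem_centralizer_singleton_iff.2 (by
        rw [← mul_assoc, ← hb.comm]))
      have hb'' : b ∈ M'' := by simpa [mul_assoc, E.t_sq] using mul_mem hbt'' ht''
      have hnP : ∀ m ∈ M'', ∀ x ∈ P, m * x * m⁻¹ ∈ P := fun m hm x hx =>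
        (mem_normalizer_iff.1 (coreIn_le_normalizer k M'' hm) x).1 hx
      have hqk : (Nat.card A).Coprime (Nat.card P) := by
        obtain ⟨e, he⟩ := IsPGroup.iff_card.1 (coreIn_isPGroup hq K)
        rw [hA, hP, he, hi]
        exact Nat.coprime_pow_primes _ _ hq hk hkq.symm
      by_cases hkr : k = r
      · -- the prime `r`
        subst hkr
        set Y := Cfsg.Agent.S1312.coreIn j M ⊓ centralizer ({E.t} : Set G) ⊓
          centralizer ({b} : Set G) with hY
        have hYJ : Y ≤ Cfsg.Agent.S1312.coreIn j M := inf_le_left.trans inf_le_left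
        have hJK : Cfsg.Agent.S1312.coreIn j M ≤ K := hjC M inf_le_left j hj hjr
        have hYM'' : Y ≤ M'' := fun y hy => hCbt (mem_centralizer_singleton_iff.2
          (((show Commute y b from mem_centralizer_singleton_iff.1 hy.2)).mul_right
            (mem_centralizer_singleton_iff.1 hy.1.2)).eq)
        have hj2 : j ≠ 2 := by
          rintro rfl
          refine coreIn_ne_bot hj hjM ?_
          rw [Cfsg.Agent.S1312.coreIn, hO2, Subgroup.map_bot]
        obtain ⟨e, he⟩ := IsPGroup.iff_card.1 (coreIn_isPGroup hj M)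
        have hJodd : Odd (Nat.card (Cfsg.Agent.S1312.coreIn j M)) := by
          rw [he]; exact (hj.odd_of_ne_two hj2).pow
        have hqj : q ≠ j := fun h => hqM (h ▸ hjM)
        have hYA : (Nat.card Y).Coprime (Nat.card A) := by
          refine Nat.Coprime.coprime_dvd_left (card_dvd_of_le hYJ) ?_
          obtain ⟨d, hd⟩ := IsPGroup.iff_card.1 (coreIn_isPGroup hq K)
          rw [hA, hd, he]
          exact Nat.coprime_pow_primes _ _ hj hq hqj.symm
        -- elements inverted by an involution inverting `A` centralise `A`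
        have hz : ∀ v : G, v * v = 1 → (∀ α ∈ A, v * α * v = α⁻¹) → ∀ z ∈ K, Odd (orderOf z) →
            v * z * v = z⁻¹ → ∀ α ∈ A, α * z = z * α := by
          intro v hv hvA z hzK hzo hzv α hα
          have h1 := hvA _ (hnA z hzK α hα)
          have e : v * (z * α * z⁻¹) * v = z⁻¹ * α⁻¹ * z := by
            have hvi : v⁻¹ = v := inv_eq_of_mul_eq_one_right hv
            have hzi : v * z⁻¹ * v = z := by
              have := congrArg (·⁻¹) hzv
              simpa [mul_inv_rev, hvi, mul_assoc] using this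
            calc v * (z * α * z⁻¹) * v = v * z * (v * v) * α * (v * v) * z⁻¹ * v := by
                  rw [hv, mul_one, mul_one]; group
              _ = (v * z * v) * (v * α * v) * (v * z⁻¹ * v) := by group
              _ = _ := by rw [hzv, hvA α hα, hzi]
          rw [e] at h1
          have h2 : Commute (z * z) α := by
            have h3 := congrArg (fun w => z * w⁻¹ * z⁻¹) h1
            have l : z * (z⁻¹ * α⁻¹ * z)⁻¹ * z⁻¹ = α := by group
            have r' : z * (z * α * z⁻¹)⁻¹⁻¹ * z⁻¹ = z * z * α * (z * z)⁻¹ := by group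
            simp only [l, r'] at h3
            exact (mul_inv_eq_iff_eq_mul.1 h3.symm)
          obtain ⟨i, hi⟩ := CfsgLib.RankOneInvol.exists_pow_sq_eq hzo
          rw [← (Commute.refl z).mul_pow] at hi
          have h5 := h2.pow_left i
          rw [hi] at h5
          exact h5.eq.symm
        have hfixY : ∀ α ∈ A, (∀ y ∈ Y, Commute y α) → α = 1 := by
          intro α hα hc
          refine mem_bot.1 (hAM ▸ mem_inf.2 ⟨hα, ?_⟩)
          have hJne : Cfsg.Agent.S1312.coreIn j M ≠ ⊥ := coreIn_ne_bot hj hjM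
          rw [← hnM _ hJne (Cfsg.Agent.S1312.coreIn_le j M) (coreIn_le_normalizer j M)]
          refine centralizer_le_normalizer _ (mem_centralizer_iff.2 fun x hx => ?_)
          have hJn : ∀ v ∈ M, v⁻¹ = v → ∀ y ∈ Cfsg.Agent.S1312.coreIn j M,
              v * y * v ∈ Cfsg.Agent.S1312.coreIn j M := fun v hv hvi y hy => by
            have := (mem_normalizer_iff.1 (coreIn_le_normalizer j M hv) y).1 hy
            rwa [hvi] at this
          obtain ⟨x1, z, hx1, hx1t, hzJ, hzt, rfl⟩ :=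
            CfsgLib.RankOneInvol.exists_fixed_mul_inverted hJodd E.t_sq (hJn _ htM E.t_inv) hx
          obtain ⟨y, w, hy, hyb, hwJ, hwb, rfl⟩ :=
            CfsgLib.RankOneInvol.exists_fixed_mul_inverted
              (X := Cfsg.Agent.S1312.coreIn j M ⊓ centralizer ({E.t} : Set G))
              (Odd.of_dvd_nat hJodd (card_dvd_of_le inf_le_left)) hb.sq
              (fun c hc => ⟨hJn _ hbM hb.inv c hc.1, mem_centralizer_singleton_iff.2
                (((show Commute b E.t from hb.comm).mul_left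
                  (mem_centralizer_singleton_iff.1 hc.2)).mul_left hb.comm).eq⟩)
              (show x1 ∈ _ from ⟨hx1, mem_centralizer_singleton_iff.2
                ((fixed_iff_commute E.t_sq).1 hx1t)⟩)
          have h1 : Commute y α := hc y
            ⟨hy, mem_centralizer_singleton_iff.2 ((fixed_iff_commute hb.sq).1 hyb)⟩
          have h2 : Commute w α := (hz b hb.sq hinvb w (hJK hwJ.1)
            (CfsgLib.RankOneInvol.odd_orderOf_of_mem hJodd hwJ.1) hwb α hα).symm
          have h3 : Commute z α := (hz E.t E.t_sq hinv z (hJK hzJ)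
            (CfsgLib.RankOneInvol.odd_orderOf_of_mem hJodd hzJ) hzt α hα).symm
          exact ((h1.mul_left h2).mul_left h3).eq
        haveI : (P.subgroupOf M'').Normal := by
          rw [normal_subgroupOf_iff_le_normalizer (Cfsg.Agent.S1312.coreIn_le k M'')]
          exact coreIn_le_normalizer k M''
        have hdata : UniqTwoAct.Data (A.subgroupOf M'') (Y.subgroupOf M'') (P.subgroupOf M'')
            (⟨E.t, ht''⟩ : M'') := by
          have cA := Nat.card_congr (subgroupOfEquivOfLe hAM'').toEquiv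
          have cY := Nat.card_congr (subgroupOfEquivOfLe hYM'').toEquiv
          have cP := Nat.card_congr (subgroupOfEquivOfLe (Cfsg.Agent.S1312.coreIn_le k M'')).toEquiv
          refine ⟨by rw [cA]; exact hAodd, by rw [cY]; exact Odd.of_dvd_nat hJodd (card_dvd_of_le hYJ),
            by rw [cP]; exact hPodd, by rw [cA, cP]; exact hqk, by rw [cA, cY]; exact hYA,
            ?_, Subtype.ext E.t_sq, ?_, ?_, ?_, ?_, ?_⟩
          · exact fun x hx y hy => Subtype.ext (hcomm _ hx _ hy).eq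
          · exact fun x hx => Subtype.ext (hinv _ hx)
          · exact fun y hy x hx => hnA _ (hJK (hYJ hy)) _ hx
          · intro x hx h
            refine Subtype.ext (hfixY _ hx fun y hy => ?_)
            exact congrArg Subtype.val (h ⟨y, hYM'' hy⟩ hy).eq
          · exact fun y hy => Subtype.ext (mem_centralizer_singleton_iff.1 hy.1.2)
          · intro y hy x hx hxt
            refine Subtype.ext ?_
            have hxM : (x : G) ∈ M :=
              hHM (E.mem_H.2 ((fixed_iff_commute E.t_sq).1 (congrArg Subtype.val hxt)))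
            exact (commute_of_disjoint
              (IsPGroup.disjoint_of_ne j k hjr _ _ (coreIn_isPGroup hj M) (coreIn_isPGroup hk M''))
              (hYJ hy) hx (coreIn_le_normalizer k M'' (hYM'' hy)) (coreIn_le_normalizer j M hxM)).eq
        intro x hx α hα
        exact congrArg Subtype.val (UniqTwoAct.centralizes hdata
          ((coreIn_isPGroup hk M'').comap_subtype (K := M'')) ⟨α, hAM'' hα⟩ hα
          ⟨x, Cfsg.Agent.S1312.coreIn_le k M'' hx⟩ hx)
      · -- primes different from `r`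
        intro x hx α hα
        refine commute_of_inverted hPodd E.t_sq (fun z hz => by simpa [E.t_inv] using hnP _ ht'' z hz)
          (hnP α (hAM'' hα)) (hinv α hα) (CfsgLib.RankOneInvol.odd_orderOf_of_mem hAodd hα)
          (hqk.coprime_dvd_left (A.orderOf_dvd_natCard hα)) (fun c hc hct => ?_) x hx
        have hcM : c ∈ M := hHM (E.mem_H.2 ((fixed_iff_commute E.t_sq).1 hct))
        suffices hcK : c ∈ K from (commute_of_disjoint
          (IsPGroup.disjoint_of_ne q k hkq.symm _ _ (coreIn_isPGroup hq K) (coreIn_isPGroup hk M''))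
          hα hc (coreIn_le_normalizer k M'' (hAM'' hα)) (coreIn_le_normalizer q K hcK)).eq
        obtain ⟨c1, c2, hc1, hc1b, hc2, hc2b, rfl⟩ :=
          CfsgLib.RankOneInvol.exists_fixed_mul_inverted
            (X := P ⊓ centralizer ({E.t} : Set G))
            (Odd.of_dvd_nat hPodd (card_dvd_of_le inf_le_left)) hb.sq
            (fun z hz => ⟨by simpa [hb.inv] using hnP _ hb'' z hz.1,
              mem_centralizer_singleton_iff.2 (((show Commute b E.t from hb.comm).mul_left
                (mem_centralizer_singleton_iff.1 hz.2)).mul_left hb.comm).eq⟩)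
            (show c ∈ _ from ⟨hc, mem_centralizer_singleton_iff.2 ((fixed_iff_commute E.t_sq).1 hct)⟩)
        have hc1K : c1 ∈ K :=
          hNK (hnormD c1 (hHM (E.mem_H.2 (mem_centralizer_singleton_iff.1 hc1.2)))
            (coreIn_le_normalizer r M' (hCb (mem_centralizer_singleton_iff.2
              ((fixed_iff_commute hb.sq).1 hc1b)))))
        refine mul_mem hc1K (hNK (centralizer_le_normalizer _ (mem_centralizer_iff.2 fun d hd => ?_)))
        -- transport by `g`
        set c' := g * c2 * g⁻¹ with hc'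
        have h1 : c' ∈ Cfsg.Agent.S1312.coreIn k M := by
          have h : c2 ∈ Cfsg.Agent.S1312.coreIn k (conjBy M g⁻¹) := hc2.1
          rw [pCoreOf_conjBy, mem_conjBy, inv_inv] at h
          exact h
        have h2 : c' * b = b * c' := by
          have h := Setup.commute_conj (g := g) (mem_centralizer_singleton_iff.1 hc2.2)
          rwa [hgt] at h
        have h3 : E.t * c' * E.t = c'⁻¹ := by
          have hinv' : (b * E.t) * c' * (b * E.t) = c'⁻¹ := by
            rw [hc', ← hgb]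
            calc g * b * g⁻¹ * (g * c2 * g⁻¹) * (g * b * g⁻¹) = g * (b * c2 * b) * g⁻¹ := by group
              _ = _ := by rw [hc2b]; group
          rw [← hinv']
          have hfb' : b * c' * b = c' := (fixed_iff_commute hb.sq).2 h2
          calc E.t * c' * E.t = E.t * (b * c' * b) * E.t := by rw [hfb']
            _ = (E.t * b) * c' * (b * E.t) := by group
            _ = b * E.t * c' * (b * E.t) := by rw [← hb.comm]
        have h4 := commute_core_conj hHM hO2 hb hgt hk hr (Ne.symm hkr) h1 h2 h3 (g * d * g⁻¹) (by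
          rw [pCoreOf_conjBy]
          exact mem_map_of_mem _ (mem_inf.1 (hd : d ∈ R ⊓ R')).1)
        have h5 := Setup.commute_conj (g := g⁻¹) h4
        rw [hc'] at h5
        simpa [mul_assoc] using h5.symm
    -- so `A` lies in the Fitting subgroup of `M''`
    refine eq_bot_iff.2 fun α hα => mem_bot.2 ?_
    have hαM : g * α * g⁻¹ ∈ M := by
      have h := hAM'' hα
      rwa [hM'', mem_conjBy, inv_inv] at h
    have hFc : (⟨g * α * g⁻¹, hαM⟩ : M) ∈ Cfsg.fittingSubgroup M := by
      refine CfsgLib.Components.centralizer_generalizedFitting_le_fitting ?_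
      rw [Cfsg.generalizedFittingSubgroup, hlayer, bot_sup_eq, mem_centralizer_iff]
      intro f hf
      refine Subtype.ext ?_
      show (f : G) * (g * α * g⁻¹) = g * α * g⁻¹ * (f : G)
      refine (commute_of_parts (x := g * α * g⁻¹) (mem_map_of_mem M.subtype hf) fun s hs w _ hw => ?_).eq.symm
      have hw' : g⁻¹ * w * g ∈ Cfsg.Agent.S1312.coreIn s M'' := by
        rw [hM'', pCoreOf_conjBy, mem_conjBy, inv_inv]
        simpa [mul_assoc] using hw
      have h := Setup.commute_conj (g := g) (hcent s hs _ hw' α hα)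
      show g * α * g⁻¹ * w = w * (g * α * g⁻¹)
      simpa [mul_assoc] using h
    obtain ⟨i, hi⟩ := (coreIn_isPGroup hq K) ⟨α, hα⟩
    have hαq : (g * α * g⁻¹) ^ q ^ i = 1 := by
      rw [conj_pow, show α ^ q ^ i = 1 from congrArg Subtype.val hi, mul_one, mul_inv_cancel]
    have hin : g * α * g⁻¹ ∈ Cfsg.Agent.S1312.coreIn q M := by
      refine ⟨⟨_, hαM⟩, Cfsg.Agent.S1312.pgroup_le_fitting_le_pCore ?_ (zpowers_le.2 hFc)
        (mem_zpowers _), rfl⟩
      obtain ⟨e, -, he⟩ := (Nat.dvd_prime_pow hq).1 (orderOf_dvd_of_pow_eq_one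
        (x := (⟨g * α * g⁻¹, hαM⟩ : M)) (n := q ^ i) (Subtype.ext (by simpa using hαq)))
      exact IsPGroup.of_card (n := e) (by rw [Nat.card_zpowers, he])
    rw [coreIn_eq_bot hq hqM, mem_bot, conj_eq_one_iff] at hin
    exact hin
  have hFK : (Cfsg.fittingSubgroup K).map K.subtype ≤ M ⊓ M' := by
    rw [map_le_iff_le_comap, CfsgLib.Fitting.fitting_eq_iSup_pCore]
    exact iSup_le fun s => map_le_iff_le_comap.1 (hcores s (Nat.prime_of_mem_primeFactors s.2))
  by_cases hlK : Cfsg.layer K = ⊥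
  · -- no component: `K = M = M'`
    exfalso
    have hna : ¬ IsMulCommutative G := fun h => E.H_ne_top (eq_top_iff.2 fun x _ =>
      E.mem_H.2 (h.is_comm.comm x E.t))
    have hFne : (Cfsg.fittingSubgroup K).map K.subtype ≠ ⊥ := by
      intro h
      rw [Subgroup.map_eq_bot_iff_of_injective _ (subtype_injective K)] at h
      have h1 : (⊤ : Subgroup K) ≤ ⊥ := by
        rw [← h]
        intro x _
        refine CfsgLib.Components.centralizer_generalizedFitting_le_fitting ?_
        rw [Cfsg.generalizedFittingSubgroup, hlK, bot_sup_eq, h, mem_centralizer_iff]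
        intro y hy
        rw [mem_bot.1 hy, one_mul, mul_one]
      exact E.t_ne_one (congrArg Subtype.val (mem_bot.1 (h1 (mem_top (⟨E.t, htK⟩ : K)))))
    have hKgen : (Cfsg.generalizedFittingSubgroup K).map K.subtype ≤ M ⊓ M' := by
      rw [Cfsg.generalizedFittingSubgroup, hlK, bot_sup_eq]
      exact hFK
    have hK1 : Cfsg.leadsTo K M :=
      ⟨_, hFne, le_rfl, inf_le_left.trans (hKgen.trans inf_le_left)⟩
    have hK2 : Cfsg.leadsTo K M' :=
      ⟨_, hFne, le_rfl, inf_le_left.trans (hKgen.trans inf_le_right)⟩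
    have htwo : ∀ X : Subgroup G, r ∣ Nat.card (Cfsg.fittingSubgroup X) →
        j ∣ Nat.card (Cfsg.fittingSubgroup X) →
        ¬ ∃ p : ℕ, p.Prime ∧ IsPGroup p (Cfsg.generalizedFittingSubgroup X) := by
      rintro X h1 h2 ⟨p, hp, hpX⟩
      haveI := Fact.mk hp
      obtain ⟨e, he⟩ := IsPGroup.iff_card.1 (hpX.to_le CfsgLib.Components.fitting_le_generalizedFitting)
      rw [he] at h1 h2
      exact hjr (((Nat.prime_dvd_prime_iff_eq hj hp).1 (hj.dvd_of_dvd_pow h2)).trans
        ((Nat.prime_dvd_prime_iff_eq hr hp).1 (hr.dvd_of_dvd_pow h1)).symm)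
    rcases eq_or_pgroup hna hM hKc hMK hK1 with h | ⟨p, hp, hpM, -⟩
    · rcases eq_or_pgroup hna hM'c hKc hM'K hK2 with h' | ⟨p, hp, hpM, -⟩
      · exact hne (h.trans h'.symm)
      · exact htwo M' ((dvd_fitting_conjBy hr g).2 hrM) ((dvd_fitting_conjBy hj g).2 hjM) ⟨p, hp, hpM⟩
    · exact htwo M hrM hjM ⟨p, hp, hpM⟩
  -- a component
  set L := (Cfsg.layer K).map K.subtype with hL
  have hLK : L ≤ K := map_subtype_le _
  have hLn : ∀ k ∈ K, ∀ x ∈ L, k * x * k⁻¹ ∈ L := fun k hk x hx =>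
    (mem_normalizer_iff.1 (Cfsg.Agent.S1312.le_normalizer_map (Cfsg.layer K) hk) x).1 hx
  have hLO : ∀ x ∈ coreIn K, ∀ l ∈ L, x * l = l * x := by
    rintro _ ⟨x, hx, rfl⟩ _ ⟨l, hl, rfl⟩
    haveI : Group.IsSolvable (Cfsg.oddCore K) := CfsgLib.PF.oddSolvable _
      (Nat.coprime_two_right.1 CfsgLib.PCore.pPrimeCore_coprime)
    exact congrArg Subtype.val (CfsgLib.Components.commute_of_commutator_eq_bot
      (CfsgLib.Components.commutator_layer_solvable (Cfsg.oddCore K)) hl hx).symm
  have hKne : K ≠ ⊤ := hKc.1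
  have haK : a ∈ K := hNK (hnormD a (Cfsg.Agent.S1312.coreIn_le r M ha) (coreIn_le_normalizer r M' haM'))
  obtain ⟨e, he⟩ := IsPGroup.iff_card.1 (coreIn_isPGroup hr M)
  have hRodd : Odd (Nat.card R) := by rw [hR, he]; exact (hr.odd_of_ne_two hr2).pow
  have haO : a ∈ coreIn K := mem_coreIn_of_normalized E hb hKne htK hbK htK E.orderOf_t
    (B := R ⊓ K) inf_le_right (Odd.of_dvd_nat hRodd (card_dvd_of_le inf_le_left))
    (fun c hc hct x hx => ⟨(mem_normalizer_iff.1
      (coreIn_le_normalizer r M (hHM (E.mem_H.2 hct))) x).1 hx.1,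
      K.mul_mem (K.mul_mem hc hx.2) (K.inv_mem hc)⟩) ⟨ha, haK⟩ hat
  have haone : a * E.t = E.t * a → a = 1 := fun h =>
    CfsgLib.RankOneInvol.eq_one_of_mem_of_sq hRodd ha (by
      rw [(fixed_iff_commute E.t_sq).2 h] at hat
      exact eq_inv_iff_mul_eq_one.1 hat)
  -- an involution of the four-group in the layer
  have hperf : ⁅L, L⁆ = L := by
    rw [hL, ← Subgroup.map_commutator, CfsgLib.Components.commutator_layer_self]
  have hLne : L ≠ ⊥ := fun h =>
    hlK ((Subgroup.map_eq_bot_iff_of_injective _ (subtype_injective K)).1 h)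
  have hnotsolv : ∀ O : Subgroup G, Odd (Nat.card O) → L ≤ O → False := fun O hO hLO' => by
    haveI : Group.IsSolvable L := CfsgLib.PF.oddSolvable _ (Odd.of_dvd_nat hO (card_dvd_of_le hLO'))
    refine hLne ?_
    obtain ⟨n, hn⟩ := ((Group.isSolvable_def L).1 inferInstance)
    have h0 : ∀ i, (derivedSeries L i).map L.subtype = L := by
      intro i
      induction i with
      | zero => rw [derivedSeries_zero, ← MonoidHom.range_eq_map, range_subtype]
      | succ i ih => rw [derivedSeries_succ, Subgroup.map_commutator, ih, hperf]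
    rw [← h0 n, hn, Subgroup.map_bot]
  have hLt : ∀ x ∈ L, E.t * x * E.t ∈ L := fun x hx => by simpa [E.t_inv] using hLn _ htK x hx
  have hLb : ∀ x ∈ L, b * x * b ∈ L := fun x hx => by simpa [hb.inv] using hLn _ hbK x hx
  have h2L : 2 ∣ Nat.card L := by
    by_contra h
    exact hnotsolv L (Nat.odd_iff.2 (Nat.two_dvd_ne_zero.1 h)) le_rfl
  obtain ⟨w, hwL, hwcases⟩ : ∃ w ∈ L, w = E.t ∨ w = b ∨ w = b * E.t := by
    have h1 := two_dvd_card_inf_centralizer E.t_sq hLt h2L
    have h2 := two_dvd_card_inf_centralizer hb.sq (C := L ⊓ centralizer ({E.t} : Set G))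
      (fun x hx => ⟨hLb x hx.1, mem_centralizer_singleton_iff.2 (((show Commute b E.t from hb.comm).mul_left
        (mem_centralizer_singleton_iff.1 hx.2)).mul_left hb.comm).eq⟩) h1
    obtain ⟨w, hw⟩ := exists_prime_orderOf_dvd_card' 2 h2
    rw [← Subgroup.orderOf_coe] at hw
    exact ⟨(w : G), w.2.1.1, involution_cases E hb hw (mem_centralizer_singleton_iff.1 w.2.1.2)
      (mem_centralizer_singleton_iff.1 w.2.2)⟩
  rcases hwcases with hwe | hwe | hwe <;> rw [hwe] at hwL
  · exact haone (hLO a haO _ hwL)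
  swap
  · refine haone ?_
    have h1 : Commute a (b * (b * E.t)) := (show Commute a b from hab).mul_right (hLO a haO _ hwL)
    rw [← mul_assoc, hb.sq, one_mul] at h1
    exact h1.eq
  rcases Nat.eq_zero_or_pos E.d.k with hk | hk
  · by_cases h4 : 4 ∣ Nat.card L
    · exact haone (hLO a haO _ (t_mem_of_four_dvd E hb hk hLt hLb h4))
    · exfalso
      obtain ⟨O, hOodd, hOmem, hOcov⟩ := exists_odd_part hb.sq hb.ne_one hwL h4
      have hbn : b ∉ O := fun h => by
        have h2 := ((hOmem b).1 h).2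
        rw [hb.orderOf_eq] at h2
        exact absurd h2 (by decide)
      have hidx : (O.subgroupOf L).index = 2 := by
        rw [index_eq_two_iff]
        refine ⟨⟨b, hwL⟩, fun x => ?_⟩
        simp only [mem_subgroupOf, Subgroup.coe_mul]
        rcases hOcov x x.2 with h | h
        · exact Or.inr ⟨h, fun h' => hbn ((mul_mem_cancel_left h).1 h')⟩
        · exact Or.inl ⟨h, fun h' => hbn ((mul_mem_cancel_left h').1 h)⟩
      refine hnotsolv O hOodd ?_
      conv_lhs => rw [← hperf]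
      rw [commutator_le]
      intro x hx y hy
      have hn2 := Subgroup.normal_of_index_eq_two hidx
      have h : ⁅(⟨x, hx⟩ : L), (⟨y, hy⟩ : L)⁆ ∈ O.subgroupOf L := by
        rw [commutatorElement_def, mul_mem_iff_of_index_two hidx, mul_mem_iff_of_index_two hidx,
          mul_mem_iff_of_index_two hidx, inv_mem_iff, inv_mem_iff]
        tauto
      exact mem_subgroupOf.1 h
  -- `b` in the layer and a swapping element
  obtain ⟨hst, hsb⟩ := hb.swap hk
  set σ := E.d.t with hσ
  have hσM : σ ∈ M := hHM (E.S_le_H E.d.t_mem)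
  set a' := σ * a * σ⁻¹ with ha'
  have ha'R : a' ∈ R := (mem_normalizer_iff.1 (coreIn_le_normalizer r M hσM) a).1 ha
  have hbtinv : b * E.t * a' * (b * E.t) = a' ∧ E.t * a' * E.t = a'⁻¹ := by
    refine ⟨(fixed_iff_commute hb.mul_t.sq).2 ?_, ?_⟩
    · have := Setup.commute_conj (g := σ) hab
      rwa [hsb] at this
    · rw [ha']
      conv_lhs => rw [← hst]
      calc σ * E.t * σ⁻¹ * (σ * a * σ⁻¹) * (σ * E.t * σ⁻¹) = σ * (E.t * a * E.t) * σ⁻¹ := by group
        _ = _ := by rw [hat]; group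
  set c := g * a' * g⁻¹ with hc
  have hct : c * E.t = E.t * c := by
    have h := Setup.commute_conj (g := g) ((fixed_iff_commute hb.mul_t.sq).1 hbtinv.1)
    rwa [hgbt] at h
  have hcb : b * c * b = c⁻¹ := by
    rw [hc]
    conv_lhs => rw [← hgt]
    calc g * E.t * g⁻¹ * (g * a' * g⁻¹) * (g * E.t * g⁻¹) = g * (E.t * a' * E.t) * g⁻¹ := by group
      _ = _ := by rw [hbtinv.2]; group
  have hcR : c ∈ R' := by
    rw [hR', hM', pCoreOf_conjBy]
    exact ⟨a', ha'R, rfl⟩
  have hcK : c ∈ K := hNK (hnormD c (hHM (E.mem_H.2 hct))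
    (coreIn_le_normalizer r M' (Cfsg.Agent.S1312.coreIn_le r M' hcR)))
  obtain ⟨e', he'⟩ := IsPGroup.iff_card.1 (coreIn_isPGroup hr M')
  have hR'odd : Odd (Nat.card R') := by rw [hR', he']; exact (hr.odd_of_ne_two hr2).pow
  have hcO : c ∈ coreIn K := mem_coreIn_of_normalized E hb hKne htK hbK hbK hb.orderOf_eq
    (B := R' ⊓ K) inf_le_right (Odd.of_dvd_nat hR'odd (card_dvd_of_le inf_le_left))
    (fun d hd hdb x hx => ⟨(mem_normalizer_iff.1
      (coreIn_le_normalizer r M' (hCb (mem_centralizer_singleton_iff.2 hdb))) x).1 hx.1,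
      K.mul_mem (K.mul_mem hd hx.2) (K.inv_mem hd)⟩) ⟨hcR, hcK⟩ hcb
  have hc1 : c = 1 := CfsgLib.RankOneInvol.eq_one_of_mem_of_sq hR'odd hcR (by
    rw [(fixed_iff_commute hb.sq).2 (hLO c hcO _ hwL)] at hcb
    exact eq_inv_iff_mul_eq_one.1 hcb)
  rw [hc, conj_eq_one_iff, ha', conj_eq_one_iff] at hc1
  exact hc1

/-- Step 2, two primes: an element of `O_r(M)` centralised by `b` is centralised by `t`. -/
theorem commute_two (E : Setup G) {M : Subgroup G} (hM : IsCoatom M) (hHM : E.H ≤ M) {b : G}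
    (hb : E.Refl b) (hfb : ∀ g ∈ M, g * E.t * g⁻¹ ≠ b)
    (hfbt : ∀ g ∈ M, g * E.t * g⁻¹ ≠ b * E.t)
    (hO2 : Cfsg.pCore 2 ↥M = ⊥) (hlayer : Cfsg.layer ↥M = ⊥) {r : ℕ} (hr : r.Prime)
    {j : ℕ} (hj : j.Prime) (hjr : j ≠ r) (hjM : j ∣ Nat.card (Cfsg.fittingSubgroup ↥M))
    {a : G} (ha : a ∈ Cfsg.Agent.S1312.coreIn r M) (hab : a * b = b * a) :
    a * E.t = E.t * a := by
  haveI := Fact.mk hr
  by_cases hr2 : r = 2
  · subst hr2
    rw [Cfsg.Agent.S1312.coreIn, hO2, Subgroup.map_bot, mem_bot] at ha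
    rw [ha, one_mul, mul_one]
  obtain ⟨e, he⟩ := IsPGroup.iff_card.1 (coreIn_isPGroup hr M)
  have hRodd : Odd (Nat.card (Cfsg.Agent.S1312.coreIn r M)) := by
    rw [he]; exact (hr.odd_of_ne_two hr2).pow
  have htM : E.t ∈ M := hHM (E.S_le_H E.t_mem_S)
  obtain ⟨a0, a1, ha0, ha0t, ha1, ha1t, rfl⟩ :=
    CfsgLib.RankOneInvol.exists_fixed_mul_inverted
      (X := Cfsg.Agent.S1312.coreIn r M ⊓ centralizer ({b} : Set G))
      (Odd.of_dvd_nat hRodd (card_dvd_of_le inf_le_left)) E.t_sq
      (fun x hx => ⟨by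
          have := (mem_normalizer_iff.1 (coreIn_le_normalizer r M htM) x).1 hx.1
          rwa [E.t_inv] at this,
        mem_centralizer_singleton_iff.2 (((show Commute E.t b from hb.comm.symm).mul_left
          (mem_centralizer_singleton_iff.1 hx.2)).mul_left hb.comm.symm).eq⟩)
      (show a ∈ _ from ⟨ha, mem_centralizer_singleton_iff.2 hab⟩)
  have h1 : a1 = 1 := eq_one_of_two E hM hHM hb hfb hO2 hlayer hr hr2 hj hjr hjM ha1.1
    (mem_centralizer_singleton_iff.1 ha1.2) ha1t
  rw [h1, mul_one]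
  exact (fixed_iff_commute E.t_sq).1 ha0t

end CfsgLib.GW.Uniq
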