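import Cfsg.Agent.Lib.GW.UniqOne
import Cfsg.Agent.Lib.GW.UniqTwo
import Cfsg.Agent.Lib.DGroup.Setup
import Cfsg.Agent.Lib.Tech46.Bender

/-!
Gorenstein–Walter, Step 2: if a maximal subgroup `M ≥ C(t)` fuses `t` neither into `b` nor into
`b * t`, then `t` centralises `O(M)`.
-/

set_option autoImplicit false
set_option linter.style.haveILetI false
set_option linter.unusedSectionVars false

namespace CfsgLib.GW.Uniq

open Subgroup CfsgLib.DihProduct

universe u

variable {G : Type u} [Group G] [Finite G]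

/-- A nontrivial normal subgroup of the Sylow subgroup contains `t` or has order two. -/
theorem t_mem_or_pair (E : Setup G) {T : Subgroup G} (hT : T ≤ (E.S : Subgroup G)) :
    E.t ∈ T ∨ T = ⊥ ∨ ∃ v, E.Refl v ∧ v ∈ T ∧ ∀ x ∈ T, x = 1 ∨ x = v := by
  haveI : Fact (Nat.Prime 2) := ⟨Nat.prime_two⟩
  by_cases ht : E.t ∈ T
  · exact Or.inl ht
  refine Or.inr ?_
  have hrot : ∀ x ∈ T, x ∈ zpowers E.d.r → x = 1 := by
    intro x hx hxr
    by_contra hne
    obtain ⟨j, hj⟩ := IsPGroup.iff_orderOf.1 E.S.2 ⟨x, hT hx⟩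
    rw [Subgroup.orderOf_mk] at hj
    obtain rfl | ⟨i, rfl⟩ : j = 0 ∨ ∃ i, j = i + 1 := by
      rcases j with _ | i
      exacts [Or.inl rfl, Or.inr ⟨i, rfl⟩]
    · exact hne (orderOf_eq_one_iff.1 (by rw [hj, pow_zero]))
    have h2 : orderOf (x ^ 2 ^ i) = 2 := by
      rw [orderOf_pow_of_dvd (by positivity) (by rw [hj]; exact pow_dvd_pow 2 (Nat.le_succ i)), hj,
        pow_succ, Nat.mul_div_cancel_left _ (by positivity)]
    obtain ⟨h1, h3⟩ := CfsgLib.Involutions.orderOf_eq_two_iff_mul.1 h2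
    have h4 : x ^ 2 ^ i = E.t := (E.d.rot_sq_eq_one (pow_mem hxr _) h3).resolve_left h1
    exact ht (h4 ▸ pow_mem hx _)
  by_cases hbot : T = ⊥
  · exact Or.inl hbot
  obtain ⟨v, hvT, hv1⟩ := T.ne_bot_iff_exists_ne_one.1 hbot |> fun ⟨v, h⟩ =>
    (⟨v, v.2, fun e => h (Subtype.ext e)⟩ : ∃ v ∈ T, v ≠ 1)
  have hvr : v ∉ zpowers E.d.r := fun h => hv1 (hrot v hvT h)
  have hv : E.Refl v := ⟨hT hvT, hvr⟩
  refine Or.inr ⟨v, hv, hvT, fun x hx => ?_⟩
  by_cases hxr : x ∈ zpowers E.d.r
  · exact Or.inl (hrot x hx hxr)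
  · refine Or.inr ?_
    have h1 := hrot _ (mul_mem hx hvT) (E.d.refl_mul_refl (hT hx) hxr hv.1 hv.2)
    rw [eq_inv_of_mul_eq_one_left h1, hv.inv]

theorem card_centralizer_eq (E : Setup G) {v : G} (hv : orderOf v = 2) :
    Nat.card (centralizer ({v} : Set G)) = Nat.card E.H := by
  obtain ⟨g, hg⟩ := E.exists_conj hv
  have h : centralizer ({v} : Set G) = conjBy E.H g := by
    ext x
    rw [mem_conjBy, E.mem_H, mem_centralizer_singleton_iff, ← hg]
    constructor
    · intro h
      have := Setup.commute_conj (g := g⁻¹) h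
      simpa [mul_assoc] using this
    · intro h
      have := Setup.commute_conj (g := g) h
      simpa [mul_assoc] using this
  rw [h, conjBy, card_map_of_injective (MulAut.conj g).injective]

/-- Step 2: `t` centralises `O(M)`. -/
theorem commute_coreIn (E : Setup G) {M : Subgroup G} (hM : IsCoatom M) (hHM : E.H ≤ M)
    {b : G} (hb : E.Refl b) (hfb : ∀ g ∈ M, g * E.t * g⁻¹ ≠ b)
    (hfbt : ∀ g ∈ M, g * E.t * g⁻¹ ≠ b * E.t) :
    ∀ w ∈ coreIn M, w * E.t = E.t * w := by
  haveI : Fact (Nat.Prime 2) := ⟨Nat.prime_two⟩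
  intro w hw
  have hSM : (E.S : Subgroup G) ≤ M := E.S_le_H.trans hHM
  set P : Sylow 2 M := E.S.subtype hSM with hP
  have htM : E.t ∈ M := hSM E.t_mem_S
  obtain ⟨w', hw', rfl⟩ := hw
  -- `O₂(M) ≠ 1`
  by_cases hO2 : Cfsg.pCore 2 ↥M = ⊥
  swap
  · set T := Cfsg.Agent.S1312.coreIn 2 M with hTdef
    have hTS : T ≤ (E.S : Subgroup G) := by
      rintro _ ⟨y, hy, rfl⟩
      exact mem_subgroupOf.1 (CfsgLib.PCore.pCore_le_sylow P hy)
    rcases t_mem_or_pair E hTS with ht | hbot | ⟨v, hv, hvT, hall⟩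
    · obtain ⟨z, hz, hze⟩ := ht
      rw [← hze]
      exact congrArg Subtype.val (mem_centralizer_iff.1
        (CfsgLib.PCore.pPrimeCore_le_centralizer_pCore hw') z hz).symm
    · exact absurd ((map_eq_bot_iff_of_injective _ M.subtype_injective).1 hbot) hO2
    · have hMv : M ≤ centralizer ({v} : Set G) := fun m hm => by
        refine mem_centralizer_singleton_iff.2 ?_
        obtain ⟨y, hy, hye⟩ := hvT
        have h1 : m * v * m⁻¹ ∈ T :=
          ⟨⟨m, hm⟩ * y * ⟨m, hm⟩⁻¹, (Cfsg.pCore_normal 2 ↥M).conj_mem y hy _, by simp [← hye]⟩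
        rcases hall _ h1 with h | h
        · exact absurd (by simpa using conj_eq_one_iff.1 h) hv.ne_one
        · exact mul_inv_eq_iff_eq_mul.1 h
      have hHv : E.H = centralizer ({v} : Set G) :=
        eq_of_le_of_card_ge (hHM.trans hMv) (card_centralizer_eq E hv.orderOf_eq).le
      exact E.mem_H.1 (hHv ▸ hMv (w'.2))
  -- a component
  by_cases hlayer : Cfsg.layer ↥M = ⊥
  swap
  · set T := ((Cfsg.layer ↥M) ⊓ (P : Subgroup ↥M)).map M.subtype with hTdef
    have hTS : T ≤ (E.S : Subgroup G) := by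
      rintro _ ⟨y, hy, rfl⟩
      exact mem_subgroupOf.1 hy.2
    by_cases ht : E.t ∈ T
    · obtain ⟨z, hz, hze⟩ := ht
      haveI : Group.IsSolvable (Cfsg.oddCore ↥M) := CfsgLib.PF.oddSolvable _
        (Nat.not_even_iff_odd.1 fun h => CfsgLib.PCore.not_dvd_card_pPrimeCore h.two_dvd)
      have := CfsgLib.Components.commute_of_commutator_eq_bot
        (CfsgLib.Components.commutator_layer_solvable (Cfsg.oddCore ↥M)) hz.1 hw'
      rw [← hze]
      exact congrArg Subtype.val this.symm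
    exfalso
    haveI hLn : (Cfsg.layer ↥M).Normal := inferInstance
    set L := Cfsg.layer ↥M
    let Q : Sylow 2 L := default
    obtain ⟨m, hm⟩ := CfsgLib.Involutions.exists_conj_le_sylow (Q.2.map L.subtype) P
    have hQT : Nat.card (Q : Subgroup L) ≤ Nat.card T := by
      refine Nat.card_le_card_of_injective (fun x => ⟨((m * (x : L) * m⁻¹ : ↥M) : G),
        mem_map_of_mem _ (mem_inf.2 ⟨hLn.conj_mem _ (x : L).2 m,
          hm _ (mem_map_of_mem _ x.2)⟩)⟩) ?_
      intro x y h
      exact Subtype.ext (Subtype.ext (mul_left_cancel (mul_right_cancel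
        (Subtype.ext (congrArg Subtype.val h :)))))
    have hT2 : Nat.card T ≤ 2 := by
      rcases t_mem_or_pair E hTS with h | h | ⟨v, hv, -, hall⟩
      · exact absurd h ht
      · rw [h, card_bot]; norm_num
      · have h1 : Nat.card T ≤ Nat.card ({1, v} : Set G) :=
          Nat.card_mono (Set.toFinite _) (fun x hx => by simpa using hall x hx)
        refine h1.trans ?_
        rw [Nat.card_coe_set_eq]
        exact (Set.ncard_insert_le _ _).trans (by simp)
    have hcyc : IsCyclic (Q : Subgroup L) := by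
      obtain ⟨n, hn⟩ := IsPGroup.iff_card.1 Q.2
      rcases n with _ | _ | n
      · rw [pow_zero] at hn
        exact @isCyclic_of_subsingleton _ _ (Nat.card_eq_one_iff_unique.1 hn).1
      · exact isCyclic_of_prime_card (p := 2) (by simpa using hn)
      · have h4 : 4 ≤ 2 ^ (n + 1 + 1) := by
          rw [pow_succ, pow_succ]
          have := Nat.one_le_two_pow (n := n)
          omega
        omega
    haveI := CfsgLib.DGroup.isSolvable_of_cyclic_sylow Q hcyc
    exact hlayer (sSup_eq_bot.2 fun C hC =>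
      absurd (Group.isSolvable_of_isSolvable_injective (inclusion_injective
        (CfsgLib.Components.component_le_layer hC))) (CfsgLib.Components.component_not_isSolvable hC))
  -- `F*(M) = F(M)` is odd
  exfalso
  have hcomm : ∀ r : ℕ, r.Prime → ∀ y ∈ Cfsg.Agent.S1312.coreIn r M, y * E.t = E.t * y := by
    intro r hr
    haveI := Fact.mk hr
    by_cases hr2 : r = 2
    · subst hr2
      intro y hy
      rw [Cfsg.Agent.S1312.coreIn, hO2, Subgroup.map_bot, mem_bot] at hy
      rw [hy, one_mul, mul_one]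
    have key : ∀ b : G, E.Refl b → (∀ g ∈ M, g * E.t * g⁻¹ ≠ b) →
        (∀ g ∈ M, g * E.t * g⁻¹ ≠ b * E.t) →
        ∀ a ∈ Cfsg.Agent.S1312.coreIn r M, a * b = b * a → a * E.t = E.t * a := by
      intro b hb hfb hfbt a ha hab
      by_cases hone : ∀ q : ℕ, q.Prime → q ∣ Nat.card (Cfsg.fittingSubgroup ↥M) → q = r
      · exact commute_single E hM hHM hb hfb hfbt hO2 hlayer hr hone ha hab
      · push Not at hone
        obtain ⟨j, hj, hjd, hjr⟩ := hone
        exact commute_two E hM hHM hb hfb hfbt hO2 hlayer hr hj hjr hjd ha hab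
    set A := Cfsg.Agent.S1312.coreIn r M with hA
    have hodd : Odd (Nat.card A) := by
      obtain ⟨k, hk⟩ := IsPGroup.iff_card.1 (Cfsg.Tech46.Bender.coreIn_isPGroup hr M)
      rw [hA, hk]
      exact (hr.odd_of_ne_two hr2).pow
    have hn : ∀ v : G, v ∈ M → v * v = 1 → ∀ y ∈ A, v * y * v ∈ A := fun v hv hv2 y hy => by
      have := (mem_normalizer_iff.1 (Cfsg.Tech46.Bender.coreIn_le_normalizer r M hv) y).1 hy
      rwa [inv_eq_of_mul_eq_one_right hv2] at this
    have hle : A ≤ E.H := hb.le_of_fixed hodd (hn _ htM E.t_sq) (hn _ (hHM hb.mem_H) hb.sq)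
      (fun y _ h => E.mem_H.2 h) (fun y hy h => E.mem_H.2 (key b hb hfb hfbt y hy h))
      (fun y hy h => E.mem_H.2 (key _ hb.mul_t hfbt
        (by rwa [mul_assoc, E.t_sq, mul_one]) y hy h))
    exact fun y hy => E.mem_H.1 (hle hy)
  set z : M := ⟨E.t, htM⟩ with hz
  have hzc : z ∈ centralizer (Cfsg.fittingSubgroup ↥M : Set ↥M) := by
    have h1 : Cfsg.fittingSubgroup ↥M ≤ centralizer ({z} : Set ↥M) := by
      rw [CfsgLib.Fitting.fitting_eq_iSup_pCore]
      exact iSup_le fun r y hy => mem_centralizer_singleton_iff.2 (Subtype.ext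
        (hcomm r (Nat.prime_of_mem_primeFactors r.2) y ⟨y, hy, rfl⟩))
    exact mem_centralizer_iff.2 fun y hy => mem_centralizer_singleton_iff.1 (h1 hy)
  have hzF : z ∈ Cfsg.fittingSubgroup ↥M := by
    have h := CfsgLib.Components.centralizer_generalizedFitting_le (G := ↥M)
    rw [Cfsg.generalizedFittingSubgroup, hlayer, bot_sup_eq] at h
    exact h hzc
  have hp : IsPGroup 2 (zpowers z) := IsPGroup.of_card (n := 1) (by
    rw [Nat.card_zpowers, ← Subgroup.orderOf_coe, pow_one]; exact E.orderOf_t)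
  have := Cfsg.Agent.S1312.pgroup_le_fitting_le_pCore hp (zpowers_le.2 hzF) (mem_zpowers z)
  rw [hO2, mem_bot] at this
  exact E.t_ne_one (congrArg Subtype.val this)

end CfsgLib.GW.Uniq
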