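import Cfsg.Agent.Lib.GW.Max31Out
import Cfsg.Agent.Lib.GW.Max32
import Cfsg.Agent.Lib.GW.ThetaMoved
import Cfsg.Agent.Lib.GW.Uniq

/-!
Gorenstein–Walter: the minimal counterexample does not exist, given Step 1 and Step 3.1 d.
-/

set_option autoImplicit false

namespace CfsgLib.GW

open Subgroup

universe u

/-- A maximal subgroup strictly containing `C(t)` leads to a known group. -/
def CaseOneHyp : Prop :=
  ∀ (G : Type u) [Group G] [Finite G] (E : Setup G) (M : Subgroup G), IsCoatom M → E.H ≤ M →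
    M ≠ E.H →
    (∀ b, E.Refl b → (∀ g ∈ M, g * E.t * g⁻¹ ≠ b ∧ g * E.t * g⁻¹ ≠ b * E.t) →
      ∀ w ∈ coreIn M, w * E.t = E.t * w) → IsPSLOrA7 G

theorem isPSLOrA7_setup (hLe : ∀ (G : Type u) [Group G] [Finite G] (E : Setup G), IsCoatom E.H →
      E.U ≠ ⊥ → ∀ r : ℕ, r.Prime → r ≠ 2 → Max31.FalseOfLe E r)
    (hCase : CaseOneHyp.{u}) (G : Type u) [Group G] [Finite G] (E : Setup G) : IsPSLOrA7 G := by
  by_cases hU : E.U = ⊥
  · exact E.isPSL_of_U_eq_bot hU
  obtain ⟨M, hM, hHM⟩ := (eq_top_or_exists_le_coatom E.H).resolve_left E.H_ne_top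
  by_cases hne : M = E.H
  swap
  · exact hCase G E M hM hHM hne fun b hb h =>
      Uniq.commute_coreIn E hM hHM hb (fun g hg => (h g hg).1) (fun g hg => (h g hg).2)
  subst hne
  have hD : E.Dichotomy := by
    intro r hr hr2 b hb
    by_contra h
    push Not at h
    obtain ⟨C⟩ := Max31.exists_central E hM hU hb hr hr2 h.1 h.2
    exact Max31.false_of_not_le E hM hU hb hr hr2 h.1 (hLe G E hM hU r hr hr2) C
      (hLe G E hM hU r hr hr2 b hb h.1 C)
  refine Max33.isPSL E hM hU (fun r hr hr2 b hb => ?_) (ThetaMoved.linearAbelian E)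
  rcases hD r hr hr2 b hb with hle | hbot
  · by_cases hR : E.R r = ⊥
    · rw [hR, bot_inf_eq]
    · exact (Max32.false_of_le_X E hM hU hb hr hr2 hD hR hle).elim
  · exact hbot

end CfsgLib.GW
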