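import Cfsg.Agent.Lib.GW.Setup
import Cfsg.Agent.Lib.TwoGroups.Semidihedral

/-!
Gorenstein–Walter: orders of the centralisers of an involution and of a four-group for an arbitrary
finite group with dihedral Sylow 2-subgroups.
-/

set_option autoImplicit false
set_option linter.style.haveILetI false
set_option linter.unusedSectionVars false

namespace CfsgLib.GW.Formula

open Subgroup CfsgLib.DihProduct

universe u

variable {G : Type u} [Group G]

theorem relIndex_rot {D : Subgroup G} (d : Dih D) : (zpowers d.r).relIndex D = 2 := by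
  rw [relIndex, index_eq_two_iff]
  refine ⟨⟨d.a, d.a_mem⟩, fun x => ?_⟩
  simp only [mem_subgroupOf, Subgroup.coe_mul]
  rcases d.cases x x.2 with h | h
  · refine Or.inr ⟨h, fun h' => d.a_notMem ?_⟩
    exact (mul_mem_cancel_left h).1 h'
  · refine Or.inl ⟨h, fun h' => d.a_notMem ?_⟩
    exact (mul_mem_cancel_left h').1 h

theorem card_dih {D : Subgroup G} (d : Dih D) : Nat.card D = 2 ^ (d.k + 2) := by
  have h1 := card_mul_index ((zpowers d.r).subgroupOf D)
  rw [Nat.card_congr (subgroupOfEquivOfLe d.rot_le).toEquiv, Nat.card_zpowers, d.order,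
    show ((zpowers d.r).subgroupOf D).index = 2 from relIndex_rot d] at h1
  rw [← h1, ← pow_succ]

theorem closure_eq {D : Subgroup G} (d : Dih D) : closure ({d.r, d.a} : Set G) = D := by
  refine le_antisymm ((closure_le _).2 ?_) fun x hx => ?_
  · rintro x (rfl | rfl)
    exacts [d.r_mem, d.a_mem]
  · have hr : zpowers d.r ≤ closure ({d.r, d.a} : Set G) :=
      zpowers_le.2 (subset_closure (by simp))
    rcases d.cases x hx with h | h
    · exact hr h
    · have := mul_mem (hr h) (inv_mem (subset_closure (by simp : d.a ∈ ({d.r, d.a} : Set G))))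
      rwa [mul_inv_cancel_right] at this

theorem exists_iso {D : Subgroup G} (d : Dih D) :
    Nonempty (D ≃* DihedralGroup (2 ^ (d.k + 1))) := by
  have hu : d.r ^ (2 ^ (d.k + 1)) = 1 := by rw [← d.order, pow_orderOf_eq_one]
  haveI : NeZero (2 ^ (d.k + 1)) := ⟨by positivity⟩
  exact ⟨((MonoidHom.ofInjective (CfsgLib.TwoGroups.SD.dihedralHom_injective d.r d.a hu d.sq d.inv
    d.order d.a_notMem)).trans (MulEquiv.subgroupCongr
      ((CfsgLib.TwoGroups.SD.range_dihedralHom d.r d.a hu d.sq d.inv).trans (closure_eq d)))).symm⟩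

/-- A reflection. -/
theorem refl_mul_a {D : Subgroup G} (d : Dih D) :
    d.r * d.a ∈ D ∧ d.r * d.a ∉ zpowers d.r :=
  ⟨mul_mem d.r_mem d.a_mem, d.mul_refl (mem_zpowers _) d.a_notMem⟩

theorem cases_of_commute {D : Subgroup G} (d : Dih D) {b s : G} (hb : b ∈ D)
    (hbr : b ∉ zpowers d.r) (hs : s ∈ D) (h : s * b = b * s) :
    s = 1 ∨ s = d.z ∨ s = b ∨ s = b * d.z := by
  have key : ∀ x ∈ zpowers d.r, x * b = b * x → x = 1 ∨ x = d.z := fun x hx hxb => by
    refine d.rot_sq_eq_one hx ?_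
    have h1 := d.refl_inv hb hbr hx
    rw [← hxb, mul_inv_cancel_right] at h1
    nth_rewrite 1 [h1]
    rw [inv_mul_cancel]
  by_cases hr : s ∈ zpowers d.r
  · rcases key s hr h with h1 | h1
    · exact Or.inl h1
    · exact Or.inr (Or.inl h1)
  · have h1 : s * b ∈ zpowers d.r := d.refl_mul_refl hs hr hb hbr
    have h2 : s * b * b = b * (s * b) := by rw [← mul_assoc, ← h]
    have hbb := d.refl_sq hb hbr
    have e : s = (s * b) * b := by rw [mul_assoc, hbb, mul_one]
    rcases key _ h1 h2 with h3 | h3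
    · rw [h3, one_mul] at e; exact Or.inr (Or.inr (Or.inl e))
    · rw [h3, ← d.z_central hb] at e; exact Or.inr (Or.inr (Or.inr e))

variable [Finite G] (S : Sylow 2 G) (d : Dih (S : Subgroup G))

theorem orderOf_z : orderOf d.z = 2 :=
  CfsgLib.Involutions.orderOf_eq_two_iff_mul.2 ⟨d.z_ne_one, d.z_sq⟩

include d in
theorem exists_complement (w : G) (hw : orderOf w = 2) :
    ∃ N : Subgroup (centralizer ({w} : Set G)), N.Normal ∧ Odd (Nat.card N) ∧
      ∃ k : ℕ, N.index = 2 ^ k :=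
  Cfsg.Agent.S0514.result S (2 ^ (d.k + 1))
    (by have := Nat.one_le_two_pow (n := d.k); rw [pow_succ]; omega) (exists_iso d) w hw

include d in
theorem mem_core_iff {w : G} (hw : orderOf w = 2) {x : G} :
    x ∈ core w ↔ x * w = w * x ∧ Odd (orderOf x) := by
  haveI : Fact (Nat.Prime 2) := ⟨Nat.prime_two⟩
  constructor
  · intro hx
    exact ⟨mem_centralizer_singleton_iff.1 (coreIn_le _ hx),
      CfsgLib.RankOneInvol.odd_orderOf_of_mem (odd_card_coreIn _) hx⟩
  · rintro ⟨hc, hodd⟩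
    obtain ⟨N, hN, hNodd, k, hk⟩ := exists_complement S d w hw
    let x' : centralizer ({w} : Set G) := ⟨x, mem_centralizer_singleton_iff.2 hc⟩
    have h1 : x' ∈ N := by
      rw [← QuotientGroup.eq_one_iff, ← orderOf_eq_one_iff]
      refine Nat.eq_one_of_dvd_coprimes ((Nat.coprime_two_left.2 hodd).pow_left k) ?_ ?_
      · rw [← hk, index_eq_card]; exact orderOf_dvd_natCard _
      · rw [← Subgroup.orderOf_mk x (mem_centralizer_singleton_iff.2 hc)]
        exact orderOf_map_dvd (QuotientGroup.mk' N) x'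
    exact ⟨x', CfsgLib.PCore.le_pPrimeCore_of_not_dvd hN
      (by rw [← even_iff_two_dvd, Nat.not_even_iff_odd]; exact hNodd) h1, rfl⟩

theorem exists_mul {h : G} (hh : h * d.z = d.z * h) :
    ∃ x ∈ core d.z, ∃ s ∈ (S : Subgroup G), h = x * s := by
  haveI : Fact (Nat.Prime 2) := ⟨Nat.prime_two⟩
  obtain ⟨N, hN, hNodd, k, hk⟩ := exists_complement S d d.z (orderOf_z S d)
  set T : Sylow 2 (centralizer ({d.z} : Set G)) :=
    S.subtype (fun _ hx => mem_centralizer_singleton_iff.2 (d.z_central hx)) with hT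
  have htop : N ⊔ (T : Subgroup _) = ⊤ := by
    rw [← index_eq_one]
    refine Nat.eq_one_of_dvd_coprimes ((Nat.coprime_two_left.2
      (Nat.odd_iff.2 (Nat.two_dvd_ne_zero.1 T.not_dvd_index))).pow_left k) ?_
      (index_dvd_of_le le_sup_right)
    exact hk ▸ index_dvd_of_le le_sup_left
  haveI := hN
  have h1 : (⟨h, mem_centralizer_singleton_iff.2 hh⟩ : centralizer ({d.z} : Set G)) ∈
      ((N ⊔ (T : Subgroup _) : Subgroup _) : Set _) := htop ▸ mem_top _
  rw [normal_mul] at h1
  obtain ⟨x, hx, s, hs, hxs⟩ := Set.mem_mul.1 h1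
  refine ⟨x, ?_, s, hs, congrArg Subtype.val hxs.symm⟩
  exact (mem_core_iff S d (orderOf_z S d)).2 ⟨mem_centralizer_singleton_iff.1 x.2,
    CfsgLib.RankOneInvol.odd_orderOf_of_mem (X := N.map (centralizer ({d.z} : Set G)).subtype)
      (by rwa [card_map_of_injective (centralizer ({d.z} : Set G)).subtype_injective])
      (mem_map_of_mem _ hx)⟩

theorem eq_one_of_mem_core {x : G} (hU : x ∈ core d.z) (hS : x ∈ (S : Subgroup G)) : x = 1 := by
  haveI : Fact (Nat.Prime 2) := ⟨Nat.prime_two⟩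
  obtain ⟨k, hk⟩ := IsPGroup.iff_orderOf.1 S.2 ⟨x, hS⟩
  rw [Subgroup.orderOf_mk] at hk
  have h1 := ((mem_core_iff S d (orderOf_z S d)).1 hU).2
  rcases Nat.eq_zero_or_pos k with rfl | hk0
  · rwa [pow_zero, orderOf_eq_one_iff] at hk
  · rw [hk, ← Nat.not_even_iff_odd] at h1
    exact absurd (Nat.even_pow.2 ⟨even_two, hk0.ne'⟩) h1

theorem mul_inj {x y s s' : G} (hx : x ∈ core d.z) (hy : y ∈ core d.z)
    (hs : s ∈ (S : Subgroup G)) (hs' : s' ∈ (S : Subgroup G)) (h : x * s = y * s') :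
    x = y ∧ s = s' := by
  have h1 : y⁻¹ * x = s' * s⁻¹ := by
    calc y⁻¹ * x = y⁻¹ * (x * s) * s⁻¹ := by group
      _ = s' * s⁻¹ := by rw [h]; group
  have h2 := eq_one_of_mem_core S d (mul_mem (inv_mem hy) hx) (h1 ▸ mul_mem hs' (inv_mem hs))
  rw [h2] at h1
  exact ⟨(inv_mul_eq_one.1 h2).symm, (mul_inv_eq_one.1 h1.symm).symm⟩

theorem card_centralizer :
    Nat.card (centralizer ({d.z} : Set G)) = 2 ^ (d.k + 2) * Nat.card (core d.z) := by
  rw [← card_dih d, mul_comm, ← Nat.card_prod]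
  refine (Nat.card_congr (Equiv.ofBijective
    (fun p : core d.z × (S : Subgroup G) => (⟨p.1 * p.2, mul_mem (coreIn_le _ p.1.2)
      (mem_centralizer_singleton_iff.2 (d.z_central p.2.2))⟩ : centralizer ({d.z} : Set G)))
    ⟨fun p q h => ?_, fun h => ?_⟩)).symm
  · obtain ⟨h1, h2⟩ := mul_inj S d p.1.2 q.1.2 p.2.2 q.2.2 (congrArg Subtype.val h)
    exact Prod.ext (Subtype.ext h1) (Subtype.ext h2)
  · obtain ⟨x, hx, s, hs, e⟩ := exists_mul S d (mem_centralizer_singleton_iff.1 h.2)
    exact ⟨⟨⟨x, hx⟩, ⟨s, hs⟩⟩, Subtype.ext e.symm⟩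

/-- The odd part of the centraliser of a four-group `⟨z, b⟩`. -/
def X (b : G) : Subgroup G := core d.z ⊓ centralizer ({b} : Set G)

theorem card_pair {b : G} (hb : b ∈ (S : Subgroup G)) (hbr : b ∉ zpowers d.r) :
    Nat.card (centralizer ({d.z, b} : Set G)) = 4 * Nat.card (X S d b) := by
  classical
  have hbb := d.refl_sq hb hbr
  have hbz := d.z_central hb
  let V : Subgroup G := (S : Subgroup G) ⊓ centralizer ({b} : Set G)
  have hV : Nat.card V = 4 := by
    have hset : (V : Set G) = ↑({1, d.z, b, b * d.z} : Finset G) := by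
      ext s
      simp only [V, Finset.coe_insert, Finset.coe_singleton, SetLike.mem_coe, Subgroup.mem_inf,
        mem_centralizer_singleton_iff, Set.mem_insert_iff, Set.mem_singleton_iff]
      constructor
      · exact fun h => cases_of_commute d hb hbr h.1 h.2
      · rintro (rfl | rfl | rfl | rfl)
        · exact ⟨one_mem _, by rw [one_mul, mul_one]⟩
        · exact ⟨d.z_mem, hbz.symm⟩
        · exact ⟨hb, rfl⟩
        · exact ⟨mul_mem hb d.z_mem, by rw [mul_assoc, ← hbz]⟩
    rw [← SetLike.coe_sort_coe, Nat.card_coe_set_eq, hset, Set.ncard_coe_finset]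
    have h1 : b ≠ 1 := fun h => hbr (h ▸ one_mem _)
    have h2 : b ≠ d.z := fun h => hbr (h ▸ d.z_rot)
    have h3 : b * d.z ≠ 1 := fun h => h2 (by
      rw [mul_eq_one_iff_eq_inv, d.inv_z] at h; exact h)
    have h4 : b * d.z ≠ d.z := fun h => h1 (mul_eq_right.1 h)
    have h5 : b * d.z ≠ b := fun h => d.z_ne_one (mul_eq_left.1 h)
    simp [h1.symm, h2.symm, h3.symm, h4.symm, h5.symm, d.z_ne_one.symm]
  have hmemC : ∀ x : G, x ∈ centralizer ({d.z, b} : Set G) ↔
      x * d.z = d.z * x ∧ x * b = b * x := fun x => by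
    simp [Subgroup.mem_centralizer_iff, eq_comm]
  rw [← hV, mul_comm, ← Nat.card_prod]
  refine (Nat.card_congr (Equiv.ofBijective
    (fun p : X S d b × V => (⟨p.1 * p.2, ?_⟩ : centralizer ({d.z, b} : Set G)))
    ⟨fun p q h => ?_, fun h => ?_⟩)).symm
  · obtain ⟨hx, hxb⟩ := p.1.2
    obtain ⟨hs, hsb⟩ := p.2.2
    rw [hmemC]
    exact ⟨((show Commute (p.1 : G) d.z from
        mem_centralizer_singleton_iff.1 (coreIn_le _ hx)).mul_left (d.z_central hs)).eq,
      ((show Commute (p.1 : G) b from mem_centralizer_singleton_iff.1 hxb).mul_left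
        (mem_centralizer_singleton_iff.1 hsb)).eq⟩
  · obtain ⟨h1, h2⟩ := mul_inj S d p.1.2.1 q.1.2.1 p.2.2.1 q.2.2.1 (congrArg Subtype.val h)
    exact Prod.ext (Subtype.ext h1) (Subtype.ext h2)
  · obtain ⟨hz, hxb⟩ := (hmemC h).1 h.2
    obtain ⟨y, hy, s, hs, e⟩ := exists_mul S d hz
    have e' : (b * y * b⁻¹) * (b * s * b⁻¹) = y * s := by
      calc b * y * b⁻¹ * (b * s * b⁻¹) = b * (y * s) * b⁻¹ := by group
        _ = y * s := by rw [← e, ← hxb, mul_inv_cancel_right]
    obtain ⟨h1, h2⟩ := mul_inj S d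
      (conj_mem_coreIn (mem_centralizer_singleton_iff.2 hbz) hy) hy
      (mul_mem (mul_mem hb hs) (inv_mem hb)) hs e'
    exact ⟨⟨⟨y, hy, mem_centralizer_singleton_iff.2 (mul_inv_eq_iff_eq_mul.1 h1).symm⟩,
      ⟨s, hs, mem_centralizer_singleton_iff.2 (mul_inv_eq_iff_eq_mul.1 h2).symm⟩⟩,
      Subtype.ext e.symm⟩

theorem X_mul_z {b : G} : X S d (b * d.z) = X S d b := by
  ext x
  simp only [X, Subgroup.mem_inf, mem_centralizer_singleton_iff]
  refine and_congr_right fun hx => ?_
  have hc : Commute x d.z := mem_centralizer_singleton_iff.1 (coreIn_le _ hx)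
  constructor
  · intro h
    have := (show Commute x (b * d.z) from h).mul_right hc
    rwa [mul_assoc, d.z_sq, mul_one] at this
  · exact fun h => ((show Commute x b from h).mul_right hc).eq

end CfsgLib.GW.Formula
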