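import Cfsg.Agent.Lib.GW.Formula

/-!
Gorenstein–Walter: Sylow subgroups of order eight, the second equation on the degrees of the
principal block (from the difference of the sections of the central involution and of a rotation).
-/

set_option autoImplicit false
set_option linter.style.haveILetI false
set_option linter.unusedSectionVars false

namespace CfsgLib.DihedralCount

open Cfsg DihedralGroup CfsgLib.Involutions
open CfsgLib.ClassCount (cls mem_cls)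
open CfsgLib.TwoGroups.DihedralFusion (parity parity_conj sr_conj)
open scoped Classical

universe u

variable {G : Type u} [Group G] [Fintype G]

namespace Setup

variable {h : ℕ} (D : Setup G h)

/-- The class of a reflection in `C(J)` consists of the fibres of equal parity. -/
theorem card_cls_sr [NeZero (2 * h)] (b : ZMod (2 * h)) :
    (cls (D.ι (sr b))).card = ∑ a ∈ Finset.univ.filter
      (fun a => parity (j := h) (m := 2 * h) rfl a = parity (j := h) rfl b), D.fib a := by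
  unfold fib
  rw [← Finset.card_biUnion (fun a _ c _ hac => Finset.disjoint_left.mpr fun i ha hc => hac
    (by simpa using (Finset.mem_filter.mp ha).2.symm.trans (Finset.mem_filter.mp hc).2))]
  congr 1
  ext i
  simp only [Finset.mem_biUnion, Finset.mem_filter, Finset.mem_univ, true_and, D.mem_inv2]
  have conj_refl : ∀ (c : D.C) (e : ZMod (2 * h)), ∃ a, D.ψ c * sr e * (D.ψ c)⁻¹ = sr a := by
    intro c e
    rcases D.ψ c with a | a
    · exact ⟨_, by rw [inv_r, r_mul_sr, sr_mul_r]⟩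
    · exact ⟨_, by rw [inv_sr, sr_mul_sr, r_mul_sr]⟩
  constructor
  · intro hi
    obtain ⟨c, rfl⟩ := isConj_iff.mp (mem_cls.mp hi)
    obtain ⟨a, ha⟩ := conj_refl c b
    refine ⟨a, (parity_conj (j := h) rfl ha).symm, ?_, ?_⟩
    · rw [orderOf_conj_eq, ← Subgroup.orderOf_coe]
      show orderOf (D.emb (sr b)) = 2
      rw [orderOf_injective D.emb D.inj, orderOf_sr]
    · rw [map_mul, map_mul, map_inv, D.ψ_ι, ha]
  · rintro ⟨a, hab, hi, ha⟩
    rcases D.inv2_cases hi with e | ⟨e, he⟩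
    · rw [show i = D.ι (r (h : ZMod (2 * h))) from Subtype.ext e, D.ψ_ι] at ha
      simp at ha
    · obtain ⟨c, hc⟩ := isConj_iff.mp he
      rw [← hc, map_mul, map_mul, map_inv, D.ψ_ι] at ha
      obtain ⟨g, hg⟩ := sr_conj (j := h) rfl (hab.symm.trans (parity_conj (j := h) rfl ha).symm)
      refine mem_cls.mpr (IsConj.trans (isConj_iff.mpr ⟨D.ι g, ?_⟩) he)
      rw [← map_inv, ← map_mul, ← map_mul, hg]

/-- For rotations of order four: the difference of the two counts. -/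
theorem count_diff (D : Setup G 2) :
    2 * ((D.npairs ((2 : ℕ) : ZMod (2 * 2)) : ℤ) - D.npairs 1) =
      (((cls (D.ι (sr 0))).card : ℤ) - (cls (D.ι (sr (-1)))).card) ^ 2 := by
  haveI : NeZero (2 * 2) := ⟨by norm_num⟩
  have p0 : parity (j := 2) (m := 2 * 2) rfl (2 : ZMod (2 * 2)) = 0 := by rw [map_ofNat]; decide
  have p1 : parity (j := 2) (m := 2 * 2) rfl (3 : ZMod (2 * 2)) = 1 := by rw [map_ofNat]; decide
  have f2 : D.fib 2 = D.fib 0 := D.fib_eq (by rw [p0, map_zero])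
  have f3 : D.fib 3 = D.fib 1 := D.fib_eq (by rw [p1, map_one])
  have c0 : (cls (D.ι (sr 0))).card = D.fib 0 + D.fib 2 := by
    rw [D.card_cls_sr, Finset.sum_filter]
    erw [Fin.sum_univ_four]
    show (if parity (j := 2) (m := 2 * 2) rfl (0 : ZMod (2 * 2)) = _ then _ else 0) +
      (if parity (j := 2) (m := 2 * 2) rfl (1 : ZMod (2 * 2)) = _ then _ else 0) +
      (if parity (j := 2) (m := 2 * 2) rfl (2 : ZMod (2 * 2)) = _ then _ else 0) +
      (if parity (j := 2) (m := 2 * 2) rfl (3 : ZMod (2 * 2)) = _ then _ else 0) = _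
    simp only [map_zero, map_one, p0, p1, one_ne_zero, if_true, if_false]
    exact rfl
  have c1 : (cls (D.ι (sr (-1)))).card = D.fib 1 + D.fib 3 := by
    rw [D.card_cls_sr, Finset.sum_filter]
    erw [Fin.sum_univ_four]
    show (if parity (j := 2) (m := 2 * 2) rfl (0 : ZMod (2 * 2)) = _ then _ else 0) +
      (if parity (j := 2) (m := 2 * 2) rfl (1 : ZMod (2 * 2)) = _ then _ else 0) +
      (if parity (j := 2) (m := 2 * 2) rfl (2 : ZMod (2 * 2)) = _ then _ else 0) +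
      (if parity (j := 2) (m := 2 * 2) rfl (3 : ZMod (2 * 2)) = _ then _ else 0) = _
    simp only [map_neg, map_zero, map_one, CharTwo.neg_eq, p0, p1, zero_ne_one, if_true, if_false]
    exact congrArg (· + D.fib 3) (by simp : (0 : ℕ) + D.fib 1 + 0 = D.fib 1)
  rw [D.npairs_eq (by decide), D.npairs_eq (by decide), c0, c1, f2, f3]
  erw [Fin.sum_univ_four, Fin.sum_univ_four]
  show 2 * (((D.fib 0 * D.fib 2 + D.fib 1 * D.fib 3 + D.fib 2 * D.fib 0 + D.fib 3 * D.fib 1 : ℕ) : ℤ) -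
    ((D.fib 0 * D.fib 1 + D.fib 1 * D.fib 2 + D.fib 2 * D.fib 3 + D.fib 3 * D.fib 0 : ℕ) : ℤ)) = _
  rw [f2, f3]
  push_cast
  ring

end Setup

end CfsgLib.DihedralCount

namespace CfsgLib.DihedralOrder

open Cfsg CfsgLib.Characters
open CfsgLib.ClassCount (cls card_cls_mul_centralizer)
open CfsgLib.DihedralCount (sect Setup invOf)
open CfsgLib.DihedralBlock (Labels root_half)
open DihedralGroup
open CfsgLib.TwoGroups.DihedralFusion (sr_conj involution_cases zmod2_cases parity)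
open scoped ComplexConjugate Classical

universe u

variable {G : Type u} [Group G] [Fintype G] {M : Ideal AlgInt}

/-- Order eight: the difference of the two sections. -/
theorem order_pair (hM : IsPModular 2 M) (P : Sylow 2 G) {σ τ : G}
    (hσ : σ ∈ (P : Subgroup G)) (hσo : orderOf σ = 2 ^ (3 - 1)) (hτo : orderOf τ = 2)
    (hrel : τ * σ * τ⁻¹ = σ⁻¹) (hgen : Subgroup.closure ({σ, τ} : Set G) = (P : Subgroup G))
    (hconj : IsConj (σ ^ 2) τ ∧ IsConj (σ ^ 2) (σ * τ)) {ζ : ℂ} {c a b : IrrCharacter G}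
    {L : ℕ → IrrCharacter G} {δ₁ δ₂ δ₃ : ℤ} (hζ : IsPrimitiveRoot ζ (2 ^ (3 - 1)))
    (B : Labels M 3 σ ζ c a b L δ₁ δ₂ δ₃) :
    (Nat.card G : ℂ) * (-(δ₂ : ℂ) / (a : G → ℂ) 1 + -(δ₃ : ℂ) / (b : G → ℂ) 1 -
        4 * δ₁ / ((c : G → ℂ) 1 + δ₁)) =
      2 * (Nat.card (Subgroup.centralizer ({σ ^ 2} : Set G)) : ℂ) ^ 3 *
        (1 / (Nat.card (Subgroup.centralizer ({σ ^ 2, τ} : Set G)) : ℂ) -
          1 / (Nat.card (Subgroup.centralizer ({σ ^ 2, σ * τ} : Set G)) : ℂ)) ^ 2 := by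
  haveI : Fact (Nat.Prime 2) := ⟨Nat.prime_two⟩
  haveI : NeZero (2 * 2) := ⟨by omega⟩
  obtain ⟨f, hfi, hfr, hf1, hf0, hfs⟩ := exists_emb P (h := 2) le_rfl hσo hτo hrel hgen
  have hfpow : ∀ k : ℕ, f (r (k : ZMod (2 * 2))) = σ ^ k := fun k => by
    rw [← r_one_pow, map_pow, hf1]
  have hone : ∀ t : G, orderOf t = 2 → IsConj (f (r ((2 : ℕ) : ZMod (2 * 2)))) t := by
    intro t ht
    obtain ⟨e, hc⟩ := CfsgLib.Involutions.exists_conj_le_sylow
      (CfsgLib.Involutions.isPGroup_two_zpowers ht) P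
    have hm : e * t * e⁻¹ ∈ (P : Subgroup G) := hc t (Subgroup.mem_zpowers t)
    rw [← hfr] at hm
    obtain ⟨g, hg⟩ := hm
    refine IsConj.trans ?_ (isConj_iff.mpr ⟨e, rfl⟩ : IsConj t (e * t * e⁻¹)).symm
    rw [← hg]
    have ho : orderOf g = 2 := by
      rw [← orderOf_injective f hfi, hg, CfsgLib.Involutions.orderOf_conj_eq, ht]
    rcases involution_cases (j := 2) rfl (CfsgLib.Involutions.mul_self_eq_one ho)
      (CfsgLib.Involutions.ne_one_of_involution ho) with rfl | ⟨β, rfl⟩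
    · exact IsConj.refl _
    · have key : ∀ b', parity (j := 2) (m := 2 * 2) rfl b' = parity (j := 2) rfl β →
          IsConj (f (sr b')) (f (sr β)) := fun b' hb' => by
        obtain ⟨s, hs⟩ := sr_conj (j := 2) rfl hb'
        exact isConj_iff.mpr ⟨f s, by rw [← map_inv, ← map_mul, ← map_mul, hs]⟩
      rw [hfpow]
      rcases zmod2_cases (parity (j := 2) (m := 2 * 2) rfl β) with e | e
      · refine hconj.1.trans ?_
        rw [← hf0]; exact key 0 (by rw [e, map_zero])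
      · refine hconj.2.trans ?_
        rw [← hfs]; exact key (-1) (by rw [e, map_neg, map_one, CharTwo.neg_eq])
  obtain ⟨D, hD⟩ := CfsgLib.DihedralCount.exists_setup two_pos even_two f hfi P hfr hone
  have hDJ : D.J = σ ^ 2 := by rw [Setup.J, hD, hfpow]
  have hiso : Nonempty ((P : Subgroup G) ≃* DihedralGroup (2 ^ (3 - 1))) :=
    ⟨((MonoidHom.ofInjective hfi).trans (MulEquiv.subgroupCongr hfr)).symm⟩
  have hS := CfsgLib.DihedralSigma.sigmaFacts P 3 le_rfl hiso hσ hσo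
  have hu1 : invOf (D.emb (r 1)) = D.J := by
    rw [invOf, orderOf_injective D.emb D.inj, orderOf_r_one, Nat.mul_div_cancel_left _ two_pos,
      ← map_pow, r_one_pow]
    rfl
  have hur : invOf (D.emb (r ((2 : ℕ) : ZMod (2 * 2)))) = D.J := by
    show invOf D.J = D.J
    rw [invOf, D.orderOf_J, Nat.div_self two_pos, pow_one]
  have hrot1 : (Setup.rot (h := 2) 1).card = 2 := Finset.card_pair (by decide)
  have hroth : Setup.rot (h := 2) ((2 : ℕ) : ZMod (2 * 2)) = {r ((2 : ℕ) : ZMod (2 * 2))} := by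
    have : -((2 : ℕ) : ZMod (2 * 2)) = ((2 : ℕ) : ZMod (2 * 2)) := by decide
    rw [Setup.rot, this, Finset.pair_eq_singleton]
  set N := Nat.card D.ψ.ker
  set K := (CfsgLib.ClassCount.cls D.J).card
  set cJ := Nat.card D.C with hcJ
  have hKc : (K : ℂ) * cJ = Nat.card G := by exact_mod_cast card_cls_mul_centralizer D.J
  have hcard : cJ = 8 * N := by
    show Nat.card D.C = 8 * Nat.card D.ψ.ker
    rw [D.card_C]
    norm_num
  have hreal : ∀ l, l ≤ 2 ^ (3 - 1) → ∀ χ : IrrCharacter G,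
      conj ((χ : G → ℂ) (σ ^ l)) = (χ : G → ℂ) (σ ^ l) := fun l hl χ =>
    CfsgLib.DihedralBlock.conj_value hS χ hl
  have E1 := pairs_sect (J := D.J) hM (hS.core 1 one_pos (by norm_num)) (hreal 1 (by norm_num))
  have Eh := pairs_sect (J := D.J) hM (hS.core 2 two_pos (by norm_num)) (hreal 2 (by norm_num))
  have hemb1 : D.emb (r 1) = σ ^ 1 := by rw [hD, hf1, pow_one]
  have hembh : D.emb (r ((2 : ℕ) : ZMod (2 * 2))) = σ ^ 2 := hDJ
  have c1 := D.card_pairs hu1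
  have ch := D.card_pairs hur
  have s1 := D.card_sect hu1
  have sh := D.card_sect hur
  rw [hemb1] at c1 s1
  rw [hembh] at ch sh
  have hn1 : (((D.inv2 ×ˢ D.inv2).filter fun z => D.ψ z.1 * D.ψ z.2 ∈ Setup.rot 1)).card =
      2 * D.npairs 1 := by
    rw [show 2 * D.npairs 1 = D.npairs 1 + D.npairs (-1) by rw [D.npairs_neg]; omega]
    rw [Setup.npairs, Setup.npairs, ← Finset.card_union_of_disjoint, ← Finset.filter_or]
    · congr 1
      refine Finset.filter_congr fun z _ => ?_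
      simp [Setup.rot]
    · refine Finset.disjoint_filter.mpr fun z _ e1 e2 => ?_
      have hp : r (1 : ZMod (2 * 2)) ≠ r (-1) := by decide
      exact hp (e1.symm.trans e2)
  have hnh : (((D.inv2 ×ˢ D.inv2).filter fun z => D.ψ z.1 * D.ψ z.2 ∈
      Setup.rot ((2 : ℕ) : ZMod (2 * 2)))).card = D.npairs ((2 : ℕ) : ZMod (2 * 2)) := by
    rw [Setup.npairs, hroth]
    congr 1
    exact Finset.filter_congr fun z _ => Finset.mem_singleton
  rw [hn1] at c1
  rw [hnh] at ch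
  rw [hrot1] at s1
  rw [hroth, Finset.card_singleton, one_mul] at sh
  rw [c1, s1] at E1
  rw [ch, sh] at Eh
  change ((_ : ℕ) : ℂ) * (cJ : ℂ) ^ 2 = _ at E1
  change ((_ : ℕ) : ℂ) * (cJ : ℂ) ^ 2 = _ at Eh
  push_cast at E1 Eh
  have hdiff := D.count_diff
  set cl1 := (CfsgLib.ClassCount.cls (D.ι (sr 0))).card
  set cl2 := (CfsgLib.ClassCount.cls (D.ι (sr (-1)))).card
  set c1' := Nat.card (Subgroup.centralizer ({σ ^ 2, τ} : Set G))
  set c2' := Nat.card (Subgroup.centralizer ({σ ^ 2, σ * τ} : Set G))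
  have hcl : ∀ (s : DihedralGroup (2 * 2)), (CfsgLib.ClassCount.cls (D.ι s)).card *
      Nat.card (Subgroup.centralizer ({σ ^ 2, f s} : Set G)) = cJ := fun s => by
    rw [← hD, ← hDJ, ← card_centralizer_in (D.emb_mem s)]
    exact card_cls_mul_centralizer (D.ι s)
  have hcl1 : cl1 * c1' = cJ := by have := hcl (sr 0); rwa [hf0] at this
  have hcl2 : cl2 * c2' = cJ := by have := hcl (sr (-1)); rwa [hfs] at this
  have hp1 : (c1' : ℂ) ≠ 0 := Nat.cast_ne_zero.mpr Nat.card_pos.ne'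
  have hp2 : (c2' : ℂ) ≠ 0 := Nat.cast_ne_zero.mpr Nat.card_pos.ne'
  have hcJ0 : (cJ : ℂ) ≠ 0 := Nat.cast_ne_zero.mpr Nat.card_pos.ne'
  have hG0 : (Nat.card G : ℂ) ≠ 0 := Nat.cast_ne_zero.mpr Nat.card_pos.ne'
  rw [hDJ] at E1 Eh
  rw [show (CfsgLib.ClassCount.cls (σ ^ 2)).card = K by rw [← hDJ],
    show Nat.card D.ψ.ker = N from rfl] at E1 Eh
  set T := Finset.univ.filter (· ∈ principalBlock M G)
  have hhalf : ζ ^ 2 = -1 := root_half (show (2 : ℕ) ^ (3 - 1) = 2 * 2 from rfl) hζ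
  have hd1 : (δ₁ : ℂ) * δ₁ = 1 := by rcases B.sign₁ with e | e <;> rw [e] <;> norm_num
  have hd2 : (δ₂ : ℂ) * δ₂ = 1 := by rcases B.sign₂ with e | e <;> rw [e] <;> norm_num
  have hd3 : (δ₃ : ℂ) * δ₃ = 1 := by rcases B.sign₃ with e | e <;> rw [e] <;> norm_num
  have hL1 : (L 1 : G → ℂ) 1 = (c : G → ℂ) 1 + δ₁ := by
    have := B.reg_L 1 le_rfl (by norm_num) 1 (by simp)
    linear_combination (-(δ₁ : ℂ)) * this + ((c : G → ℂ) 1 - (L 1 : G → ℂ) 1) * hd1
  have hSd : ∑ χ ∈ T, (χ : G → ℂ) (σ ^ 2) ^ 2 * (χ : G → ℂ) (σ ^ 2) / (χ : G → ℂ) 1 -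
      ∑ χ ∈ T, (χ : G → ℂ) (σ ^ 2) ^ 2 * (χ : G → ℂ) (σ ^ 1) / (χ : G → ℂ) 1 =
      2 * (-(δ₂ : ℂ) / (a : G → ℂ) 1 + -(δ₃ : ℂ) / (b : G → ℂ) 1 -
        4 * δ₁ / ((c : G → ℂ) 1 + δ₁)) := by
    have v1 : (L 1 : G → ℂ) (σ ^ 1) = 0 := by
      rw [B.val_L 1 le_rfl (by norm_num) 1 one_pos (by norm_num)]
      have hz : ζ ≠ 0 := hζ.ne_zero (by norm_num)
      field_simp
      linear_combination (δ₁ : ℂ) * hhalf
    have v2 : (L 1 : G → ℂ) (σ ^ 2) = -2 * δ₁ := by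
      rw [B.val_L 1 le_rfl (by norm_num) 2 two_pos (by norm_num), one_mul, hhalf]
      ring
    rw [← Finset.sum_sub_distrib, sum_block B, show (2 : ℕ) ^ (3 - 2) = 2 from rfl,
      Finset.sum_Ico_succ_top le_rfl, Finset.Ico_self, Finset.sum_empty, zero_add,
      principalIrr_apply, principalIrr_apply, principalIrr_apply,
      B.val_c 2 two_pos (by norm_num), B.val_c 1 one_pos (by norm_num),
      B.val_a 2 two_pos (by norm_num), B.val_a 1 one_pos (by norm_num),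
      B.val_b 2 two_pos (by norm_num), B.val_b 1 one_pos (by norm_num), v1, v2, hL1]
    linear_combination (-2 * (δ₂ : ℂ) / (a : G → ℂ) 1) * hd2 +
      (-2 * (δ₃ : ℂ) / (b : G → ℂ) 1) * hd3 -
      (8 * (δ₁ : ℂ) / ((c : G → ℂ) 1 + δ₁)) * hd1
  set Sh := ∑ χ ∈ T, (χ : G → ℂ) (σ ^ 2) ^ 2 * (χ : G → ℂ) (σ ^ 2) / (χ : G → ℂ) 1
  set S1 := ∑ χ ∈ T, (χ : G → ℂ) (σ ^ 2) ^ 2 * (χ : G → ℂ) (σ ^ 1) / (χ : G → ℂ) 1
  have hK0 : (K : ℂ) ≠ 0 := fun e => hG0 (by rw [← hKc, e, zero_mul])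
  have t1 : (D.npairs 1 : ℂ) * cJ ^ 2 = N * (Nat.card G * S1) := by
    refine mul_left_cancel₀ (mul_ne_zero hK0 two_ne_zero) ?_
    linear_combination E1
  have th : (D.npairs ((2 : ℕ) : ZMod (2 * 2)) : ℂ) * cJ ^ 2 = N * (Nat.card G * Sh) := by
    refine mul_left_cancel₀ hK0 ?_
    linear_combination Eh
  have hdiff' : (2 : ℂ) * ((D.npairs ((2 : ℕ) : ZMod (2 * 2)) : ℂ) - D.npairs 1) =
      ((cl1 : ℂ) - cl2) ^ 2 := by exact_mod_cast congrArg (fun m : ℤ => (m : ℂ)) hdiff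
  have e1 : (cl1 : ℂ) = cJ * (1 / c1') := by
    rw [← hcl1]; push_cast; field_simp
  have e2 : (cl2 : ℂ) = cJ * (1 / c2') := by
    rw [← hcl2]; push_cast; field_simp
  have hc4 : (cJ : ℂ) = 8 * N := by exact_mod_cast congrArg (fun m : ℕ => (m : ℂ)) hcard
  have main : 4 * (cJ : ℂ) ^ 3 * (1 / (c1' : ℂ) - 1 / c2') ^ 2 = Nat.card G * (Sh - S1) := by
    refine mul_left_cancel₀ hcJ0 ?_
    rw [e1, e2] at hdiff'
    linear_combination (-4 * (cJ : ℂ) ^ 2) * hdiff' + 8 * (th - t1) -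
      (Nat.card G : ℂ) * (Sh - S1) * hc4
  rw [hSd] at main
  have hC : (cJ : ℂ) = (Nat.card (Subgroup.centralizer ({σ ^ 2} : Set G)) : ℂ) := by
    rw [hcJ, Setup.C, hDJ]
  rw [← hC]
  linear_combination (-(1 : ℂ) / 2) * main

end CfsgLib.DihedralOrder

namespace CfsgLib.GW.Formula

open Subgroup CfsgLib.DihProduct Cfsg CfsgLib.Characters CfsgLib.Chars17
open scoped Classical

universe u

variable {G : Type u} [Group G] [Finite G]

/-- Sylow subgroups of order eight: the signed degrees of the two further height-zero characters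
and the second equation. -/
theorem exists_pair (S : Sylow 2 G) (d : Dih (S : Subgroup G)) (hk : d.k = 1)
    (hone : ∀ x : G, orderOf x = 2 → ∃ g : G, g * d.z * g⁻¹ = x) :
    ∃ (f : ℕ) (δ g₃ g₄ : ℤ), (δ = 1 ∨ δ = -1) ∧ 5 ≤ f ∧ (δ = -1 → 7 ≤ f) ∧
      (4 : ℤ) ∣ (f : ℤ) - δ ∧ g₃ ≠ 0 ∧ g₄ ≠ 0 ∧
      (Nat.card G : ℚ) * ((f : ℚ) - δ) ^ 2 = f * ((f : ℚ) + δ) * 2 ^ (3 * d.k + 3) *
        (Nat.card (core d.z) : ℚ) ^ 3 *
        (1 / (Nat.card (X S d d.a) : ℚ) + 1 / (Nat.card (X S d (d.r * d.a)) : ℚ)) ^ 2 ∧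
      g₃ + g₄ = δ * ((f : ℤ) + δ) ∧
      1 / (g₃ : ℚ) + 1 / (g₄ : ℚ) - 4 * (δ : ℚ) / ((f : ℚ) + δ) =
        (((Nat.card (X S d d.a) : ℚ) - Nat.card (X S d (d.r * d.a))) /
          ((Nat.card (X S d d.a) : ℚ) + Nat.card (X S d (d.r * d.a)))) ^ 2 *
        (((f : ℚ) - δ) ^ 2 / (f * ((f : ℚ) + δ))) := by
  letI := Fintype.ofFinite G
  haveI : Fact (Nat.Prime 2) := ⟨Nat.prime_two⟩
  obtain ⟨M, ζ, c, a, b, L, δ, δ₂, δ₃, hM, hζ, B, h5, h7, hdvd, hG⟩ :=
    exists_labels_degree S d (by omega) hone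
  obtain ⟨hca, hcb⟩ := conj_a hone
  have e3 : d.k + 2 = 3 := by omega
  rw [e3] at hζ B
  have hd2 : (δ₂ : ℂ) * δ₂ = 1 := by rcases B.sign₂ with e | e <;> rw [e] <;> norm_num
  have hd3 : (δ₃ : ℂ) * δ₃ = 1 := by rcases B.sign₃ with e | e <;> rw [e] <;> norm_num
  have hz : d.r ^ 2 = d.z := by rw [Dih.z, hk]; rfl
  have heq := CfsgLib.DihedralOrder.order_pair hM S (σ := d.r) (τ := d.a) d.r_mem
    (by rw [d.order, hk])
    (CfsgLib.Involutions.orderOf_eq_two_iff_mul.2 ⟨fun h => d.a_notMem (h ▸ one_mem _), d.sq⟩)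
    d.inv (closure_eq d) ⟨hz ▸ hca, hz ▸ hcb⟩ hζ B
  rw [hz, card_centralizer S d, card_pair S d d.a_mem d.a_notMem,
    card_pair S d (refl_mul_a d).1 (refl_mul_a d).2, hk, ← cast_irrDegree a, ← cast_irrDegree b,
    ← cast_irrDegree c] at heq
  have hreg := B.reg_ab 1 (by simp)
  rw [← cast_irrDegree a, ← cast_irrDegree b, ← cast_irrDegree c] at hreg
  have hA : (charDegree (a : G → ℂ) : ℤ) ≠ 0 := by exact_mod_cast (irrDegree_pos a).ne'
  have hB : (charDegree (b : G → ℂ) : ℤ) ≠ 0 := by exact_mod_cast (irrDegree_pos b).ne'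
  have hδ₂ : δ₂ ≠ 0 := by rcases B.sign₂ with e | e <;> omega
  have hδ₃ : δ₃ ≠ 0 := by rcases B.sign₃ with e | e <;> omega
  set f := charDegree (c : G → ℂ)
  refine ⟨f, δ, -δ₂ * charDegree (a : G → ℂ), -δ₃ * charDegree (b : G → ℂ), B.sign₁, h5, h7,
    by rw [hk] at hdvd; exact hdvd, mul_ne_zero (neg_ne_zero.2 hδ₂) hA,
    mul_ne_zero (neg_ne_zero.2 hδ₃) hB, hG, ?_, ?_⟩
  · have e : (1 : ℤ) + δ * f = -δ₂ * charDegree (a : G → ℂ) - δ₃ * charDegree (b : G → ℂ) := by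
      exact_mod_cast hreg
    rcases B.sign₁ with e1 | e1 <;> rw [e1] at e ⊢ <;> linarith
  have hN : (0 : ℚ) < Nat.card G := by exact_mod_cast Nat.card_pos
  have hi : ∀ (e : ℤ), (e : ℂ) * e = 1 → (1 : ℚ) / (e : ℚ) = e := fun e he => by
    have : (e : ℚ) * e = 1 := by exact_mod_cast he
    exact (eq_div_of_mul_eq (left_ne_zero_of_mul_eq_one this) this).symm
  set u : ℚ := (Nat.card (core d.z) : ℚ)
  set x₁ : ℚ := (Nat.card (X S d d.a) : ℚ) with hx₁
  set x₂ : ℚ := (Nat.card (X S d (d.r * d.a)) : ℚ) with hx₂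
  have p₁ : (0 : ℚ) < x₁ := by rw [hx₁]; exact_mod_cast Nat.card_pos
  have p₂ : (0 : ℚ) < x₂ := by rw [hx₂]; exact_mod_cast Nat.card_pos
  have hq : (Nat.card G : ℚ) * (-(δ₂ : ℚ) / charDegree (a : G → ℂ) +
      -(δ₃ : ℚ) / charDegree (b : G → ℂ) - 4 * δ / ((f : ℚ) + δ)) =
      2 * (2 ^ (1 + 2) * u) ^ 3 * (1 / (4 * x₁) - 1 / (4 * x₂)) ^ 2 := by
    apply (Rat.cast_injective (α := ℂ))
    push_cast [u, hx₁, hx₂] at heq ⊢
    norm_num at heq ⊢
    exact heq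
  have hinv : ∀ (e : ℤ) (m : ℚ), (e : ℂ) * e = 1 → 1 / (-(e : ℚ) * m) = -(e : ℚ) / m :=
    fun e m he => by
    rw [neg_mul, div_neg, ← div_div, hi e he, neg_div]
  rw [Int.cast_mul, Int.cast_mul, Int.cast_natCast, Int.cast_natCast, Int.cast_neg, Int.cast_neg,
    hinv _ _ hd2, hinv _ _ hd3]
  have hf : (5 : ℚ) ≤ f := by exact_mod_cast h5
  have hfd : (0 : ℚ) < (f : ℚ) + δ := by rcases B.sign₁ with e | e <;> rw [e] <;> push_cast <;> linarith
  set Y := -(δ₂ : ℚ) / charDegree (a : G → ℂ) + -(δ₃ : ℚ) / charDegree (b : G → ℂ) -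
    4 * δ / ((f : ℚ) + δ)
  rw [show d.k = 1 from hk] at hG
  refine mul_left_cancel₀ hN.ne' ?_
  rw [hq]
  rw [show (Nat.card G : ℚ) * (((x₁ - x₂) / (x₁ + x₂)) ^ 2 * (((f : ℚ) - δ) ^ 2 / (f * ((f : ℚ) + δ)))) =
    ((Nat.card G : ℚ) * ((f : ℚ) - δ) ^ 2) * ((x₁ - x₂) / (x₁ + x₂)) ^ 2 / (f * ((f : ℚ) + δ)) by
      ring, hG]
  field_simp
  ring

end CfsgLib.GW.Formula
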