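import Mathlib

/-!
Gorenstein–Walter, Sylow four-groups, Step 3.1 e: the arithmetic of the three degrees in the
principal block (see `coord/notes/GW_31e_four_helper39.md`).
-/

set_option autoImplicit false

namespace CfsgLib.GW.KleinArith

theorem int_dvd_of_dvd_two_mul {g x : ℤ} (hg : Odd g) (h : g ∣ 2 * x) : g ∣ x :=
  (Int.isCoprime_two_right.2 hg).dvd_of_dvd_mul_left h

theorem mul_ge_add_sub_one {a b : ℤ} (ha : 1 ≤ a) (hb : 1 ≤ b) : a + b - 1 ≤ a * b := by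
  nlinarith [mul_nonneg (sub_nonneg.2 ha) (sub_nonneg.2 hb)]

/-- Two equal parameters. -/
theorem core_eq {M μ N u : ℤ} (hμ : 0 < μ) (hbd : 8 * μ ^ 2 ≤ 3 * (M - 1)) (hu : u ≠ 0)
    (hN1 : M ∣ N - 1) (hkey : N * u ^ 2 = μ ^ 2 * ((2 * M * u - 1) * (4 * M * u - 1))) :
    ∃ s : ℤ, (s = 1 ∨ s = -1) ∧ N = (2 * M * μ + s) * (4 * M * μ + s) := by
  have hcop : IsCoprime (u ^ 2) ((2 * M * u - 1) * (4 * M * u - 1)) :=
    (IsCoprime.mul_right (⟨2 * M, -1, by ring⟩ : IsCoprime u (2 * M * u - 1))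
      (⟨4 * M, -1, by ring⟩ : IsCoprime u (4 * M * u - 1))).pow_left
  have hdvd : u ^ 2 ∣ μ ^ 2 := hcop.dvd_of_dvd_mul_right ⟨N, by rw [← hkey]; ring⟩
  obtain ⟨j, hj⟩ := (Int.pow_dvd_pow_iff two_ne_zero).1 hdvd
  have hu2 : u ^ 2 ≠ 0 := pow_ne_zero 2 hu
  have hN : N = j ^ 2 * ((2 * M * u - 1) * (4 * M * u - 1)) := by
    refine mul_left_cancel₀ hu2 ?_
    rw [mul_comm, hkey, hj]
    ring
  have hjM : M ∣ j ^ 2 - 1 := by
    obtain ⟨c, hc⟩ := hN1
    exact ⟨c - j ^ 2 * (8 * M * u ^ 2 - 6 * u), by linear_combination hc - hN⟩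
  have hj0 : j ≠ 0 := fun h => by rw [h, mul_zero] at hj; omega
  have hjle : j ^ 2 ≤ μ ^ 2 := by
    rw [hj, mul_pow]
    have : 0 < u ^ 2 := by positivity
    nlinarith [sq_nonneg j]
  have hj1 : j ^ 2 = 1 := by
    have h1 : 0 < j ^ 2 := by positivity
    by_contra hne
    have := Int.le_of_dvd (by omega) hjM
    nlinarith
  rw [hj1, one_mul] at hN
  rcases sq_eq_one_iff.1 hj1 with rfl | rfl
  · exact ⟨-1, Or.inr rfl, by rw [hN, hj]; ring⟩
  · exact ⟨1, Or.inl rfl, by rw [hN, hj]; ring⟩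

/-- Two different parameters are impossible. -/
theorem core_ne {M μ N u v : ℤ} (hM : Odd M) (hμ : Odd μ) (hbd : 8 * μ ^ 2 ≤ 3 * (M - 1))
    (huv : u ≠ v) (hd : u + v ≠ 0)
    (hN1 : M ∣ N - 1) (hU : 2 * M * u - 1 ∣ N) (hV : 2 * M * v - 1 ∣ N)
    (hkey : N * u * v * (1 - M * (u + v)) =
      μ ^ 2 * ((2 * M * u - 1) * (2 * M * v - 1) * (1 - 2 * M * (u + v)))) : False := by
  have hμ2 : Odd (μ ^ 2) := hμ.pow
  have hodd : ∀ w : ℤ, Odd (2 * M * w - 1) := fun w => ⟨M * w - 1, by ring⟩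
  have hR : Odd (N * u * v * (1 - M * (u + v))) := by
    rw [hkey]
    exact hμ2.mul (((hodd u).mul (hodd v)).mul ⟨-(M * (u + v)), by ring⟩)
  simp only [Int.odd_mul] at hR
  obtain ⟨⟨⟨hNo, huo⟩, hvo⟩, -⟩ := hR
  have hMpos : 0 < M := by nlinarith [sq_nonneg μ]
  have hUne : 2 * M * u - 1 ≠ 0 := fun h => by have := (hodd u); rw [h] at this; simp at this
  obtain ⟨a, b, hgpos, hab, hUa, hVb⟩ :
      ∃ a b : ℤ, 0 < (Int.gcd (2 * M * u - 1) (2 * M * v - 1) : ℤ) ∧ IsCoprime a b ∧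
        2 * M * u - 1 = Int.gcd (2 * M * u - 1) (2 * M * v - 1) * a ∧
        2 * M * v - 1 = Int.gcd (2 * M * u - 1) (2 * M * v - 1) * b := by
    have h0 : 0 < Int.gcd (2 * M * u - 1) (2 * M * v - 1) := Int.gcd_pos_of_ne_zero_left _ hUne
    obtain ⟨a, b, hc, ha, hb⟩ := Int.exists_gcd_one h0
    exact ⟨a, b, by exact_mod_cast h0, Int.isCoprime_iff_gcd_eq_one.2 hc, ha.trans (mul_comm _ _),
      hb.trans (mul_comm _ _)⟩
  generalize (Int.gcd (2 * M * u - 1) (2 * M * v - 1) : ℤ) = g at hgpos hUa hVb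
  have hgo : Odd g := (Int.odd_mul.1 (hUa ▸ hodd u)).1
  -- the least common multiple divides `N`
  obtain ⟨E, hE⟩ : g * a * b ∣ N := by
    obtain ⟨n, hn⟩ := hU
    have h1 : g * b ∣ g * (a * n) := by rw [← mul_assoc, ← hUa, ← hn, ← hVb]; exact hV
    obtain ⟨m, hm⟩ := hab.symm.dvd_of_dvd_mul_left ((mul_dvd_mul_iff_left hgpos.ne').1 h1)
    exact ⟨m, by rw [hn, hUa, hm]; ring⟩
  have hEo : Odd E := (Int.odd_mul.1 (hE ▸ hNo)).2
  have hab0 : a * b ≠ 0 := by
    intro h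
    rw [hE, mul_assoc g, h] at hNo
    simp at hNo
  -- `g` divides `1 - M d` and `u - v`
  obtain ⟨p, hp⟩ : g ∣ 1 - M * (u + v) :=
    int_dvd_of_dvd_two_mul hgo ⟨-(a + b), by linear_combination -(hUa + hVb)⟩
  have hgM : IsCoprime g M := ⟨-a, 2 * u, by linear_combination hUa⟩
  have hguv : g ∣ u - v := int_dvd_of_dvd_two_mul hgo
    (hgM.dvd_of_dvd_mul_left ⟨a - b, by linear_combination hUa - hVb⟩)
  -- the identity
  have hkey2 : E * (u * v) * p = μ ^ 2 * (1 - 2 * M * (u + v)) := by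
    refine mul_left_cancel₀ (mul_ne_zero (mul_ne_zero hgpos.ne' hgpos.ne') hab0) ?_
    rw [hE, hp, hUa, hVb] at hkey
    linear_combination hkey
  obtain ⟨ρ, hρ⟩ : p ∣ μ ^ 2 :=
    (show IsCoprime p (1 - 2 * M * (u + v)) from
      ⟨2 * g, -1, by linear_combination -2 * hp⟩).dvd_of_dvd_mul_right ⟨E * (u * v), by linear_combination -hkey2⟩
  have hμpos : 0 < μ ^ 2 := by
    have : μ ≠ 0 := fun h => by rw [h] at hμ; simp at hμ
    positivity
  have hp0 : p ≠ 0 := fun h => by rw [h, zero_mul] at hρ; omega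
  have hρ0 : ρ ≠ 0 := fun h => by rw [h, mul_zero] at hρ; omega
  have hkey3 : E * (u * v) = ρ * (1 - 2 * M * (u + v)) :=
    mul_left_cancel₀ hp0 (by linear_combination hkey2 + (1 - 2 * M * (u + v)) * hρ)
  -- the congruence
  have h2M : 2 * M ∣ E - g := by
    refine (Int.isCoprime_two_left.2 hM).mul_dvd (even_iff_two_dvd.1 (hEo.sub_odd hgo)) ?_
    obtain ⟨c, hc⟩ := hN1
    have e : g * N = (2 * M * u - 1) * (2 * M * v - 1) * E := by rw [hE, hUa, hVb]; ring
    exact ⟨g * c - E * (4 * M * u * v - 2 * u - 2 * v), by linear_combination g * hc - e⟩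
  have hEg : E ≠ g := by
    intro h
    subst h
    have h1 : 1 - M * (u + v) ∣ μ ^ 2 :=
      (show IsCoprime (1 - M * (u + v)) (1 - 2 * M * (u + v)) from ⟨2, -1, by ring⟩).dvd_of_dvd_mul_right
        ⟨u * v, by rw [← hkey2, hp]; ring⟩
    have h2 := Int.le_of_dvd hμpos ((abs_dvd _ _).2 h1)
    have hev : Even (u + v) := huo.add_odd hvo
    obtain ⟨k, hk⟩ := hev
    rcases lt_or_gt_of_ne hd with hlt | hgt
    · have hk1 : k ≤ -1 := by omega
      have : 1 + 2 * M ≤ 1 - M * (u + v) := by rw [hk]; nlinarith [mul_le_mul_of_nonneg_left hk1 hMpos.le]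
      have := le_abs_self (1 - M * (u + v))
      omega
    · have hk1 : 1 ≤ k := by omega
      have : 1 - M * (u + v) ≤ 1 - 2 * M := by rw [hk]; nlinarith [mul_le_mul_of_nonneg_left hk1 hMpos.le]
      have := neg_le_abs (1 - M * (u + v))
      omega
  -- sizes
  have hp1 : 1 ≤ |p| := abs_pos.2 hp0
  have hρ1 : 1 ≤ |ρ| := abs_pos.2 hρ0
  have hpr : |p| * |ρ| = μ ^ 2 := by rw [← abs_mul, ← hρ]; exact abs_of_pos hμpos
  have hE1 : 1 ≤ |E| := abs_pos.2 (fun (h : E = 0) => by rw [h] at hEo; simp at hEo)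
  have hd1 : M * |u + v| - 1 ≤ g * |p| := by
    rw [← abs_of_pos hgpos, ← abs_mul, ← hp]
    have := abs_sub_abs_le_abs_sub (M * (u + v)) 1
    rw [abs_mul, abs_of_pos hMpos, abs_one, abs_sub_comm] at this
    exact this
  have hd0 : 1 ≤ |u + v| := abs_pos.2 hd
  have hd2 : (M - 1) * |u + v| ≤ g * μ ^ 2 := by
    rw [← hpr]
    nlinarith [mul_nonneg (mul_nonneg hgpos.le (abs_nonneg p)) (sub_nonneg.2 hρ1)]
  have hd3 : 8 * |u + v| ≤ 3 * g := by
    by_contra hlt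
    nlinarith [mul_le_mul_of_nonneg_left hbd hgpos.le]
  have huv2 : 2 * g ≤ |u - v| := by
    refine Int.le_of_dvd (abs_pos.2 (sub_ne_zero.2 huv)) ((dvd_abs _ _).2 ?_)
    exact (Int.isCoprime_two_left.2 hgo).mul_dvd (even_iff_two_dvd.1 (huo.sub_odd hvo)) hguv
  have hprod : 3 * g ^ 2 ≤ 4 * |u * v| := by
    have h1 : (u - v) ^ 2 - (u + v) ^ 2 = -(4 * (u * v)) := by ring
    have h2 : 4 * g ^ 2 ≤ (u - v) ^ 2 := by rw [← sq_abs (u - v)]; nlinarith
    have h3 : (u + v) ^ 2 ≤ g ^ 2 := by rw [← sq_abs (u + v)]; nlinarith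
    nlinarith [neg_le_abs (u * v)]
  have hW : |ρ| * |1 - 2 * M * (u + v)| ≤ 3 * g * μ ^ 2 := by
    have h1 : |1 - 2 * M * (u + v)| ≤ 2 * g * |p| + 1 := by
      rw [show 1 - 2 * M * (u + v) = 2 * g * p - 1 by linear_combination 2 * hp]
      refine (abs_sub _ _).trans ?_
      rw [abs_mul, abs_mul, abs_two, abs_of_pos hgpos, abs_one]
    rw [← hpr]
    nlinarith [mul_le_mul_of_nonneg_left h1 (abs_nonneg ρ), mul_nonneg
      (mul_nonneg hgpos.le (abs_nonneg ρ)) (sub_nonneg.2 hp1), mul_nonneg (abs_nonneg ρ)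
      (sub_nonneg.2 (show 1 ≤ g by omega))]
  have hEb : |E| * g ≤ 4 * μ ^ 2 := by
    have h1 : |E| * |u * v| = |ρ| * |1 - 2 * M * (u + v)| := by rw [← abs_mul, ← abs_mul, hkey3]
    have h2 := mul_le_mul_of_nonneg_left hprod (abs_nonneg E)
    have h3 : (|E| * g) * (3 * g) ≤ (4 * μ ^ 2) * (3 * g) := by
      calc (|E| * g) * (3 * g) = |E| * (3 * g ^ 2) := by ring
        _ ≤ |E| * (4 * |u * v|) := h2
        _ = 4 * (|E| * |u * v|) := by ring
        _ ≤ 4 * (3 * g * μ ^ 2) := by rw [h1]; omega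
        _ = (4 * μ ^ 2) * (3 * g) := by ring
    exact le_of_mul_le_mul_right h3 (by omega)
  have hsum : 2 * M ≤ |E| + g := by
    have h1 := Int.le_of_dvd (abs_pos.2 (sub_ne_zero.2 hEg)) ((dvd_abs _ _).2 h2M)
    have h2 := abs_sub E g
    rw [abs_of_pos hgpos] at h2
    omega
  have := mul_ge_add_sub_one hE1 (show 1 ≤ g by omega)
  omega

/-- The three signed degrees, two congruent to `-1` and one to `1`. -/
theorem order_eq {M μ U V W N : ℤ} (hM : Odd M) (hμ : Odd μ) (hμ0 : 0 < μ)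
    (hbd : 8 * μ ^ 2 ≤ 3 * (M - 1))
    (hUo : Odd U) (hVo : Odd V) (hWo : Odd W)
    (hU1 : 2 ≤ |U|) (hV1 : 2 ≤ |V|) (hW1 : 2 ≤ |W|)
    (hsum : U + V + W = -1) (hUm : M ∣ U + 1) (hVm : M ∣ V + 1)
    (hN1 : M ∣ N - 1) (hUN : U ∣ N) (hVN : V ∣ N)
    (hkey : N * ((U + 1) * (V + 1) * (W + 1)) = 8 * M ^ 2 * μ ^ 2 * (U * V * W)) :
    ∃ s : ℤ, (s = 1 ∨ s = -1) ∧ N = (2 * M * μ + s) * (4 * M * μ + s) := by
  have split : ∀ X : ℤ, Odd X → M ∣ X + 1 → ∃ x, X = 2 * M * x - 1 := fun X hX h => by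
    obtain ⟨x, hx⟩ := (Int.isCoprime_two_left.2 hM).mul_dvd
      (even_iff_two_dvd.1 (hX.add_odd odd_one)) h
    exact ⟨x, by linear_combination hx⟩
  obtain ⟨u, rfl⟩ := split U hUo hUm
  obtain ⟨v, rfl⟩ := split V hVo hVm
  obtain rfl : W = 1 - 2 * M * (u + v) := by linear_combination hsum
  have hu : u ≠ 0 := fun h => by rw [h] at hU1; norm_num at hU1
  have hd : u + v ≠ 0 := fun h => by rw [h] at hW1; norm_num at hW1
  have hMne : M ≠ 0 := fun h => by rw [h] at hM; simp at hM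
  have hkey1 : N * u * v * (1 - M * (u + v)) =
      μ ^ 2 * ((2 * M * u - 1) * (2 * M * v - 1) * (1 - 2 * M * (u + v))) := by
    refine mul_left_cancel₀ (mul_ne_zero (by norm_num : (8 : ℤ) ≠ 0) (pow_ne_zero 2 hMne)) ?_
    linear_combination hkey
  rcases eq_or_ne u v with rfl | huv
  · refine core_eq hμ0 hbd hu hN1 (mul_right_cancel₀ (b := 1 - M * (u + u)) ?_ ?_)
    · intro h
      have : 2 * M * u = 1 := by linear_combination -h
      have : Even (1 : ℤ) := ⟨M * u, by linear_combination -this⟩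
      simp at this
    · linear_combination hkey1
  · exact (core_ne hM hμ hbd huv hd hN1 hUN hVN hkey1).elim

/-- The symmetrical form: each of the three is congruent to `1` or `-1`. -/
theorem order_eq' {M μ U V W N : ℤ} (hM : Odd M) (hμ : Odd μ) (hμ0 : 0 < μ)
    (hbd : 8 * μ ^ 2 ≤ 3 * (M - 1))
    (hUo : Odd U) (hVo : Odd V) (hWo : Odd W)
    (hU1 : 2 ≤ |U|) (hV1 : 2 ≤ |V|) (hW1 : 2 ≤ |W|)
    (hsum : U + V + W = -1)
    (hUm : M ∣ U - 1 ∨ M ∣ U + 1) (hVm : M ∣ V - 1 ∨ M ∣ V + 1) (hWm : M ∣ W - 1 ∨ M ∣ W + 1)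
    (hN1 : M ∣ N - 1) (hUN : U ∣ N) (hVN : V ∣ N) (hWN : W ∣ N)
    (hkey : N * ((U + 1) * (V + 1) * (W + 1)) = 8 * M ^ 2 * μ ^ 2 * (U * V * W)) :
    ∃ s : ℤ, (s = 1 ∨ s = -1) ∧ N = (2 * M * μ + s) * (4 * M * μ + s) := by
  have h5 : 4 ≤ M := by nlinarith
  have hno : ∀ k : ℤ, 0 < k → k ≤ 4 → M ∣ k → k = M := fun k h0 h4 h => by
    have := Int.le_of_dvd h0 h
    omega
  rcases hUm with hu | hu <;> rcases hVm with hv | hv <;> rcases hWm with hw | hw
  · have := hno 4 (by norm_num) le_rfl (by have := (hu.add hv).add hw; rw [show U - 1 + (V - 1) + (W - 1) = -4 by omega] at this; exact Int.dvd_neg.1 this)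
    subst this
    exact absurd hM (by decide)
  · have := hno 2 (by norm_num) (by norm_num) (by have := (hu.add hv).add hw; rw [show U - 1 + (V - 1) + (W + 1) = -2 by omega] at this; exact Int.dvd_neg.1 this)
    omega
  · have := hno 2 (by norm_num) (by norm_num) (by have := (hu.add hv).add hw; rw [show U - 1 + (V + 1) + (W - 1) = -2 by omega] at this; exact Int.dvd_neg.1 this)
    omega
  · exact order_eq hM hμ hμ0 hbd hVo hWo hUo hV1 hW1 hU1 (by omega) hv hw hN1 hVN hWN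
      (by linear_combination hkey)
  · have := hno 2 (by norm_num) (by norm_num) (by have := (hu.add hv).add hw; rw [show U + 1 + (V - 1) + (W - 1) = -2 by omega] at this; exact Int.dvd_neg.1 this)
    omega
  · exact order_eq hM hμ hμ0 hbd hUo hWo hVo hU1 hW1 hV1 (by omega) hu hw hN1 hUN hWN
      (by linear_combination hkey)
  · exact order_eq hM hμ hμ0 hbd hUo hVo hWo hU1 hV1 hW1 hsum hu hv hN1 hUN hVN hkey
  · have := hno 2 (by norm_num) (by norm_num) (by have := (hu.add hv).add hw; rw [show U + 1 + (V + 1) + (W + 1) = 2 by omega] at this; exact this)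
    omega

/-- The last step: `q` cannot divide the index. -/
theorem false_of_dvd {q z z' r μ ε s : ℤ} {p a : ℕ} (hp : p.Prime) (hp2 : p ≠ 2)
    (hq : q = (p : ℤ) ^ a) (hz : z = r * z') (hz' : 1 ≤ z') (hr : 5 ≤ r)
    (hε : ε = 1 ∨ ε = -1) (hs : s = 1 ∨ s = -1) (hqz : q = 4 * z + ε)
    (hμ : Odd μ) (hμ0 : 0 < μ) (hμr : 2 * μ ≤ r + 1)
    (hdvd : q ∣ μ * ((2 * (r * z) * μ + s) * (4 * (r * z) * μ + s))) : False := by
  have hpp : Prime (p : ℤ) := Nat.prime_iff_prime_int.1 hp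
  have hp3 : (3 : ℤ) ≤ p := by have := hp.two_le; omega
  have hrz : r ≤ z := by rw [hz]; nlinarith
  have hqr : 4 * r - 1 ≤ q := by omega
  -- replace `4 z` by `-ε`
  have hd : q ∣ μ * ((r * μ - 2 * ε * s) * (r * μ - ε * s)) := by
    have e : μ * ((r * μ - 2 * ε * s) * (r * μ - ε * s)) =
        2 * (μ * ((2 * (r * z) * μ + s) * (4 * (r * z) * μ + s))) +
          q * (-(μ * (r * μ) * (r * μ * q - 2 * r * μ * ε + 3 * s))) := by
      subst hqz
      rcases hε with rfl | rfl <;> rcases hs with rfl | rfl <;> ring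
    rw [e]
    exact dvd_add (dvd_mul_of_dvd_right hdvd 2) (dvd_mul_right q _)
  have hnd : ∀ x y : ℤ, (p : ℤ) ∣ x → (p : ℤ) ∣ y → ∀ c d k : ℤ, c * x + d * y = k → |k| ≤ 2 →
      k ≠ 0 → False := fun x y hx hy c d k he hk hk0 => by
    have := Int.le_of_dvd (abs_pos.2 hk0) ((dvd_abs _ _).2
      (he ▸ dvd_add (dvd_mul_of_dvd_right hx c) (dvd_mul_of_dvd_right hy d)))
    omega
  have hεs : ε * s = 1 ∨ ε * s = -1 := by
    rcases hε with rfl | rfl <;> rcases hs with rfl | rfl <;> norm_num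
  have hone : q ∣ μ ∨ q ∣ r * μ - 2 * ε * s ∨ q ∣ r * μ - ε * s := by
    rw [hq] at hd ⊢
    by_cases hm : (p : ℤ) ∣ μ
    · left
      refine hpp.pow_dvd_of_dvd_mul_right a ?_ hd
      intro h
      rcases hpp.dvd_or_dvd h with h | h
      · exact hnd _ _ h hm (-1) r (2 * (ε * s)) (by ring) (by rw [abs_mul]; rcases hεs with e | e <;> rw [e] <;> norm_num)
          (by omega)
      · exact hnd _ _ h hm (-1) r (ε * s) (by ring) (by rcases hεs with e | e <;> rw [e] <;> norm_num)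
          (by omega)
    · right
      have h := hpp.pow_dvd_of_dvd_mul_left a hm hd
      by_cases h2 : (p : ℤ) ∣ r * μ - 2 * ε * s
      · left
        refine hpp.pow_dvd_of_dvd_mul_right a ?_ h
        intro h1
        exact hnd _ _ h1 h2 1 (-1) (ε * s) (by ring) (by rcases hεs with e | e <;> rw [e] <;> norm_num)
          (by omega)
      · exact Or.inr (hpp.pow_dvd_of_dvd_mul_left a h2 h)
  have key : ∀ j : ℤ, (j = 1 ∨ j = 2) → q ∣ r * μ - j * ε * s → False := by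
    intro j hj hdj
    obtain ⟨l, hl⟩ := hdj
    have hl2 : l * ε + j * ε * s = r * (μ - 4 * z' * l) := by subst hqz hz; linear_combination -hl
    have hrl : r ∣ l + j * s := by
      refine ⟨ε * (μ - 4 * z' * l), ?_⟩
      rcases hε with rfl | rfl <;> linarith
    have hlb : |l| * q ≤ r * μ + 2 := by
      have hqpos : 0 < q := by omega
      rw [← abs_of_pos hqpos, ← abs_mul, mul_comm l, ← hl]
      refine (abs_sub _ _).trans ?_
      rw [abs_of_nonneg (by positivity : (0 : ℤ) ≤ r * μ), abs_mul, abs_mul]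
      rcases hj with rfl | rfl <;> rcases hε with rfl | rfl <;> rcases hs with rfl | rfl <;> norm_num
    have hl0 : l + j * s = 0 := by
      by_contra hne
      have h1 := Int.le_of_dvd (abs_pos.2 hne) ((dvd_abs _ _).2 hrl)
      have h2 : r - 2 ≤ |l| := by
        have := abs_add_le l (j * s)
        rcases hj with rfl | rfl <;> rcases hs with rfl | rfl <;> norm_num at this h1 ⊢ <;> omega
      nlinarith [mul_le_mul h2 hqr (by omega) (abs_nonneg l)]
    have hl' : l = -(j * s) := by omega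
    have hev : Even μ := by
      refine ⟨2 * z' * l, ?_⟩
      have hr0 : r ≠ 0 := by omega
      have : r * (μ - 4 * z' * l) = 0 := by rw [← hl2, hl']; ring
      have := (mul_eq_zero.1 this).resolve_left hr0
      linarith
    exact Int.not_even_iff_odd.2 hμ hev
  rcases hone with h | h | h
  · have := Int.le_of_dvd hμ0 h
    omega
  · exact key 2 (Or.inr rfl) h
  · exact key 1 (Or.inl rfl) (by rwa [one_mul])

end CfsgLib.GW.KleinArith
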