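import Cfsg.Agent.Lib.GW.Setup
import Cfsg.Agent.Lib.Tech46.Bender
import Cfsg.Agent.Lib.GWCons.CyclicSylow
import Cfsg.Agent.Lib.Tech46.Schreier
import Cfsg.Agent.Lib.Transfer.Central
import Cfsg.Agent.Lib.InvChar.SmallSolvable
import Cfsg.Agent.Lib.PF.OddOrder
import Mathlib.LinearAlgebra.Projectivization.PSL.PSL2

/-!
Gorenstein–Walter: a maximal subgroup `K` of the minimal counterexample towards which the
centraliser `H` of the involution leads has its Fitting subgroup in `H`; `t` centralises `O(K)`,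
hence so does every perfect subgroup of `K`.
-/

set_option autoImplicit false
set_option linter.style.haveILetI false
set_option linter.unusedSectionVars false

open scoped commutatorElement

namespace CfsgLib.GW.Local

open Subgroup Cfsg.Tech46

universe u

variable {G : Type u} [Group G] [Finite G]

local notation "Op" => Cfsg.Agent.S1312.coreIn

/-! ### General facts -/

theorem isSolvable_of_odd {A : Type u} [Group A] [Finite A] (h : Odd (Nat.card A)) :
    Group.IsSolvable A :=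
  CfsgLib.PF.oddSolvable A h

theorem isSolvable_of_two {A : Type u} [Group A] [Finite A] (h : IsPGroup 2 A) :
    Group.IsSolvable A :=
  haveI : Fact (Nat.Prime 2) := ⟨Nat.prime_two⟩
  haveI := h.isNilpotent
  inferInstance

/-- A finite group with cyclic Sylow `2`-subgroups is solvable. -/
theorem isSolvable_of_cyclic_two {A : Type u} [Group A] [Finite A] (P : Sylow 2 A)
    (hP : IsCyclic (P : Subgroup A)) : Group.IsSolvable A := by
  haveI : Fact (Nat.Prime 2) := ⟨Nat.prime_two⟩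
  by_cases hev : Even (Nat.card A)
  swap
  · exact isSolvable_of_odd (Nat.not_even_iff_odd.1 hev)
  obtain ⟨⟨x, hx⟩, hgen'⟩ := IsCyclic.exists_generator (α := (P : Subgroup A))
  have hgen : (P : Subgroup A) = zpowers x := by
    refine le_antisymm (fun y hy => ?_) (zpowers_le.2 hx)
    obtain ⟨k, hk⟩ := hgen' ⟨y, hy⟩
    exact ⟨k, congrArg Subtype.val hk⟩
  obtain ⟨a, ha⟩ := IsPGroup.iff_card.1 P.2
  have ha0 : a ≠ 0 := by
    rintro rfl
    rw [pow_zero, card_eq_one] at ha
    exact P.ne_bot_of_dvd_card hev.two_dvd ha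
  rw [hgen, Nat.card_zpowers] at ha
  obtain ⟨Q, N, hN, hcompl⟩ := GWCons.CyclicSylow.hasNormalPComplement_of_trivial P hgen
    fun g _ i hi => by
      have h1 : orderOf (x ^ i) = 2 ^ a := by
        rw [← hi, CfsgLib.Involutions.orderOf_conj_eq, ha]
      by_contra hd
      obtain ⟨j, hj⟩ : (2 : ℤ) ∣ i := by push_cast at hd; omega
      have h2 : (x ^ i) ^ (2 ^ (a - 1)) = 1 := by
        rw [← zpow_natCast, ← zpow_mul, hj, show (2 * j * ((2 ^ (a - 1) : ℕ) : ℤ)) =
          ((2 ^ (a - 1) * 2 : ℕ) : ℤ) * j by push_cast; ring, zpow_mul, zpow_natCast,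
          ← pow_succ, Nat.sub_add_cancel (Nat.pos_of_ne_zero ha0), ← ha, pow_orderOf_eq_one,
          one_zpow]
      have h3 := Nat.le_of_dvd (by positivity) (orderOf_dvd_of_pow_eq_one h2)
      rw [h1] at h3
      exact absurd h3 (not_le.2 (Nat.pow_lt_pow_right (by norm_num) (by omega)))
  haveI := hN
  haveI : Group.IsSolvable N := by
    refine isSolvable_of_odd ?_
    rw [← hcompl.index_eq_card]
    exact Nat.not_even_iff_odd.1 fun h => Q.not_dvd_index h.two_dvd
  haveI : Group.IsSolvable (A ⧸ N) := by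
    refine isSolvable_of_two ?_
    obtain ⟨k, hk⟩ := IsPGroup.iff_card.1 Q.2
    exact IsPGroup.of_card (n := k) (by rw [← index_eq_card, hcompl.symm.index_eq_card, hk])
  exact Group.isSolvable_of_ker_le_range N.subtype (QuotientGroup.mk' N)
    (by rw [QuotientGroup.ker_mk', range_subtype])

theorem isSimpleGroup_of_top {L : Type u} [Group L] (h : IsPSLOrA7 L) : IsSimpleGroup L := by
  rcases h with ⟨F, i1, i2, hodd, h3, ⟨f⟩⟩ | ⟨⟨f⟩⟩
  · haveI : IsSimpleGroup (Matrix.ProjectiveSpecialLinearGroup (Fin 2) F) :=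
      Matrix.ProjectiveSpecialLinearGroup.rank_two_simple (F := F)
        (by rw [Nat.card_eq_fintype_card]; omega)
    haveI : Nontrivial L := f.toEquiv.nontrivial
    exact IsSimpleGroup.isSimpleGroup_of_surjective f.symm.toMonoidHom f.symm.surjective
  · haveI : IsSimpleGroup (alternatingGroup (Fin 7)) := alternatingGroup.isSimpleGroup (by simp)
    haveI : Nontrivial L := f.toEquiv.nontrivial
    exact IsSimpleGroup.isSimpleGroup_of_surjective f.symm.toMonoidHom f.symm.surjective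

theorem not_isSolvable_of_top {L : Type u} [Group L] (h : IsPSLOrA7 L) : ¬ Group.IsSolvable L := by
  intro hs
  haveI := isSimpleGroup_of_top h
  have hc : ∀ x y : L, x * y = y * x := IsSimpleGroup.comm_iff_isSolvable.2 hs
  rcases h with ⟨F, i1, i2, hodd, h3, ⟨f⟩⟩ | ⟨⟨f⟩⟩
  · classical
    let a : Matrix.SpecialLinearGroup (Fin 2) F := ⟨!![1, 1; 0, 1], by simp [Matrix.det_fin_two]⟩
    let b : Matrix.SpecialLinearGroup (Fin 2) F := ⟨!![1, 0; 1, 1], by simp [Matrix.det_fin_two]⟩
    have h1 : f.symm ((a * b : Matrix.SpecialLinearGroup (Fin 2) F) :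
          Matrix.ProjectiveSpecialLinearGroup (Fin 2) F) =
        f.symm ((b * a : Matrix.SpecialLinearGroup (Fin 2) F) :
          Matrix.ProjectiveSpecialLinearGroup (Fin 2) F) := by
      rw [QuotientGroup.mk_mul, QuotientGroup.mk_mul, map_mul, map_mul]
      exact hc _ _
    have h2 := QuotientGroup.eq.1 (f.symm.injective h1)
    obtain ⟨r, -, hr⟩ := Matrix.SpecialLinearGroup.mem_center_iff.1 h2
    have e : b * a = a * b * ((a * b)⁻¹ * (b * a)) := by group
    have e' := congrArg Subtype.val e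
    simp only [Matrix.SpecialLinearGroup.coe_mul] at e'
    simp only [Matrix.SpecialLinearGroup.coe_mul] at hr
    have e2 : (!![1, 0; 1, 1] * !![1, 1; 0, 1] : Matrix (Fin 2) (Fin 2) F) =
        !![1, 1; 0, 1] * !![1, 0; 1, 1] * Matrix.scalar (Fin 2) r := by
      rw [hr]; exact e'
    have e00 := congrFun (congrFun e2 0) 0
    have e01 := congrFun (congrFun e2 0) 1
    simp [Matrix.mul_apply, Fin.sum_univ_two, Matrix.scalar_apply] at e00 e01
    rw [← e01] at e00
    simp at e00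
  · have h1 := hc (f.symm ⟨Equiv.swap 0 1 * Equiv.swap 1 2, Equiv.Perm.mem_alternatingGroup.2 (by decide)⟩)
      (f.symm ⟨Equiv.swap 2 3 * Equiv.swap 3 4, Equiv.Perm.mem_alternatingGroup.2 (by decide)⟩)
    rw [← map_mul, ← map_mul] at h1
    exact absurd (f.symm.injective h1) (by decide)

theorem disjoint_parts {p q : ℕ} (hp : p.Prime) (hq : q.Prime) (hpq : p ≠ q) (M N : Subgroup G) :
    Disjoint (Op p M) (Op q N) :=
  haveI := Fact.mk hp
  haveI := Fact.mk hq
  IsPGroup.disjoint_of_ne p q hpq _ _ (Bender.coreIn_isPGroup hp M) (Bender.coreIn_isPGroup hq N)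

theorem odd_card_of_isPGroup {q : ℕ} (hq : q.Prime) (h2 : q ≠ 2) {A : Subgroup G}
    (hA : IsPGroup q A) : Odd (Nat.card A) := by
  haveI := Fact.mk hq
  obtain ⟨n, hn⟩ := IsPGroup.iff_card.1 hA
  exact hn ▸ (hq.odd_of_ne_two h2).pow

theorem eq_one_of_pows {p q : ℕ} (hp : p.Prime) (hq : q.Prime) (hpq : p ≠ q) {A B : Subgroup G}
    (hA : IsPGroup p A) (hB : IsPGroup q B) {x : G} (hxA : x ∈ A) (hxB : x ∈ B) : x = 1 :=
  haveI := Fact.mk hp
  haveI := Fact.mk hq
  Subgroup.disjoint_def.1 (IsPGroup.disjoint_of_ne p q hpq _ _ hA hB) hxA hxB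

/-! ### The centraliser of `t` -/

theorem isSolvable_H (E : Setup G) : Group.IsSolvable E.H := by
  haveI : Fact (Nat.Prime 2) := ⟨Nat.prime_two⟩
  haveI hN : (E.U.subgroupOf E.H).Normal :=
    ⟨fun x hx k => mem_subgroupOf.2 (E.conj_mem_U k.2 (mem_subgroupOf.1 hx))⟩
  have hcard : Nat.card (E.U.subgroupOf E.H) = Nat.card E.U :=
    Nat.card_congr (subgroupOfEquivOfLe E.U_le_H).toEquiv
  haveI : Group.IsSolvable (E.U.subgroupOf E.H) := isSolvable_of_odd (hcard ▸ E.odd_card_U)
  haveI : Group.IsSolvable (E.H ⧸ E.U.subgroupOf E.H) := by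
    refine isSolvable_of_two (IsPGroup.of_card (n := E.d.k + 2) ?_)
    have h := card_eq_card_quotient_mul_card_subgroup (E.U.subgroupOf E.H)
    rw [E.card_H, E.card_S, hcard, mul_comm] at h
    exact (Nat.eq_of_mul_eq_mul_right Nat.card_pos h).symm
  exact Group.isSolvable_of_ker_le_range (E.U.subgroupOf E.H).subtype
    (QuotientGroup.mk' (E.U.subgroupOf E.H)) (by rw [QuotientGroup.ker_mk', range_subtype])

theorem two_dvd_fitting (E : Setup G) : 2 ∣ Nat.card (Cfsg.fittingSubgroup E.H) := by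
  let tH : E.H := ⟨E.t, E.mem_H.2 rfl⟩
  haveI : (zpowers tH).Normal := ⟨fun x hx g => by
    obtain ⟨k, rfl⟩ := hx
    have h : Commute g tH := Subtype.ext (E.mem_H.1 g.2)
    rw [(h.zpow_right k).eq, mul_inv_cancel_right]
    exact ⟨k, rfl⟩⟩
  have h1 := CfsgLib.Fitting.le_fitting (N := zpowers tH) inferInstance
    (haveI : Fact (Nat.Prime 2) := ⟨Nat.prime_two⟩
     (IsPGroup.of_card (n := 1) (by
      rw [Nat.card_zpowers, Subgroup.orderOf_mk, E.orderOf_t, pow_one]) :
        IsPGroup 2 (zpowers tH)).isNilpotent)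
  have h2 := card_dvd_of_le h1
  rwa [Nat.card_zpowers, Subgroup.orderOf_mk, E.orderOf_t] at h2

theorem exists_odd_dvd_fitting (E : Setup G) (hU : E.U ≠ ⊥) :
    ∃ r : ℕ, r.Prime ∧ r ≠ 2 ∧ r ∣ Nat.card (Cfsg.fittingSubgroup E.H) := by
  set N := E.U.subgroupOf E.H with hNdef
  have hN : N.Normal :=
    ⟨fun x hx k => mem_subgroupOf.2 (E.conj_mem_U k.2 (mem_subgroupOf.1 hx))⟩
  have hcard : Nat.card N = Nat.card E.U :=
    Nat.card_congr (subgroupOfEquivOfLe E.U_le_H).toEquiv
  haveI : Group.IsSolvable N := isSolvable_of_odd (hcard ▸ E.odd_card_U)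
  haveI : Nontrivial N := by
    rw [← Finite.one_lt_card_iff_nontrivial, hcard]
    exact (one_lt_card_iff_ne_bot E.U).2 hU
  have h1 : 1 < Nat.card (Cfsg.fittingSubgroup N) :=
    (one_lt_card_iff_ne_bot _).2 CfsgLib.Fitting.fitting_ne_bot
  obtain ⟨r, hr, hrd⟩ := Nat.exists_prime_and_dvd h1.ne'
  refine ⟨r, hr, ?_, ?_⟩
  · rintro rfl
    have h2 : Odd (Nat.card N) := hcard ▸ E.odd_card_U
    exact (Nat.not_even_iff_odd.2 h2)
      (even_iff_two_dvd.2 (hrd.trans (card_subgroup_dvd_card _)))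
  · refine hrd.trans ?_
    rw [← card_map_of_injective (f := N.subtype) N.subtype_injective]
    exact card_dvd_of_le ((CfsgLib.Fitting.map_fitting_of_normal hN).le.trans inf_le_left)

theorem part_le_of_dvd (E : Setup G) (hH : IsCoatom E.H) (hU : E.U ≠ ⊥) {K : Subgroup G}
    (hlead : Cfsg.leadsTo E.H K) {q : ℕ} (hq : q.Prime)
    (hqH : q ∣ Nat.card (Cfsg.fittingSubgroup E.H)) : Op q K ≤ E.H := by
  haveI := E.simple
  obtain ⟨r, hr, hr2, hrH⟩ := exists_odd_dvd_fitting E hU
  by_cases hq2 : q = 2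
  · subst hq2
    exact Bender.coreIn_le_of_two_primes (Bender.normalizer_eq_of_isCoatom hH) hlead hq hr
      (Ne.symm hr2) hqH hrH
  · exact Bender.coreIn_le_of_two_primes (Bender.normalizer_eq_of_isCoatom hH) hlead hq
      Nat.prime_two hq2 hqH (two_dvd_fitting E)

/-- An odd subgroup meeting `H` trivially and normalised by `t` is inverted by `t`. -/
theorem inverted_of_inf_eq_bot (E : Setup G) {A : Subgroup G} (hA : Odd (Nat.card A))
    (hn : ∀ x ∈ A, E.t * x * E.t ∈ A) (hAH : A ⊓ E.H = ⊥) {a : G} (ha : a ∈ A) :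
    E.t * a * E.t = a⁻¹ := by
  obtain ⟨y, z, hy, hyt, -, hzt, rfl⟩ :=
    CfsgLib.RankOneInvol.exists_fixed_mul_inverted hA E.t_sq hn ha
  have hy1 : y = 1 := by
    have : y ∈ A ⊓ E.H := ⟨hy, E.mem_H.2 (by
      calc y * E.t = E.t * y * E.t * E.t := by rw [hyt]
        _ = E.t * y := by rw [mul_assoc, E.t_sq, mul_one])⟩
    rwa [hAH, mem_bot] at this
  rw [hy1, one_mul]
  exact hzt

/-- The image in `K / O(K)` of a perfect subgroup of `K` lies in the simple normal subgroup. -/
theorem map_le_of_perfect (E : Setup G) {K : Subgroup G} (L : Subgroup (K ⧸ Cfsg.oddCore K))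
    (hLn : L.Normal) (hLI : IsPSLOrA7 L) (P' : Subgroup K) (hP' : ⁅P', P'⁆ = P') :
    P'.map (QuotientGroup.mk' (Cfsg.oddCore K)) ≤ L := by
  haveI : Fact (Nat.Prime 2) := ⟨Nat.prime_two⟩
  classical
  haveI := hLn
  set N := Cfsg.oddCore K
  set π := QuotientGroup.mk' N
  have hπ : Function.Surjective π := QuotientGroup.mk'_surjective N
  obtain ⟨T⟩ : Nonempty (Sylow 2 K) := inferInstance
  obtain ⟨g, hg⟩ := CfsgLib.Involutions.exists_conj_le_sylow (T.2.map K.subtype) E.S
  set c : K →* G := (MulAut.conj g).toMonoidHom.comp K.subtype with hcdef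
  have hcinj : Function.Injective c := (MulAut.conj g).injective.comp K.subtype_injective
  have hTS : ∀ x ∈ (T : Subgroup K), c x ∈ (E.S : Subgroup G) := fun x hx =>
    hg _ (mem_map_of_mem K.subtype hx)
  set Q : Subgroup K := (T : Subgroup K) ⊓ (zpowers E.d.r).comap c
  haveI hQ : IsCyclic Q :=
    isCyclic_of_injective ((c.comp Q.subtype).codRestrict (zpowers E.d.r) fun x => x.2.2)
      fun x y h => Subtype.ext (hcinj (congrArg Subtype.val h))
  haveI hR : IsCyclic (Q.map π) := isCyclic_of_surjective _ (π.subgroupMap_surjective Q)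
  set P0 : Sylow 2 (K ⧸ N) := T.mapSurjective hπ
  have hP0 : ∀ u, u ∈ (P0 : Subgroup (K ⧸ N)) ↔ ∃ x ∈ (T : Subgroup K), π x = u := fun u => Iff.rfl
  obtain ⟨p, hp, hpL, hpR⟩ : ∃ p ∈ (P0 : Subgroup (K ⧸ N)), p ∈ L ∧ p ∉ Q.map π := by
    by_contra hno
    push Not at hno
    refine not_isSolvable_of_top hLI ?_
    obtain ⟨QL⟩ : Nonempty (Sylow 2 L) := inferInstance
    obtain ⟨y, hy⟩ := CfsgLib.Involutions.exists_conj_le_sylow (QL.2.map L.subtype) P0
    refine isSolvable_of_cyclic_two QL ?_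
    refine isCyclic_of_injective (((MulAut.conj y).toMonoidHom.comp
      (L.subtype.comp (QL : Subgroup L).subtype)).codRestrict (Q.map π) fun x => ?_)
      fun x z h => Subtype.ext (Subtype.ext ((MulAut.conj y).injective (congrArg Subtype.val h)))
    exact hno _ (hy _ (mem_map_of_mem L.subtype x.2)) (hLn.conj_mem _ (x : L).2 y)
  set ρ := QuotientGroup.mk' L
  have hρ : Function.Surjective ρ := QuotientGroup.mk'_surjective L
  have hcov : ((P0.mapSurjective hρ : Sylow 2 _) : Subgroup ((K ⧸ N) ⧸ L)) ≤ (Q.map π).map ρ := by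
    rw [Sylow.coe_mapSurjective]
    rintro _ ⟨u, hu, rfl⟩
    by_cases hu' : u ∈ Q.map π
    · exact mem_map_of_mem ρ hu'
    obtain ⟨x, hx, rfl⟩ := (hP0 u).1 hu
    obtain ⟨z, hz, rfl⟩ := (hP0 p).1 hp
    have hx' : c x ∉ zpowers E.d.r := fun h => hu' (mem_map_of_mem π ⟨hx, h⟩)
    have hz' : c z ∉ zpowers E.d.r := fun h => hpR (mem_map_of_mem π ⟨hz, h⟩)
    have h1 : x * z ∈ Q := ⟨mul_mem hx hz, by
      show c (x * z) ∈ zpowers E.d.r
      rw [map_mul]
      exact E.d.refl_mul_refl (hTS x hx) hx' (hTS z hz) hz'⟩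
    refine ⟨π (x * z), mem_map_of_mem π h1, ?_⟩
    rw [map_mul, map_mul, show ρ (π z) = 1 from (QuotientGroup.eq_one_iff _).2 hpL, mul_one]
  haveI : IsCyclic ((Q.map π).map ρ) := isCyclic_of_surjective _ (ρ.subgroupMap_surjective _)
  haveI : Group.IsSolvable ((K ⧸ N) ⧸ L) := isSolvable_of_cyclic_two (P0.mapSurjective hρ)
    (isCyclic_of_injective (inclusion hcov) (inclusion_injective hcov))
  rintro _ ⟨x, hx, rfl⟩
  rw [← QuotientGroup.ker_mk' L, MonoidHom.mem_ker]
  exact CfsgLib.Tech46.map_eq_bot_of_perfect hP' ((ρ.comp π).comp P'.subtype) ⟨x, hx⟩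

/-- `t` acting as inversion on `A` cannot lie in a perfect subgroup normalising `A`. -/
theorem eq_bot_of_perfect (E : Setup G) {A L : Subgroup G} (hA : Odd (Nat.card A))
    (hn : L ≤ normalizer (A : Set G)) (hL : ⁅L, L⁆ = L) (ht : E.t ∈ L)
    (hinv : ∀ a ∈ A, E.t * a * E.t = a⁻¹) : A = ⊥ := by
  haveI : Fact (Nat.Prime 2) := ⟨Nat.prime_two⟩
  classical
  rw [eq_bot_iff]
  intro a ha
  rw [mem_bot]
  let f : L →* MulAut A := A.normalizerMonoidHom.comp (inclusion hn)
  have hf : ∀ (x : L) (w : A), (f x w : G) = x * w * (x : G)⁻¹ := fun x w => rfl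
  set π : L →* f.range := f.rangeRestrict
  have hπ : Function.Surjective π := f.rangeRestrict_surjective
  set tL : L := ⟨E.t, ht⟩
  set τ : f.range := π tL
  have hτinv : ∀ w : A, (τ : MulAut A) w = w⁻¹ := fun w => Subtype.ext (by
    show (f tL w : G) = _
    rw [hf, E.t_inv]
    exact hinv _ w.2)
  have hτc : τ ∈ center f.range := mem_center_iff.2 fun u => Subtype.ext (MulEquiv.ext fun w => by
    show (u : MulAut A) ((τ : MulAut A) w) = (τ : MulAut A) ((u : MulAut A) w)
    rw [hτinv, hτinv, map_inv])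
  suffices hτ1 : τ = 1 by
    have h1 : a * a = 1 := by
      have h2 := hτinv ⟨a, ha⟩
      rw [hτ1] at h2
      have h3 : a = a⁻¹ := congrArg Subtype.val h2
      nth_rw 1 [h3]
      exact inv_mul_cancel a
    exact CfsgLib.RankOneInvol.eq_one_of_mem_of_sq hA ha h1
  have hperf : commutator f.range = ⊤ := by
    have h1 := (Subgroup.isPerfect_iff.mpr hL).commutator_eq_top
    rw [_root_.commutator_def, ← map_top_of_surjective π hπ, ← map_commutator, ← _root_.commutator_def,
      h1]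
  obtain ⟨T⟩ : Nonempty (Sylow 2 L) := inferInstance
  obtain ⟨g, hg⟩ := CfsgLib.Involutions.exists_conj_le_sylow (T.2.map L.subtype) E.S
  set c : L →* G := (MulAut.conj g).toMonoidHom.comp L.subtype with hc
  have hcapp : ∀ x : L, c x = g * (x : G) * g⁻¹ := fun x => rfl
  have hcinj : Function.Injective c := (MulAut.conj g).injective.comp L.subtype_injective
  have hTS : ∀ x ∈ (T : Subgroup L), c x ∈ (E.S : Subgroup G) := fun x hx =>
    hg _ (mem_map_of_mem L.subtype hx)
  set P : Sylow 2 f.range := T.mapSurjective hπ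
  have hPmem : ∀ u, u ∈ (P : Subgroup f.range) ↔ ∃ x ∈ (T : Subgroup L), π x = u := fun u => Iff.rfl
  set Q : Subgroup L := (T : Subgroup L) ⊓ (zpowers E.d.r).comap c
  set R : Subgroup f.range := Q.map π
  have hRP : R ≤ (P : Subgroup f.range) := map_mono inf_le_left
  have hRcyc : IsCyclic R := by
    haveI : IsCyclic Q :=
      isCyclic_of_injective ((c.comp Q.subtype).codRestrict (zpowers E.d.r) fun x => x.2.2)
        fun x y h => Subtype.ext (hcinj (congrArg Subtype.val h))
    exact isCyclic_of_surjective (π.subgroupMap Q) (π.subgroupMap_surjective Q)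
  have hdich : ∀ u ∈ (P : Subgroup f.range), u ∉ R → ∀ v ∈ (P : Subgroup f.range), v ∉ R →
      u * v ∈ R ∧ u * u = 1 := by
    intro u hu hu' v hv hv'
    obtain ⟨x, hx, rfl⟩ := (hPmem u).1 hu
    obtain ⟨y, hy, rfl⟩ := (hPmem v).1 hv
    have hx' : c x ∉ zpowers E.d.r := fun h => hu' (mem_map_of_mem π ⟨hx, h⟩)
    have hy' : c y ∉ zpowers E.d.r := fun h => hv' (mem_map_of_mem π ⟨hy, h⟩)
    refine ⟨?_, ?_⟩
    · rw [← map_mul]
      refine mem_map_of_mem π ⟨mul_mem hx hy, ?_⟩
      show c (x * y) ∈ zpowers E.d.r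
      rw [map_mul]
      exact E.d.refl_mul_refl (hTS x hx) hx' (hTS y hy) hy'
    · rw [← map_mul, show x * x = 1 from hcinj (by
        rw [map_mul, map_one]; exact E.d.refl_sq (hTS x hx) hx'), map_one]
  have hτsq : τ * τ = 1 := by
    rw [show τ * τ = π (tL * tL) from (map_mul π _ _).symm,
      show tL * tL = 1 from Subtype.ext E.t_sq, map_one]
  have hτP : τ ∈ (P : Subgroup f.range) := by
    haveI : (zpowers τ).Normal := ⟨fun x hx y => by
      obtain ⟨k, rfl⟩ := hx
      rw [mem_center_iff.1 (zpow_mem hτc k) y, mul_inv_cancel_right]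
      exact ⟨k, rfl⟩⟩
    have hz : IsPGroup 2 (zpowers τ) := by
      obtain ⟨k, -, hk⟩ := (Nat.dvd_prime_pow Nat.prime_two).1
        (orderOf_dvd_of_pow_eq_one (x := τ) (n := 2 ^ 1) (by rw [pow_one, pow_two, hτsq]))
      exact IsPGroup.of_card (n := k) (by rw [Nat.card_zpowers, hk])
    exact (CfsgLib.PCore.le_pCore inferInstance hz).trans (CfsgLib.PCore.pCore_le_sylow P)
      (mem_zpowers τ)
  by_cases hab : IsMulCommutative (P : Subgroup f.range)
  · exact CfsgLib.Transfer.eq_one_of_central_commutator (P : Subgroup f.range) hab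
      P.card_coprime_index hτP (hperf ▸ mem_top τ) hτc
  by_contra hτ1
  have hRc : ∀ u ∈ R, ∀ v ∈ R, Commute u v := fun u hu v hv => by
    haveI := hRcyc
    obtain ⟨w, hw⟩ := IsCyclic.exists_generator (α := R)
    obtain ⟨i, hi⟩ := hw ⟨u, hu⟩
    obtain ⟨j, hj⟩ := hw ⟨v, hv⟩
    have hi' : (w : f.range) ^ i = u := congrArg Subtype.val hi
    have hj' : (w : f.range) ^ j = v := congrArg Subtype.val hj
    rw [← hi', ← hj']
    exact Commute.zpow_zpow_self _ i j
  have hτc' : ∀ u, Commute u τ := fun u => mem_center_iff.1 hτc u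
  have hτR : τ ∈ R := by
    by_contra hτR
    refine hab ⟨⟨fun u v => Subtype.ext ?_⟩⟩
    have hdec : ∀ w ∈ (P : Subgroup f.range), ∃ r ∈ R, w = r ∨ w = r * τ := by
      intro w hw
      by_cases hwR : w ∈ R
      · exact ⟨w, hwR, Or.inl rfl⟩
      · exact ⟨w * τ, (hdich w hw hwR τ hτP hτR).1, Or.inr (by rw [mul_assoc, hτsq, mul_one])⟩
    obtain ⟨r1, h1, e1⟩ := hdec _ u.2
    obtain ⟨r2, h2, e2⟩ := hdec _ v.2
    have key : Commute (u : f.range) v := by
      rcases e1 with e1 | e1 <;> rcases e2 with e2 | e2 <;> rw [e1, e2]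
      · exact hRc _ h1 _ h2
      · exact (hRc _ h1 _ h2).mul_right (hτc' _)
      · exact (hRc _ h1 _ h2).mul_left (hτc' _).symm
      · exact ((hRc _ h1 _ h2).mul_left (hτc' _).symm).mul_right (hτc' _)
    exact key
  obtain ⟨y, hyP, hyR⟩ : ∃ y ∈ (P : Subgroup f.range), y ∉ R := by
    by_contra hno
    push Not at hno
    exact hab ⟨⟨fun u v => Subtype.ext (hRc _ (hno _ u.2) _ (hno _ v.2))⟩⟩
  have hrel : R.relIndex (P : Subgroup f.range) = 2 := by
    rw [relIndex, index_eq_two_iff]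
    refine ⟨⟨y, hyP⟩, fun x => ?_⟩
    simp only [mem_subgroupOf, Subgroup.coe_mul]
    by_cases hxR : (x : f.range) ∈ R
    · exact Or.inr ⟨hxR, fun h => hyR ((mul_mem_cancel_left hxR).1 h)⟩
    · exact Or.inl ⟨(hdich _ x.2 hxR y hyP hyR).1, hxR⟩
  obtain ⟨M, hM, hMi, -⟩ := CfsgLib.Transfer.thompson_transfer P R hrel y
    (by rw [pow_two]; exact (hdich y hyP hyR y hyP hyR).2) fun g' _ hmem => by
      haveI := hRcyc
      have ho : orderOf (g' * y * g'⁻¹) = 2 := by
        rw [CfsgLib.Involutions.orderOf_conj_eq, CfsgLib.Involutions.orderOf_eq_two_iff_mul]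
        exact ⟨fun h => hyR (h ▸ one_mem R), (hdich y hyP hyR y hyP hyR).2⟩
      have hoτ : orderOf τ = 2 := CfsgLib.Involutions.orderOf_eq_two_iff_mul.2 ⟨hτ1, hτsq⟩
      have heq := GWCons.CyclicSylow.eq_of_card_eq (A := zpowers (⟨_, hmem⟩ : R))
        (B := zpowers (⟨τ, hτR⟩ : R))
        (by
          rw [Nat.card_zpowers, Nat.card_zpowers]
          exact ((Subgroup.orderOf_mk _ hmem).trans (ho.trans hoτ.symm)).trans
            (Subgroup.orderOf_mk _ hτR).symm)
      obtain ⟨k, hk⟩ := heq.le (mem_zpowers _)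
      have hk' : τ ^ k = g' * y * g'⁻¹ := congrArg Subtype.val hk
      refine hyR ?_
      have hy : y = τ ^ k := by
        calc y = g'⁻¹ * (g' * y * g'⁻¹) * g' := by group
          _ = g'⁻¹ * τ ^ k * g' := by rw [hk']
          _ = τ ^ k := by rw [mul_assoc, ((hτc' g').zpow_right k).symm.eq, inv_mul_cancel_left]
      exact hy ▸ zpow_mem hτR k
  haveI := hM
  have hle : commutator f.range ≤ M := by
    haveI : Fact (Nat.Prime 2) := ⟨Nat.prime_two⟩
    haveI := isCyclic_of_prime_card (α := f.range ⧸ M) (p := 2) (by rw [← index_eq_card, hMi])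
    rw [← QuotientGroup.ker_mk' M, commutator_eq_closure, closure_le]
    rintro _ ⟨a', b', rfl⟩
    rw [SetLike.mem_coe, MonoidHom.mem_ker, map_commutatorElement, commutatorElement_eq_one_iff_commute]
    obtain ⟨w, hw⟩ := IsCyclic.exists_generator (α := f.range ⧸ M)
    obtain ⟨i, hi⟩ := hw (QuotientGroup.mk' M a')
    obtain ⟨j, hj⟩ := hw (QuotientGroup.mk' M b')
    rw [← hi, ← hj]
    exact Commute.zpow_zpow_self w i j
  rw [hperf, top_le_iff] at hle
  rw [hle, index_top] at hMi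
  exact absurd hMi (by norm_num)

/-- A `q`-element of `O_q(K)` (`q` not in `π(F(H))`) commuting with a reflection in `K` is trivial. -/
theorem eq_one_of_commute_refl (E : Setup G) {b : G} (hb : E.Refl b) {K : Subgroup G}
    (hXK : E.X b ≤ K) {q : ℕ} (hq : q.Prime) (hq2 : q ≠ 2)
    (hqH : ¬ q ∣ Nat.card (Cfsg.fittingSubgroup E.H))
    (hinv : ∀ a ∈ Op q K, E.t * a * E.t = a⁻¹) {a : G} (ha : a ∈ Op q K) (hab : a * b = b * a) :
    a = 1 := by
  haveI := Fact.mk hq
  haveI := isSolvable_H E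
  obtain ⟨g, hg⟩ := E.exists_conj hb.orderOf_eq
  set a' := g⁻¹ * a * g with ha'
  set t' := g⁻¹ * E.t * g with ht'
  have ht'sq : t' * t' = 1 := by
    rw [ht', show g⁻¹ * E.t * g * (g⁻¹ * E.t * g) = g⁻¹ * (E.t * E.t) * g by group, E.t_sq,
      mul_one, inv_mul_cancel]
  have toH : ∀ x : G, x * b = b * x → g⁻¹ * x * g ∈ E.H := fun x hx => E.mem_H.2 (by
    calc g⁻¹ * x * g * E.t = g⁻¹ * (x * (g * E.t * g⁻¹)) * g := by group
      _ = g⁻¹ * ((g * E.t * g⁻¹) * x) * g := by rw [hg, hx]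
      _ = E.t * (g⁻¹ * x * g) := by group)
  have ha'H : a' ∈ E.H := toH a hab
  have ht'H : t' ∈ E.H := toH _ hb.comm.symm
  have hoq : IsPGroup q (Op q K) := Bender.coreIn_isPGroup hq K
  have hodd : Odd (orderOf a') := by
    have := CfsgLib.RankOneInvol.odd_orderOf_conj
      (CfsgLib.RankOneInvol.odd_orderOf_of_mem (odd_card_of_isPGroup hq hq2 hoq) ha) g⁻¹
    rwa [inv_inv] at this
  have ha'U : a' ∈ E.U := E.odd_orderOf_mem_U ha'H hodd
  have hocop : ∀ m : ℕ, m.Prime → q ≠ m → (orderOf a').Coprime m := fun m hm hqm => by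
    have := Bender.orderOf_coprime_of_isPGroup hq hm hqm hoq ha
    rwa [← CfsgLib.Involutions.orderOf_conj_eq g⁻¹ a, inv_inv] at this
  have hnorm : ∀ (m : ℕ) (k : G), k ∈ E.H → ∀ x ∈ Op m E.H, k * x * k⁻¹ ∈ Op m E.H :=
    fun m k hk x hx => (mem_normalizer_iff.1 (Bender.coreIn_le_normalizer m E.H hk) x).1 hx
  have key : ∀ m : ℕ, m.Prime → ∀ w ∈ Op m E.H, a' * w = w * a' := by
    intro m hm w hw
    by_cases hqm : m = q
    · subst hqm
      rw [Bender.coreIn_eq_bot hm hqH, mem_bot] at hw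
      rw [hw, mul_one, one_mul]
    have hqm' : q ≠ m := Ne.symm hqm
    by_cases hm2 : m = 2
    · subst hm2
      haveI := Fact.mk hm
      have hdis : Disjoint E.U (Op 2 E.H) := Subgroup.disjoint_def.2 fun {x} hx1 hx2 => by
        have h1 : Odd (orderOf x) := (E.mem_U.1 hx1).2
        obtain ⟨k, hk⟩ := IsPGroup.iff_orderOf.1 (Bender.coreIn_isPGroup hm E.H) ⟨x, hx2⟩
        rw [Subgroup.orderOf_mk] at hk
        rw [← orderOf_eq_one_iff]
        exact Nat.eq_one_of_dvd_coprimes ((Nat.coprime_two_left.2 h1).pow_left k)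
          (dvd_of_eq hk) dvd_rfl
      have hwH : w ∈ E.H := Cfsg.Agent.S1312.coreIn_le _ _ hw
      refine (Bender.commute_of_disjoint hdis ha'U hw (Bender.coreIn_le_normalizer 2 E.H ha'H)
        ?_).eq
      rw [mem_normalizer_iff]
      exact fun x => ⟨fun hx => E.conj_mem_U hwH hx, fun hx => by
        have := E.conj_mem_U (inv_mem hwH) hx
        simpa [mul_assoc] using this⟩
    refine commute_of_inverted (odd_card_of_isPGroup hm hm2 (Bender.coreIn_isPGroup hm E.H)) ht'sq
      (fun x hx => ?_) (fun x hx => hnorm m a' ha'H x hx) ?_ hodd ?_ ?_ w hw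
    · have h1 := hnorm m t' ht'H x hx
      rwa [inv_eq_of_mul_eq_one_right ht'sq] at h1
    · rw [ha', ht', show g⁻¹ * E.t * g * (g⁻¹ * a * g) * (g⁻¹ * E.t * g) =
        g⁻¹ * (E.t * a * E.t) * g by group, hinv a ha]
      group
    · haveI := Fact.mk hm
      obtain ⟨n, hn⟩ := IsPGroup.iff_card.1 (Bender.coreIn_isPGroup hm E.H)
      rw [hn]
      exact (hocop m hm hqm').pow_right n
    · intro x hx hxt
      have hxH : x ∈ E.H := Cfsg.Agent.S1312.coreIn_le _ _ hx
      set W := g * x * g⁻¹ with hW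
      have hWb : W * b = b * W := by rw [hW, ← hg]; exact Setup.commute_conj (E.mem_H.1 hxH)
      have hWt : W * E.t = E.t * W := by
        have h1 : x * t' = t' * x := by
          calc x * t' = (t' * x * t') * t' := by rw [hxt]
            _ = t' * x := by rw [mul_assoc, ht'sq, mul_one]
        calc W * E.t = g * (x * t') * g⁻¹ := by rw [hW, ht']; group
          _ = g * (t' * x) * g⁻¹ := by rw [h1]
          _ = E.t * W := by rw [hW, ht']; group
      have hWX : W ∈ E.X b := hb.mem_X.2 ⟨hWt, hWb, CfsgLib.RankOneInvol.odd_orderOf_conj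
        (CfsgLib.RankOneInvol.odd_orderOf_of_mem
          (odd_card_of_isPGroup hm hm2 (Bender.coreIn_isPGroup hm E.H)) hx) g⟩
      have hc1 : a * W * a⁻¹ * W⁻¹ ∈ Op q K := by
        have h1 : a * (W * a⁻¹ * W⁻¹) ∈ Op q K := mul_mem ha
          ((mem_normalizer_iff.1 (Bender.coreIn_le_normalizer q K (hXK hWX)) _).1 (inv_mem ha))
        simpa only [mul_assoc] using h1
      have hc2 : a' * x * a'⁻¹ * x⁻¹ ∈ Op m E.H := mul_mem (hnorm m a' ha'H x hx) (inv_mem hx)
      haveI := Fact.mk hm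
      obtain ⟨n, hn⟩ := IsPGroup.iff_orderOf.1 hoq ⟨_, hc1⟩
      obtain ⟨k, hk⟩ := IsPGroup.iff_orderOf.1 (Bender.coreIn_isPGroup hm E.H) ⟨_, hc2⟩
      rw [Subgroup.orderOf_mk] at hn hk
      have he : a * W * a⁻¹ * W⁻¹ = g * (a' * x * a'⁻¹ * x⁻¹) * g⁻¹ := by rw [ha', hW]; group
      rw [he, CfsgLib.Involutions.orderOf_conj_eq] at hn
      have h1 : a' * x * a'⁻¹ * x⁻¹ = 1 := by
        rw [← orderOf_eq_one_iff]
        exact Nat.eq_one_of_dvd_coprimes (((Nat.coprime_primes hq hm).2 hqm').pow n k)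
          (dvd_of_eq hn) (dvd_of_eq hk)
      rw [mul_inv_eq_one, mul_inv_eq_iff_eq_mul] at h1
      exact h1
  have hcent : (⟨a', ha'H⟩ : E.H) ∈ centralizer (Cfsg.fittingSubgroup E.H : Set E.H) := by
    rw [mem_centralizer_iff]
    intro y hy
    refine Subtype.ext ?_
    exact ((Bender.commute_of_parts (M := E.H) (mem_map_of_mem E.H.subtype hy)
      fun r hr z _ hz => key r hr z hz).symm).eq
  have hFit := CfsgLib.Fitting.centralizer_fitting_le hcent
  have hpgrp : IsPGroup q (zpowers (⟨a', ha'H⟩ : E.H)) := by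
    obtain ⟨k, hk⟩ := IsPGroup.iff_orderOf.1 hoq ⟨a, ha⟩
    rw [Subgroup.orderOf_mk] at hk
    refine IsPGroup.of_card (n := k) ?_
    have e := CfsgLib.Involutions.orderOf_conj_eq g⁻¹ a
    rw [inv_inv] at e
    rw [Nat.card_zpowers, Subgroup.orderOf_mk, ha', e, hk]
  have hin : a' ∈ Op q E.H := ⟨_, Cfsg.Agent.S1312.pgroup_le_fitting_le_pCore hpgrp
    (zpowers_le.2 hFit) (mem_zpowers _), rfl⟩
  rw [Bender.coreIn_eq_bot hq hqH, mem_bot] at hin
  calc a = g * a' * g⁻¹ := by rw [ha']; group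
    _ = 1 := by rw [hin, mul_one, mul_inv_cancel]

/-! ### The three facts -/

variable (E : Setup G) (hH : IsCoatom E.H) (hU : E.U ≠ ⊥) {b : G} (hb : E.Refl b) {K : Subgroup G}
  (hK : IsCoatom K) (ht : E.t ∈ K) (hbK : b ∈ K) (hlead : Cfsg.leadsTo E.H K)
  (hX : E.X b ≤ K ∨ ∃ L : Subgroup G, L ≤ K ∧ ⁅L, L⁆ = L ∧ E.t ∈ L)

include hH hU hb ht hbK hlead hX in
theorem part_le {q : ℕ} (hq : q.Prime) : Op q K ≤ E.H := by
  by_cases hqH : q ∣ Nat.card (Cfsg.fittingSubgroup E.H)
  · exact part_le_of_dvd E hH hU hlead hq hqH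
  have hq2 : q ≠ 2 := fun h => hqH (h ▸ two_dvd_fitting E)
  set A := Op q K with hA
  have hAH : A ⊓ E.H = ⊥ := Bender.coreIn_inf_eq_bot hlead hq hqH
  have hAodd : Odd (Nat.card A) := odd_card_of_isPGroup hq hq2 (Bender.coreIn_isPGroup hq K)
  have hnorm : ∀ k ∈ K, ∀ x ∈ A, k * x * k⁻¹ ∈ A := fun k hk x hx =>
    (mem_normalizer_iff.1 (Bender.coreIn_le_normalizer q K hk) x).1 hx
  have hnt : ∀ x ∈ A, E.t * x * E.t ∈ A := fun x hx => by
    have := hnorm _ ht x hx
    rwa [E.t_inv] at this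
  have hinv : ∀ a ∈ A, E.t * a * E.t = a⁻¹ := fun a ha => inverted_of_inf_eq_bot E hAodd hnt hAH ha
  suffices h : A = ⊥ from h ▸ bot_le
  rcases hX with hX | ⟨L, hLK, hL, htL⟩
  · refine le_bot_iff.1 (hb.le_of_fixed hAodd hnt (fun x hx => ?_) ?_ ?_ ?_)
    · have := hnorm _ hbK x hx
      rwa [hb.inv] at this
    · exact fun x hx hxt => hAH.le ⟨hx, E.mem_H.2 hxt⟩
    · exact fun x hx hxb => mem_bot.2 (eq_one_of_commute_refl E hb hX hq hq2 hqH hinv hx hxb)
    · exact fun x hx hxb => mem_bot.2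
        (eq_one_of_commute_refl E hb.mul_t (hb.X_mul_t ▸ hX) hq hq2 hqH hinv hx hxb)
  · exact eq_bot_of_perfect E hAodd (hLK.trans (Bender.coreIn_le_normalizer q K)) hL htL hinv

include hH hU hb hK ht hbK hlead hX in
/-- The Fitting subgroup of `K` lies in `H`. -/
theorem fitting_le : (Cfsg.fittingSubgroup ↥K).map K.subtype ≤ E.H := by
  rw [CfsgLib.Fitting.fitting_eq_iSup_pCore, Subgroup.map_iSup]
  exact iSup_le fun p => part_le E hH hU hb ht hbK hlead hX (Nat.prime_of_mem_primeFactors p.2)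

include hH hU hb hK ht hbK hlead hX in
/-- `t` centralises the odd core of `K`. -/
theorem commute_coreIn : ∀ x ∈ GW.coreIn K, x * E.t = E.t * x := by
  intro x hx
  obtain ⟨x, hx', rfl⟩ := hx
  set N := Cfsg.oddCore K with hNdef
  have hN : N.Normal := inferInstance
  have hNodd : Odd (Nat.card N) := by
    have := odd_card_coreIn (G := G) K
    rwa [GW.coreIn, card_map_of_injective K.subtype_injective] at this
  haveI : Group.IsSolvable N := isSolvable_of_odd hNodd
  have hfix : ∀ f ∈ (Cfsg.fittingSubgroup N).map N.subtype, (f : G) * E.t = E.t * f := fun f hf =>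
    E.mem_H.1 (fitting_le E hH hU hb hK ht hbK hlead hX
      (mem_map_of_mem K.subtype ((CfsgLib.Fitting.map_fitting_of_normal hN).le hf).1))
  set tK : K := ⟨E.t, ht⟩
  have htsq : tK * tK = 1 := Subtype.ext E.t_sq
  have htn : ∀ y ∈ N, tK * y * tK ∈ N := fun y hy => by
    have := hN.conj_mem y hy tK
    rwa [inv_eq_of_mul_eq_one_right htsq] at this
  obtain ⟨y, z, hy, hyt, hz, hzt, rfl⟩ :=
    CfsgLib.RankOneInvol.exists_fixed_mul_inverted hNodd htsq htn hx'
  have hzodd : Odd (orderOf z) := CfsgLib.RankOneInvol.odd_orderOf_of_mem hNodd hz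
  have hmul : ∀ u w : K, tK * (u * w) * tK = (tK * u * tK) * (tK * w * tK) := fun u w => by
    calc tK * (u * w) * tK = tK * u * (tK * tK) * w * tK := by rw [htsq]; group
      _ = _ := by group
  have hfixK : ∀ f ∈ (Cfsg.fittingSubgroup N).map N.subtype, tK * f * tK = f := fun f hf =>
    Subtype.ext (by
      show E.t * (f : G) * E.t = f
      rw [← hfix f hf, mul_assoc, E.t_sq, mul_one])
  have hzc : (⟨z, hz⟩ : N) ∈ centralizer (Cfsg.fittingSubgroup N : Set N) := by
    rw [mem_centralizer_iff]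
    intro f hf
    refine Subtype.ext ?_
    show (f : K) * z = z * f
    have hzf : z * f * z⁻¹ ∈ (Cfsg.fittingSubgroup N).map N.subtype :=
      ⟨⟨z, hz⟩ * f * ⟨z, hz⟩⁻¹, (CfsgLib.Fitting.fitting_normal (G := N)).conj_mem f hf _, rfl⟩
    have h1 := hfixK _ hzf
    have hzi : tK * z⁻¹ * tK = z := by
      have := congrArg (·⁻¹) hzt
      simpa [mul_inv_rev, inv_eq_of_mul_eq_one_right htsq, mul_assoc] using this
    have h0 : tK * (f : K) * tK = f := hfixK _ (mem_map_of_mem N.subtype hf)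
    rw [hmul, hmul, hzt, hzi, h0] at h1
    have h2 : Commute (z * z) (f : K) := by
      calc z * z * f = z * (z * f * z⁻¹) * z := by group
        _ = z * (z⁻¹ * f * z) * z := by rw [← h1]
        _ = f * (z * z) := by group
    obtain ⟨k, hk⟩ := CfsgLib.RankOneInvol.exists_pow_sq_eq hzodd
    have h3 := h2.pow_left k
    rw [(Commute.refl z).mul_pow, hk] at h3
    exact h3.eq.symm
  have hzF : z ∈ (Cfsg.fittingSubgroup N).map N.subtype :=
    ⟨⟨z, hz⟩, CfsgLib.Fitting.centralizer_fitting_le hzc, rfl⟩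
  have hz1 : z = 1 := by
    refine CfsgLib.RankOneInvol.eq_one_of_sq_of_odd hzodd ?_
    have h1 := hfixK z hzF
    rw [hzt] at h1
    nth_rw 1 [← h1]
    exact inv_mul_cancel z
  rw [hz1, mul_one]
  have : y * tK = tK * y := by
    calc y * tK = (tK * y * tK) * tK := by rw [hyt]
      _ = tK * y := by rw [mul_assoc, htsq, mul_one]
  exact congrArg Subtype.val this

/-- If `t` centralises `O(K)` then so does every perfect subgroup of `K`. -/
theorem perfect_le_of_commute {K : Subgroup G} (hK : K ≠ ⊤) (ht : E.t ∈ K)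
    (hc : ∀ x ∈ GW.coreIn K, x * E.t = E.t * x) (P : Subgroup G) (hPK : P ≤ K)
    (hP : ⁅P, P⁆ = P) : P ≤ centralizer (GW.coreIn K : Set G) := by
  haveI : Fact (Nat.Prime 2) := ⟨Nat.prime_two⟩
  classical
  set N := Cfsg.oddCore K with hNdef
  haveI hN : N.Normal := inferInstance
  have hNodd : Odd (Nat.card N) := by
    have := odd_card_coreIn (G := G) K
    rwa [GW.coreIn, card_map_of_injective K.subtype_injective] at this
  haveI : Group.IsSolvable N := isSolvable_of_odd hNodd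
  have hP' : ⁅P.subgroupOf K, P.subgroupOf K⁆ = P.subgroupOf K := by
    apply map_injective K.subtype_injective
    rw [map_commutator, map_subgroupOf_eq_of_le hPK, hP]
  set P' := P.subgroupOf K
  set π := QuotientGroup.mk' N
  have hπ : Function.Surjective π := QuotientGroup.mk'_surjective N
  set C : Subgroup K := centralizer (N : Set K) with hCdef
  have hCn : C.Normal := inferInstance
  suffices hPC : P' ≤ C by
    intro p hp
    rw [mem_centralizer_iff]
    rintro _ ⟨w, hw, rfl⟩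
    exact congrArg Subtype.val (mem_centralizer_iff.1 (hPC (x := ⟨p, hPK hp⟩) hp) w hw)
  -- modulo the centraliser, the image of `P'` lies in the solvable image of `N`
  suffices hPCN : P' ≤ C ⊔ N by
    haveI := hCn
    set φ := QuotientGroup.mk' C
    haveI : Group.IsSolvable (N.map φ) :=
      Group.isSolvable_of_surjective (φ.subgroupMap_surjective N)
    have hmem : ∀ x : P', φ x ∈ N.map φ := fun x => by
      have h1 : φ x ∈ (C ⊔ N).map φ := mem_map_of_mem φ (hPCN x.2)
      rwa [Subgroup.map_sup, (Subgroup.map_eq_bot_iff C).2 (QuotientGroup.ker_mk' C).ge, bot_sup_eq] at h1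
    intro x hx
    rw [← QuotientGroup.ker_mk' C, MonoidHom.mem_ker]
    exact congrArg Subtype.val
      (CfsgLib.Tech46.map_eq_bot_of_perfect hP' ((φ.comp P'.subtype).codRestrict _ hmem) ⟨x, hx⟩)
  have solv : Group.IsSolvable (K ⧸ N) → P' ≤ C ⊔ N := fun hs x hx => by
    haveI := hs
    refine mem_sup_right ?_
    rw [← QuotientGroup.ker_mk' N, MonoidHom.mem_ker]
    exact CfsgLib.Tech46.map_eq_bot_of_perfect hP' (π.comp P'.subtype) ⟨x, hx⟩
  rcases E.good K hK with h | ⟨⟨e⟩⟩ | ⟨⟨e⟩⟩ | ⟨L, hLn, hLC, hLI⟩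
  · exact solv (isSolvable_of_two h)
  · refine solv ?_
    haveI := CfsgLib.InvCharSmall.isSolvable_perm_four
    exact Group.isSolvable_of_isSolvable_injective (f := e.toMonoidHom) e.injective
  · refine solv ?_
    haveI := CfsgLib.InvCharSmall.isSolvable_perm_four
    exact Group.isSolvable_of_isSolvable_injective (f := e.toMonoidHom) e.injective
  haveI := hLn
  haveI := isSimpleGroup_of_top hLI
  -- `L` is covered by the centraliser
  have hLC' : L ≤ C.map π := by
    haveI hn : (C.map π).Normal := hCn.map π hπ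
    rcases IsSimpleGroup.eq_bot_or_eq_top_of_normal ((C.map π).subgroupOf L)
      (hn.subgroupOf L) with h | h
    · exfalso
      have hdis : Disjoint (C.map π) L := subgroupOf_eq_bot.1 h
      have hle : C.map π ≤ centralizer (L : Set (K ⧸ N)) := fun x hx => mem_centralizer_iff.2
        fun l hl => (commute_of_normal_of_disjoint _ _ hn hLn hdis x l hx hl).symm.eq
      rw [hLC, le_bot_iff, Subgroup.map_eq_bot_iff, QuotientGroup.ker_mk'] at hle
      have htC : (⟨E.t, ht⟩ : K) ∈ C := mem_centralizer_iff.2 fun w hw =>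
        Subtype.ext (hc _ (mem_map_of_mem K.subtype hw))
      have h1 : Odd (orderOf (⟨E.t, ht⟩ : K)) :=
        CfsgLib.RankOneInvol.odd_orderOf_of_mem hNodd (hle htC)
      rw [Subgroup.orderOf_mk, E.orderOf_t] at h1
      exact absurd h1 (by decide)
    · exact subgroupOf_eq_top.1 h
  suffices hPL : P'.map π ≤ L by
    intro x hx
    have h1 : π x ∈ C.map π := hLC' (hPL (mem_map_of_mem π hx))
    have h2 : x ∈ (C.map π).comap π := h1
    rwa [comap_map_eq, QuotientGroup.ker_mk'] at h2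
  exact map_le_of_perfect E L hLn hLI P' hP'

include hH hU hb hK ht hbK hlead hX in
/-- Perfect subgroups of `K` centralise the odd core. -/
theorem perfect_le : ∀ P : Subgroup G, P ≤ K → ⁅P, P⁆ = P →
    P ≤ centralizer (GW.coreIn K : Set G) :=
  perfect_le_of_commute E hK.1 ht (commute_coreIn E hH hU hb hK ht hbK hlead hX)

end CfsgLib.GW.Local
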