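import Cfsg.Agent.Lib.GW.LeTop
import Cfsg.Agent.Lib.GW.Local
import Cfsg.Agent.Lib.GW.Central
import Cfsg.Agent.Lib.GW.Main
import Cfsg.Agent.Lib.OddOrder.PuigSeries

/-!
Gorenstein–Walter, Step 3.1 (d): a maximal subgroup `K` containing `F(C(t))` with `t, b` in its
perfect residual.  Its top is `PSL₂(q)`, `O_r(C(t)) ∩ C(b) ≤ O(K)`, and `K` is the only maximal
subgroup containing the centraliser of a central element of `O_m(C(t)) ∩ O(K)`.
-/

set_option autoImplicit false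
set_option linter.style.haveILetI false
set_option linter.unusedSectionVars false

namespace CfsgLib.GW.Max31.Le

open Subgroup Cfsg.Tech46

universe u

variable {G : Type u} [Group G]

/-- The map onto `K / O(K)`. -/
abbrev bar (K : Subgroup G) : K →* K ⧸ Cfsg.oddCore K := QuotientGroup.mk' (Cfsg.oddCore K)

theorem bar_surjective (K : Subgroup G) : Function.Surjective (bar K) :=
  QuotientGroup.mk'_surjective _

theorem bar_eq_one {K : Subgroup G} {x : K} : bar K x = 1 ↔ (x : G) ∈ GW.coreIn K := by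
  rw [show bar K x = (x : K ⧸ Cfsg.oddCore K) from rfl, QuotientGroup.eq_one_iff]
  exact ⟨fun h => mem_map_of_mem K.subtype h,
    fun ⟨y, hy, he⟩ => Subtype.ext (he : (y : G) = x) ▸ hy⟩

variable [Finite G]

theorem odd_of_bar {K : Subgroup G} {x : K} (h : Odd (orderOf (bar K x))) :
    Odd (orderOf (x : G)) := by
  have hpow : (x : G) ^ orderOf (bar K x) ∈ GW.coreIn K := by
    have := bar_eq_one (x := x ^ orderOf (bar K x))
    rw [map_pow, pow_orderOf_eq_one] at this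
    simpa using this.1 rfl
  have hodd := CfsgLib.RankOneInvol.odd_orderOf_of_mem (odd_card_coreIn K) hpow
  refine (h.mul hodd).of_dvd_nat (orderOf_dvd_of_pow_eq_one ?_)
  rw [pow_mul, pow_orderOf_eq_one]

theorem odd_bar {K : Subgroup G} {x : K} (h : Odd (orderOf (x : G))) :
    Odd (orderOf (bar K x)) :=
  (Subgroup.orderOf_coe x ▸ h).of_dvd_nat (orderOf_map_dvd _ x)

/-- An element fixing an involution `v` modulo `O(K)` fixes it, if `v` centralises `O(K)`. -/
theorem commute_of_bar {K : Subgroup G} {v x : K} (hv : v * v = 1)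
    (hvc : ∀ o ∈ GW.coreIn K, (v : G) * o = o * v) (h : bar K x * bar K v = bar K v * bar K x) :
    (x : G) * v = v * x := by
  set o := x⁻¹ * (v * x * v) with ho
  have hoc : (o : G) ∈ GW.coreIn K := bar_eq_one.1 (by
    rw [ho, map_mul, map_mul, map_mul, map_inv, ← h, mul_assoc (bar K x), ← map_mul (bar K) v v,
      hv, map_one, mul_one, inv_mul_cancel])
  have hvo : v * o = o * v := Subtype.ext (hvc _ hoc)
  have e1 : v * x * v = x * o := by rw [ho, mul_inv_cancel_left]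
  have e2 : x = x * (o * o) := by
    calc x = (v * v) * x * (v * v) := by rw [hv, one_mul, mul_one]
      _ = v * (v * x * v) * v := by group
      _ = v * (x * o) * v := by rw [e1]
      _ = (v * x) * (o * v) := by group
      _ = (v * x) * (v * o) := by rw [hvo]
      _ = (v * x * v) * o := by group
      _ = x * (o * o) := by rw [e1, mul_assoc]
  have ho2 : (o : G) * o = 1 := congrArg Subtype.val (mul_eq_left.1 e2.symm)
  have ho1 : o = 1 :=
    Subtype.ext (CfsgLib.RankOneInvol.eq_one_of_mem_of_sq (odd_card_coreIn K) hoc ho2)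
  rw [ho1, mul_one] at e1
  have e3 : x * v = v * x := by
    calc x * v = v * x * v * v := by rw [e1]
      _ = v * x := by rw [mul_assoc, hv, mul_one]
  exact congrArg Subtype.val e3

/-- Involutions congruent modulo `O(K)` are equal, if one of them centralises `O(K)`. -/
theorem eq_of_bar {K : Subgroup G} {v w : K} (hv : v * v = 1) (hw : w * w = 1)
    (hwc : ∀ o ∈ GW.coreIn K, (w : G) * o = o * w) (h : bar K v = bar K w) : v = w := by
  set o := v * w with ho
  have hoc : (o : G) ∈ GW.coreIn K := bar_eq_one.1 (by rw [ho, map_mul, h, ← map_mul, hw, map_one])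
  have hcw : w * o = o * w := Subtype.ext (hwc _ hoc)
  have hvo : v = o * w := by rw [ho, mul_assoc, hw, mul_one]
  have h2 : o * o = 1 := by
    calc o * o = o * (o * w) * w := by
          rw [show o * (o * w) * w = o * o * (w * w) by group, hw, mul_one]
      _ = o * (w * o) * w := by rw [hcw]
      _ = (o * w) * (o * w) := by group
      _ = 1 := by rw [← hvo, hv]
  have ho1 : o = 1 := Subtype.ext
    (CfsgLib.RankOneInvol.eq_one_of_mem_of_sq (odd_card_coreIn K) hoc (congrArg Subtype.val h2))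
  rw [hvo, ho1, one_mul]

/-- An element of `C(t)` centralising all `O_q(C(t))` lies in `F(C(t))`. -/
theorem mem_pCore_of_commute (E : Setup G) {c : G} (hc : c ∈ E.H) {m : ℕ} (hm : m.Prime) {j : ℕ}
    (hcj : c ^ m ^ j = 1)
    (hcomm : ∀ q : ℕ, q.Prime → ∀ w ∈ pCoreIn q E.H, c * w = w * c) : c ∈ pCoreIn m E.H := by
  haveI := Local.isSolvable_H E
  haveI := Fact.mk hm
  have hcent : (⟨c, hc⟩ : E.H) ∈ centralizer (Cfsg.fittingSubgroup E.H : Set E.H) := by
    rw [mem_centralizer_iff]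
    intro y hy
    refine Subtype.ext ?_
    exact ((Bender.commute_of_parts (M := E.H) (mem_map_of_mem E.H.subtype hy)
      fun q hq z _ hz => hcomm q hq z hz).symm).eq
  have hFit := CfsgLib.Fitting.centralizer_fitting_le hcent
  have hp : IsPGroup m (zpowers (⟨c, hc⟩ : E.H)) := by
    intro w
    obtain ⟨i, hi⟩ := w.2
    refine ⟨j, Subtype.ext (Subtype.ext ?_)⟩
    have hi' : c ^ i = ((w : E.H) : G) := congrArg Subtype.val hi
    simp only [SubmonoidClass.coe_pow, OneMemClass.coe_one]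
    rw [← hi', ← zpow_natCast, ← zpow_mul, mul_comm, zpow_mul, zpow_natCast, hcj, one_zpow]
  exact ⟨_, Cfsg.Agent.S1312.pgroup_le_fitting_le_pCore hp (zpowers_le.2 hFit) (mem_zpowers _), rfl⟩

theorem pCoreIn_le_H (E : Setup G) (q : ℕ) : pCoreIn q E.H ≤ E.H := map_subtype_le _

theorem conj_mem_pCoreIn (E : Setup G) {q : ℕ} {k x : G} (hk : k ∈ E.H)
    (hx : x ∈ pCoreIn q E.H) : k * x * k⁻¹ ∈ pCoreIn q E.H :=
  (mem_normalizer_iff.1 (Bender.coreIn_le_normalizer q E.H hk) x).1 hx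

theorem pCoreIn_odd (E : Setup G) {q : ℕ} (hq : q.Prime) (hq2 : q ≠ 2) :
    Odd (Nat.card (pCoreIn q E.H)) :=
  Local.odd_card_of_isPGroup hq hq2 (Bender.coreIn_isPGroup hq E.H)

theorem pCoreIn_commute (E : Setup G) {p q : ℕ} (hp : p.Prime) (hq : q.Prime) (hpq : p ≠ q)
    {x y : G} (hx : x ∈ pCoreIn p E.H) (hy : y ∈ pCoreIn q E.H) : x * y = y * x :=
  (Bender.commute_coreIn_of_ne hp hq hpq hx hy).eq

theorem two_commute_U (E : Setup G) {x y : G} (hx : x ∈ E.U) (hy : y ∈ pCoreIn 2 E.H) :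
    x * y = y * x := by
  haveI : Fact (Nat.Prime 2) := ⟨Nat.prime_two⟩
  have hdis : Disjoint E.U (pCoreIn 2 E.H) := Subgroup.disjoint_def.2 fun {w} hw1 hw2 => by
    have h1 : Odd (orderOf w) := (E.mem_U.1 hw1).2
    obtain ⟨k, hk⟩ := IsPGroup.iff_orderOf.1 (Bender.coreIn_isPGroup Nat.prime_two E.H) ⟨w, hw2⟩
    have hk' : orderOf w = 2 ^ k := (Subgroup.orderOf_mk w hw2).symm.trans hk
    rw [← orderOf_eq_one_iff]
    exact Nat.eq_one_of_dvd_coprimes ((Nat.coprime_two_left.2 h1).pow_left k)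
      (dvd_of_eq hk') dvd_rfl
  have hyH := pCoreIn_le_H E 2 hy
  refine (Bender.commute_of_disjoint hdis hx hy
    (Bender.coreIn_le_normalizer 2 E.H (E.U_le_H hx)) ?_).eq
  rw [mem_normalizer_iff]
  exact fun w => ⟨fun hw => E.conj_mem_U hyH hw, fun hw => by
    have := E.conj_mem_U (inv_mem hyH) hw
    simpa [mul_assoc] using this⟩

theorem H_normalizer (E : Setup G) (hH : IsCoatom E.H) {X : Subgroup G} (hX : X ≠ ⊥)
    (hXH : X ≤ E.H) (hn : E.H ≤ normalizer (X : Set G)) : normalizer (X : Set G) = E.H :=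
  haveI := E.simple
  Bender.normalizer_eq_of_isCoatom hH X hX hXH hn

/-- The largest perfect subgroup of `M`. -/
def Pinf (M : Subgroup G) : Subgroup G := sSup {Q | Q ≤ M ∧ ⁅Q, Q⁆ = Q}

theorem Pinf_le (M : Subgroup G) : Pinf M ≤ M := sSup_le fun _ h => h.1

theorem le_Pinf {M Q : Subgroup G} (h1 : Q ≤ M) (h2 : ⁅Q, Q⁆ = Q) : Q ≤ Pinf M :=
  le_sSup ⟨h1, h2⟩

theorem Pinf_perfect (M : Subgroup G) : ⁅Pinf M, Pinf M⁆ = Pinf M :=
  le_antisymm (commutator_le_self _) (sSup_le fun _ h =>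
    h.2.ge.trans (commutator_mono (le_Pinf h.1 h.2) (le_Pinf h.1 h.2)))

/-- The standing hypotheses on a maximal subgroup containing `F(C(t))`. -/
structure Cfg (E : Setup G) (b : G) (r : ℕ) (K P : Subgroup G) : Prop where
  hH : IsCoatom E.H
  prime : r.Prime
  ne_two : r ≠ 2
  refl : E.Refl b
  not_le : ¬ E.R r ≤ E.X b
  coatom : IsCoatom K
  P_le : P ≤ K
  perfect : ⁅P, P⁆ = P
  t_mem : E.t ∈ P
  b_mem : b ∈ P
  fit_le : ∀ m : ℕ, m.Prime → pCoreIn m E.H ≤ K
  centre : P ≤ centralizer (GW.coreIn K : Set G)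
  le_P : ∀ Q : Subgroup G, Q ≤ K → ⁅Q, Q⁆ = Q → Q ≤ P

variable {E : Setup G} {b : G} {r : ℕ} {K P : Subgroup G} (h : Cfg E b r K P)
include h

theorem Cfg.r_odd : Odd r := h.prime.odd_of_ne_two h.ne_two

theorem Cfg.commute_P {p o : G} (hp : p ∈ P) (ho : o ∈ GW.coreIn K) : p * o = o * p :=
  (mem_centralizer_iff.1 (h.centre hp) o ho).symm

theorem Cfg.core_le_U : GW.coreIn K ≤ E.U := fun o ho =>
  E.mem_U.2 ⟨(h.commute_P h.t_mem ho).symm,
    CfsgLib.RankOneInvol.odd_orderOf_of_mem (odd_card_coreIn K) ho⟩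

theorem Cfg.core_le_X : GW.coreIn K ≤ E.X b := fun o ho =>
  h.refl.mem_X.2 ⟨(h.commute_P h.t_mem ho).symm, (h.commute_P h.b_mem ho).symm,
    CfsgLib.RankOneInvol.odd_orderOf_of_mem (odd_card_coreIn K) ho⟩

theorem Cfg.R_le : E.R r ≤ K := h.fit_le r h.prime

theorem Cfg.R_le_H : E.R r ≤ E.H := pCoreIn_le_H E r

theorem Cfg.R_isPGroup : IsPGroup r (E.R r) := Bender.coreIn_isPGroup h.prime E.H

theorem Cfg.odd_R : Odd (Nat.card (E.R r)) := pCoreIn_odd E h.prime h.ne_two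

theorem Cfg.R_ne_bot : E.R r ≠ ⊥ := fun e => h.not_le (e ▸ bot_le)

theorem Cfg.R_le_U : E.R r ≤ E.U := fun x hx =>
  E.odd_orderOf_mem_U (h.R_le_H hx) (CfsgLib.RankOneInvol.odd_orderOf_of_mem h.odd_R hx)

theorem Cfg.P_conj {k p : G} (hk : k ∈ K) (hp : p ∈ P) : k * p * k⁻¹ ∈ P :=
  h.le_P (conjBy P k) (fun x hx => by
      rw [mem_conjBy] at hx
      have := mul_mem (mul_mem hk (h.P_le hx)) (inv_mem hk)
      simpa [mul_assoc] using this)
    (by rw [conjBy, ← map_commutator, h.perfect])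
    (mem_conjBy.2 (by simpa [mul_assoc] using hp))

/-- `t` as an element of `K`. -/
theorem Cfg.tK : E.t ∈ K := h.P_le h.t_mem

theorem Cfg.bK : b ∈ K := h.P_le h.b_mem

theorem Cfg.orderOf_bar_invol {v : K} (hv : v * v = 1) (hv1 : v ≠ 1) : orderOf (bar K v) = 2 := by
  refine CfsgLib.Involutions.orderOf_eq_two_iff_mul.2 ⟨fun e => hv1 ?_, by rw [← map_mul, hv, map_one]⟩
  exact Subtype.ext (CfsgLib.RankOneInvol.eq_one_of_mem_of_sq (odd_card_coreIn K)
    (bar_eq_one.1 e) (congrArg Subtype.val hv))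

/-- The top of `K` is simple, the image of `P`, with trivial centraliser. -/
theorem Cfg.exists_top : ∃ L : Subgroup (K ⧸ Cfsg.oddCore K), L.Normal ∧
    centralizer (L : Set (K ⧸ Cfsg.oddCore K)) = ⊥ ∧ IsPSLOrA7 L ∧
    (P.subgroupOf K).map (bar K) = L := by
  classical
  set P' := P.subgroupOf K
  have hP' : ⁅P', P'⁆ = P' := by
    apply map_injective K.subtype_injective
    rw [map_commutator, map_subgroupOf_eq_of_le h.P_le, h.perfect]
  have hne : P'.map (bar K) ≠ ⊥ := fun e => by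
    have h1 : bar K ⟨E.t, h.tK⟩ ∈ P'.map (bar K) := mem_map_of_mem _ h.t_mem
    rw [e, mem_bot, bar_eq_one] at h1
    have h2 := CfsgLib.RankOneInvol.odd_orderOf_of_mem (odd_card_coreIn K) h1
    rw [E.orderOf_t] at h2
    exact absurd h2 (by decide)
  have solv : Group.IsSolvable (K ⧸ Cfsg.oddCore K) → False := fun hs => by
    haveI := hs
    refine hne (eq_bot_iff.2 ?_)
    rintro _ ⟨x, hx, rfl⟩
    exact mem_bot.2 (CfsgLib.Tech46.map_eq_bot_of_perfect hP' ((bar K).comp P'.subtype) ⟨x, hx⟩)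
  rcases E.good K h.coatom.1 with h2 | ⟨⟨e⟩⟩ | ⟨⟨e⟩⟩ | ⟨L, hLn, hLC, hLI⟩
  · exact (solv (Local.isSolvable_of_two h2)).elim
  · refine (solv ?_).elim
    haveI := CfsgLib.InvCharSmall.isSolvable_perm_four
    exact Group.isSolvable_of_isSolvable_injective (f := e.toMonoidHom) e.injective
  · refine (solv ?_).elim
    haveI := CfsgLib.InvCharSmall.isSolvable_perm_four
    exact Group.isSolvable_of_isSolvable_injective (f := e.toMonoidHom) e.injective
  refine ⟨L, hLn, hLC, hLI, ?_⟩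
  have hle := Local.map_le_of_perfect E L hLn hLI P' hP'
  haveI := Local.isSimpleGroup_of_top hLI
  have hP'n : P'.Normal :=
    ⟨fun p hp k => mem_subgroupOf.2 (h.P_conj k.2 (mem_subgroupOf.1 hp))⟩
  have hn := (hP'n.map (bar K) (bar_surjective K)).subgroupOf L
  rcases IsSimpleGroup.eq_bot_or_eq_top_of_normal _ hn with e | e
  · exact absurd (disjoint_self.1 (Disjoint.mono_right hle (subgroupOf_eq_bot.1 e))) hne
  · exact le_antisymm hle (subgroupOf_eq_top.1 e)

/-- Everything in `K` mapping into the top is in `P O(K)`. -/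
theorem Cfg.exists_mul {L : Subgroup (K ⧸ Cfsg.oddCore K)}
    (hL : (P.subgroupOf K).map (bar K) = L) {x : K} (hx : bar K x ∈ L) :
    ∃ p ∈ P, ∃ o ∈ GW.coreIn K, (x : G) = p * o := by
  rw [← hL] at hx
  obtain ⟨p, hp, he⟩ := hx
  refine ⟨p, hp, (p⁻¹ * x : K), bar_eq_one.1 (by rw [map_mul, map_inv, he, inv_mul_cancel]), ?_⟩
  simp

theorem Cfg.involution_mem_P {L : Subgroup (K ⧸ Cfsg.oddCore K)}
    (hL : (P.subgroupOf K).map (bar K) = L) {v : K} (hv : v * v = 1) (hvL : bar K v ∈ L) :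
    (v : G) ∈ P := by
  obtain ⟨p, hp, o, ho, e⟩ := h.exists_mul hL hvL
  have hc : Commute p o := h.commute_P hp ho
  have h2 : (v : G) * v = 1 := congrArg Subtype.val hv
  rw [e, show p * o * (p * o) = (p * o) ^ 2 from (pow_two _).symm, hc.mul_pow] at h2
  have h3 : o ^ 2 ∈ P := by
    rw [eq_inv_of_mul_eq_one_right h2]
    exact inv_mem (pow_mem hp 2)
  obtain ⟨k, hk⟩ := CfsgLib.RankOneInvol.exists_pow_sq_eq
    (CfsgLib.RankOneInvol.odd_orderOf_of_mem (odd_card_coreIn K) ho)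
  rw [e]
  refine mul_mem hp ?_
  rw [← hk, ← (Commute.refl o).mul_pow, ← pow_two]
  exact pow_mem h3 k

/-- No top is `A₇`. -/
theorem Cfg.not_seven {L : Subgroup (K ⧸ Cfsg.oddCore K)} (hLn : L.Normal)
    (hLC : centralizer (L : Set (K ⧸ Cfsg.oddCore K)) = ⊥)
    (hL : (P.subgroupOf K).map (bar K) = L) {n : ℕ} (S0 : Sylow 2 (K ⧸ Cfsg.oddCore K))
    (hS0 : Nonempty ((S0 : Subgroup (K ⧸ Cfsg.oddCore K)) ≃* DihedralGroup n))
    (f : L ≃* alternatingGroup (Fin 7)) : False := by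
  haveI := Fact.mk h.prime
  obtain ⟨htop, ⟨eY⟩⟩ := LeTop.seven_equiv hLn hLC f S0 hS0
  have hcov : ∀ x : K, bar K x ∈ L := fun x => htop ▸ mem_top _
  have htsq : (⟨E.t, h.tK⟩ : K) * ⟨E.t, h.tK⟩ = 1 := Subtype.ext E.t_sq
  obtain ⟨γ, hγ, hodd⟩ := LeTop.seven_exists eY
    (h.orderOf_bar_invol htsq (fun e => E.t_ne_one (congrArg Subtype.val e)))
  obtain ⟨g, hg⟩ := bar_surjective K γ
  obtain ⟨p, hp, o, ho, hgo⟩ := h.exists_mul hL (hcov g)
  have hgp : bar K ⟨p, h.P_le hp⟩ = γ := by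
    rw [← hg, ← mul_one (bar K ⟨p, h.P_le hp⟩),
      ← bar_eq_one.2 (show ((⟨o, coreIn_le K ho⟩ : K) : G) ∈ GW.coreIn K from ho), ← map_mul]
    exact congrArg _ (Subtype.ext hgo.symm)
  -- `p` normalises `R`
  have key : ∀ x ∈ E.R r, p * x * p⁻¹ ∈ E.R r := by
    intro x hx
    let xK : K := ⟨x, h.R_le hx⟩
    have hxo : Odd (orderOf x) := CfsgLib.RankOneInvol.odd_orderOf_of_mem h.odd_R hx
    have hxt : x * E.t = E.t * x := E.mem_H.1 (h.R_le_H hx)
    have hγx : γ * bar K xK = bar K xK * γ := hodd _ (odd_bar hxo) (by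
      rw [← map_mul, ← map_mul]
      exact congrArg _ (Subtype.ext hxt))
    set c := x⁻¹ * (p * x * p⁻¹) with hc
    have hcO : c ∈ GW.coreIn K := by
      refine (bar_eq_one (x := xK⁻¹ * (⟨p, h.P_le hp⟩ * xK * (⟨p, h.P_le hp⟩ : K)⁻¹))).1 ?_
      rw [map_mul, map_mul, map_mul, map_inv, map_inv, hgp, hγx, mul_inv_cancel_right,
        inv_mul_cancel]
    have hcP : c ∈ P := by
      rw [hc, show x⁻¹ * (p * x * p⁻¹) = (x⁻¹ * p * x⁻¹⁻¹) * p⁻¹ by group]
      exact mul_mem (h.P_conj (inv_mem (h.R_le hx)) hp) (inv_mem hp)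
    have hcent : ∀ y ∈ K, c * y = y * c := by
      intro y hy
      obtain ⟨q, hq, o', ho', e⟩ := h.exists_mul hL (hcov ⟨y, hy⟩)
      rw [show y = q * o' from e]
      exact ((show Commute c q from (h.commute_P hq hcO).symm).mul_right
        (h.commute_P hcP ho')).eq
    obtain ⟨j, hj⟩ := h.R_isPGroup ⟨x, hx⟩
    have hj' : x ^ r ^ j = 1 := congrArg Subtype.val hj
    have hcR : c ∈ E.R r := by
      refine mem_pCore_of_commute E (E.U_le_H (h.core_le_U hcO)) h.prime (j := j) ?_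
        fun q hq w hw => hcent w (h.fit_le q hq hw)
      have e : p * x * p⁻¹ = x * c := by rw [hc, mul_inv_cancel_left]
      have := congrArg (· ^ r ^ j) e
      simp only [conj_pow, hj', mul_one, mul_inv_cancel,
        (show Commute x c from (hcent x (h.R_le hx)).symm).mul_pow, one_mul] at this
      exact this.symm
    rw [show p * x * p⁻¹ = x * c by rw [hc, mul_inv_cancel_left]]
    exact mul_mem hx hcR
  have hpN : p ∈ normalizer (E.R r : Set G) := by
    rw [mem_normalizer_iff]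
    refine fun x => ⟨key x, fun hx => ?_⟩
    have hle : (E.R r).map (MulAut.conj p).toMonoidHom ≤ E.R r := by
      rintro _ ⟨w, hw, rfl⟩; exact key w hw
    have heq := eq_of_le_of_card_ge hle
      (by rw [card_map_of_injective (MulAut.conj p).injective])
    rw [← heq] at hx
    obtain ⟨w, hw, he⟩ := hx
    rwa [← (MulAut.conj p).injective (he : MulAut.conj p w = MulAut.conj p x)]
  rw [H_normalizer E h.hH h.R_ne_bot h.R_le_H (Bender.coreIn_le_normalizer r E.H)] at hpN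
  refine hγ ?_
  rw [← hgp, ← map_mul, ← map_mul]
  exact congrArg _ (Subtype.ext (E.mem_H.1 hpN))

/-- The top of `K` is `PSL₂(q)`. -/
theorem Cfg.exists_psl : ∃ (L : Subgroup (K ⧸ Cfsg.oddCore K)) (F : Type) (_ : Field F)
    (_ : Fintype F), Field.Psl L F ∧ (P.subgroupOf K).map (bar K) = L := by
  haveI : Fact (Nat.Prime 2) := ⟨Nat.prime_two⟩
  obtain ⟨L, hLn, hLC, hLI, hL⟩ := h.exists_top
  haveI := hLn
  have hdc : Main.DC (K ⧸ Cfsg.oddCore K) :=
    Main.dc_quotient ((Main.dc_of_sylow E.S (Or.inl E.eS)).subgroup K)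
  have hsyl : ∀ S0 : Sylow 2 (K ⧸ Cfsg.oddCore K), ∃ n : ℕ,
      Nonempty ((S0 : Subgroup (K ⧸ Cfsg.oddCore K)) ≃* DihedralGroup n) := fun S0 => by
    rcases hdc _ S0.2 with hc | ⟨m, -, he⟩
    · haveI := Local.isSolvable_of_cyclic_two S0 hc
      exact absurd (inferInstance : Group.IsSolvable L) (Local.not_isSolvable_of_top hLI)
    · exact ⟨m, he⟩
  rcases hLI with ⟨F, i1, i2, hodd, h3, hf⟩ | ⟨⟨f⟩⟩
  · exact ⟨L, F, i1, i2, ⟨hLn, hLC, hf, hodd, h3, hsyl⟩, hL⟩
  · obtain ⟨S0⟩ : Nonempty (Sylow 2 (K ⧸ Cfsg.oddCore K)) := inferInstance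
    obtain ⟨n, hn⟩ := hsyl S0
    exact (h.not_seven hLn hLC hL S0 hn f).elim

variable {L : Subgroup (K ⧸ Cfsg.oddCore K)} (hL : (P.subgroupOf K).map (bar K) = L)
include hL

theorem Cfg.bar_mem {x : K} (hx : (x : G) ∈ P) : bar K x ∈ L :=
  hL ▸ mem_map_of_mem (bar K) (mem_subgroupOf.2 hx)

omit hL in
theorem Cfg.orderOf_bar_t : orderOf (bar K ⟨E.t, h.tK⟩) = 2 :=
  h.orderOf_bar_invol (Subtype.ext E.t_sq) fun e => E.t_ne_one (congrArg Subtype.val e)

omit hL in
theorem Cfg.orderOf_bar_b : orderOf (bar K ⟨b, h.bK⟩) = 2 :=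
  h.orderOf_bar_invol (Subtype.ext h.refl.sq) fun e => h.refl.ne_one (congrArg Subtype.val e)

omit hL in
theorem Cfg.bar_ne_t {v : K} (hv : (v : G) * v = 1) (hne : (v : G) ≠ E.t) :
    bar K v ≠ bar K ⟨E.t, h.tK⟩ := fun e =>
  hne (congrArg Subtype.val (eq_of_bar (w := ⟨E.t, h.tK⟩) (Subtype.ext hv) (Subtype.ext E.t_sq)
    (fun _ ho => h.commute_P h.t_mem ho) e))

omit hL in
theorem Cfg.bar_commute {x y : K} (e : (x : G) * y = y * x) :
    bar K x * bar K y = bar K y * bar K x := by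
  rw [← map_mul, ← map_mul]
  exact congrArg _ (Subtype.ext e)

variable {F : Type} [Field F] [Fintype F] (hpsl : Field.Psl L F)
include hpsl

/-- An element inverted by an involution and commuting with `t` maps into the torus. -/
theorem Cfg.bar_mem_torus {v : G} (hvK : v ∈ K) (hv : v * v = 1) {z : K}
    (hzt : (z : G) * E.t = E.t * z) (hzv : v * z * v = (z : G)⁻¹) (hz : Odd (orderOf (z : G))) :
    bar K z ∈ Field.torus L (bar K ⟨E.t, h.tK⟩) := by
  refine LeTop.inverted_mem_torus hpsl h.orderOf_bar_t (v := bar K ⟨v, hvK⟩) ?_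
    (h.bar_commute (y := ⟨E.t, h.tK⟩) hzt) ?_ (odd_bar hz)
  · rw [← map_mul, show (⟨v, hvK⟩ : K) * ⟨v, hvK⟩ = 1 from Subtype.ext hv, map_one]
  · rw [← map_mul, ← map_mul, ← map_inv]
    exact congrArg _ (Subtype.ext hzv)

/-- Elements of odd order of `C(t) ∩ K` inverted by `b` lie in `P`. -/
theorem Cfg.inverted_mem_P {z : K} (hzt : (z : G) * E.t = E.t * z) (hzb : b * z * b = (z : G)⁻¹)
    (hz : Odd (orderOf (z : G))) : (z : G) ∈ P := by
  have hT := h.bar_mem_torus hL hpsl h.bK h.refl.sq hzt hzb hz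
  obtain ⟨p, hp, o, ho, e⟩ := h.exists_mul hL (hpsl.torus_le h.orderOf_bar_t hT)
  have hbp : b * p * b ∈ P := mul_mem (mul_mem h.b_mem hp) h.b_mem
  have hc : p * o = o * p := h.commute_P hp ho
  have h1 : b * p * b * o = o⁻¹ * p⁻¹ := by
    rw [← mul_inv_rev, ← e, ← hzb, e, mul_assoc (b * p) b o, h.commute_P h.b_mem ho]
    group
  have h2 : o * o ∈ P := by
    have e2 : o * (b * p * b * o) = p⁻¹ := by rw [h1, mul_inv_cancel_left]
    rw [← mul_assoc, ← h.commute_P hbp ho, mul_assoc] at e2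
    rw [eq_inv_mul_iff_mul_eq.2 e2]
    exact mul_mem (inv_mem hbp) (inv_mem hp)
  obtain ⟨k, hk⟩ := CfsgLib.RankOneInvol.exists_pow_sq_eq
    (CfsgLib.RankOneInvol.odd_orderOf_of_mem (odd_card_coreIn K) ho)
  rw [e]
  refine mul_mem hp ?_
  rw [← hk, ← (Commute.refl o).mul_pow]
  exact pow_mem h2 k

/-- `O_r(C(t)) ∩ C(b) ≤ O(K)`: no field automorphism occurs. -/
theorem Cfg.mem_core {x : G} (hx : x ∈ E.R r) (hxb : x * b = b * x) : x ∈ GW.coreIn K := by
  haveI := Fact.mk h.prime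
  have hxt : x * E.t = E.t * x := E.mem_H.1 (h.R_le_H hx)
  refine (bar_eq_one (x := (⟨x, h.R_le hx⟩ : K))).1 ?_
  refine LeTop.eq_one_of_normalized hpsl h.orderOf_bar_t h.orderOf_bar_b
    (Ne.symm (h.bar_ne_t (v := ⟨b, h.bK⟩) h.refl.sq h.refl.ne_t))
    (h.bar_commute (x := ⟨E.t, h.tK⟩) (y := ⟨b, h.bK⟩) h.refl.comm.symm)
    (h.bar_mem hL (x := ⟨E.t, h.tK⟩) h.t_mem) h.prime h.r_odd
    (B := ((E.R r).subgroupOf K).map (bar K)) (h.R_isPGroup.comap_subtype.map _) ?_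
    (mem_map_of_mem _ hx) (h.bar_commute (y := ⟨E.t, h.tK⟩) hxt)
    (h.bar_commute (y := ⟨b, h.bK⟩) hxb)
  intro τ hτ y hy
  obtain ⟨w, hw, rfl⟩ := hy
  obtain ⟨k, rfl⟩ := bar_surjective K τ
  have hkt : (k : G) * E.t = E.t * k :=
    commute_of_bar (v := (⟨E.t, h.tK⟩ : K)) (Subtype.ext E.t_sq)
      (fun o ho => h.commute_P h.t_mem ho) ((hpsl.mem_torus h.orderOf_bar_t).1 hτ).2.1
  rw [← map_inv, ← map_mul, ← map_mul]
  exact mem_map_of_mem _ (mem_subgroupOf.2 (conj_mem_pCoreIn E (E.mem_H.2 hkt) hw))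

/-- The elements of `O_r(C(t))`: a part in `O(K)` and a part in `P` inverted by `b`. -/
theorem Cfg.R_decomp {x : G} (hx : x ∈ E.R r) : ∃ c z : G, c ∈ E.R r ∧ c ∈ GW.coreIn K ∧
    z ∈ E.R r ∧ z ∈ P ∧ b * z * b = z⁻¹ ∧ x = c * z ∧
    bar K ⟨x, h.R_le hx⟩ ∈ Field.torus L (bar K ⟨E.t, h.tK⟩) := by
  obtain ⟨c, z, hc, hct, hz, hzt, e⟩ := CfsgLib.RankOneInvol.exists_fixed_mul_inverted h.odd_R
    h.refl.sq (fun w hw => by
      have := conj_mem_pCoreIn E h.refl.mem_H hw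
      rwa [h.refl.inv] at this) hx
  have hcb : c * b = b * c := by
    calc c * b = b * c * b * b := by rw [hct]
      _ = b * c := by rw [mul_assoc, h.refl.sq, mul_one]
  have hcO := h.mem_core hL hpsl hc hcb
  have hzH : z * E.t = E.t * z := E.mem_H.1 (h.R_le_H hz)
  have hzo : Odd (orderOf z) := CfsgLib.RankOneInvol.odd_orderOf_of_mem h.odd_R hz
  refine ⟨c, z, hc, hcO, hz,
    h.inverted_mem_P hL hpsl (z := ⟨z, h.R_le hz⟩) hzH hzt hzo, hzt, e, ?_⟩
  have hT := h.bar_mem_torus hL hpsl h.bK h.refl.sq (z := ⟨z, h.R_le hz⟩) hzH hzt hzo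
  have e' : (⟨x, h.R_le hx⟩ : K) = ⟨c, h.R_le hc⟩ * ⟨z, h.R_le hz⟩ := Subtype.ext e
  rwa [e', map_mul, bar_eq_one.2 (show ((⟨c, h.R_le hc⟩ : K) : G) ∈ GW.coreIn K from hcO), one_mul]

omit hL hpsl

/-- The centraliser of a central element of `O_m(C(t))` in `O(K)` lies in `K`. -/
theorem Cfg.centralizer_le (hU : E.U ≠ ⊥) {e : G} (he : e ∈ E.R r) (heb : e * b = b * e)
    (heK : centralizer ({e} : Set G) ≤ K) {m : ℕ} (hm : m.Prime) {c : G} (hc1 : c ≠ 1)
    (hcO : c ∈ GW.coreIn K) (hcm : c ∈ pCoreIn m E.H)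
    (hcc : ∀ w ∈ pCoreIn m E.H, c * w = w * c) : centralizer ({c} : Set G) ≤ K := by
  haveI := E.simple
  have hne : centralizer ({c} : Set G) ≠ ⊤ := by
    intro htop
    have hcz : c ∈ center G := mem_center_iff.2 fun g =>
      mem_centralizer_singleton_iff.1 (htop ▸ mem_top g)
    rcases (inferInstance : (center G).Normal).eq_bot_or_eq_top with e' | e'
    · exact hc1 (mem_bot.1 (e' ▸ hcz))
    · exact E.H_ne_top (eq_top_iff.2 fun g _ =>
        E.mem_H.2 (mem_center_iff.1 (e' ▸ mem_top E.t) g))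
  obtain ⟨M, hM, hCM⟩ := (eq_top_or_exists_le_coatom _).resolve_left hne
  refine hCM.trans (le_of_eq ?_)
  have hPC : P ≤ centralizer ({c} : Set G) := fun p hp =>
    mem_centralizer_singleton_iff.2 (h.commute_P hp hcO)
  have hPM : P ≤ M := hPC.trans hCM
  have hfit : ∀ q : ℕ, q.Prime → pCoreIn q E.H ≤ M := fun q hq w hw => hCM (by
    rw [mem_centralizer_singleton_iff]
    by_cases hqm : q = m
    · subst hqm; exact (hcc w hw).symm
    · exact pCoreIn_commute E hq hm hqm hw hcm)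
  have hlead : Cfsg.leadsTo E.H M := by
    haveI := Local.isSolvable_H E
    have hF : (Cfsg.fittingSubgroup E.H).map E.H.subtype ≤ M := by
      rw [CfsgLib.Fitting.fitting_eq_iSup_pCore, Subgroup.map_iSup]
      exact iSup_le fun q => hfit q (Nat.prime_of_mem_primeFactors q.2)
    have hgen : Cfsg.generalizedFittingSubgroup E.H ≤ Cfsg.fittingSubgroup E.H := by
      refine sup_le ?_ le_rfl
      refine sSup_le fun C hC => absurd (inferInstance : Group.IsSolvable C) ?_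
      exact CfsgLib.Components.component_not_isSolvable hC
    refine ⟨(Cfsg.fittingSubgroup E.H).map E.H.subtype, fun e' => h.R_ne_bot (le_bot_iff.1 ?_),
      le_rfl, inf_le_left.trans ((map_mono hgen).trans hF)⟩
    rw [← e']
    exact pCoreIn_le_fitIn h.prime E.H
  have htM := hPM h.t_mem
  have hbM := hPM h.b_mem
  have hX : E.X b ≤ M ∨ ∃ L : Subgroup G, L ≤ M ∧ ⁅L, L⁆ = L ∧ E.t ∈ L :=
    Or.inr ⟨P, hPM, h.perfect, h.t_mem⟩
  have hcentre := Local.perfect_le E h.hH hU h.refl hM htM hbM hlead hX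
  have hC' : Cfg E b r M (Pinf M) :=
    { hH := h.hH
      prime := h.prime
      ne_two := h.ne_two
      refl := h.refl
      not_le := h.not_le
      coatom := hM
      P_le := Pinf_le M
      perfect := Pinf_perfect M
      t_mem := le_Pinf hPM h.perfect h.t_mem
      b_mem := le_Pinf hPM h.perfect h.b_mem
      fit_le := hfit
      centre := hcentre _ (Pinf_le M) (Pinf_perfect M)
      le_P := fun Q hQ hQ' => le_Pinf hQ hQ' }
  obtain ⟨LM, FM, i1, i2, hpM, hLM⟩ := hC'.exists_psl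
  have heM := hC'.mem_core hLM hpM he heb
  have hPinf : Pinf M = P := le_antisymm
    (h.le_P _ (fun p hp => heK (mem_centralizer_singleton_iff.2 (hC'.commute_P hp heM)))
      (Pinf_perfect M)) (le_Pinf hPM h.perfect)
  have hPne : P ≠ ⊥ := fun e' => E.t_ne_one (mem_bot.1 (e' ▸ h.t_mem))
  have norm_of : ∀ (A : Subgroup G), (∀ k ∈ A, ∀ p ∈ P, k * p * k⁻¹ ∈ P) →
      A ≤ normalizer (P : Set G) := by
    intro A hA k hk
    rw [mem_normalizer_iff]
    refine fun x => ⟨fun hx => hA k hk x hx, fun hx => ?_⟩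
    have := hA k⁻¹ (inv_mem hk) _ hx
    simpa [mul_assoc] using this
  rw [← Bender.normalizer_eq_of_isCoatom hM P hPne hPM
      (norm_of M fun k hk p hp => by
        rw [← hPinf] at hp ⊢
        exact hC'.P_conj hk hp),
    Bender.normalizer_eq_of_isCoatom h.coatom P hPne h.P_le (norm_of K fun k hk p hp => h.P_conj hk hp)]

/-- `O_m(C(t)) ∩ O(K) ∩ O(K)^h = 1` for `h ∈ C(t) - K`. -/
theorem Cfg.inter_trivial (hU : E.U ≠ ⊥) {e : G} (he : e ∈ E.R r) (heb : e * b = b * e)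
    (heK : centralizer ({e} : Set G) ≤ K) {m : ℕ} (hm : m.Prime) {y : G} (hy : y ∈ E.H)
    (hyK : y ∉ K) {x : G} (hxm : x ∈ pCoreIn m E.H) (hxO : x ∈ GW.coreIn K)
    (hxy : y⁻¹ * x * y ∈ GW.coreIn K) : x = 1 := by
  by_contra hx1
  haveI := E.simple
  haveI := Fact.mk hm
  set A := pCoreIn m E.H
  set J : Subgroup G := A ⊓ GW.coreIn K ⊓ conjBy (GW.coreIn K) y
  have hAK : A ≤ K := h.fit_le m hm
  haveI hJn : (J.subgroupOf A).Normal := ⟨fun w hw a => by
    obtain ⟨⟨h1, h2⟩, h3⟩ := mem_subgroupOf.1 hw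
    refine mem_subgroupOf.2 (mem_inf.2 ⟨mem_inf.2 ⟨mul_mem (mul_mem a.2 h1) (inv_mem a.2),
      conj_mem_coreIn (hAK a.2) h2⟩, mem_conjBy.2 ?_⟩)
    have ha : y⁻¹ * (a : G) * y⁻¹⁻¹ ∈ A := conj_mem_pCoreIn E (inv_mem hy) a.2
    rw [inv_inv] at ha
    have := conj_mem_coreIn (hAK ha) (mem_conjBy.1 h3)
    simpa [mul_assoc] using this⟩
  haveI : Group.IsNilpotent A := (Bender.coreIn_isPGroup hm E.H).isNilpotent
  have hJne : J.subgroupOf A ≠ ⊥ := fun e' => hx1 (by
    have hxJ : (⟨x, hxm⟩ : A) ∈ J.subgroupOf A :=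
      mem_subgroupOf.2 (mem_inf.2 ⟨mem_inf.2 ⟨hxm, hxO⟩, mem_conjBy.2 hxy⟩)
    rw [e', mem_bot] at hxJ
    exact congrArg Subtype.val hxJ)
  obtain ⟨c, hc, hc1⟩ := (bot_or_exists_ne_one _).resolve_left
    (CfsgLib.OddOrder.PuigSeries.inf_center_ne_bot (J.subgroupOf A) hJne)
  obtain ⟨⟨-, hcO⟩, hcy⟩ := mem_subgroupOf.1 hc.2
  have hCK := h.centralizer_le hU he heb heK hm (c := (c : G))
    (fun e' => hc1 (Subtype.ext e')) hcO c.2
    fun w hw => congrArg Subtype.val (mem_center_iff.1 hc.1 ⟨w, hw⟩).symm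
  have hle : conjBy P y ≤ P := by
    refine h.le_P _ (fun p hp => hCK (mem_centralizer_singleton_iff.2 ?_))
      (by rw [conjBy, ← map_commutator, h.perfect])
    have := Setup.commute_conj (g := y) (h.commute_P (mem_conjBy.1 hp) (mem_conjBy.1 hcy))
    simpa [mul_assoc] using this
  have heq := eq_of_le_of_card_ge hle (by
    rw [conjBy, card_map_of_injective (MulAut.conj y).injective])
  refine hyK ?_
  have hPne : P ≠ ⊥ := fun e' => E.t_ne_one (mem_bot.1 (e' ▸ h.t_mem))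
  rw [← Bender.normalizer_eq_of_isCoatom h.coatom P hPne h.P_le (fun k hk => by
    rw [mem_normalizer_iff]
    refine fun w => ⟨fun hw => h.P_conj hk hw, fun hw => ?_⟩
    have := h.P_conj (inv_mem hk) hw
    simpa [mul_assoc] using this), mem_normalizer_iff]
  intro w
  constructor
  · intro hw
    rw [← heq, mem_conjBy]
    simpa [mul_assoc] using hw
  · intro hw
    rw [← heq, mem_conjBy] at hw
    simpa [mul_assoc] using hw

end CfsgLib.GW.Max31.Le
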