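import Cfsg.Agent.Lib.GW.Field
import Cfsg.Agent.Lib.GW.TopFacts

/-!
Gorenstein–Walter, Step 3.1 (d): facts on the top `Y` of a maximal subgroup.  An `r`-group
normalised by the torus of an involution `t` and centralising a four-group through `t` is trivial,
so field automorphisms never come from `O_r(C(t))`; the top `A₇` has a 3-element centralising the
odd part of `C(t)` without fixing `t`.
-/

set_option autoImplicit false
set_option linter.unusedSectionVars false
set_option linter.style.haveILetI false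

open Subgroup

namespace CfsgLib.GW.LeTop

open CfsgLib.GW.Field CfsgLib.GW.FieldModel CfsgLib.GW.TopModel CfsgLib.PSL2 CfsgLib.AutPSL

universe u

/-- A prime divisor, different from `r`, of `a^r - ε` that does not divide `a - ε`. -/
theorem exists_prime {a r : ℕ} (ha : Odd a) (ha3 : 3 ≤ a) (hr : r.Prime) (hro : Odd r) :
    ∃ l : ℕ, l.Prime ∧ l ≠ r ∧ Odd l ∧ (l : ℤ) ∣ ((a ^ r : ℕ) : ℤ) - eps (a ^ r) ∧
      ¬ (l : ℤ) ∣ (a : ℤ) - eps a := by
  have hr3 : 3 ≤ r := by
    have := hr.two_le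
    have := Nat.odd_iff.1 hro
    omega
  have hpe := eps_pow ha hro
  have hen : eps a ^ r = eps a := by
    rcases eps_cases a with e | e <;> rw [e]
    · rw [one_pow]
    · rw [hro.neg_one_pow]
  set S : ℤ := ∑ i ∈ Finset.range r, (a : ℤ) ^ i * eps a ^ (r - 1 - i) with hS
  have hprod : ((a ^ r : ℕ) : ℤ) - eps (a ^ r) = ((a : ℤ) - eps a) * S := by
    rw [hpe, mul_comm, hS, geom_sum₂_mul, hen]
    push_cast; ring
  have hSodd : Odd S := by
    rw [hS, Int.odd_iff, Finset.sum_int_mod, Finset.sum_congr rfl (fun i _ => Int.odd_iff.1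
      ((show Odd ((a : ℤ) ^ i) from Odd.pow (by exact_mod_cast ha)).mul
        (show Odd (eps a ^ (r - 1 - i)) from
          Odd.pow (by rcases eps_cases a with e | e <;> rw [e] <;> decide)))),
      Finset.sum_const, Finset.card_range, nsmul_one]
    exact_mod_cast Nat.odd_iff.1 hro
  have hrl : ∀ l : ℕ, l.Prime → (l : ℤ) ∣ S → (l : ℤ) ∣ (a : ℤ) - eps a → l = r := by
    intro l hl h1 h2
    have h3 := (dvd_geom_sum₂_iff_of_dvd_sub h2).1 h1
    have hu : IsUnit (eps a ^ (r - 1)) := by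
      refine IsUnit.pow _ ?_
      rcases eps_cases a with e | e <;> rw [e]
      · exact isUnit_one
      · exact isUnit_one.neg
    rw [IsUnit.dvd_mul_right hu, Int.natCast_dvd_natCast] at h3
    exact (Nat.prime_dvd_prime_iff_eq hl hr).1 h3
  have hfin : ∀ T : ℤ, T ∣ S → T.natAbs ≠ 1 → (∀ l : ℕ, l.Prime → (l : ℤ) ∣ T → l ≠ r) →
      ∃ l : ℕ, l.Prime ∧ l ≠ r ∧ Odd l ∧ (l : ℤ) ∣ ((a ^ r : ℕ) : ℤ) - eps (a ^ r) ∧
        ¬ (l : ℤ) ∣ (a : ℤ) - eps a := by
    intro T hT hT1 hTr
    obtain ⟨l, hl, hlT⟩ := Nat.exists_prime_and_dvd hT1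
    have hlT' : (l : ℤ) ∣ T := Int.natCast_dvd.2 hlT
    refine ⟨l, hl, hTr l hl hlT', ?_, hprod ▸ (hlT'.trans hT).mul_left _, fun h =>
      hTr l hl hlT' (hrl l hl (hlT'.trans hT) h)⟩
    exact (Int.natAbs_odd.2 hSodd).of_dvd_nat (Int.natCast_dvd.1 (hlT'.trans hT))
  have ha' : (3 : ℤ) ≤ a := by exact_mod_cast ha3
  have hpow : (a : ℤ) * a * r ≤ (a : ℤ) ^ r := by
    have h1 : r ≤ a ^ (r - 2) := by
      have key : ∀ j : ℕ, j + 3 ≤ 3 ^ (j + 1) := by
        intro j
        induction j with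
        | zero => norm_num
        | succ j ih =>
          rw [pow_succ]
          omega
      have h2 := key (r - 3)
      rw [show r - 3 + 1 = r - 2 by omega, show r - 3 + 3 = r by omega] at h2
      exact h2.trans (Nat.pow_le_pow_left ha3 _)
    have h2 : a * a * r ≤ a ^ r := by
      calc a * a * r ≤ a * a * a ^ (r - 2) := Nat.mul_le_mul_left _ h1
        _ = a ^ r := by rw [← pow_two, ← pow_add, show 2 + (r - 2) = r by omega]
    exact_mod_cast h2
  have hr' : (3 : ℤ) ≤ r := by exact_mod_cast hr3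
  by_cases hdr : (r : ℤ) ∣ (a : ℤ) - eps a
  · obtain ⟨w, hw⟩ := hdr
    have h2 := odd_sq_dvd_geom_sum₂_sub (R := ℤ) (a := eps a) (b := w) (p := r) hro
    rw [show eps a + (r : ℤ) * w = a by linear_combination -hw, ← hS] at h2
    have he2 : eps a ^ (r - 1) = 1 := by
      obtain ⟨j, hj⟩ := hro
      rcases eps_cases a with e | e <;> rw [e]
      · rw [one_pow]
      · rw [show r - 1 = 2 * j by omega, pow_mul]; norm_num
    rw [he2, mul_one] at h2
    obtain ⟨v, hv⟩ := h2
    have hSv : S = (r : ℤ) * (1 + r * v) := by linear_combination hv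
    refine hfin (1 + r * v) ⟨r, by rw [hSv]; ring⟩ (fun h1 => ?_) (fun l hl hlT hlr => ?_)
    · have hpr : (a : ℤ) ^ r - eps a = ((a : ℤ) - eps a) * S := by
        rw [← hprod, hpe]; push_cast; ring
      rcases Int.natAbs_eq_iff.1 h1 with e | e <;> rw [hSv, e] at hpr <;>
        rcases eps_cases a with e' | e' <;> rw [e'] at hpr <;> push_cast at hpr <;>
          nlinarith [mul_le_mul_of_nonneg_left ha' (show (0 : ℤ) ≤ a * r by positivity),
            mul_le_mul_of_nonneg_left ha' (show (0 : ℤ) ≤ r by positivity)]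
    · subst hlr
      have h3 : (l : ℤ) ∣ 1 := by
        have := dvd_sub hlT (dvd_mul_right (l : ℤ) v)
        simpa using this
      exact hl.ne_one (Nat.dvd_one.1 (Int.natCast_dvd_natCast.1 (by exact_mod_cast h3)))
  · refine hfin S dvd_rfl ?_ (fun l hl hlS hlr => ?_)
    · intro h1
      have hpr : (a : ℤ) ^ r - eps a = ((a : ℤ) - eps a) * S := by
        rw [← hprod, hpe]; push_cast; ring
      rcases Int.natAbs_eq_iff.1 h1 with e | e <;> rw [e] at hpr <;>
        rcases eps_cases a with e' | e' <;> rw [e'] at hpr <;> push_cast at hpr <;>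
          nlinarith [mul_le_mul_of_nonneg_left ha' (show (0 : ℤ) ≤ a * r by positivity),
            mul_le_mul_of_nonneg_left ha' (show (0 : ℤ) ≤ r by positivity)]
    · subst hlr
      refine hdr ?_
      haveI : Fact l.Prime := ⟨hl⟩
      rw [← ZMod.intCast_zmod_eq_zero_iff_dvd]
      have h1 : (((a ^ l : ℕ) : ℤ) - eps (a ^ l) : ℤ) = ((a : ℤ) - eps a) * S := hprod
      have h2 : ((((a ^ l : ℕ) : ℤ) - eps (a ^ l) : ℤ) : ZMod l) = 0 :=
        (ZMod.intCast_zmod_eq_zero_iff_dvd _ _).2 (h1 ▸ hlS.mul_left _)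
      rw [hpe] at h2
      push_cast at h2 ⊢
      rwa [ZMod.pow_card] at h2

variable {Y : Type u} [Group Y] [Finite Y] {F : Type*} [Field F] [Fintype F] {L : Subgroup Y}
  (h : Field.Psl L F)
include h

/-- An element of odd order of `C(t)` inverted by an involution lies in the torus. -/
theorem inverted_mem_torus {t v x : Y} (ht : orderOf t = 2) (hv : v * v = 1) (hxt : x * t = t * x)
    (hxv : v * x * v = x⁻¹) (hx : Odd (orderOf x)) : x ∈ torus L t := by
  have hfp : h.fp x = 1 := by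
    have h1 : h.fp x = (h.fp x)⁻¹ := by
      have := congrArg h.fp hxv
      rwa [map_mul, map_mul, h.fp_involution hv, one_mul, mul_one, map_inv] at this
    refine CfsgLib.RankOneInvol.eq_one_of_sq_of_odd (h.orderOf_fp x) ?_
    nth_rw 1 [h1]
    exact inv_mul_cancel _
  obtain ⟨g, hg⟩ := h.exists_rep hfp
  refine (h.mem_torus ht).2 ⟨h.mem_of_rep hg ?_, hxt, hx⟩
  refine mem_pslImage_of_odd ?_
  rwa [h.orderOf_rep hg]

/-- An `r`-group normalised by the torus of `t` and centralising a four-group through `t` is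
trivial. -/
theorem eq_one_of_normalized {t b : Y} (ht : orderOf t = 2) (hb : orderOf b = 2) (hne : t ≠ b)
    (htb : t * b = b * t) (htL : t ∈ L) {r : ℕ} (hr : r.Prime) (hro : Odd r) {B : Subgroup Y}
    (hB : IsPGroup r B) (hn : ∀ τ ∈ torus L t, ∀ y ∈ B, τ * y * τ⁻¹ ∈ B) {x : Y} (hxB : x ∈ B)
    (hxt : x * t = t * x) (hxb : x * b = b * x) : x = 1 := by
  haveI := Fact.mk hr
  by_contra hx1
  obtain ⟨k, hk⟩ := IsPGroup.iff_orderOf.1 hB ⟨x, hxB⟩
  rw [Subgroup.orderOf_mk] at hk
  have hk0 : k ≠ 0 := by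
    rintro rfl
    exact hx1 (orderOf_eq_one_iff.1 (by rw [hk, pow_zero]))
  set y := x ^ (orderOf x / r)
  have hrd : r ∣ orderOf x := hk ▸ dvd_pow_self r hk0
  have hy : orderOf y = r := orderOf_pow_orderOf_div (orderOf_pos x).ne' hrd
  have hyB : y ∈ B := pow_mem hxB _
  have hyt : y * t = t * y := ((show Commute x t from hxt).pow_left _).eq
  have hyb : y * b = b * y := ((show Commute x b from hxb).pow_left _).eq
  obtain ⟨q0, hq0, h30, hq, hdvd⟩ :=
    h.exists_fixed_dvd ht hb hne htb htL hyt hyb (hy.symm ▸ hro)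
  rw [hy] at hq
  obtain ⟨l, hl, hlr, hlo, hld, hlnd⟩ := exists_prime hq0 h30 hr hro
  rw [← hq] at hld
  haveI := Fact.mk hl
  obtain ⟨τ', hτ'⟩ := exists_prime_orderOf_dvd_card' (G := torus L t) l
    ((h.card_torus_inner ht htL).2 l hlo hld)
  set τ : Y := (τ' : Y) with hτdef
  have hτ : orderOf τ = l := by rw [hτdef, Subgroup.orderOf_coe, hτ']
  apply hlnd
  rw [← hτ]
  refine hdvd τ τ'.2 ?_
  set d := τ * y * τ⁻¹ * y⁻¹ with hd
  have hdB : d ∈ B := mul_mem (hn τ τ'.2 y hyB) (inv_mem hyB)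
  have hτy : y * τ⁻¹ * y⁻¹ ∈ torus L t := h.conj_mem_torus ht hyt (inv_mem τ'.2)
  have hdl : d ^ l = 1 := by
    rw [hd, show τ * y * τ⁻¹ * y⁻¹ = τ * (y * τ⁻¹ * y⁻¹) by group,
      (show Commute τ (y * τ⁻¹ * y⁻¹) from h.torus_commute ht τ'.2 hτy).mul_pow, conj_pow, inv_pow,
      ← hτ, pow_orderOf_eq_one, inv_one, one_mul, mul_one, mul_inv_cancel]
  obtain ⟨j, hj⟩ := IsPGroup.iff_orderOf.1 hB ⟨d, hdB⟩
  rw [Subgroup.orderOf_mk] at hj
  have hd1 : d = 1 := orderOf_eq_one_iff.1 (Nat.eq_one_of_dvd_coprimes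
    (((Nat.coprime_primes hl hr).2 hlr).pow_right j) (orderOf_dvd_of_pow_eq_one hdl) (dvd_of_eq hj))
  rw [hd, mul_inv_eq_one, mul_inv_eq_iff_eq_mul] at hd1
  exact hd1.symm

omit h

/-! ### The top `A₇` -/

/-- A group over `A₇` with dihedral Sylow 2-subgroups is `A₇`. -/
theorem seven_equiv (hL : L.Normal) (hC : centralizer (L : Set Y) = ⊥)
    (f : L ≃* alternatingGroup (Fin 7)) (P : Sylow 2 Y) {n : ℕ}
    (e : Nonempty ((P : Subgroup Y) ≃* DihedralGroup n)) :
    L = ⊤ ∧ Nonempty (Y ≃* alternatingGroup (Fin 7)) := by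
  haveI := hL
  let φ : Y →* MulAut (alternatingGroup (Fin 7)) :=
    (MulAut.congr f).toMonoidHom.comp MulAut.conjNormal
  have hφ : Function.Injective φ := by
    rw [injective_iff_map_eq_one]
    intro g hg
    have hg' : (MulAut.conjNormal g : MulAut L) = 1 := by
      apply (MulAut.congr f).injective
      rw [map_one]
      exact hg
    have : g ∈ centralizer (L : Set Y) := by
      rw [mem_centralizer_iff]
      intro x hx
      have h1 := congrArg Subtype.val (DFunLike.congr_fun hg' (⟨x, hx⟩ : L))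
      rw [MulAut.conjNormal_apply] at h1
      exact (mul_inv_eq_iff_eq_mul.1 h1).symm
    rwa [hC, mem_bot] at this
  have hle := Nat.card_le_card_of_injective φ hφ
  rw [CfsgLib.DimThreeMax.card_mulAut_alt_seven] at hle
  have hc := L.card_mul_index
  rw [Nat.card_congr f.toEquiv, CfsgLib.DimThreeMax.card_alt_seven] at hc
  by_cases hidx : L.index = 1
  · rw [index_eq_one] at hidx
    exact ⟨hidx, ⟨((MulEquiv.subgroupCongr hidx).trans topEquiv).symm.trans f⟩⟩
  · exfalso
    have hne : L.index ≠ 0 := index_ne_zero_of_finite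
    have h2' : Nat.card Y = 5040 := by omega
    let ψ : Y ≃* Equiv.Perm (Fin 7) :=
      (MulEquiv.ofBijective φ ((Nat.bijective_iff_injective_and_card φ).2
        ⟨hφ, by rw [h2', CfsgLib.DimThreeMax.card_mulAut_alt_seven]⟩)).trans
      (MulEquiv.ofBijective _ (Cfsg.Agent.S2119.result 7 (by norm_num) (by norm_num))).symm
    obtain ⟨e⟩ := e
    haveI : NeZero n := ⟨fun h => by
      subst h
      haveI : Finite (DihedralGroup 0) := Finite.of_equiv _ e.toEquiv
      haveI : Finite ℤ :=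
        (Finite.of_injective DihedralGroup.r fun a b h => by injection h : Finite (ZMod 0))
      exact not_finite ℤ⟩
    exact GWCons.DihedralGenerated.not_perm_seven P e ψ

theorem key_perm : ∀ σ : Equiv.Perm (Fin 7), σ * σ * σ = 1 →
    σ * (Equiv.swap 0 1 * Equiv.swap 2 3) = Equiv.swap 0 1 * Equiv.swap 2 3 * σ →
    σ * (Equiv.swap 0 1 * Equiv.swap 1 2) = Equiv.swap 0 1 * Equiv.swap 1 2 * σ := by
  set_option maxRecDepth 100000 in decide +kernel

/-- In `A₇` some element centralises the odd part of the centraliser of an involution without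
centralising it. -/
theorem seven_exists (eY : Y ≃* alternatingGroup (Fin 7)) {v : Y} (hv : orderOf v = 2) :
    ∃ γ : Y, γ * v ≠ v * γ ∧ ∀ x : Y, Odd (orderOf x) → x * v = v * x → γ * x = x * γ := by
  let g : Y →* Equiv.Perm (Fin 7) := (alternatingGroup (Fin 7)).subtype.comp eY.toMonoidHom
  have hg : Function.Injective g := fun x y h => eY.injective (Subtype.ext h)
  have hct : (g v).cycleType = ({2, 2} : Multiset ℕ) := by
    have h1 := CfsgLib.Mitchell.cycleType_even_seven _ (Equiv.Perm.mem_alternatingGroup.1 (eY v).2)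
    have h2 : (g v).cycleType.lcm = 2 := by
      rw [Equiv.Perm.lcm_cycleType, orderOf_injective g hg, hv]
    simp only [List.mem_cons, List.not_mem_nil, or_false] at h1
    rw [show g v = ((eY v : alternatingGroup (Fin 7)) : Equiv.Perm (Fin 7)) from rfl] at h2 ⊢
    rcases h1 with h | h | h | h | h | h | h | h <;>
      first
      | exact h
      | (rw [h] at h2; exact absurd h2 (by decide))
  set v₀ : Equiv.Perm (Fin 7) := Equiv.swap 0 1 * Equiv.swap 2 3 with hv₀
  set s₀ : Equiv.Perm (Fin 7) := Equiv.swap 0 1 * Equiv.swap 1 2 with hs₀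
  obtain ⟨c, hc⟩ := isConj_iff.1 (Equiv.Perm.isConj_iff_cycleType_eq.2
    (hct.trans (show ({2, 2} : Multiset ℕ) = v₀.cycleType by decide +kernel)))
  obtain ⟨γ, hγ⟩ : ∃ γ : Y, g γ = c⁻¹ * s₀ * c := by
    refine ⟨eY.symm ⟨c⁻¹ * s₀ * c, ?_⟩, ?_⟩
    · rw [Equiv.Perm.mem_alternatingGroup, map_mul, map_mul, map_inv, hs₀]
      simp
    · show ((eY (eY.symm _) : alternatingGroup (Fin 7)) : Equiv.Perm (Fin 7)) = _
      rw [eY.apply_symm_apply]
  have hgv : g v = c⁻¹ * v₀ * c := by rw [← hc]; group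
  have back : ∀ {a b : Equiv.Perm (Fin 7)} {x y : Y}, g x = c⁻¹ * a * c → g y = c⁻¹ * b * c →
      (x * y = y * x ↔ a * b = b * a) := by
    intro a b x y hx hy
    rw [← hg.eq_iff, map_mul, map_mul, hx, hy]
    constructor
    · intro h
      have := congrArg (fun z => c * z * c⁻¹) h
      simpa [mul_assoc] using this
    · intro h
      calc c⁻¹ * a * c * (c⁻¹ * b * c) = c⁻¹ * (a * b) * c := by group
        _ = _ := by rw [h]; group
  refine ⟨γ, fun e => absurd ((back hγ hgv).1 e) (by decide +kernel), fun x hx hxv => ?_⟩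
  have hx' : g x = c⁻¹ * (c * g x * c⁻¹) * c := by group
  have hcom := (back hx' hgv).1 hxv
  have ho : Odd (orderOf (c * g x * c⁻¹)) := by
    rw [show c * g x * c⁻¹ = MulAut.conj c (g x) from rfl, MulEquiv.orderOf_eq,
      orderOf_injective g hg]
    exact hx
  have h48 : Nat.card (centralizer ({v₀} : Set (Equiv.Perm (Fin 7)))) ∣ 48 := by
    rw [Equiv.Perm.nat_card_centralizer,
      show v₀.cycleType = ({2, 2} : Multiset ℕ) by decide +kernel]
    decide +kernel
  have hcube : c * g x * c⁻¹ * (c * g x * c⁻¹) * (c * g x * c⁻¹) = 1 := by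
    have h1 := ((centralizer ({v₀} : Set (Equiv.Perm (Fin 7)))).orderOf_dvd_natCard
      (mem_centralizer_singleton_iff.2 hcom)).trans h48
    rw [← pow_two, ← pow_succ, ← orderOf_dvd_iff_pow_eq_one]
    exact Nat.Coprime.dvd_of_dvd_mul_left ((Nat.coprime_two_left.2 ho).pow_left 4).symm
      (show _ ∣ 2 ^ 4 * 3 from h1)
  exact (back hγ hx').2 (key_perm _ hcube hcom).symm

end CfsgLib.GW.LeTop
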