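import Cfsg.Agent.Lib.GW.Max31Kill
import Cfsg.Agent.Lib.GW.Local


/-!
Gorenstein–Walter, Step 3.1 a, c: some element of order `r` of `O_r(C(t)) ∩ C(b)` lies in the odd
core of a maximal subgroup whose perfect residual contains `t` and `b`.
-/

set_option autoImplicit false
set_option linter.style.haveILetI false
set_option linter.unusedSectionVars false
set_option maxHeartbeats 1600000

namespace CfsgLib.GW.Max31

open Subgroup

universe u

variable {G : Type u} [Group G] [Finite G] {E : Setup G} {b : G} {r : ℕ}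

theorem mem_normalizer_of_conj_le {Q : Subgroup G} {g : G} (h : ∀ x ∈ Q, g * x * g⁻¹ ∈ Q) :
    g ∈ normalizer (Q : Set G) := by
  have hle : Q.map (MulAut.conj g).toMonoidHom ≤ Q := by
    rintro _ ⟨y, hy, rfl⟩; exact h y hy
  rw [mem_normalizer_iff]
  intro x
  refine ⟨fun hx => h x hx, fun hx => ?_⟩
  rw [← eq_of_le_of_card_ge hle (by rw [card_map_of_injective (MulAut.conj g).injective])] at hx
  obtain ⟨y, hy, hyx⟩ := hx
  rwa [← (MulAut.conj g).injective (hyx : MulAut.conj g y = MulAut.conj g x)]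

theorem normalizer_ne_top (E : Setup G) {Q : Subgroup G} (h1 : Q ≠ ⊥) (h2 : Q ≠ ⊤) :
    normalizer (Q : Set G) ≠ ⊤ := fun h =>
  (E.eq_bot_or_top (normalizer_eq_top_iff.1 h)).elim h1 h2

theorem ne_top_of_le_R (E : Setup G) {Q : Subgroup G} (h : Q ≤ E.R r) : Q ≠ ⊤ := fun e =>
  E.H_ne_top (top_le_iff.1 (e.symm.le.trans (h.trans (R_le_H E r))))

theorem leadsTo_of_le (E : Setup G) (hr : r.Prime) {Q K : Subgroup G} (hQ : Q ≠ ⊥) (hQR : Q ≤ E.R r)
    (hN : normalizer (Q : Set G) ≤ K) : Cfsg.leadsTo E.H K :=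
  ⟨Q, hQ, hQR.trans (pCoreIn_le_fitIn hr E.H), inf_le_right.trans hN⟩

/-- The data of Lemma (Z). -/
theorem kData (hH : IsCoatom E.H) (hU : E.U ≠ ⊥) (hb : E.Refl b) {K : Subgroup G} (hK : IsCoatom K)
    (ht : E.t ∈ K) (hbK : b ∈ K) (hlead : Cfsg.leadsTo E.H K)
    (hX : E.X b ≤ K ∨ ∃ L : Subgroup G, L ≤ K ∧ ⁅L, L⁆ = L ∧ E.t ∈ L) : KData E b K :=
  ⟨hK, ht, hbK, Local.commute_coreIn E hH hU hb hK ht hbK hlead hX,
    Local.perfect_le E hH hU hb hK ht hbK hlead hX (perf K) (perf_le K) (perfect_perf K)⟩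

/-- `t` and `b` in the perfect residual of `K` commute with its odd core. -/
theorem KData.commute_of_mem {K : Subgroup G} (D : KData E b K) {x c : G} (hx : x ∈ perf K)
    (hc : c ∈ coreIn K) : x * c = c * x :=
  (mem_centralizer_iff.1 (D.perf_core hx) c hc).symm

/-- A subgroup of an `r`-group which is not trivial has an element of order `r`. -/
theorem exists_order (hr : r.Prime) {P : Subgroup G} (hP : IsPGroup r P) {x : G} (hx : x ∈ P)
    (h1 : x ≠ 1) : ∃ j : ℕ, orderOf (x ^ j) = r := by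
  haveI := Fact.mk hr
  obtain ⟨k, hk⟩ := IsPGroup.iff_orderOf.1 hP ⟨x, hx⟩
  rw [Subgroup.orderOf_mk] at hk
  refine ⟨orderOf x / r, orderOf_pow_orderOf_div (orderOf_pos x).ne' ?_⟩
  rw [hk]
  refine dvd_pow_self r fun h0 => h1 (orderOf_eq_one_iff.1 ?_)
  rw [hk, h0, pow_zero]

/-- Thompson's `A × B` lemma for an involution. -/
theorem exists_inverted (hr : r.Prime) (hr2 : r ≠ 2) {P A : Subgroup G} (hP : IsPGroup r P)
    (hA : IsPGroup r A) (hAP : A ≤ normalizer (P : Set G)) {t : G} (ht : t * t = 1)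
    (htP : ∀ x ∈ P, t * x * t ∈ P) (htA : ∀ a ∈ A, a * t = t * a)
    (hne : ¬ ∀ x ∈ P, x * t = t * x) :
    ∃ y ∈ P, y ≠ 1 ∧ t * y * t = y⁻¹ ∧ ∀ a ∈ A, a * y = y * a := by
  haveI := Fact.mk hr
  by_contra hno
  push Not at hno
  have hodd : Odd (Nat.card P) := by
    obtain ⟨k, hk⟩ := IsPGroup.iff_card.1 hP
    rw [hk]; exact (hr.odd_of_ne_two hr2).pow
  have fix_iff : ∀ x : G, t * x * t = x ↔ x * t = t * x := fun x =>
    ⟨fun h => by calc x * t = t * x * t * t := by rw [h]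
                     _ = t * x := by rw [mul_assoc, ht, mul_one],
     fun h => by rw [mul_assoc, h, ← mul_assoc, ht, one_mul]⟩
  have hcen : ∀ y ∈ P, (∀ a ∈ A, a * y = y * a) → y * t = t * y := by
    intro y hy hya
    obtain ⟨c, z, hc, hct, hz, hzt, rfl⟩ := CfsgLib.RankOneInvol.exists_fixed_mul_inverted
      (X := P ⊓ centralizer (A : Set G)) (hodd.of_dvd_nat (card_dvd_of_le inf_le_left)) ht
      (fun w hw => ⟨htP w hw.1, mem_centralizer_iff.2 fun a ha =>
        ((((show Commute a t from htA a ha).mul_right (mem_centralizer_iff.1 hw.2 a ha)).mul_right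
          (htA a ha))).eq⟩)
      (show y ∈ P ⊓ centralizer (A : Set G) from ⟨hy, mem_centralizer_iff.2 hya⟩)
    by_cases hz1 : z = 1
    · rw [hz1, mul_one]; exact (fix_iff c).1 hct
    · obtain ⟨a, ha, hne'⟩ := hno z hz.1 hz1 hzt
      exact absurd (mem_centralizer_iff.1 hz.2 a ha) hne'
  set W := A ⊔ P with hW
  have hWp : IsPGroup r W := hA.to_sup_of_normal_right' hP hAP
  have hAW : A ≤ W := le_sup_left
  let Fx : Subgroup G := W ⊓ centralizer ({t} : Set G)
  have hAF : A ≤ Fx := le_inf hAW fun a ha => mem_centralizer_singleton_iff.2 (htA a ha)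
  have hall : Fx = W := eq_of_self_normalizing hWp inf_le_left fun g hg hgn => by
    have hg' : g ∈ ((A ⊔ P : Subgroup G) : Set G) := hg
    rw [coe_mul_of_left_le_normalizer_right A P hAP] at hg'
    obtain ⟨a, ha, x, hx, rfl⟩ := Set.mem_mul.1 hg'
    have hxn : ∀ a' ∈ A, x * a' * x⁻¹ * t = t * (x * a' * x⁻¹) := by
      intro a' ha'
      have h1 := mem_centralizer_singleton_iff.1 (hgn a' (hAF ha')).2
      have hca : Commute a⁻¹ t := (show Commute a t from htA a ha).inv_left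
      have := (hca.mul_left (show Commute _ t from h1)).mul_left (show Commute a t from htA a ha)
      rwa [show a⁻¹ * (a * x * a' * (a * x)⁻¹) * a = x * a' * x⁻¹ by group] at this
    have hc : ∀ a' ∈ A, a' * (x⁻¹ * (t * x * t)) = x⁻¹ * (t * x * t) * a' := by
      intro a' ha'
      have ti : t⁻¹ = t := inv_eq_of_mul_eq_one_right ht
      have e1 : t * x * t * a' * (t * x * t)⁻¹ = x * a' * x⁻¹ := by
        calc t * x * t * a' * (t * x * t)⁻¹ = t * (x * (t * a' * t⁻¹) * x⁻¹) * t⁻¹ := by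
              group
          _ = t * (x * a' * x⁻¹) * t⁻¹ := by rw [← htA a' ha', mul_inv_cancel_right]
          _ = x * a' * x⁻¹ := by rw [← hxn a' ha', mul_inv_cancel_right]
      calc a' * (x⁻¹ * (t * x * t)) = x⁻¹ * (x * a' * x⁻¹) * (t * x * t) := by group
        _ = x⁻¹ * (t * x * t * a' * (t * x * t)⁻¹) * (t * x * t) := by rw [e1]
        _ = x⁻¹ * (t * x * t) * a' := by group
    have h2 := (fix_iff _).2 (hcen _ (mul_mem (inv_mem hx) (htP x hx)) hc)
    have hone : x⁻¹ * (t * x * t) = 1 := by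
      refine CfsgLib.RankOneInvol.eq_one_of_mem_of_sq hodd (mul_mem (inv_mem hx) (htP x hx)) ?_
      have ti : t⁻¹ = t := inv_eq_of_mul_eq_one_right ht
      nth_rewrite 2 [← h2]
      calc x⁻¹ * (t * x * t) * (t * (x⁻¹ * (t * x * t)) * t)
          = x⁻¹ * (t * x * (t * t) * x⁻¹ * t) * x * (t * t) := by group
        _ = 1 := by rw [ht, mul_one, mul_one, mul_inv_cancel_right, ht, mul_one, inv_mul_cancel]
    refine ⟨hg, mem_centralizer_singleton_iff.2 ?_⟩
    exact ((show Commute a t from htA a ha).mul_left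
      ((fix_iff x).1 (inv_mul_eq_one.1 hone).symm)).eq
  refine hne fun x hx => mem_centralizer_singleton_iff.1 ?_
  exact (hall.ge (show x ∈ W from mem_sup_right hx)).2

/-- The socle contains a second involution centralising a given one. -/
theorem exists_second {Y : Type u} [Group Y] [Finite Y] (hDC : Main.DC Y) {L : Subgroup Y}
    [L.Normal] (hL : IsPSLOrA7 L) {t : Y} (ht : orderOf t = 2) (htL : t ∈ L) :
    ∃ s ∈ L, orderOf s = 2 ∧ s ≠ t ∧ s * t = t * s := by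
  classical
  haveI : Fact (Nat.Prime 2) := ⟨Nat.prime_two⟩
  obtain ⟨ht1, ht2⟩ := CfsgLib.Involutions.orderOf_eq_two_iff_mul.1 ht
  obtain ⟨T, hT⟩ := (CfsgLib.Involutions.isPGroup_two_zpowers ht).exists_le_sylow
  obtain ⟨-, hnc⟩ := exists_sylow_index hDC hL T
  obtain ⟨n, hn, ⟨f⟩⟩ := (hDC _ T.2).resolve_left fun hc => hnc (by
    haveI := hc
    exact isCyclic_of_injective _ (Subgroup.inclusion_injective inf_le_left))
  obtain ⟨C, D⟩ := CfsgLib.DGroup.dihData_of_equiv T.2 hn f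
  obtain ⟨c, hcC, hc2, hc1, huniq⟩ := D.exists_c
  have hcR : c ∈ (T : Subgroup Y) ⊓ L := D.c_mem huniq inf_le_left hnc
  have htT : t ∈ (T : Subgroup Y) := hT (mem_zpowers t)
  by_cases htc : t = c
  · obtain ⟨s, hs, hsC⟩ := D.exists_refl inf_le_left hnc
    refine ⟨s, hs.2, CfsgLib.Involutions.orderOf_eq_two_iff_mul.2
      ⟨fun e => hsC (e ▸ one_mem C), D.out s hs.1 hsC⟩, fun e => hsC (e.symm ▸ htc ▸ hcC), ?_⟩
    rw [htc]; exact D.central hcC hc2 hs.1
  · exact ⟨c, hcR.2, CfsgLib.Involutions.orderOf_eq_two_iff_mul.2 ⟨hc1, hc2⟩, Ne.symm htc,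
      (D.central hcC hc2 htT).symm⟩

/-- With Sylow subgroups of order four the same holds for quotients of subgroups. -/
theorem card_sylow_le_four (E : Setup G) (hk : E.d.k = 0) (K : Subgroup G)
    (T : Sylow 2 (K ⧸ Cfsg.oddCore K)) : Nat.card (T : Subgroup (K ⧸ Cfsg.oddCore K)) ≤ 4 := by
  haveI : Fact (Nat.Prime 2) := ⟨Nat.prime_two⟩
  obtain ⟨S0⟩ : Nonempty (Sylow 2 K) := inferInstance
  obtain ⟨S1, ⟨e⟩⟩ := CfsgLib.InvChar.exists_sylow_quotient_equiv S0
  rw [Nat.card_congr (Sylow.equiv T S1).toEquiv, ← Nat.card_congr e.toEquiv,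
    ← card_map_of_injective K.subtype_injective]
  obtain ⟨P, hP⟩ := (S0.2.map K.subtype).exists_le_sylow
  refine (card_le_of_le hP).trans (le_of_eq ?_)
  rw [Nat.card_congr (Sylow.equiv P E.S).toEquiv, E.card_S, hk]
  rfl

/-- Step 3.1 a: `t` and `b` are inner on the top of a maximal subgroup containing the normaliser
of a subgroup of `O_r(C(t)) ∩ C(b)`. -/
theorem mem_perf_of_inverted (hH : IsCoatom E.H) (hb : E.Refl b) (hr : r.Prime) (hr2 : r ≠ 2)
    {K Q : Subgroup G} (D : KData E b K) (T : TopData K) (hQR : Q ≤ E.R r)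
    (hN : normalizer (Q : Set G) ≤ K) (hQne : Q ≠ ⊥) (hσ : 1 ≤ E.d.k → E.d.t ∈ K) {y : G}
    (hyK : y ∈ K) (hy1 : y ≠ 1) (hyt : E.t * y * E.t = y⁻¹) (hyb : y * b = b * y)
    (hyr : ∃ j, y ^ r ^ j = 1) : E.t ∈ perf K ∧ b ∈ perf K := by
  classical
  haveI := Fact.mk hr
  haveI : Fact (Nat.Prime 2) := ⟨Nat.prime_two⟩
  haveI := T.normal
  set π := bar K with hπ
  set t' := π ⟨E.t, D.t_mem⟩ with ht'
  set b' := π ⟨b, D.b_mem⟩ with hb'
  have ht2 : orderOf t' = 2 := orderOf_bar E.orderOf_t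
  have hb2 : orderOf b' = 2 := orderOf_bar hb.orderOf_eq
  obtain ⟨ht1', htt⟩ := CfsgLib.Involutions.orderOf_eq_two_iff_mul.1 ht2
  obtain ⟨hb1', hbb⟩ := CfsgLib.Involutions.orderOf_eq_two_iff_mul.1 hb2
  have hcomm : ∀ {x y : G} (hx : x ∈ K) (hy : y ∈ K), x * y = y * x →
      π ⟨x, hx⟩ * π ⟨y, hy⟩ = π ⟨y, hy⟩ * π ⟨x, hx⟩ := fun hx hy h => by
    rw [← map_mul, ← map_mul]; exact congrArg π (Subtype.ext h)
  have htb : t' * b' = b' * t' := hcomm _ _ hb.comm.symm
  have hsmall : E.d.k = 0 → ∀ x : K ⧸ Cfsg.oddCore K, x * x = 1 → x ∈ topL K := fun hk x hx =>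
    mem_socle_of_small T.dc T.shape hx (card_sylow_le_four E hk K)
  by_cases hbL : b' ∈ topL K
  · -- `b` inner
    have hbP : b ∈ perf K := mem_perf_of_bar hb.orderOf_eq hbL
    refine ⟨?_, hbP⟩
    rcases Nat.eq_zero_or_pos E.d.k with hk | hk
    · exact mem_perf_of_bar E.orderOf_t (hsmall hk t' htt)
    · have h1 := conj_perf_of_mem (hσ hk) hbP
      rw [(hb.swap hk).2] at h1
      have := mul_mem hbP h1
      rwa [← mul_assoc, hb.sq, one_mul] at this
  exfalso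
  have htL : t' ∈ topL K := by
    by_contra htL
    rcases Nat.eq_zero_or_pos E.d.k with hk | hk
    · exact hbL (hsmall hk b' hbb)
    · have h1 : b * E.t ∈ perf K := by
        refine mem_perf_of_bar (w := ⟨b * E.t, mul_mem D.b_mem D.t_mem⟩) hb.mul_t.orderOf_eq ?_
        rw [show (⟨b * E.t, mul_mem D.b_mem D.t_mem⟩ : K) = ⟨b, D.b_mem⟩ * ⟨E.t, D.t_mem⟩ from rfl,
          map_mul]
        exact mul_mem_socle T.dc T.shape hbb htt htb.symm hbL htL
      have h2 := conj_perf_of_mem (inv_mem (hσ hk)) h1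
      rw [← (hb.swap hk).2, show E.d.t⁻¹ * (E.d.t * b * E.d.t⁻¹) * E.d.t⁻¹⁻¹ = b by group] at h2
      exact hbL (bar_mem_topL h2)
  rcases T.shape with ⟨F, i1, i2, hoddF, h3, ⟨f⟩⟩ | ⟨⟨ψ⟩⟩
  swap
  · exact hbL ((eq_top_of_seven T.dc T.cent ψ).symm ▸ mem_top b')
  have h := psl_of_topData T hoddF h3 f
  obtain ⟨-, -, -, hcop, -⟩ := h.outer_torus ht2 hb2 htL hbL htb
  -- `r` divides the outer torus
  have hyodd : Odd (orderOf y) := by
    obtain ⟨j, hj⟩ := hyr
    exact (hr.odd_of_ne_two hr2).pow.of_dvd_nat (orderOf_dvd_of_pow_eq_one hj)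
  set y' := π ⟨y, hyK⟩ with hy'
  have hy'o : Odd (orderOf y') := hyodd.of_dvd_nat (by
    rw [← Subgroup.orderOf_mk y hyK]; exact orderOf_map_dvd π _)
  have hy'T : y' ∈ Field.torus (topL K) b' := (h.mem_torus hb2).2
    ⟨mem_of_inverted T.normal htL (by
      rw [ht', hy', ← map_inv π ⟨E.t, D.t_mem⟩, ← map_mul, ← map_mul, ← map_inv π ⟨y, hyK⟩]
      exact congrArg π (Subtype.ext (show E.t * y * E.t⁻¹ = y⁻¹ by rw [E.t_inv, hyt]))) hy'o,
      hcomm _ _ hyb, hy'o⟩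
  have hy'1 : y' ≠ 1 := by
    intro hh
    have hc := D.core_commute y (bar_eq_one.1 hh)
    rw [mul_assoc, hc, ← mul_assoc, E.t_sq, one_mul] at hyt
    exact hy1 (CfsgLib.RankOneInvol.eq_one_of_sq_of_odd hyodd (mul_eq_one_iff_eq_inv.2 hyt))
  have hnr : ¬ r ∣ Nat.card (Field.torus (topL K) t') := by
    intro hd
    obtain ⟨j, hj⟩ := hyr
    obtain ⟨l, -, hl⟩ := (Nat.dvd_prime_pow hr).1 (orderOf_dvd_of_pow_eq_one
      (show y' ^ r ^ j = 1 by rw [hy', ← map_pow, show (⟨y, hyK⟩ : K) ^ r ^ j = 1 from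
        Subtype.ext (by rw [coe_pow]; exact hj), map_one]))
    have hl0 : l ≠ 0 := fun h0 => hy'1 (orderOf_eq_one_iff.1 (by rw [hl, h0, pow_zero]))
    have : r ∣ Nat.card (Field.torus (topL K) b') := by
      refine (dvd_pow_self r hl0).trans ?_
      rw [← hl, ← Subgroup.orderOf_mk y' hy'T]
      exact orderOf_dvd_natCard _
    exact hr.ne_one (Nat.eq_one_of_dvd_coprimes hcop this hd)
  have hsmallT : ∀ z ∈ Field.torus (topL K) t', (∃ j, z ^ r ^ j = 1) → z = 1 := by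
    rintro z hz ⟨j, hj⟩
    refine orderOf_eq_one_iff.1 (Nat.eq_one_of_dvd_coprimes
      (((Nat.Prime.coprime_iff_not_dvd hr).2 hnr).pow_left j) (orderOf_dvd_of_pow_eq_one hj) ?_)
    rw [← Subgroup.orderOf_mk z hz]
    exact orderOf_dvd_natCard _
  obtain ⟨s, hsL, hs2, hst, hsc⟩ := exists_second T.dc T.shape ht2 htL
  -- `R ∩ K` lies in the odd core
  have hcore : ∀ x ∈ E.R r ⊓ K, x ∈ coreIn K := by
    rintro x ⟨hxR, hxK⟩
    set x' := π ⟨x, hxK⟩ with hx'
    have hx't : x' * t' = t' * x' := hcomm _ _ (E.mem_H.1 (R_le_H E r hxR))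
    have hx'o : Odd (orderOf x') := (odd_of_mem_R E hr hr2 hxR).of_dvd_nat (by
      rw [← Subgroup.orderOf_mk x hxK]; exact orderOf_map_dvd π _)
    have hfix : ∀ τ ∈ Field.torus (topL K) t', x' * τ = τ * x' := by
      intro τ hτ
      obtain ⟨q, -, hqτ, hqR⟩ := exists_conj_lift (r := r) D (x := (⟨x, hxK⟩ : K)) hxR
        ((h.mem_torus ht2).1 hτ).2.1
      set z := x' * τ * x'⁻¹ * τ⁻¹ with hz
      have hzT : z ∈ Field.torus (topL K) t' :=
        mul_mem (h.conj_mem_torus ht2 hx't hτ) (inv_mem hτ)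
      obtain ⟨j, hj⟩ := exists_pow_R E hr
        (x := ((⟨x, hxK⟩ * (q * ⟨x, hxK⟩⁻¹ * q⁻¹) : K) : G)) (mul_mem hxR (hqR _ (inv_mem hxR)))
      have hz1 : z = 1 := hsmallT z hzT ⟨j, by
        rw [show z = π (⟨x, hxK⟩ * (q * ⟨x, hxK⟩⁻¹ * q⁻¹)) by
            simp only [map_mul, map_inv, hz, ← hx', mul_assoc]; rw [show π q = τ from hqτ],
          ← map_pow, Subtype.ext (a1 := _ ^ r ^ j) (a2 := (1 : K)) (by rw [coe_pow]; exact hj),
          map_one]⟩
      rwa [hz, mul_inv_eq_one, mul_inv_eq_iff_eq_mul] at hz1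
    have hx'T := h.mem_torus_of_centralizes ht2 hs2 hst.symm hsc.symm htL hsL hx't hx'o hfix
    obtain ⟨j, hj⟩ := exists_pow_R E hr hxR
    exact bar_eq_one.1 (hsmallT x' hx'T ⟨j, by
      rw [hx', ← map_pow, show (⟨x, hxK⟩ : K) ^ r ^ j = 1 from
        Subtype.ext (by rw [coe_pow]; exact hj), map_one]⟩)
  -- `perf K` centralises `R`
  have hperfne : perf K ≠ ⊥ := fun e => by
    have := mem_perf_of_bar (w := ⟨E.t, D.t_mem⟩) E.orderOf_t htL
    rw [e, mem_bot] at this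
    exact E.t_ne_one this
  have hperfN : normalizer (perf K : Set G) ≤ K := by
    have hle : K ≤ normalizer (perf K : Set G) := fun k hk =>
      mem_normalizer_of_conj_le fun x hx => conj_perf_of_mem hk hx
    rcases hle.eq_or_lt with e | e
    · exact e.ge
    · exact absurd (D.coatom.2 _ e) (normalizer_ne_top E hperfne
        fun e' => D.coatom.1 (top_le_iff.1 (e' ▸ perf_le K)))
  have hQK : Q ≤ E.R r ⊓ K := le_inf hQR (le_normalizer.trans hN)
  have hRK : E.R r ≤ K := by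
    have := eq_of_self_normalizing (R_isPGroup E hr) (inf_le_left (b := K)) fun g hg hgn =>
      ⟨hg, hperfN (mem_normalizer_of_conj_le fun p hp => ?_)⟩
    · exact this ▸ inf_le_right
    have hgN : g ∈ normalizer ((E.R r ⊓ K : Subgroup G) : Set G) := mem_normalizer_of_conj_le hgn
    have hcent : ∀ q ∈ perf K, g * q * g⁻¹ ∈ K := fun q hq => by
      refine hN (centralizer_le_normalizer _ (mem_centralizer_iff.2 fun a ha => ?_))
      have ha' : g⁻¹ * a * g ∈ E.R r ⊓ K := by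
        have := (mem_normalizer_iff.1 (inv_mem hgN) a).1 (hQK ha)
        rwa [inv_inv] at this
      have hc : g⁻¹ * a * g * q = q * (g⁻¹ * a * g) :=
        (D.commute_of_mem hq (hcore _ ha')).symm
      calc a * (g * q * g⁻¹) = g * (g⁻¹ * a * g * q) * g⁻¹ := by group
        _ = g * (q * (g⁻¹ * a * g)) * g⁻¹ := by rw [hc]
        _ = g * q * g⁻¹ * a := by group
    have hle : (perf K).map (MulAut.conj g).toMonoidHom ≤ perf K := by
      refine le_perf ?_ (by rw [← map_commutator, perfect_perf])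
      rintro _ ⟨q, hq, rfl⟩
      exact hcent q hq
    exact hle ⟨p, hp, rfl⟩
  have hPH : perf K ≤ E.H := by
    have hN' : normalizer (E.R r : Set G) ≤ E.H := by
      have hle : E.H ≤ normalizer (E.R r : Set G) := fun k hk =>
        mem_normalizer_of_conj_le fun x hx => conj_mem_R E hk hx
      rcases hle.eq_or_lt with e | e
      · exact e.ge
      · exact absurd (hH.2 _ e) (normalizer_ne_top E
          (fun e' => hQne (le_bot_iff.1 (e' ▸ hQR))) (ne_top_of_le_R E le_rfl))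
    intro p hp
    refine hN' (centralizer_le_normalizer _ (mem_centralizer_iff.2 fun a ha => ?_))
    exact (D.commute_of_mem hp (hcore a ⟨ha, hRK ha⟩)).symm
  have hcen : t' ∈ centralizer (topL K : Set (K ⧸ Cfsg.oddCore K)) := by
    rw [mem_centralizer_iff]
    rintro z ⟨k, hk, rfl⟩
    exact hcomm k.2 D.t_mem (E.mem_H.1 (hPH (mem_subgroupOf.1 hk)))
  rw [T.cent, mem_bot] at hcen
  exact ht1' hcen

/-- Step 3.1 a–c. -/
theorem exists_central (E : Setup G) (hH : IsCoatom E.H) (hU : E.U ≠ ⊥) {b : G} (hb : E.Refl b)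
    {r : ℕ} (hr : r.Prime) (hr2 : r ≠ 2) (hR : ¬ E.R r ≤ E.X b) (hE : E.R r ⊓ E.X b ≠ ⊥) :
    Nonempty (Central E b r) := by
  classical
  haveI := Fact.mk hr
  haveI : Fact (Nat.Prime 2) := ⟨Nat.prime_two⟩
  set E0 := E.R r ⊓ E.X b with hE0
  have hE0p : IsPGroup r E0 := (R_isPGroup E hr).to_le inf_le_left
  -- `Ω₁ Z(E)`
  let Ω : Subgroup G :=
    { carrier := {x | x ∈ E0 ⊓ centralizer (E0 : Set G) ∧ x ^ r = 1}
      one_mem' := ⟨one_mem _, one_pow r⟩
      mul_mem' := fun {x y} hx hy => ⟨mul_mem hx.1 hy.1, by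
        rw [(show Commute x y from mem_centralizer_iff.1 hy.1.2 x hx.1.1).mul_pow, hx.2, hy.2, one_mul]⟩
      inv_mem' := fun {x} hx => ⟨inv_mem hx.1, by rw [inv_pow, hx.2, inv_one]⟩ }
  have hΩE : Ω ≤ E0 := fun x hx => hx.1.1
  have hΩR : Ω ≤ E.R r := hΩE.trans inf_le_left
  have hΩne : Ω ≠ ⊥ := by
    haveI : Nontrivial E0 := (nontrivial_iff_ne_bot E0).2 hE
    haveI := hE0p.center_nontrivial
    obtain ⟨z, hz⟩ := exists_ne (1 : center E0)
    have hz1 : ((z : E0) : G) ≠ 1 := fun h => hz (Subtype.ext (Subtype.ext h))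
    obtain ⟨j, hj⟩ := exists_order hr hE0p (z : E0).2 hz1
    have hmem : ((z : E0) : G) ^ j ∈ Ω := ⟨pow_mem (show ((z : E0) : G) ∈ E0 ⊓ centralizer (E0 : Set G)
      from ⟨(z : E0).2, mem_centralizer_iff.2 fun a ha =>
        congrArg Subtype.val (mem_center_iff.1 z.2 ⟨a, ha⟩)⟩) j,
      by rw [← hj]; exact pow_orderOf_eq_one _⟩
    intro e
    rw [e, mem_bot] at hmem
    rw [hmem, orderOf_one] at hj
    exact hr.ne_one hj.symm
  obtain ⟨K0, hK0, hN0⟩ := (eq_top_or_exists_le_coatom (normalizer (Ω : Set G))).resolve_left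
    (normalizer_ne_top E hΩne (ne_top_of_le_R E hΩR))
  have hE0t : ∀ x ∈ E0, x * E.t = E.t * x ∧ x * b = b * x := fun x hx =>
    ⟨(hb.mem_X.1 hx.2).1, (hb.mem_X.1 hx.2).2.1⟩
  have hcentK : ∀ g : G, (∀ x ∈ E0, x * g = g * x) → g ∈ K0 := fun g hg =>
    hN0 (centralizer_le_normalizer _ (mem_centralizer_iff.2 fun x hx => hg x (hΩE hx)))
  have ht0 : E.t ∈ K0 := hcentK _ fun x hx => (hE0t x hx).1
  have hb0 : b ∈ K0 := hcentK _ fun x hx => (hE0t x hx).2
  have hnormK : ∀ g : G, (∀ x ∈ E0, g * x * g⁻¹ ∈ E0) → g ∈ K0 := by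
    intro g hg
    have hgi := mem_normalizer_of_conj_le hg
    refine hN0 (mem_normalizer_of_conj_le fun x hx => ⟨⟨hg x hx.1.1, mem_centralizer_iff.2
      fun a ha => ?_⟩, by rw [conj_pow, hx.2, mul_one, mul_inv_cancel]⟩)
    have ha' : g⁻¹ * a * g ∈ E0 := by
      have := (mem_normalizer_iff.1 (inv_mem hgi) a).1 ha
      rwa [inv_inv] at this
    have hc := mem_centralizer_iff.1 hx.1.2 _ ha'
    calc a * (g * x * g⁻¹) = g * (g⁻¹ * a * g * x) * g⁻¹ := by group
      _ = g * (x * (g⁻¹ * a * g)) * g⁻¹ := by rw [hc]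
      _ = g * x * g⁻¹ * a := by group
  have hX0 : E.X b ≤ K0 := fun g hg => hnormK g fun x hx =>
    ⟨conj_mem_R E (E.U_le_H hg.1) hx.1, (E.X b).mul_mem ((E.X b).mul_mem hg hx.2) ((E.X b).inv_mem hg)⟩
  have hσ0 : 1 ≤ E.d.k → E.d.t ∈ K0 := fun hk => hnormK _ fun x hx => by
    obtain ⟨hs1, hs2⟩ := hb.swap hk
    refine ⟨conj_mem_R E (E.S_le_H E.d.t_mem) hx.1, ?_⟩
    obtain ⟨h1, h2, h3⟩ := hb.mem_X.1 hx.2
    have c1 := Setup.commute_conj (g := E.d.t) h1
    have c2 := Setup.commute_conj (g := E.d.t) h2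
    rw [hs1] at c1
    rw [hs2] at c2
    rw [← hb.X_mul_t]
    exact hb.mul_t.mem_X.2 ⟨c1, c2, CfsgLib.RankOneInvol.odd_orderOf_conj h3 _⟩
  have D0 := kData hH hU hb hK0 ht0 hb0 (leadsTo_of_le E hr hΩne hΩR hN0) (Or.inl hX0)
  -- the element `y` of the rotated `r`-core
  obtain ⟨g, hgt, hgb, hgbt⟩ := hb.exists_rot
  set R' := conjBy (E.R r) g with hR'
  have hR'p : IsPGroup r R' := (R_isPGroup E hr).map _
  have hback : ∀ {a w : G}, a * w = w * a → g⁻¹ * a * g * (g⁻¹ * w * g) = g⁻¹ * w * g * (g⁻¹ * a * g) :=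
    fun {a w} h => by
      have := Setup.commute_conj (g := g⁻¹) h
      rwa [inv_inv] at this
  have hnormR' : ∀ a : G, g⁻¹ * a * g ∈ E.H → ∀ x ∈ R', a * x * a⁻¹ ∈ R' := by
    intro a ha x hx
    rw [hR', mem_conjBy] at hx ⊢
    have := conj_mem_R E ha hx
    rwa [show g⁻¹ * a * g * (g⁻¹ * x * g) * (g⁻¹ * a * g)⁻¹ = g⁻¹ * (a * x * a⁻¹) * g by group] at this
  have hgi_t : g⁻¹ * E.t * g = b * E.t := by
    calc g⁻¹ * E.t * g = g⁻¹ * (g * (b * E.t) * g⁻¹) * g := by rw [hgbt]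
      _ = b * E.t := by group
  have hgi_b : g⁻¹ * b * g = E.t := by
    calc g⁻¹ * b * g = g⁻¹ * (g * E.t * g⁻¹) * g := by rw [hgt]
      _ = E.t := by group
  have hR'ne : ¬ ∀ x ∈ R', x * E.t = E.t * x := by
    intro hall
    refine hR fun z hz => hb.mem_X.2 ?_
    have hzt := E.mem_H.1 (R_le_H E r hz)
    have h1 := hback (hall (g * z * g⁻¹) (by rw [hR', mem_conjBy]; simpa [mul_assoc] using hz))
    rw [hgi_t, show g⁻¹ * (g * z * g⁻¹) * g = z by group] at h1
    have h2 := (show Commute z (b * E.t) from h1).mul_right (show Commute z E.t from hzt)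
    rw [mul_assoc, E.t_sq, mul_one] at h2
    exact ⟨hzt, h2.eq, odd_of_mem_R E hr hr2 hz⟩
  obtain ⟨y, hyR, hy1, hyt, hyE⟩ := exists_inverted hr hr2 hR'p hE0p
    (fun a ha => mem_normalizer_of_conj_le (hnormR' a (E.mem_H.2 (by
      have := hback (hE0t a ha).2
      rwa [hgi_b] at this))))
    E.t_sq (fun x hx => by
      have := hnormR' E.t (by rw [hgi_t]; exact mul_mem hb.mem_H (E.S_le_H E.t_mem_S)) x hx
      rwa [E.t_inv] at this)
    (fun a ha => (hE0t a ha).1) hR'ne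
  have hyK : y ∈ K0 := hcentK y hyE
  have hyb : y * b = b * y := by
    rw [hR', mem_conjBy] at hyR
    have := Setup.commute_conj (g := g) (E.mem_H.1 (R_le_H E r hyR))
    rwa [hgt, show g * (g⁻¹ * y * g) * g⁻¹ = y by group] at this
  have hyr : ∃ j, y ^ r ^ j = 1 := by
    obtain ⟨j, hj⟩ := hR'p ⟨y, hyR⟩
    exact ⟨j, by simpa using congrArg Subtype.val hj⟩
  have hyodd : Odd (orderOf y) := by
    obtain ⟨j, hj⟩ := hyr
    exact (hr.odd_of_ne_two hr2).pow.of_dvd_nat (orderOf_dvd_of_pow_eq_one hj)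
  have hycore : y ∉ coreIn K0 := fun hy => by
    have hc := D0.core_commute y hy
    rw [mul_assoc, hc, ← mul_assoc, E.t_sq, one_mul] at hyt
    exact hy1 (CfsgLib.RankOneInvol.eq_one_of_sq_of_odd hyodd (mul_eq_one_iff_eq_inv.2 hyt))
  have T0 := topData_of_odd E hK0.1 hyK hyodd hycore hb0 hb.orderOf_eq hyb
  obtain ⟨htP0, hbP0⟩ := mem_perf_of_inverted hH hb hr hr2 D0 T0 hΩR hN0 hΩne hσ0 hyK hy1 hyt hyb hyr
  -- candidates
  set 𝒮 : Set (Subgroup G) := {Q | ⁅Q, Q⁆ = Q ∧ E.t ∈ Q ∧ b ∈ Q ∧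
    ∃ c, c ∈ E0 ∧ orderOf c = r ∧ ∀ x ∈ Q, x * c = c * x} with h𝒮
  have hmemX : ∀ {K : Subgroup G}, KData E b K → b ∈ perf K → ∀ x ∈ E.R r ⊓ coreIn K, x ∈ E0 :=
    fun {K} D hbP x hx => ⟨hx.1, hb.mem_X.2 ⟨E.mem_H.1 (R_le_H E r hx.1),
      (D.commute_of_mem hbP hx.2).symm, odd_of_mem_R E hr hr2 hx.1⟩⟩
  have hbig : ∀ {K : Subgroup G}, KData E b K → E.t ∈ perf K → b ∈ perf K →
      E.R r ⊓ coreIn K ≠ ⊥ → perf K ∈ 𝒮 := by
    intro K D htP hbP hne
    haveI := (nontrivial_iff_ne_bot _).2 hne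
    obtain ⟨⟨x, hx⟩, hx1⟩ := exists_ne (1 : ↥(E.R r ⊓ coreIn K))
    obtain ⟨j, hj⟩ := exists_order hr ((R_isPGroup E hr).to_le inf_le_left) hx
      fun e => hx1 (Subtype.ext e)
    exact ⟨perfect_perf K, htP, hbP, x ^ j, hmemX D hbP _ (pow_mem hx j), hj,
      fun p hp => D.commute_of_mem hp (pow_mem hx j : x ^ j ∈ E.R r ⊓ coreIn K).2⟩
  have hne𝒮 : 𝒮.Nonempty := by
    by_cases hB : E.R r ⊓ coreIn K0 = ⊥
    · exfalso
      haveI := T0.normal
      set π := bar K0 with hπ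
      set t' := π ⟨E.t, ht0⟩
      set b' := π ⟨b, hb0⟩
      have hΩK : Ω ≤ K0 := le_normalizer.trans hN0
      have hinj : ∀ x : K0, (x : G) ∈ E.R r → π x = 1 → x = 1 := fun x hxR h => Subtype.ext (by
        have := show (x : G) ∈ E.R r ⊓ coreIn K0 from ⟨hxR, bar_eq_one.1 h⟩
        rwa [hB, mem_bot] at this)
      set B := (Ω.subgroupOf K0).map π with hBdef
      have hBo : ∀ z ∈ B, z * t' = t' * z ∧ z * b' = b' * z ∧ z ^ r = 1 := by
        rintro _ ⟨x, hx, rfl⟩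
        have hx' := mem_subgroupOf.1 hx
        refine ⟨?_, ?_, ?_⟩
        · rw [← map_mul, ← map_mul]; exact congrArg π (Subtype.ext (hE0t _ (hΩE hx')).1)
        · rw [← map_mul, ← map_mul]; exact congrArg π (Subtype.ext (hE0t _ (hΩE hx')).2)
        · rw [← map_pow, show x ^ r = 1 from Subtype.ext (by rw [coe_pow]; exact hx'.2), map_one]
      have hBodd : ∀ z ∈ B, Odd (orderOf z) := fun z hz =>
        (hr.odd_of_ne_two hr2).of_dvd_nat (orderOf_dvd_of_pow_eq_one (hBo z hz).2.2)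
      have hBc : IsCyclic B := by
        rcases T0.shape with ⟨F, i1, i2, hoddF, h3, ⟨f⟩⟩ | ⟨⟨ψ⟩⟩
        · have h := psl_of_topData T0 hoddF h3 f
          obtain ⟨Φ, hΦc, -, hΦ⟩ := h.exists_cyclic_odd (orderOf_bar E.orderOf_t)
            (orderOf_bar hb.orderOf_eq) (bar_ne (x := ⟨E.t, ht0⟩) (y := ⟨b, hb0⟩) E.orderOf_t
              hb.orderOf_eq hb.comm.symm hb.ne_t.symm)
            (show t' * b' = b' * t' by
              rw [← map_mul, ← map_mul]; exact congrArg π (Subtype.ext hb.comm.symm))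
          haveI := hΦc
          exact isCyclic_of_injective _ (Subgroup.inclusion_injective
            (fun z hz => (hΦ z).2 ⟨(hBo z hz).1, (hBo z hz).2.1, hBodd z hz⟩ : B ≤ Φ))
        · have htop := eq_top_of_seven T0.dc T0.cent ψ
          have hBp : IsPGroup r B := fun z => ⟨1, Subtype.ext (by
            rw [pow_one, coe_pow]; exact (hBo z z.2).2.2)⟩
          have h3' := card_dvd_three ((topEquiv.symm.trans (MulEquiv.subgroupCongr htop.symm)).trans ψ)
            (t := t') (orderOf_bar E.orderOf_t) (B := B) (by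
              obtain ⟨k, hk⟩ := IsPGroup.iff_card.1 hBp
              rw [hk]; exact (hr.odd_of_ne_two hr2).pow) fun z hz => (hBo z hz).1
          rcases (Nat.dvd_prime Nat.prime_three).1 h3' with h1 | h1
          · haveI : Subsingleton B := (Finite.card_le_one_iff_subsingleton).1 h1.le
            exact isCyclic_of_subsingleton
          · exact isCyclic_of_prime_card (p := 3) h1
      haveI : Nontrivial Ω := (nontrivial_iff_ne_bot Ω).2 hΩne
      obtain ⟨⟨e, he⟩, he1⟩ := exists_ne (1 : Ω)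
      have he1' : e ≠ 1 := fun h => he1 (Subtype.ext h)
      have heo : orderOf e = r := orderOf_eq_prime he.2 he1'
      have hπe : orderOf (π ⟨e, hΩK he⟩) = r := orderOf_eq_prime
        (hBo _ ⟨⟨e, hΩK he⟩, mem_subgroupOf.2 he, rfl⟩).2.2
        fun h => he1' (congrArg Subtype.val (hinj _ (hΩR he) h))
      have hΩeq : Ω = zpowers e := by
        refine le_antisymm (fun c hc => ?_) (zpowers_le.2 he)
        obtain ⟨i, hi⟩ := mem_zpowers_iff.1 (mem_zpowers_of_cyclic hBc hr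
          ⟨⟨e, hΩK he⟩, mem_subgroupOf.2 he, rfl⟩ hπe ⟨⟨c, hΩK hc⟩, mem_subgroupOf.2 hc, rfl⟩
          (hBo _ ⟨⟨c, hΩK hc⟩, mem_subgroupOf.2 hc, rfl⟩).2.2)
        have h1 := hinj ((⟨c, hΩK hc⟩ : K0)⁻¹ * (⟨e, hΩK he⟩ : K0) ^ i)
          ((E.R r).mul_mem ((E.R r).inv_mem (hΩR hc))
            (by rw [coe_zpow]; exact (E.R r).zpow_mem (hΩR he) i))
          (by rw [map_mul, map_inv, map_zpow, hi, inv_mul_cancel])
        exact ⟨i, (congrArg Subtype.val (inv_mul_eq_one.1 h1)).symm⟩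
      exact false_kill hH hb hr hr2 hR D0 T0 htP0 hbP0 (hΩE he) heo
        (by rw [← hΩeq]; exact hN0) hB
    · exact ⟨_, hbig D0 htP0 hbP0 hB⟩
  obtain ⟨P, hP, hmax⟩ := (Set.toFinite 𝒮).exists_maximalFor id _ hne𝒮
  obtain ⟨hPp, htP, hbP, e, heE, heo, hPe⟩ := hP
  have he1 : e ≠ 1 := fun h => by rw [h, orderOf_one] at heo; exact hr.ne_one heo.symm
  have hne_e : zpowers e ≠ ⊥ := zpowers_ne_bot.2 he1
  have heR : zpowers e ≤ E.R r := zpowers_le.2 heE.1
  obtain ⟨K, hK, hNK⟩ := (eq_top_or_exists_le_coatom (normalizer (zpowers e : Set G))).resolve_left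
    (normalizer_ne_top E hne_e (ne_top_of_le_R E heR))
  have hPK : P ≤ K := fun p hp => hNK (mem_normalizer_zpowers (by
    rw [hPe p hp, mul_inv_cancel_right]; exact mem_zpowers e))
  have D := kData hH hU hb hK (hPK htP) (hPK hbP) (leadsTo_of_le E hr hne_e heR hNK)
    (Or.inr ⟨P, hPK, hPp, htP⟩)
  have hP1 : P ≤ perf K := le_perf hPK hPp
  have hcase : e ∈ coreIn K := by
    by_contra hec
    have T := topData_of_perfect E hK.1 hPK hPp htP E.orderOf_t
    by_cases hB : E.R r ⊓ coreIn K = ⊥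
    · exact false_kill hH hb hr hr2 hR D T (hP1 htP) (hP1 hbP) heE heo hNK hB
    have hle : perf K ≤ P := hmax (hbig D (hP1 htP) (hP1 hbP) hB) hP1
    haveI := T.normal
    refine hec (bar_eq_one (x := ⟨e, hNK (le_normalizer (mem_zpowers e))⟩).1 ?_)
    rw [← mem_bot, ← T.cent, mem_centralizer_iff]
    rintro z ⟨k, hk, rfl⟩
    rw [← map_mul, ← map_mul]
    exact congrArg _ (Subtype.ext (hPe k (hle (mem_subgroupOf.1 hk))))
  have hle : perf K ≤ P :=
    hmax (⟨perfect_perf K, hP1 htP, hP1 hbP, e, heE, heo,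
      fun p hp => D.commute_of_mem hp hcase⟩ : perf K ∈ 𝒮) hP1
  exact ⟨{ K := K, P := P, e := e, isCoatom := hK, P_le := hPK, perfect := hPp, t_mem := htP,
           b_mem := hbP, orderOf_e := heo, e_mem := heE, e_core := hcase, P_commute := hPe,
           normalizer_le := hNK, core_commute := hP1.trans D.perf_core,
           le_P := fun Q hQ hQp => (le_perf hQ hQp).trans hle,
           maximal := fun Q c hQ htQ hbQ hc hco hQc hPQ =>
             le_antisymm (hmax (⟨hQ, htQ, hbQ, c, hc, hco, hQc⟩ : Q ∈ 𝒮) hPQ) hPQ }⟩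

end CfsgLib.GW.Max31
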