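import Cfsg.Agent.Lib.GW.Max31Kill
import Cfsg.Agent.Lib.FewOrders.Prime

/-!
Gorenstein–Walter, Step 3.1: an element of `O_r(C(t))` fixed by `b` does not act as a field
automorphism on an almost simple top; the exception for a top `A₇`.
-/

set_option autoImplicit false
set_option linter.style.haveILetI false
set_option linter.unusedSectionVars false

namespace CfsgLib.GW.Max31

open Subgroup
open scoped commutatorElement

universe u

/-- A prime other than `r` dividing `q - ε` but, to the full power, not `q₀ - ε`. -/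
theorem exists_prime_not_fixed {r q0 : ℕ} (hr : r.Prime) (hr2 : r ≠ 2) (hq0 : Odd q0) (h3 : 3 ≤ q0) :
    ∃ d : ℕ, d.Prime ∧ d ≠ r ∧ Odd d ∧
      (d : ℤ) ∣ ((q0 ^ r : ℕ) : ℤ) - FieldModel.eps (q0 ^ r) ∧
      ¬ (d : ℤ) ∣ (q0 : ℤ) - FieldModel.eps q0 := by
  set ε := FieldModel.eps q0 with hε
  have hεc : ε = 1 ∨ ε = -1 := FieldModel.eps_cases q0
  have hrodd : Odd r := hr.odd_of_ne_two hr2
  have hεr : ε ^ r = ε := by rcases hεc with h | h <;> rw [h] <;> simp [hrodd.neg_one_pow]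
  have hεr1 : ε ^ (r - 1) = 1 := by
    obtain ⟨j, hj⟩ := hrodd
    rcases hεc with h | h <;> rw [h]
    · simp
    · rw [show r - 1 = 2 * j by omega, pow_mul]; simp
  have h4 : (4 : ℤ) ∣ (q0 : ℤ) - ε := FieldModel.four_dvd_sub_eps hq0
  have hgeo := geom_sum₂_mul (q0 : ℤ) ε r
  set S : ℤ := ∑ i ∈ Finset.range r, (q0 : ℤ) ^ i * ε ^ (r - 1 - i) with hS
  rw [hεr] at hgeo
  have heps : FieldModel.eps (q0 ^ r) = ε := by
    have h4' : (4 : ℤ) ∣ ((q0 ^ r : ℕ) : ℤ) - ε := by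
      push_cast; rw [← hgeo]; exact dvd_mul_of_dvd_right h4 S
    have h4'' := FieldModel.four_dvd_sub_eps (q := q0 ^ r) hq0.pow
    rcases hεc with h | h <;> rcases FieldModel.eps_cases (q0 ^ r) with h' | h' <;>
      rw [h] at h4' ⊢ <;> rw [h'] at h4'' ⊢ <;> omega
  rw [heps]
  push_cast
  rw [← hgeo]
  -- `S` is congruent to `r` modulo every divisor of `q₀ - ε`
  have hmod : ∀ d : ℤ, d ∣ (q0 : ℤ) - ε → d ∣ S - r := by
    intro d hd
    have : ∀ i ∈ Finset.range r, d ∣ (q0 : ℤ) ^ i * ε ^ (r - 1 - i) - ε ^ (r - 1) := by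
      intro i hi
      rw [Finset.mem_range] at hi
      rw [show ε ^ (r - 1) = ε ^ i * ε ^ (r - 1 - i) by rw [← pow_add]; congr 1; omega, ← sub_mul]
      exact dvd_mul_of_dvd_left (hd.trans (sub_dvd_pow_sub_pow _ _ i)) _
    have := Finset.dvd_sum this
    rw [Finset.sum_sub_distrib, Finset.sum_const, Finset.card_range, ← hS, hεr1] at this
    simpa using this
  have hq0Z : (3 : ℤ) ≤ q0 := by exact_mod_cast h3
  have hr3 : 3 ≤ r := by have := hr.two_le; omega
  -- `S > r`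
  have hbig : (r : ℤ) < S := by
    by_contra hle
    push Not at hle
    have hpos : 0 < (q0 : ℤ) - ε := by rcases hεc with h | h <;> omega
    have h1 : (q0 : ℤ) ^ r - ε ≤ r * ((q0 : ℤ) + 1) := by
      rw [← hgeo]
      refine (mul_le_mul_of_nonneg_right hle hpos.le).trans ?_
      refine mul_le_mul_of_nonneg_left ?_ (Int.natCast_nonneg r)
      rcases hεc with h | h <;> omega
    have h2 : 1 + (((r - 1 : ℕ) : ℤ)) * ((q0 : ℤ) - 1) ≤ (q0 : ℤ) ^ (r - 1) := by
      have := one_add_mul_le_pow (a := (q0 : ℤ) - 1) (by omega) (r - 1)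
      simpa using this
    have h3' : (q0 : ℤ) ^ r = q0 * (q0 : ℤ) ^ (r - 1) := by
      rw [← pow_succ']; congr 1; omega
    have hr' : ((r - 1 : ℕ) : ℤ) = (r : ℤ) - 1 := by omega
    rw [hr'] at h2
    have hrZ : (3 : ℤ) ≤ r := by exact_mod_cast hr3
    have h2' := mul_le_mul_of_nonneg_left h2 (show (0 : ℤ) ≤ q0 by omega)
    rw [← h3'] at h2'
    have h5 : 2 * (((r : ℤ) - 1) * q0) ≤ (q0 : ℤ) * (((r : ℤ) - 1) * ((q0 : ℤ) - 1)) := by
      nlinarith [mul_nonneg (mul_nonneg (show (0 : ℤ) ≤ (r : ℤ) - 1 by omega) (show (0 : ℤ) ≤ q0 by omega))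
        (show (0 : ℤ) ≤ (q0 : ℤ) - 3 by omega)]
    have h6 := mul_nonneg (show (0 : ℤ) ≤ (r : ℤ) - 1 by omega) (show (0 : ℤ) ≤ (q0 : ℤ) - 3 by omega)
    rcases hεc with h | h <;> rw [h] at h1 <;> nlinarith
  have hsq : ∀ _ : (r : ℤ) ∣ (q0 : ℤ) - ε, ¬ (r : ℤ) ^ 2 ∣ S := by
    intro hd h
    obtain ⟨a, ha⟩ := hd
    have h1 := odd_sq_dvd_geom_sum₂_sub (R := ℤ) (a := ε) (b := a) hrodd
    rw [show ε + (r : ℤ) * a = q0 by linear_combination -ha, ← hS, hεr1, mul_one] at h1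
    have h2 := dvd_sub h h1
    rw [sub_sub_cancel, pow_two] at h2
    have := (mul_dvd_mul_iff_left (by exact_mod_cast hr.ne_zero : (r : ℤ) ≠ 0)).1
      (by simpa using h2 : (r : ℤ) * r ∣ (r : ℤ) * 1)
    have := Int.le_of_dvd one_pos this
    omega
  have hSodd : ¬ (2 : ℤ) ∣ S := fun h => by
    have h2 := dvd_sub h (hmod 2 ((by norm_num : (2 : ℤ) ∣ 4).trans h4))
    rw [sub_sub_cancel] at h2
    exact (Nat.not_even_iff_odd.2 hrodd) (even_iff_two_dvd.2 (by exact_mod_cast h2))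
  -- a prime divisor of `S` other than `r`
  obtain ⟨d, hd, hdS, hdr⟩ : ∃ d : ℕ, d.Prime ∧ (d : ℤ) ∣ S ∧ d ≠ r := by
    obtain ⟨n, hn⟩ := Int.eq_ofNat_of_zero_le (show 0 ≤ S by omega)
    rw [hn] at hbig hsq hmod ⊢
    by_contra hno
    push Not at hno
    have hn0 : n ≠ 0 := by omega
    have he := Nat.eq_prime_pow_of_unique_prime_dvd hn0 (p := r) fun {t} ht htn =>
      hno t ht (Int.natCast_dvd_natCast.2 htn)
    obtain ⟨m, hm⟩ : ∃ m, n = r ^ m := ⟨_, he⟩
    have hm2 : 2 ≤ m := by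
      rcases m with _ | _ | m
      · simp at hm; omega
      · simp at hm; omega
      · omega
    refine hsq ?_ (by rw [hm, Nat.cast_pow]; exact pow_dvd_pow _ hm2)
    -- `r ∣ S` gives `r ∣ q₀ - ε` by Fermat
    have h1 : ((r : ℤ)) ∣ (q0 : ℤ) ^ r - ε := by
      rw [← hgeo, hn, hm, Nat.cast_pow]
      exact dvd_mul_of_dvd_left (dvd_pow_self _ (by omega)) _
    haveI := Fact.mk hr
    rw [← ZMod.intCast_zmod_eq_zero_iff_dvd] at h1 ⊢
    push_cast at h1 ⊢
    rwa [ZMod.pow_card] at h1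
  refine ⟨d, hd, hdr, hd.odd_of_ne_two fun h => hSodd (by rw [h] at hdS; exact_mod_cast hdS),
    dvd_mul_of_dvd_left hdS _, fun hdd => hdr ?_⟩
  have h2 := dvd_sub hdS (hmod _ hdd)
  rw [sub_sub_cancel, Int.natCast_dvd_natCast] at h2
  exact (Nat.prime_dvd_prime_iff_eq hd hr).1 h2

variable {G : Type u} [Group G] [Finite G] {E : Setup G} {b : G} {K : Subgroup G} {r : ℕ}

/-- A perfect subgroup of `A₇` centralising an element of order three which commutes with an
involution is trivial. -/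
theorem perfect_centralizer_seven {L : Type u} [Group L] [Finite L]
    (ψ : L ≃* alternatingGroup (Fin 7)) {σ : L} (hσ : orderOf σ = 3) {Q : Subgroup L}
    (hQ : ⁅Q, Q⁆ = Q) (hc : ∀ x ∈ Q, x * σ = σ * x) : Q = ⊥ := by
  classical
  by_contra hne
  refine not_solvable_of_perfect hQ hne ?_
  let f : L →* Equiv.Perm (Fin 7) := (alternatingGroup (Fin 7)).subtype.comp ψ.toMonoidHom
  have hf : Function.Injective f := (alternatingGroup (Fin 7)).subtype_injective.comp ψ.injective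
  have hle : Q.map f ≤ centralizer ({f σ} : Set (Equiv.Perm (Fin 7))) := by
    rintro _ ⟨x, hx, rfl⟩
    rw [mem_centralizer_singleton_iff, ← map_mul, ← map_mul, hc x hx]
  have ho : orderOf (f σ) = 3 := (orderOf_injective f hf σ).trans hσ
  have hall : ∀ x ∈ (f σ).cycleType, x = 3 := fun x hx => by
    have h := Equiv.Perm.two_le_of_mem_cycleType hx
    have h' := Equiv.Perm.dvd_of_mem_cycleType hx
    rw [ho] at h'
    exact ((Nat.dvd_prime Nat.prime_three).1 h').resolve_left (by omega)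
  have hrep := Multiset.eq_replicate_card.2 hall
  have hsum : (f σ).cycleType.sum ≤ 7 := by
    rw [Equiv.Perm.sum_cycleType]
    exact (Finset.card_le_univ _).trans (by simp)
  rw [hrep, Multiset.sum_replicate, smul_eq_mul] at hsum
  have hc0 : (f σ).cycleType.card ≠ 0 := by
    rw [Ne, Multiset.card_eq_zero, Equiv.Perm.cycleType_eq_zero]
    intro e
    rw [e, orderOf_one] at ho
    omega
  have hd := card_dvd_of_le hle
  rw [card_map_of_injective hf, Equiv.Perm.nat_card_centralizer, hrep] at hd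
  have h72 : Nat.card Q ∣ 72 * 72 := by
    generalize (f σ).cycleType.card = c at hsum hc0 hd
    obtain rfl | rfl : c = 1 ∨ c = 2 := by omega
    · refine hd.trans ?_
      norm_num [Fintype.card_fin, Nat.factorial]
    · refine hd.trans ?_
      norm_num [Fintype.card_fin, Nat.factorial, Multiset.replicate_succ]
  refine CfsgLib.FewOrders.isSolvable_of_two_primes Nat.prime_two Nat.prime_three fun p hp hpd => ?_
  have := hpd.trans h72
  rw [show 72 * 72 = 2 ^ 6 * 3 ^ 4 by norm_num] at this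
  rcases (Nat.Prime.dvd_mul hp).1 this with h | h
  · exact Or.inl ((Nat.prime_dvd_prime_iff_eq hp Nat.prime_two).1 (hp.dvd_of_dvd_pow h))
  · exact Or.inr ((Nat.prime_dvd_prime_iff_eq hp Nat.prime_three).1 (hp.dvd_of_dvd_pow h))

/-- An element of `O_r(C(t))` fixed by `b` lies in `O(K)`; otherwise the top is `A₇` and `b`
centralises `O_r(C(t)) ∩ K`. -/
theorem core_or_seven (E : Setup G) (hb : E.Refl b) (hr : r.Prime) (hr2 : r ≠ 2) (D : KData E b K)
    (T : TopData K) (htP : E.t ∈ perf K) (hbP : b ∈ perf K) {x : G} (hxR : x ∈ E.R r) (hxK : x ∈ K)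
    (hxb : x * b = b * x) :
    x ∈ coreIn K ∨ Nonempty (topL K ≃* alternatingGroup (Fin 7)) ∧
      orderOf (bar K ⟨x, hxK⟩) = 3 ∧ E.R r ⊓ K ≤ E.X b := by
  classical
  haveI := Fact.mk hr
  haveI := T.normal
  rw [or_iff_not_imp_left]
  intro hcore
  set π := bar K with hπ
  set t' := π ⟨E.t, D.t_mem⟩ with ht'
  set b' := π ⟨b, D.b_mem⟩ with hb'
  have ht2 : orderOf t' = 2 := orderOf_bar E.orderOf_t
  have hb2 : orderOf b' = 2 := orderOf_bar hb.orderOf_eq
  have htL : t' ∈ topL K := bar_mem_topL htP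
  have hcomm : ∀ {x y : G} (hx : x ∈ K) (hy : y ∈ K), x * y = y * x →
      π ⟨x, hx⟩ * π ⟨y, hy⟩ = π ⟨y, hy⟩ * π ⟨x, hx⟩ := fun hx hy h => by
    rw [← map_mul, ← map_mul]; exact congrArg π (Subtype.ext h)
  have hne : t' ≠ b' := bar_ne E.orderOf_t hb.orderOf_eq hb.comm.symm hb.ne_t.symm
  have htb : t' * b' = b' * t' := hcomm _ _ hb.comm.symm
  have hoddπ : ∀ y : K, (y : G) ∈ E.R r → Odd (orderOf (π y)) := fun y hy => by
    refine (odd_of_mem_R E hr hr2 hy).of_dvd_nat ?_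
    rw [Subgroup.orderOf_coe]
    exact orderOf_map_dvd π y
  have hpow : ∀ y : K, (y : G) ∈ E.R r → ∃ j, π y ^ r ^ j = 1 := fun y hy => by
    obtain ⟨j, hj⟩ := exists_pow_R E hr hy
    exact ⟨j, by rw [← map_pow, show y ^ r ^ j = 1 from Subtype.ext (by rw [coe_pow]; exact hj),
      map_one]⟩
  have hRt : ∀ y ∈ E.R r, y * E.t = E.t * y := fun y hy => E.mem_H.1 (R_le_H E r hy)
  set x' := π ⟨x, hxK⟩ with hx'
  have hx'1 : x' ≠ 1 := fun h => hcore (bar_eq_one.1 h)
  rcases T.shape with ⟨F, i1, i2, hoddF, h3, ⟨f⟩⟩ | ⟨⟨ψ⟩⟩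
  · exfalso
    have h := psl_of_topData T hoddF h3 f
    obtain ⟨j, hj⟩ := hpow ⟨x, hxK⟩ hxR
    obtain ⟨i, -, hi⟩ := (Nat.dvd_prime_pow hr).1 (orderOf_dvd_of_pow_eq_one hj)
    obtain ⟨i, rfl⟩ : ∃ k, i = k + 1 := Nat.exists_eq_succ_of_ne_zero fun h0 =>
      hx'1 (orderOf_eq_one_iff.1 (by rw [hi, h0, pow_zero]))
    set y : K := ⟨x, hxK⟩ ^ r ^ i with hy
    have hyR : (y : G) ∈ E.R r := by rw [hy, coe_pow]; exact pow_mem hxR _
    have hyo : orderOf (π y) = r := by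
      rw [hy, map_pow, orderOf_pow_of_dvd (pow_ne_zero _ hr.ne_zero)
        (by rw [hi, pow_succ]; exact dvd_mul_right _ _), hi, pow_succ,
        Nat.mul_div_cancel_left _ (pow_pos hr.pos _)]
    have hyt : π y * t' = t' * π y := by
      rw [hy, map_pow]; exact ((show Commute x' t' from hcomm hxK D.t_mem (hRt x hxR)).pow_left _).eq
    have hyb : π y * b' = b' * π y := by
      rw [hy, map_pow]; exact ((show Commute x' b' from hcomm hxK D.b_mem hxb).pow_left _).eq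
    obtain ⟨q0, hq0, hq03, hq, hfix⟩ :=
      h.exists_fixed_dvd ht2 hb2 hne htb htL hyt hyb (hoddπ y hyR)
    rw [hyo] at hq
    obtain ⟨d, hd, hdr, hdodd, hdq, hdn⟩ := exists_prime_not_fixed hr hr2 hq0 hq03
    rw [← hq] at hdq
    haveI := Fact.mk hd
    haveI : IsCyclic (Field.torus (topL K) t') := h.isCyclic_torus ht2
    obtain ⟨τ, hτo⟩ := exists_prime_orderOf_dvd_card' d ((h.card_torus_inner ht2 htL).2 d hdodd hdq)
    have hτ1 : orderOf (τ : K ⧸ Cfsg.oddCore K) = d := by rw [Subgroup.orderOf_coe, hτo]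
    refine hdn ?_
    rw [← hτ1]
    refine hfix τ τ.2 ?_
    obtain ⟨q, -, hqτ, hqR⟩ := exists_conj_lift (r := r) D (x := y) hyR ((h.mem_torus ht2).1 τ.2).2.1
    set z := π y * τ * (π y)⁻¹ * (τ : K ⧸ Cfsg.oddCore K)⁻¹ with hz
    have hconjT : π y * τ * (π y)⁻¹ ∈ Field.torus (topL K) t' := h.conj_mem_torus ht2 hyt τ.2
    have hzT : z ∈ Field.torus (topL K) t' := mul_mem hconjT (inv_mem τ.2)
    have hzd : z ^ d = 1 := by
      have hc : Commute (π y * τ * (π y)⁻¹) (τ : K ⧸ Cfsg.oddCore K)⁻¹ :=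
        h.torus_commute ht2 hconjT (inv_mem τ.2)
      rw [hz, hc.mul_pow, conj_pow, inv_pow, ← hτ1, pow_orderOf_eq_one, mul_one, mul_inv_cancel,
        inv_one, mul_one]
    obtain ⟨j, hj⟩ := exists_pow_R E hr (x := ((y * (q * y⁻¹ * q⁻¹) : K) : G))
      (mul_mem hyR (hqR _ (inv_mem hyR)))
    have hzr : z ^ r ^ j = 1 := by
      rw [show z = π (y * (q * y⁻¹ * q⁻¹)) by
          simp only [map_mul, map_inv, hz, mul_assoc]; rw [show π q = (τ : K ⧸ Cfsg.oddCore K) from hqτ],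
        ← map_pow, Subtype.ext (a1 := _ ^ r ^ j) (a2 := (1 : K)) (by rw [coe_pow]; exact hj), map_one]
    have hz1 : z = 1 := orderOf_eq_one_iff.1 (Nat.eq_one_of_dvd_coprimes
      (((Nat.coprime_primes hd hr).2 hdr).pow_right j) (orderOf_dvd_of_pow_eq_one hzd)
      (orderOf_dvd_of_pow_eq_one hzr))
    rwa [hz, mul_inv_eq_one, mul_inv_eq_iff_eq_mul] at hz1
  · -- `A₇`
    have htop := eq_top_of_seven T.dc T.cent ψ
    let ψ' := (topEquiv.symm.trans (MulEquiv.subgroupCongr htop.symm)).trans ψ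
    set B := ((E.R r ⊓ K).subgroupOf K).map π with hBdef
    have hBodd : Odd (Nat.card B) := by
      refine Odd.of_dvd_nat ?_ (card_map_dvd _ π)
      rw [Nat.card_congr (subgroupOfEquivOfLe (inf_le_right : E.R r ⊓ K ≤ K)).toEquiv]
      exact (odd_card_R E hr hr2).of_dvd_nat (card_dvd_of_le inf_le_left)
    have h3' := card_dvd_three ψ' ht2 (B := B) hBodd (by
      rintro _ ⟨y, hy, rfl⟩
      exact hcomm y.2 D.t_mem (hRt _ (mem_subgroupOf.1 hy).1))
    have hxB : x' ∈ B := ⟨⟨x, hxK⟩, mem_subgroupOf.2 ⟨hxR, hxK⟩, rfl⟩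
    have hx3 : orderOf x' = 3 := by
      have h1 : orderOf x' ∣ 3 := by
        refine dvd_trans ?_ h3'
        rw [← Subgroup.orderOf_mk x' hxB]
        exact orderOf_dvd_natCard _
      exact ((Nat.dvd_prime Nat.prime_three).1 h1).resolve_left fun h => hx'1 (orderOf_eq_one_iff.1 h)
    refine ⟨⟨ψ⟩, hx3, fun y hy => hb.mem_X.2 ⟨hRt y hy.1, ?_, odd_of_mem_R E hr hr2 hy.1⟩⟩
    have hBx : B = zpowers x' := (eq_of_le_of_card_ge (zpowers_le.2 hxB)
      (by rw [Nat.card_zpowers, hx3]; exact Nat.le_of_dvd (by norm_num) h3')).symm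
    have hBb : ∀ w ∈ B, w * b' = b' * w := fun w hw => by
      rw [hBx] at hw
      obtain ⟨i, rfl⟩ := hw
      exact ((show Commute x' b' from hcomm hxK D.b_mem hxb).zpow_left i).eq
    have hbK : ∀ z ∈ E.R r ⊓ K, b * z * b ∈ E.R r ⊓ K := fun z hz =>
      ⟨by have := conj_mem_R E hb.mem_H hz.1; rwa [hb.inv] at this,
        mul_mem (mul_mem D.b_mem hz.2) D.b_mem⟩
    obtain ⟨c, w, hc, hcb, hw, hwb, hye⟩ := CfsgLib.RankOneInvol.exists_fixed_mul_inverted
      ((odd_card_R E hr hr2).of_dvd_nat (card_dvd_of_le inf_le_left)) hb.sq hbK hy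
    have hcb' : c * b = b * c := by
      calc c * b = b * c * b * b := by rw [hcb]
        _ = b * c := by rw [mul_assoc, hb.sq, mul_one]
    have hw' : π ⟨w, hw.2⟩ = 1 := by
      refine CfsgLib.RankOneInvol.eq_one_of_sq_of_odd (hoddπ ⟨w, hw.2⟩ hw.1) ?_
      have hwc := hBb _ ⟨⟨w, hw.2⟩, mem_subgroupOf.2 hw, rfl⟩
      have e1 : b' * π ⟨w, hw.2⟩ * b' = (π ⟨w, hw.2⟩)⁻¹ := by
        rw [hb', ← map_mul, ← map_mul, ← map_inv]
        exact congrArg π (Subtype.ext hwb)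
      rw [← hwc, mul_assoc, (CfsgLib.Involutions.orderOf_eq_two_iff_mul.1 hb2).2, mul_one] at e1
      exact mul_eq_one_iff_eq_inv.2 e1
    have hwb2 : w * b = b * w := (D.perf_core hbP |> mem_centralizer_iff.1) w (bar_eq_one.1 hw')
    rw [hye]
    exact ((show Commute c b from hcb').mul_left (show Commute w b from hwb2)).eq

end CfsgLib.GW.Max31
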