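import Cfsg.Agent.Lib.GW.Max31Base
import Cfsg.Agent.Lib.GW.Field

/-!
Gorenstein–Walter, Step 3.1 b: an element `e` of order `r` of `O_r(C(t)) ∩ C(b)` cannot act as a
field automorphism on the top of a maximal subgroup containing its normaliser.
-/

set_option autoImplicit false
set_option linter.style.haveILetI false
set_option linter.unusedSectionVars false
set_option maxHeartbeats 1600000

namespace CfsgLib.GW.Max31

open Subgroup

universe u

variable {G : Type u} [Group G] [Finite G]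

/-! ### Elementary facts -/

theorem R_isPGroup (E : Setup G) {r : ℕ} (hr : r.Prime) : IsPGroup r (E.R r) :=
  haveI := Fact.mk hr
  CfsgLib.PCore.pCore_isPGroup.map _

theorem R_le_H (E : Setup G) (r : ℕ) : E.R r ≤ E.H := map_subtype_le _

theorem conj_mem_R (E : Setup G) {r : ℕ} {h x : G} (hh : h ∈ E.H) (hx : x ∈ E.R r) :
    h * x * h⁻¹ ∈ E.R r := by
  obtain ⟨y, hy, rfl⟩ := hx
  exact ⟨⟨h, hh⟩ * y * ⟨h, hh⟩⁻¹, (Cfsg.pCore_normal r E.H).conj_mem y hy _, rfl⟩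

theorem odd_card_R (E : Setup G) {r : ℕ} (hr : r.Prime) (hr2 : r ≠ 2) : Odd (Nat.card (E.R r)) := by
  haveI := Fact.mk hr
  obtain ⟨k, hk⟩ := IsPGroup.iff_card.1 (R_isPGroup E hr)
  rw [hk]
  exact (hr.odd_of_ne_two hr2).pow

theorem R_le_U (E : Setup G) {r : ℕ} (hr : r.Prime) (hr2 : r ≠ 2) : E.R r ≤ E.U :=
  le_coreIn (R_le_H E r) (fun _ hh _ hx => conj_mem_R E hh hx) (odd_card_R E hr hr2)

theorem odd_of_mem_R (E : Setup G) {r : ℕ} (hr : r.Prime) (hr2 : r ≠ 2) {x : G} (hx : x ∈ E.R r) :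
    Odd (orderOf x) :=
  CfsgLib.RankOneInvol.odd_orderOf_of_mem (odd_card_R E hr hr2) hx

theorem exists_pow_R (E : Setup G) {r : ℕ} (hr : r.Prime) {x : G} (hx : x ∈ E.R r) :
    ∃ j, x ^ r ^ j = 1 := by
  obtain ⟨j, hj⟩ := R_isPGroup E hr ⟨x, hx⟩
  exact ⟨j, by simpa using congrArg Subtype.val hj⟩

theorem mem_normalizer_zpowers {e g : G} (h : g * e * g⁻¹ ∈ zpowers e) :
    g ∈ normalizer (zpowers e : Set G) := by
  have hle : (zpowers e).map (MulAut.conj g).toMonoidHom ≤ zpowers e := by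
    rw [MonoidHom.map_zpowers]
    exact zpowers_le.2 h
  rw [mem_normalizer_iff]
  intro x
  refine ⟨fun hx => hle ⟨x, hx, rfl⟩, fun hx => ?_⟩
  rw [← eq_of_le_of_card_ge hle (by rw [card_map_of_injective (MulAut.conj g).injective])] at hx
  obtain ⟨y, hy, hyx⟩ := hx
  rwa [← (MulAut.conj g).injective (hyx : MulAut.conj g y = MulAut.conj g x)]

/-- A subgroup of a `p`-group which is its own normaliser is everything. -/
theorem eq_of_self_normalizing {p : ℕ} [Fact p.Prime] {P Q : Subgroup G} (hP : IsPGroup p P)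
    (hQ : Q ≤ P) (h : ∀ g ∈ P, (∀ x ∈ Q, g * x * g⁻¹ ∈ Q) → g ∈ Q) : Q = P := by
  haveI : Group.IsNilpotent P := hP.isNilpotent
  by_contra hne
  have hlt : Q.subgroupOf P < ⊤ := lt_top_iff_ne_top.2 fun e =>
    hne (le_antisymm hQ (subgroupOf_eq_top.1 e))
  obtain ⟨g, hg, hgQ⟩ := SetLike.exists_of_lt (Group.normalizerCondition_of_isNilpotent _ hlt)
  refine hgQ (mem_subgroupOf.2 (h g g.2 fun x hx => ?_))
  exact mem_subgroupOf.1 ((mem_normalizer_iff.1 hg ⟨x, hQ hx⟩).1 (mem_subgroupOf.2 hx))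

/-- In a cyclic group the solutions of `x ^ r = 1` are the powers of any element of order `r`. -/
theorem mem_zpowers_of_cyclic {Y : Type*} [Group Y] [Finite Y] {Φ : Subgroup Y} (hc : IsCyclic Φ)
    {r : ℕ} (hr : r.Prime) {e c : Y} (he : e ∈ Φ) (ho : orderOf e = r) (hcΦ : c ∈ Φ)
    (hcr : c ^ r = 1) : c ∈ zpowers e := by
  classical
  haveI : Fintype Φ := Fintype.ofFinite _
  haveI := hc
  have hoe : orderOf (⟨e, he⟩ : Φ) = r := (Subgroup.orderOf_mk _ _).trans ho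
  have hsub : (Finset.univ.filter fun y : Φ => y ∈ zpowers (⟨e, he⟩ : Φ)) ⊆
      Finset.univ.filter fun y : Φ => y ^ r = 1 := by
    intro y hy
    rw [Finset.mem_filter] at hy ⊢
    obtain ⟨j, rfl⟩ := hy.2
    refine ⟨Finset.mem_univ _, ?_⟩
    rw [← zpow_natCast, ← zpow_mul, mul_comm, zpow_mul, zpow_natCast,
      show (⟨e, he⟩ : Φ) ^ r = 1 by rw [← hoe]; exact pow_orderOf_eq_one _, one_zpow]
  have heq := Finset.eq_of_subset_of_card_le hsub ((IsCyclic.card_pow_eq_one_le hr.pos).trans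
    (le_of_eq (by rw [← Fintype.card_subtype, ← Nat.card_eq_fintype_card]
                  exact ((Nat.card_zpowers _).trans hoe).symm)))
  have : (⟨c, hcΦ⟩ : Φ) ∈ Finset.univ.filter fun y : Φ => y ^ r = 1 :=
    Finset.mem_filter.2 ⟨Finset.mem_univ _, Subtype.ext hcr⟩
  rw [← heq] at this
  obtain ⟨j, hj⟩ := (Finset.mem_filter.1 this).2
  exact ⟨j, congrArg Subtype.val hj⟩

/-- Powers of `x * w` when `x` shears `w` by a central `z`. -/
theorem pow_shear {Y : Type*} [Group Y] {x w z : Y} (hconj : x * w * x⁻¹ = w * z)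
    (hxz : x * z = z * x) (hwz : w * z = z * w) (n : ℕ) :
    ∃ T : ℕ, 2 * T = n * (n + 1) ∧ (x * w) ^ n = w ^ n * z ^ T * x ^ n := by
  have e0 : x * w = w * z * x := mul_inv_eq_iff_eq_mul.1 hconj
  induction n with
  | zero => exact ⟨0, by simp, by simp⟩
  | succ n ih =>
    obtain ⟨T, hT, e⟩ := ih
    refine ⟨T + (n + 1), by rw [mul_add, hT]; ring, ?_⟩
    have e1 : x ^ n * w = w * z ^ n * x ^ n := mul_inv_eq_iff_eq_mul.1
      (Field.conj_iterate hconj (by rw [hxz, mul_inv_cancel_right]) n)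
    have c1 : z ^ T * w = w * z ^ T := ((show Commute w z from hwz).pow_right T).eq.symm
    have c2 : x ^ n * z = z * x ^ n := ((show Commute x z from hxz).pow_left n).eq
    calc (x * w) ^ (n + 1) = w ^ n * z ^ T * x ^ n * (w * z * x) := by rw [pow_succ, e, e0]
      _ = w ^ n * z ^ T * (x ^ n * w) * z * x := by simp only [mul_assoc]
      _ = w ^ n * (z ^ T * w) * z ^ n * (x ^ n * z) * x := by rw [e1]; simp only [mul_assoc]
      _ = w ^ n * w * (z ^ T * z ^ n * z) * (x ^ n * x) := by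
          rw [c1, c2]; simp only [mul_assoc]
      _ = w ^ (n + 1) * z ^ (T + (n + 1)) * x ^ (n + 1) := by
          rw [← pow_succ, ← pow_succ, ← pow_add, ← pow_succ]; rfl

/-- An element inverted by an involution of a normal subgroup of odd order lies in it. -/
theorem mem_of_inverted {Y : Type*} [Group Y] {L : Subgroup Y} (hL : L.Normal) {b w : Y}
    (hb : b ∈ L) (hw : b * w * b⁻¹ = w⁻¹) (ho : Odd (orderOf w)) : w ∈ L := by
  obtain ⟨k, hk⟩ := CfsgLib.RankOneInvol.exists_pow_sq_eq ho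
  have h : w * w ∈ L := by
    have h1 := mul_mem hb (hL.conj_mem _ (inv_mem hb) w)
    rw [show b * (w * b⁻¹ * w⁻¹) = b * w * b⁻¹ * w⁻¹ by group, hw] at h1
    simpa using inv_mem h1
  have := pow_mem h k
  rwa [(Commute.refl w).mul_pow, hk] at this

/-- The socle data as a `Psl`. -/
theorem psl_of_topData {K : Subgroup G} (T : TopData K) {F : Type} [Field F] [Fintype F]
    (hodd : Odd (Fintype.card F)) (h3 : 3 < Fintype.card F)
    (f : topL K ≃* Matrix.ProjectiveSpecialLinearGroup (Fin 2) F) : Field.Psl (topL K) F := by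
  refine ⟨T.normal, T.cent, ⟨f⟩, hodd, h3, fun S => ?_⟩
  haveI := T.normal
  obtain ⟨-, hnc⟩ := exists_sylow_index T.dc T.shape S
  obtain ⟨n, -, hn⟩ := (T.dc _ S.2).resolve_left fun hc => hnc (by
    haveI := hc
    exact isCyclic_of_injective _ (Subgroup.inclusion_injective inf_le_left))
  exact ⟨n, hn⟩

/-! ### The data of a maximal subgroup -/

/-- What Lemma (Z) gives for a maximal subgroup `K` through `t` and `b`. -/
structure KData (E : Setup G) (b : G) (K : Subgroup G) : Prop where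
  coatom : IsCoatom K
  t_mem : E.t ∈ K
  b_mem : b ∈ K
  core_commute : ∀ x ∈ coreIn K, x * E.t = E.t * x
  perf_core : perf K ≤ centralizer (coreIn K : Set G)

variable {E : Setup G} {b : G} {K : Subgroup G} {r : ℕ}

/-- The images of two commuting involutions stay different. -/
theorem bar_ne {x y : K} (hx : orderOf (x : G) = 2) (hy : orderOf (y : G) = 2)
    (hc : (x : G) * y = y * x) (hne : (x : G) ≠ y) : bar K x ≠ bar K y := by
  intro e
  have h : bar K (x * y) = 1 := by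
    rw [map_mul, e, ← map_mul, show y * y = 1 from Subtype.ext
      (CfsgLib.Involutions.orderOf_eq_two_iff_mul.1 hy).2, map_one]
  refine hne ?_
  have h1 := CfsgLib.RankOneInvol.eq_one_of_mem_of_sq (odd_card_coreIn K) (bar_eq_one.1 h) (by
    rw [Subgroup.coe_mul, show (x : G) * y * (x * y) = x * ((y : G) * x) * y by group, ← hc,
      show (x : G) * (x * y) * y = ((x : G) * x) * (y * y) by group,
      (CfsgLib.Involutions.orderOf_eq_two_iff_mul.1 hx).2,
      (CfsgLib.Involutions.orderOf_eq_two_iff_mul.1 hy).2, one_mul])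
  rw [Subgroup.coe_mul, ← eq_inv_iff_mul_eq_one] at h1
  rwa [inv_eq_of_mul_eq_one_right (CfsgLib.Involutions.orderOf_eq_two_iff_mul.1 hy).2] at h1

/-- The image of `R ∩ K` is normalised by the centraliser of the image of `t`. -/
theorem exists_conj_lift (D : KData E b K) {x : K} (hx : (x : G) ∈ E.R r) {q : K ⧸ Cfsg.oddCore K}
    (hq : q * bar K ⟨E.t, D.t_mem⟩ = bar K ⟨E.t, D.t_mem⟩ * q) :
    ∃ c : K, (c : G) ∈ E.H ∧ bar K c = q ∧
      ∀ y : K, (y : G) ∈ E.R r → ((c * y * c⁻¹ : K) : G) ∈ E.R r := by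
  obtain ⟨c, hc, hcq⟩ := lift_commute (t := ⟨E.t, D.t_mem⟩) E.orderOf_t hq
  exact ⟨c, E.mem_H.2 hc, hcq, fun y hy => conj_mem_R E (E.mem_H.2 hc) hy⟩

/-- Step 3.1 b. -/
theorem false_kill (hH : IsCoatom E.H) (hb : E.Refl b) (hr : r.Prime) (hr2 : r ≠ 2)
    (hR : ¬ E.R r ≤ E.X b) (D : KData E b K) (T : TopData K) (htP : E.t ∈ perf K)
    (hbP : b ∈ perf K) {e : G} (he : e ∈ E.R r ⊓ E.X b) (ho : orderOf e = r)
    (hN : normalizer (zpowers e : Set G) ≤ K) (hB : E.R r ⊓ coreIn K = ⊥) : False := by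
  classical
  haveI := Fact.mk hr
  haveI : Fact (Nat.Prime 2) := ⟨Nat.prime_two⟩
  haveI := T.normal
  obtain ⟨hx1, hx2, -⟩ := hb.mem_X.1 he.2
  have heK : e ∈ K := hN (le_normalizer (mem_zpowers e))
  have he1 : e ≠ 1 := fun h => by rw [h, orderOf_one] at ho; exact hr.ne_one ho.symm
  set π := bar K with hπ
  set t' := π ⟨E.t, D.t_mem⟩ with ht'
  set b' := π ⟨b, D.b_mem⟩ with hb'
  have ht2 : orderOf t' = 2 := orderOf_bar E.orderOf_t
  have hb2 : orderOf b' = 2 := orderOf_bar hb.orderOf_eq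
  have htL : t' ∈ topL K := bar_mem_topL htP
  have hbL : b' ∈ topL K := bar_mem_topL hbP
  have hcomm : ∀ {x y : G} (hx : x ∈ K) (hy : y ∈ K), x * y = y * x →
      π ⟨x, hx⟩ * π ⟨y, hy⟩ = π ⟨y, hy⟩ * π ⟨x, hx⟩ := fun hx hy h => by
    rw [← map_mul, ← map_mul]; exact congrArg π (Subtype.ext h)
  have hne : t' ≠ b' := bar_ne E.orderOf_t hb.orderOf_eq hb.comm.symm hb.ne_t.symm
  have htb : t' * b' = b' * t' := hcomm _ _ hb.comm.symm
  have inj1 : ∀ x : K, (x : G) ∈ E.R r → π x = 1 → x = 1 := fun x hxR h => Subtype.ext (by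
    have := show (x : G) ∈ E.R r ⊓ coreIn K from ⟨hxR, bar_eq_one.1 h⟩
    rwa [hB, mem_bot] at this)
  have inj2 : ∀ x y : K, (x : G) ∈ E.R r → (y : G) ∈ E.R r → π x = π y → x = y := by
    intro x y hx hy h
    exact (inv_mul_eq_one.1 (inj1 (x⁻¹ * y) (mul_mem (inv_mem hx) hy)
      (by rw [map_mul, map_inv, h, inv_mul_cancel])))
  have hRt : ∀ x ∈ E.R r, x * E.t = E.t * x := fun x hx => E.mem_H.1 (R_le_H E r hx)
  have hoddπ : ∀ x : K, (x : G) ∈ E.R r → Odd (orderOf (π x)) := fun x hx => by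
    refine (odd_of_mem_R E hr hr2 hx).of_dvd_nat ?_
    rw [Subgroup.orderOf_coe]
    exact orderOf_map_dvd π x
  have hRK : ¬ E.R r ≤ zpowers e := fun h => hR (h.trans (zpowers_le.2 he.2))
  rcases T.shape with ⟨F, i1, i2, hoddF, h3, ⟨f⟩⟩ | ⟨⟨ψ⟩⟩
  swap
  · -- `A₇`
    have htop := eq_top_of_seven T.dc T.cent ψ
    let ψ' := (topEquiv.symm.trans (MulEquiv.subgroupCongr htop.symm)).trans ψ
    set B := ((E.R r ⊓ K).subgroupOf K).map π with hBdef
    have hcard : Nat.card B = Nat.card ↥(E.R r ⊓ K) := by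
      rw [← Nat.card_congr (subgroupOfEquivOfLe (inf_le_right : E.R r ⊓ K ≤ K)).toEquiv]
      exact (Nat.card_eq_of_bijective
        (fun x : (E.R r ⊓ K).subgroupOf K => (⟨π x, x, x.2, rfl⟩ : B))
        ⟨fun x y h => Subtype.ext (inj2 x y (mem_subgroupOf.1 x.2).1 (mem_subgroupOf.1 y.2).1
          (congrArg Subtype.val h)), fun ⟨_, x, hx, rfl⟩ => ⟨⟨x, hx⟩, rfl⟩⟩).symm
    have hodd : Odd (Nat.card ↥(E.R r ⊓ K)) :=
      (odd_card_R E hr hr2).of_dvd_nat (card_dvd_of_le inf_le_left)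
    have h3' := card_dvd_three ψ' ht2 (B := B) (hcard ▸ hodd) (by
      rintro _ ⟨x, hx, rfl⟩
      exact hcomm x.2 D.t_mem (hRt _ (mem_subgroupOf.1 hx).1))
    rw [hcard] at h3'
    have hle : zpowers e ≤ E.R r ⊓ K := zpowers_le.2 ⟨he.1, heK⟩
    have hr3 : r ∣ 3 := by
      rw [← ho, ← Nat.card_zpowers]; exact (card_dvd_of_le hle).trans h3'
    have heq : zpowers e = E.R r ⊓ K := eq_of_le_of_card_ge hle (by
      rw [Nat.card_zpowers, ho]
      exact (Nat.le_of_dvd (by norm_num) h3').trans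
        ((Nat.prime_dvd_prime_iff_eq hr Nat.prime_three).1 hr3).ge)
    have hall : E.R r ⊓ K = E.R r := eq_of_self_normalizing (R_isPGroup E hr) inf_le_left
      fun g hg hgn => ⟨hg, hN (mem_normalizer_zpowers (heq.symm ▸ hgn e ⟨he.1, heK⟩))⟩
    exact hRK (heq ▸ hall.symm.le)
  -- `PSL₂(q)`
  have h := psl_of_topData T hoddF h3 f
  set φ := π ⟨e, heK⟩ with hφ
  have hφ1 : φ ≠ 1 := fun hh => he1 (congrArg Subtype.val (inj1 ⟨e, heK⟩ he.1 hh))
  have hφo : orderOf φ = r := by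
    refine orderOf_eq_prime ?_ hφ1
    rw [hφ, ← map_pow, show (⟨e, heK⟩ : K) ^ r = 1 from Subtype.ext (by
      rw [coe_pow, ← ho]; exact pow_orderOf_eq_one e), map_one]
  obtain ⟨Φ, hΦc, -, hΦ⟩ := h.exists_cyclic_odd ht2 hb2 hne htb
  -- elements of order dividing `r`
  have key : ∀ x : K, (x : G) ∈ E.R r → x ^ r = 1 → π x ∈ Field.torus (topL K) t' ∨
      ∃ g ∈ K, g * E.t = E.t * g ∧ g⁻¹ * (x : G) * g ∈ zpowers e := by
    intro x hx hxr
    have hbK : ∀ y ∈ E.R r ⊓ K, b * y * b ∈ E.R r ⊓ K := fun y hy =>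
      ⟨by have := conj_mem_R E hb.mem_H hy.1; rwa [hb.inv] at this,
        mul_mem (mul_mem D.b_mem hy.2) D.b_mem⟩
    obtain ⟨c, w, hc, hcb, hw, hwb, hxe⟩ := CfsgLib.RankOneInvol.exists_fixed_mul_inverted
      ((odd_card_R E hr hr2).of_dvd_nat (card_dvd_of_le inf_le_left)) hb.sq hbK
      (show (x : G) ∈ E.R r ⊓ K from ⟨hx, x.2⟩)
    obtain ⟨hcR, hcK⟩ := hc
    obtain ⟨hwR, hwK⟩ := hw
    have hcb' : c * b = b * c := by
      calc c * b = b * c * b * b := by rw [hcb]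
        _ = b * c := by rw [mul_assoc, hb.sq, mul_one]
    set c' := π ⟨c, hcK⟩ with hc'
    set w' := π ⟨w, hwK⟩ with hw'
    have hxe' : π x = c' * w' := by
      rw [hc', hw', ← map_mul]; exact congrArg π (Subtype.ext hxe)
    have hc't : c' * t' = t' * c' := hcomm _ _ (hRt c hcR)
    have hc'b : c' * b' = b' * c' := hcomm _ _ hcb'
    have hc'o : Odd (orderOf c') := hoddπ ⟨c, hcK⟩ hcR
    have hw't : w' * t' = t' * w' := hcomm _ _ (hRt w hwR)
    have hw'o : Odd (orderOf w') := hoddπ ⟨w, hwK⟩ hwR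
    have hw'T : w' ∈ Field.torus (topL K) t' := (h.mem_torus ht2).2
      ⟨mem_of_inverted T.normal hbL (by
        rw [hw', hb', ← map_inv π ⟨b, D.b_mem⟩, ← map_mul, ← map_mul, ← map_inv π ⟨w, hwK⟩]
        exact congrArg π (Subtype.ext (show b * w * b⁻¹ = w⁻¹ by rw [hb.inv, hwb]))) hw'o, hw't, hw'o⟩
    have hc'r : c' ^ r = 1 := by
      refine h.eq_one_of_mem ht2 hb2 hne htb ((show Commute c' t' from hc't).pow_left r).eq
        ((show Commute c' b' from hc'b).pow_left r).eq (hc'o.of_dvd_nat (orderOf_pow_dvd r)) ?_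
      have e1 := congrArg (QuotientGroup.mk' (topL K)) (congrArg (· ^ r) hxe'.symm)
      have e2 : π x ^ r = 1 := by rw [← map_pow, hxr, map_one]
      simp only [e2, map_pow, map_mul, map_one] at e1
      rw [show QuotientGroup.mk' (topL K) w' = 1 from
        (QuotientGroup.eq_one_iff w').2 (h.torus_le ht2 hw'T), mul_one, ← map_pow] at e1
      exact (QuotientGroup.eq_one_iff _).1 e1
    have hcmem : c' ∈ zpowers φ := mem_zpowers_of_cyclic hΦc hr
      ((hΦ φ).2 ⟨hcomm _ _ hx1, hcomm _ _ hx2, hoddπ ⟨e, heK⟩ he.1⟩) hφo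
      ((hΦ c').2 ⟨hc't, hc'b, hc'o⟩) hc'r
    obtain ⟨i, hi⟩ := mem_zpowers_iff.1 hcmem
    have hci : c = e ^ i := congrArg Subtype.val (inj2 ⟨c, hcK⟩ ((⟨e, heK⟩ : K) ^ i) hcR
      (by rw [coe_zpow]; exact (E.R r).zpow_mem he.1 i) (by rw [map_zpow]; exact hi.symm))
    by_cases hc1 : c' = 1
    · exact Or.inl (by rw [hxe', hc1, one_mul]; exact hw'T)
    right
    have hc'or : orderOf c' = r := orderOf_eq_prime hc'r hc1
    -- `r` divides the torus
    obtain ⟨τ0, hτ0, hτ0ne⟩ : ∃ τ ∈ Field.torus (topL K) t', c' * τ ≠ τ * c' := by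
      by_contra hno
      push Not at hno
      refine hc1 (h.eq_one_of_mem ht2 hb2 hne htb hc't hc'b hc'o
        (h.torus_le ht2 (h.mem_torus_of_centralizes ht2 hb2 hne htb htL hbL hc't hc'o hno)))
    have hrT : r ∣ Nat.card (Field.torus (topL K) t') := by
      obtain ⟨q, hqH, hqτ, hqR⟩ := exists_conj_lift (r := r) D (x := x) hx
        ((h.mem_torus ht2).1 hτ0).2.1
      set z := c' * τ0 * c'⁻¹ * τ0⁻¹ with hz
      have hzT : z ∈ Field.torus (topL K) t' :=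
        mul_mem (h.conj_mem_torus ht2 hc't hτ0) (inv_mem hτ0)
      have hzim : z = π (⟨c, hcK⟩ * (q * ⟨c, hcK⟩⁻¹ * q⁻¹)) := by
        simp only [map_mul, map_inv, hz, ← hc', mul_assoc]
        rw [show π q = τ0 from hqτ]
      obtain ⟨j, hj⟩ := exists_pow_R E hr (x := ((⟨c, hcK⟩ * (q * ⟨c, hcK⟩⁻¹ * q⁻¹) : K) : G))
        (mul_mem hcR (hqR _ (inv_mem hcR)))
      have hzr : z ^ r ^ j = 1 := by
        rw [hzim, ← map_pow, Subtype.ext (a1 := _ ^ r ^ j) (a2 := (1 : K)) (by rw [coe_pow]; exact hj),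
          map_one]
      have hz1 : z ≠ 1 := fun hh => hτ0ne (by
        rwa [hz, mul_inv_eq_one, mul_inv_eq_iff_eq_mul] at hh)
      obtain ⟨l, -, hl⟩ := (Nat.dvd_prime_pow hr).1 (orderOf_dvd_of_pow_eq_one hzr)
      have hl0 : l ≠ 0 := fun h0 => hz1 (orderOf_eq_one_iff.1 (by rw [hl, h0, pow_zero]))
      refine (dvd_pow_self r hl0).trans ?_
      rw [← hl, ← Subgroup.orderOf_mk z hzT]
      exact orderOf_dvd_natCard _
    obtain ⟨-, hfix, hcom, hsurj⟩ := h.field_element ht2 hb2 hne htb htL hc't hc'b hr hrT hc'or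
    set z := c' * w' * c'⁻¹ * w'⁻¹ with hz
    have hwpow : ∃ j, w' ^ r ^ j = 1 := by
      obtain ⟨j, hj⟩ := exists_pow_R E hr hwR
      exact ⟨j, by rw [hw', ← map_pow, show (⟨w, hwK⟩ : K) ^ r ^ j = 1 from
        Subtype.ext (by rw [coe_pow]; exact hj), map_one]⟩
    have hzr : z ^ r = 1 := hcom w' hw'T hwpow
    have hzT : z ∈ Field.torus (topL K) t' :=
      mul_mem (h.conj_mem_torus ht2 hc't hw'T) (inv_mem hw'T)
    have hcz : c' * z = z * c' := hfix z hzT hzr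
    have hwz : w' * z = z * w' := h.torus_commute ht2 hw'T hzT
    have hconj : c' * w' * c'⁻¹ = w' * z := by
      rw [hwz, hz, inv_mul_cancel_right]
    obtain ⟨T0, hT0, hpow⟩ := pow_shear hconj hcz hwz r
    have hw'r : w' ^ r = 1 := by
      rw [← hxe', ← map_pow, hxr, map_one, hc'r, mul_one] at hpow
      obtain ⟨u, hu⟩ : r ∣ T0 := ((Nat.coprime_primes hr Nat.prime_two).2 hr2).dvd_of_dvd_mul_left
        (hT0 ▸ dvd_mul_right r _)
      rw [hu, pow_mul, hzr, one_pow, mul_one] at hpow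
      exact hpow.symm
    have hω : (w' * z) ^ r = 1 := by
      rw [(show Commute w' z from hwz).mul_pow, hw'r, hzr, one_mul]
    obtain ⟨τ, hτ, -, hτe⟩ := hsurj (w' * z)⁻¹ (inv_mem (mul_mem hw'T hzT))
      (by rw [inv_pow, hω, inv_one])
    have hτc : τ * c' * τ⁻¹ = π x := by
      rw [hxe', mul_inv_eq_iff_eq_mul.1 hconj]
      have e3 : w' * z = τ * c' * τ⁻¹ * c'⁻¹ := by
        rw [← inv_inv (w' * z), ← hτe]; group
      rw [e3, inv_mul_cancel_right]
    obtain ⟨q, hqH, hqτ, hqR⟩ := exists_conj_lift (r := r) D (x := x) hx ((h.mem_torus ht2).1 hτ).2.1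
    have hxq := inj2 x (q * ⟨c, hcK⟩ * q⁻¹) hx (hqR _ hcR)
      (by rw [map_mul, map_mul, map_inv, hqτ, ← hc', hτc])
    refine ⟨q, q.2, E.mem_H.1 hqH, ?_⟩
    have hxg : (x : G) = q * c * (q : G)⁻¹ := congrArg Subtype.val hxq
    rw [hxg, show (q : G)⁻¹ * (q * c * (q : G)⁻¹) * q = c by group, hci]
    exact zpow_mem (mem_zpowers e) i
  -- conjugates of `e` inside `K`
  have step : ∀ h' ∈ E.H, ∀ hK : h' * e * h'⁻¹ ∈ K,
      (π ⟨h' * e * h'⁻¹, hK⟩ ∈ Field.torus (topL K) t' → False) → h' ∈ K := by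
    intro h' hh' hK hno
    rcases key ⟨h' * e * h'⁻¹, hK⟩ (conj_mem_R E hh' he.1) (Subtype.ext (by
      rw [coe_pow, coe_one]
      show (h' * e * h'⁻¹) ^ r = 1
      rw [conj_pow, ← ho, pow_orderOf_eq_one, mul_one, mul_inv_cancel])) with ht | ⟨g, hgK, -, hg⟩
    · exact (hno ht).elim
    · have hn : g⁻¹ * h' ∈ normalizer (zpowers e : Set G) := by
        refine mem_normalizer_zpowers ?_
        rwa [show g⁻¹ * h' * e * (g⁻¹ * h')⁻¹ = g⁻¹ * (h' * e * h'⁻¹) * g by group]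
      have := mul_mem hgK (hN hn)
      rwa [mul_inv_cancel_left] at this
  have hU' : ∀ h' ∈ E.U, h' * e * h'⁻¹ ∈ K → h' ∈ K := by
    intro h' hh' hK
    refine step h' (E.U_le_H hh') hK fun ht => ?_
    set x := h' * e * h'⁻¹ with hx
    have hxR : x ∈ E.R r := conj_mem_R E (E.U_le_H hh') he.1
    have hbx : b * x * b = x⁻¹ := by
      have e1 := h.inverts_torus ht2 hb2 htb.symm hne.symm ht
      rw [hb', ← map_inv π ⟨b, D.b_mem⟩, ← map_mul, ← map_mul, ← map_inv] at e1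
      have := congrArg Subtype.val (inj2 _ _ (conj_mem_R E hb.mem_H hxR) (inv_mem hxR) e1)
      simp only [Subgroup.coe_mul, InvMemClass.coe_inv, hb.inv] at this
      exact this
    have hu : h'⁻¹ * (b * h' * b⁻¹) ∈ E.U := mul_mem (inv_mem hh') (E.conj_mem_U hb.mem_H hh')
    refine he1 (CfsgLib.RankOneInvol.eq_one_of_conj_eq_inv (E.mem_U.1 hu).2
      (odd_of_mem_R E hr hr2 he.1) ?_)
    have hbe : b⁻¹ * e * b = e := by rw [mul_assoc, hx2, inv_mul_cancel_left]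
    have hbe' : b * e * b⁻¹ = e := by rw [← hx2, mul_inv_cancel_right]
    calc h'⁻¹ * (b * h' * b⁻¹) * e * (h'⁻¹ * (b * h' * b⁻¹))⁻¹
        = h'⁻¹ * (b * h' * (b⁻¹ * e * b) * h'⁻¹ * b⁻¹) * h' := by group
      _ = h'⁻¹ * (b * x * b) * h' := by rw [hbe, hx, hb.inv]; group
      _ = e⁻¹ := by rw [hbx, hx]; group
  have hRle : E.R r ≤ K := by
    have := eq_of_self_normalizing (R_isPGroup E hr) (inf_le_left (b := K)) fun g hg hgn =>
      ⟨hg, hU' g (R_le_U E hr hr2 hg) (hgn e ⟨he.1, heK⟩).2⟩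
    exact this ▸ inf_le_right
  have hUle : E.U ≤ K := fun g hg => hU' g hg (hRle (conj_mem_R E (E.U_le_H hg) he.1))
  have hSle : (E.S : Subgroup G) ≤ K := by
    have := eq_of_self_normalizing E.S.2 (inf_le_left (b := K)) fun g hg hgn =>
      ⟨hg, step g (E.S_le_H hg) (hRle (conj_mem_R E (E.S_le_H hg) he.1)) fun ht => ?_⟩
    · exact this ▸ inf_le_right
    set b2 := g * b * g⁻¹ with hb2def
    have hb2K : b2 ∈ K := (hgn b ⟨hb.1, D.b_mem⟩).2
    have hb2o : orderOf b2 = 2 := (CfsgLib.Involutions.orderOf_conj_eq g b).trans hb.orderOf_eq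
    have hb2t : b2 * E.t = E.t * b2 :=
      E.mem_H.1 (mul_mem (mul_mem (E.S_le_H hg) hb.mem_H) (inv_mem (E.S_le_H hg)))
    have hb2ne : b2 ≠ E.t := fun h2 => hb.ne_t (by
      have hgt := E.mem_H.1 (E.S_le_H hg)
      calc b = g⁻¹ * b2 * g := by rw [hb2def]; group
        _ = g⁻¹ * (E.t * g) := by rw [h2, mul_assoc]
        _ = E.t := by rw [← hgt, inv_mul_cancel_left])
    set x := g * e * g⁻¹ with hx
    have hxK : x ∈ K := hRle (conj_mem_R E (E.S_le_H hg) he.1)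
    have e1 := h.inverts_torus ht2 (orderOf_bar (x := (⟨b2, hb2K⟩ : K)) hb2o)
      (hcomm _ _ hb2t) (bar_ne (x := ⟨b2, hb2K⟩) (y := ⟨E.t, D.t_mem⟩) hb2o E.orderOf_t hb2t hb2ne) ht
    have e2 : π ⟨b2, hb2K⟩ * π ⟨x, hxK⟩ = π ⟨x, hxK⟩ * π ⟨b2, hb2K⟩ :=
      (hcomm hxK hb2K (Setup.commute_conj hx2)).symm
    rw [e2, mul_inv_cancel_right] at e1
    have h1 : π ⟨x, hxK⟩ = 1 := CfsgLib.RankOneInvol.eq_one_of_sq_of_odd
      (hoddπ ⟨x, hxK⟩ (conj_mem_R E (E.S_le_H hg) he.1)) (mul_eq_one_iff_eq_inv.2 e1)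
    exact he1 (conj_eq_one_iff.1 (congrArg Subtype.val
      (inj1 ⟨x, hxK⟩ (conj_mem_R E (E.S_le_H hg) he.1) h1)))
  have hHK : E.H ≤ K := fun g hg => by
    obtain ⟨u, hu, s, hs, rfl⟩ := E.exists_mul hg
    exact mul_mem (hUle hu) (hSle hs)
  have hKH : K = E.H := by
    rcases hHK.eq_or_lt with h' | h'
    · exact h'.symm
    · exact absurd (hH.2 K h') D.coatom.1
  have hcen : t' ∈ centralizer (topL K : Set (K ⧸ Cfsg.oddCore K)) := by
    rw [mem_centralizer_iff]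
    rintro y ⟨k, -, rfl⟩
    exact hcomm k.2 D.t_mem (E.mem_H.1 (hKH ▸ k.2))
  rw [T.cent, mem_bot] at hcen
  rw [hcen, orderOf_one] at ht2
  norm_num at ht2

end CfsgLib.GW.Max31
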