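import Cfsg.Agent.Lib.GW.Max31OutIII

/-!
Gorenstein–Walter, Step 3.1 e: `O_r(C(t))` is contained in the maximal subgroup of a `Central`
datum.
-/

set_option autoImplicit false

namespace CfsgLib.GW.Max31

open Subgroup

universe u

/-- Step 3.1 e. -/
theorem false_of_not_le {G : Type u} [Group G] [Finite G] (E : Setup G) (hH : IsCoatom E.H)
    (hU : E.U ≠ ⊥) {b : G} (hb : E.Refl b) {r : ℕ} (hr : r.Prime) (hr2 : r ≠ 2)
    (hR : ¬ E.R r ≤ E.X b) (hF : FalseOfLe E r) (C : Central E b r) (hle : ¬ E.R r ≤ C.K) :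
    False := by
  let O : Out E b r := ⟨hH, hU, hb, hr, hr2, hR, C, hle⟩
  by_cases h : ∀ (v : G) (O' : Out E v r), O'.C.e ∉ O'.A0
  · exact O.false_of_not_mem_A0 hF h
  push Not at h
  obtain ⟨v, O', heA⟩ := h
  obtain ⟨τ, hτ⟩ := O'.exists_isTau
  by_cases hA : ∀ x ∈ O'.A0, x ∈ O'.C.K
  · exact O'.false_of_A0_le hF hA
  push Not at hA
  obtain ⟨x, hx, hxK⟩ := hA
  obtain ⟨f, w, hf, hfb, hwA, hwb, e⟩ := CfsgLib.RankOneInvol.exists_fixed_mul_inverted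
    ((odd_card_R E hr hr2).of_dvd_nat (card_dvd_of_le O'.A0_le_R)) O'.refl.sq
    (fun q hq => by
      have h := O'.A0_conj O'.refl.mem_H hq
      rwa [O'.refl.inv] at h) hx
  have hfK : f ∈ O'.C.K := O'.fixR_le_K (O'.mem_fixR hf.1 (Out.mul_b_b hfb O'.refl.sq))
  exact O'.false_of_mem_A0 hF hτ heA hwA (fun h => hxK (e ▸ mul_mem hfK h)) hwb

end CfsgLib.GW.Max31
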