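import Cfsg.Agent.Lib.GW.Max31OutPlane
import Cfsg.Agent.Lib.OddOrder41.NormalElementary
import Cfsg.Agent.Lib.OddOrder41.FixOmega

/-!
Gorenstein–Walter, Step 3.1 e: the element `τ` of order `r` of `Z(R)` and the subgroup `A₀` of
elements of order `r` of `R` which are central modulo `⟨τ⟩`.
-/

set_option autoImplicit false
set_option linter.style.haveILetI false
set_option linter.unusedSectionVars false

namespace CfsgLib.GW.Max31.Out

open Subgroup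

universe u

variable {G : Type u} [Group G] [Finite G] {E : Setup G} {b : G} {r : ℕ}

/-- An element of order `r` of `Z(R)`. -/
def IsTau (E : Setup G) (r : ℕ) (τ : G) : Prop :=
  τ ∈ E.R r ∧ orderOf τ = r ∧ ∀ x ∈ E.R r, x * τ = τ * x

variable (O : Out E b r)

include O

theorem mem_zpowers_fix {x : G} (hx : x ∈ O.fixR) (hxr : x ^ r = 1) : x ∈ zpowers O.C.e :=
  mem_zpowers_of_cyclic (Φ := O.fixR) O.isCyclic_fixR O.prime O.e_mem O.C.orderOf_e hx hxr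

theorem exists_isTau : ∃ τ, IsTau E r τ := by
  obtain ⟨τ, hτ, hτo, -, hτc, -⟩ := O.exists_tau
  exact ⟨τ, hτ.1, hτo, hτc⟩

variable {τ : G} (hτ : IsTau E r τ)

include hτ

theorem tau_ne_one : τ ≠ 1 := fun h => O.prime.ne_one (by rw [← hτ.2.1, h, orderOf_one])

theorem tau_mem_K : τ ∈ E.R r ⊓ O.C.K := ⟨hτ.1, O.center_le_K hτ.2.2⟩

theorem tau_inverted : b * τ * b = τ⁻¹ := O.center_inverted hτ.1 hτ.2.2

theorem tau_not_core : τ ∉ coreIn O.C.K := fun h =>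
  O.tau_ne_one hτ (O.eq_one_of_inv_core hτ.1 (O.tau_inverted hτ) h)

theorem mem_tau_of_inverted {y : G} (hy : y ∈ E.R r ⊓ O.C.K) (hyb : b * y * b = y⁻¹)
    (hyr : y ^ r = 1) : y ∈ zpowers τ := by
  obtain ⟨y₀, -, -, hgen⟩ := O.exists_inv_gen
  exact mem_zpowers_of_cyclic (Φ := zpowers y₀) inferInstance O.prime
    (hgen _ (O.tau_mem_K hτ) (O.tau_inverted hτ)) hτ.2.1 (hgen y hy hyb) hyr

theorem mem_tau_of_central {z : G} (hz : z ∈ E.R r) (hzc : ∀ x ∈ E.R r, x * z = z * x)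
    (hzr : z ^ r = 1) : z ∈ zpowers τ :=
  O.mem_tau_of_inverted hτ ⟨hz, O.center_le_K hzc⟩ (O.center_inverted hz hzc) hzr

theorem tau_conj {h : G} (hh : h ∈ E.H) {x : G} (hx : x ∈ zpowers τ) :
    h * x * h⁻¹ ∈ zpowers τ := by
  obtain ⟨i, rfl⟩ := mem_zpowers_iff.1 hx
  rw [← conj_zpow]
  refine zpow_mem (O.mem_tau_of_central hτ (conj_mem_R E hh hτ.1) (fun y hy => ?_) ?_) i
  · have hy' := hτ.2.2 _ (conj_mem_R E (inv_mem hh) hy)
    calc y * (h * τ * h⁻¹) = h * (h⁻¹ * y * h⁻¹⁻¹ * τ) * h⁻¹ := by group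
      _ = h * τ * h⁻¹ * y := by rw [hy']; group
  · rw [conj_pow, ← hτ.2.1, pow_orderOf_eq_one, mul_one, mul_inv_cancel]

theorem normalizer_tau : normalizer (zpowers τ : Set G) = E.H := by
  have hle : E.H ≤ normalizer (zpowers τ : Set G) := fun h hh =>
    mem_normalizer_of_conj_le fun x hx => O.tau_conj hτ hh hx
  exact (O.coatom.le_iff.1 hle).resolve_left (normalizer_ne_top E
    (fun h => O.tau_ne_one hτ (zpowers_eq_bot.1 h)) (ne_top_of_le_R E (zpowers_le.2 hτ.1)))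

/-- A non-trivial subgroup of `R` normalised by `R` contains `τ`. -/
theorem tau_mem_of_normal {Q : Subgroup G} (hQR : Q ≤ E.R r) (hQ : Q ≠ ⊥)
    (hn : ∀ x ∈ E.R r, ∀ q ∈ Q, x * q * x⁻¹ ∈ Q) : τ ∈ Q := by
  haveI := Fact.mk O.prime
  haveI : Group.IsNilpotent (E.R r) := (R_isPGroup E O.prime).isNilpotent
  haveI : (Q.subgroupOf (E.R r)).Normal :=
    ⟨fun q hq x => mem_subgroupOf.2 (hn x x.2 q (mem_subgroupOf.1 hq))⟩
  obtain ⟨y, hy, hy1, hyc⟩ := CfsgLib.OddOrder41.exists_central_step (Q.subgroupOf (E.R r)) ⊥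
    (fun h => hQ (eq_bot_iff.2 fun q hq => mem_bot.2
      (congrArg Subtype.val (mem_bot.1 (h (x := ⟨q, hQR hq⟩) (mem_subgroupOf.2 hq))))))
  have hy1' : (y : G) ≠ 1 := fun h => hy1 (mem_bot.2 (Subtype.ext h))
  have hc : ∀ x ∈ E.R r, x * (y : G) = y * x := fun x hx => congrArg Subtype.val
    (commutatorElement_eq_one_iff_mul_comm.1 (mem_bot.1 (hyc ⟨x, hx⟩))).symm
  obtain ⟨j, hj⟩ := exists_order O.prime (R_isPGroup E O.prime) y.2 hy1'
  have hjr : ((y : G) ^ j) ^ r = 1 := orderOf_dvd_iff_pow_eq_one.1 (dvd_of_eq hj)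
  have hmem := O.mem_tau_of_central hτ (pow_mem y.2 j)
    (fun x hx => ((show Commute x (y : G) from hc x hx).pow_right j).eq) hjr
  have e : zpowers τ = zpowers ((y : G) ^ j) :=
    (eq_of_le_of_card_ge (zpowers_le.2 hmem) (by rw [Nat.card_zpowers, Nat.card_zpowers, hj, hτ.2.1])).symm
  exact zpowers_le.2 (pow_mem (mem_subgroupOf.1 hy) j) (e ▸ mem_zpowers τ)

omit hτ

/-- `A₀`: the elements of order `r` of `R` central modulo the centre. -/
def A0 : Subgroup G where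
  carrier := {x | x ∈ E.R r ∧ x ^ r = 1 ∧
    ∀ y ∈ E.R r, ∀ z ∈ E.R r, z * (x * y * x⁻¹ * y⁻¹) = x * y * x⁻¹ * y⁻¹ * z}
  one_mem' := ⟨one_mem _, one_pow r, fun y _ z _ => by group⟩
  mul_mem' := by
    rintro x y ⟨hx, hxr, hxc⟩ ⟨hy, hyr, hyc⟩
    have hc : ∀ w ∈ E.R r, ∀ z ∈ E.R r,
        z * (x * y * w * (x * y)⁻¹ * w⁻¹) = x * y * w * (x * y)⁻¹ * w⁻¹ * z := by
      intro w hw z hz
      have e : x * y * w * (x * y)⁻¹ * w⁻¹ =
          y * w * y⁻¹ * w⁻¹ * (x * w * x⁻¹ * w⁻¹) := by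
        calc x * y * w * (x * y)⁻¹ * w⁻¹ = x * (y * w * y⁻¹ * w⁻¹) * w * x⁻¹ * w⁻¹ := by group
          _ = _ := by rw [hyc w hw x hx]; group
      rw [e]
      exact (show Commute z _ from hyc w hw z hz).mul_right (hxc w hw z hz)
    refine ⟨mul_mem hx hy, ?_, hc⟩
    set c := y⁻¹ * x⁻¹ * y * x with hcdef
    have hcc : ∀ z ∈ E.R r, c * z = z * c := by
      have h : ∀ z ∈ E.R r, z * (x * y⁻¹ * x⁻¹ * y⁻¹⁻¹) = x * y⁻¹ * x⁻¹ * y⁻¹⁻¹ * z :=
        hxc y⁻¹ (inv_mem hy)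
      have e2 : c = x * y⁻¹ * x⁻¹ * y⁻¹⁻¹ := by
        calc c = x⁻¹ * ((x * y⁻¹ * x⁻¹ * y⁻¹⁻¹) * x) := by rw [hcdef]; group
          _ = x⁻¹ * (x * (x * y⁻¹ * x⁻¹ * y⁻¹⁻¹)) := by rw [← h x hx]
          _ = _ := by group
      intro z hz
      rw [e2]
      exact (h z hz).symm
    have hyx : y * x = x * y * c := by rw [hcdef]; group
    obtain ⟨e1, e2⟩ := CfsgLib.OddOrder41.pow_mul_eq_of_central_step hyx (hcc x hx) (hcc y hy) r
    rw [hyr, one_mul, mul_one, left_eq_mul] at e1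
    obtain ⟨k, hk⟩ := O.prime.dvd_choose_self two_ne_zero (lt_of_le_of_ne O.prime.two_le O.ne_two.symm)
    rw [hxr, hyr, hk, pow_mul, e1, one_pow, mul_one, mul_one] at e2
    exact e2
  inv_mem' := by
    rintro x ⟨hx, hxr, hxc⟩
    refine ⟨inv_mem hx, by rw [inv_pow, hxr, inv_one], fun y hy z hz => ?_⟩
    have h1 := hxc y hy x hx
    have e : x⁻¹ * y * x⁻¹⁻¹ * y⁻¹ = (x * y * x⁻¹ * y⁻¹)⁻¹ := by
      calc x⁻¹ * y * x⁻¹⁻¹ * y⁻¹
          = x⁻¹ * ((x * y * x⁻¹ * y⁻¹)⁻¹ * x) := by group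
        _ = x⁻¹ * (x * (x * y * x⁻¹ * y⁻¹)⁻¹) := by
            rw [(show Commute x (x * y * x⁻¹ * y⁻¹) from h1).inv_right.eq]
        _ = _ := by group
    rw [e]
    exact ((show Commute z _ from hxc y hy z hz).inv_right).eq

theorem A0_le_R : O.A0 ≤ E.R r := fun _ hx => hx.1

theorem A0_pow {x : G} (hx : x ∈ O.A0) : x ^ r = 1 := hx.2.1

theorem mem_A0_iff_of {v : G} (O' : Out E v r) {x : G} : x ∈ O.A0 ↔ x ∈ O'.A0 := Iff.rfl

theorem A0_conj {h x : G} (hh : h ∈ E.H) (hx : x ∈ O.A0) : h * x * h⁻¹ ∈ O.A0 := by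
  refine ⟨conj_mem_R E hh hx.1, by rw [conj_pow, hx.2.1, mul_one, mul_inv_cancel], fun y hy z hz => ?_⟩
  have h1 := hx.2.2 _ (conj_mem_R E (inv_mem hh) hy) _ (conj_mem_R E (inv_mem hh) hz)
  have e : h * x * h⁻¹ * y * (h * x * h⁻¹)⁻¹ * y⁻¹ =
      h * (x * (h⁻¹ * y * h⁻¹⁻¹) * x⁻¹ * (h⁻¹ * y * h⁻¹⁻¹)⁻¹) * h⁻¹ := by group
  rw [e]
  set w := x * (h⁻¹ * y * h⁻¹⁻¹) * x⁻¹ * (h⁻¹ * y * h⁻¹⁻¹)⁻¹
  calc z * (h * w * h⁻¹) = h * (h⁻¹ * z * h⁻¹⁻¹ * w) * h⁻¹ := by group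
    _ = h * w * h⁻¹ * z := by rw [h1]; group

include hτ

theorem tau_mem_A0 : τ ∈ O.A0 := ⟨hτ.1, by rw [← hτ.2.1]; exact pow_orderOf_eq_one _, fun y hy z hz => by
  have : τ * y * τ⁻¹ * y⁻¹ = 1 := by rw [← hτ.2.2 y hy, mul_inv_cancel_right, mul_inv_cancel]
  rw [this, mul_one, one_mul]⟩

theorem comm_A0 {x y : G} (hx : x ∈ O.A0) (hy : y ∈ E.R r) :
    x * y * x⁻¹ * y⁻¹ ∈ zpowers τ := by
  set c := x * y * x⁻¹ * y⁻¹ with hc
  have hcR : c ∈ E.R r := mul_mem (mul_mem (mul_mem hx.1 hy) (inv_mem hx.1)) (inv_mem hy)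
  refine O.mem_tau_of_central hτ hcR (hx.2.2 y hy) ?_
  have hpow : ∀ n : ℕ, x ^ n * y * (x ^ n)⁻¹ = c ^ n * y := by
    intro n
    induction n with
    | zero => simp
    | succ n ih =>
      have h2 : Commute x (c ^ n) := (show Commute x c from hx.2.2 y hy x hx.1).pow_right n
      calc x ^ (n + 1) * y * (x ^ (n + 1))⁻¹ = x * (x ^ n * y * (x ^ n)⁻¹) * x⁻¹ := by
            rw [pow_succ']; group
        _ = c ^ n * (x * y * x⁻¹) := by rw [ih, ← mul_assoc x, h2.eq]; group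
        _ = c ^ (n + 1) * y := by rw [pow_succ, hc]; group
  have := hpow r
  rw [hx.2.1, inv_one, mul_one, one_mul, right_eq_mul] at this
  exact this

theorem A0_inf_K {x : G} (hx : x ∈ O.A0) (hxK : x ∈ O.C.K) :
    ∃ c ∈ zpowers O.C.e, ∃ y ∈ zpowers τ, x = c * y := by
  obtain ⟨c, hc, y, hy, hyb, e⟩ := O.decompose ⟨hx.1, hxK⟩
  have hcy : Commute c y := O.fix_commute_inverted hc hy hyb
  have h1 : c ^ r * y ^ r = 1 := by rw [← hcy.mul_pow, ← e]; exact hx.2.1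
  have hcr : c ^ r = 1 := by
    refine O.eq_one_of_fix_inv (pow_mem hc.1 r) ((show Commute c b from (O.fix_props hc).2.1).pow_left r).eq ?_
    rw [mul_eq_one_iff_eq_inv.1 h1]
    have h := conj_pow (i := r) (a := b) (b := y)
    rw [O.refl.inv] at h
    calc b * (y ^ r)⁻¹ * b = (b * y ^ r * b)⁻¹ := by
          rw [mul_inv_rev, mul_inv_rev, O.refl.inv, mul_assoc]
      _ = (y ^ r)⁻¹⁻¹ := by rw [← h, hyb, inv_pow]
  rw [hcr, one_mul] at h1
  exact ⟨c, O.mem_zpowers_fix hc hcr, y, O.mem_tau_of_inverted hτ hy hyb h1, e⟩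

theorem A0_core {x : G} (hx : x ∈ O.A0) (hxc : x ∈ coreIn O.C.K) : x ∈ zpowers O.C.e :=
  O.mem_zpowers_fix (O.mem_fix_of_core hx.1 hxc) hx.2.1

/-- `A₀` is larger than `⟨τ⟩`. -/
theorem exists_A0_not_tau : ∃ x ∈ O.A0, x ∉ zpowers τ := by
  haveI := Fact.mk O.prime
  haveI : Group.IsNilpotent (E.R r) := (R_isPGroup E O.prime).isNilpotent
  set Z := (zpowers τ).subgroupOf (E.R r) with hZ
  haveI : Z.Normal := ⟨fun q hq x => mem_subgroupOf.2
    (O.tau_conj hτ (R_le_H E r x.2) (mem_subgroupOf.1 hq))⟩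
  have hrpow : ∀ q : E.R r, (q : G) ∈ zpowers τ → q ^ r = 1 := fun q hq => by
    obtain ⟨i, hi⟩ := mem_zpowers_iff.1 hq
    refine Subtype.ext ?_
    rw [Subgroup.coe_pow, ← hi, ← zpow_natCast, ← zpow_mul, mul_comm, zpow_mul, zpow_natCast, ← hτ.2.1,
      pow_orderOf_eq_one, one_zpow, Subgroup.coe_one]
  have heZ : O.C.e ∉ zpowers τ := fun h => O.e_ne (O.eq_one_of_fix_inv O.e_mem.1
    (O.fix_props O.e_mem).2.1 (by
      obtain ⟨i, hi⟩ := mem_zpowers_iff.1 h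
      have h2 := conj_zpow (i := i) (a := b) (b := τ)
      rw [O.refl.inv, O.tau_inverted hτ, inv_zpow, hi] at h2
      exact h2.symm))
  have hel : Cfsg.IsElementaryAbelian r Z := by
    refine ⟨⟨⟨fun x y => Subtype.ext (Subtype.ext ?_)⟩⟩, fun x hx => hrpow _ (mem_subgroupOf.1 hx)⟩
    exact ((hτ.2.2 (x : E.R r) (x : E.R r).2) |> fun h => by
      obtain ⟨i, hi⟩ := mem_zpowers_iff.1 (mem_subgroupOf.1 y.2)
      show (x : E.R r).1 * (y : E.R r).1 = (y : E.R r).1 * (x : E.R r).1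
      rw [← hi]
      exact ((show Commute ((x : E.R r) : G) τ from h).zpow_right i).eq)
  obtain ⟨F, hF, hFe, hlt⟩ := CfsgLib.OddOrder41.exists_normal_elementary_gt O.ne_two
    (R_isPGroup E O.prime) Z hel ⟨O.C.e, O.e_mem.1⟩
    (mem_centralizer_iff.2 fun q hq => Subtype.ext (by
      obtain ⟨i, hi⟩ := mem_zpowers_iff.1 (mem_subgroupOf.1 hq)
      show (q : G) * O.C.e = O.C.e * q
      rw [← hi]
      exact ((show Commute O.C.e τ from hτ.2.2 _ O.e_mem.1).zpow_right i).symm.eq))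
    (Subtype.ext (orderOf_dvd_iff_pow_eq_one.1 (dvd_of_eq O.C.orderOf_e)))
    (fun h => heZ (mem_subgroupOf.1 h))
  obtain ⟨y, hy, hyZ, hyc⟩ := CfsgLib.OddOrder41.exists_central_step F Z hlt.not_ge
  refine ⟨(y : G), ⟨y.2, ?_, fun w hw z hz => ?_⟩, fun h => hyZ (mem_subgroupOf.2 h)⟩
  · exact congrArg Subtype.val (hFe.2 y hy)
  · have h := mem_subgroupOf.1 (hyc ⟨w, hw⟩)
    rw [commutatorElement_def] at h
    obtain ⟨i, hi⟩ := mem_zpowers_iff.1 h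
    simp only [Subgroup.coe_mul, InvMemClass.coe_inv] at hi
    rw [← hi]
    exact ((show Commute z τ from hτ.2.2 z hz).zpow_right i).eq

/-- If `e ∉ A₀`, then `b` inverts `A₀`, which meets `K` in `⟨τ⟩`. -/
theorem A0_cases_of_not_mem (he : O.C.e ∉ O.A0) {x : G} (hx : x ∈ O.A0) :
    (x ∈ O.C.K → x ∈ zpowers τ) ∧ b * x * b = x⁻¹ := by
  have hfix : ∀ c ∈ O.A0, c ∈ O.fixR → c = 1 := fun c hc hcf => by
    by_contra hc1
    obtain ⟨i, hi⟩ := mem_zpowers_iff.1 (O.mem_zpowers_fix hcf hc.2.1)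
    haveI := Fact.mk O.prime
    have hgen : zpowers c = zpowers O.C.e := eq_of_le_of_card_ge
      (zpowers_le.2 (O.mem_zpowers_fix hcf hc.2.1))
      (by rw [Nat.card_zpowers, Nat.card_zpowers, O.C.orderOf_e, orderOf_eq_prime hc.2.1 hc1])
    exact he (zpowers_le.2 hc (hgen ▸ mem_zpowers _))
  refine ⟨fun hxK => ?_, ?_⟩
  · obtain ⟨c, hc, y, hy, rfl⟩ := O.A0_inf_K hτ hx hxK
    have hyA : y ∈ O.A0 := zpowers_le.2 (O.tau_mem_A0 hτ) hy
    have hcA : c ∈ O.A0 := by simpa using mul_mem hx (inv_mem hyA)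
    rw [hfix c hcA (zpowers_le.2 O.e_mem hc), one_mul]
    exact hy
  · obtain ⟨c, y, hc, hcb, -, hyb, rfl⟩ := CfsgLib.RankOneInvol.exists_fixed_mul_inverted
      ((odd_card_R E O.prime O.ne_two).of_dvd_nat (card_dvd_of_le O.A0_le_R)) O.refl.sq
      (fun z hz => by
        have := O.A0_conj O.refl.mem_H hz
        rwa [O.refl.inv] at this) hx
    rw [hfix c hc (O.mem_fixR hc.1 (by
      calc c * b = b * c * b * b := by rw [hcb]
        _ = b * c := by rw [mul_assoc, O.refl.sq, mul_one])), one_mul]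
    exact hyb

end CfsgLib.GW.Max31.Out
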