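import Cfsg.Agent.Lib.GW.Max31
import Cfsg.Agent.Lib.GW.Max31Field

/-!
Gorenstein–Walter, Step 3.1 e, first part: if `O_r(C(t))` is not contained in the maximal subgroup
`K` of a `Central` datum, then `K` contains the normalisers of the subgroups of
`O_r(C(t)) ∩ C(b)`, and `O_r(C(t)) ∩ K` is abelian of rank two.
-/

set_option autoImplicit false
set_option linter.style.haveILetI false
set_option linter.unusedSectionVars false

namespace CfsgLib.GW.Max31

open Subgroup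
open scoped commutatorElement

universe u

variable {G : Type u} [Group G] [Finite G]

/-- The situation of Step 3.1 e. -/
structure Out (E : Setup G) (b : G) (r : ℕ) where
  coatom : IsCoatom E.H
  U_ne : E.U ≠ ⊥
  refl : E.Refl b
  prime : r.Prime
  ne_two : r ≠ 2
  not_le_X : ¬ E.R r ≤ E.X b
  C : Central E b r
  not_le : ¬ E.R r ≤ C.K

namespace Out

variable {E : Setup G} {b : G} {r : ℕ} (O : Out E b r)

/-- `O_r(C(t)) ∩ C(b)`. -/
def fixR (_O : Out E b r) : Subgroup G := E.R r ⊓ E.X b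

theorem fixR_le_R : O.fixR ≤ E.R r := inf_le_left

theorem fix_props {x : G} (hx : x ∈ O.fixR) :
    x * E.t = E.t * x ∧ x * b = b * x ∧ Odd (orderOf x) := O.refl.mem_X.1 hx.2

theorem mem_fixR {x : G} (hx : x ∈ E.R r) (hxb : x * b = b * x) : x ∈ O.fixR :=
  ⟨hx, O.refl.mem_X.2 ⟨E.mem_H.1 (R_le_H E r hx), hxb, odd_of_mem_R E O.prime O.ne_two hx⟩⟩

theorem e_mem : O.C.e ∈ O.fixR := O.C.e_mem

theorem e_ne : O.C.e ≠ 1 := fun h => O.prime.ne_one (by rw [← O.C.orderOf_e, h, orderOf_one])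

theorem t_mem_K : E.t ∈ O.C.K := O.C.P_le O.C.t_mem

theorem b_mem_K : b ∈ O.C.K := O.C.P_le O.C.b_mem

theorem K_ne_top : O.C.K ≠ ⊤ := O.C.isCoatom.1

theorem kData : KData E b O.C.K :=
  Max31.kData O.coatom O.U_ne O.refl O.C.isCoatom O.t_mem_K O.b_mem_K
    (leadsTo_of_le E O.prime (Q := zpowers O.C.e)
      (fun h => O.e_ne (zpowers_eq_bot.1 h)) (zpowers_le.2 O.e_mem.1) O.C.normalizer_le)
    (Or.inr ⟨O.C.P, O.C.P_le, O.C.perfect, O.C.t_mem⟩)

theorem perf_K : perf O.C.K = O.C.P :=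
  le_antisymm (O.C.le_P _ (perf_le _) (perfect_perf _)) (le_perf O.C.P_le O.C.perfect)

theorem topData : TopData O.C.K :=
  topData_of_perfect E O.K_ne_top O.C.P_le O.C.perfect O.C.t_mem E.orderOf_t

theorem centralizer_e_le : centralizer ({O.C.e} : Set G) ≤ O.C.K := fun x hx =>
  O.C.normalizer_le (centralizer_le_normalizer _ (mem_centralizer_iff.2 fun _ ⟨i, hi⟩ => by
    rw [← hi]
    exact ((show Commute x O.C.e from mem_centralizer_singleton_iff.1 hx).zpow_right i).symm.eq))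

theorem perf_normalizer_eq {M : Subgroup G} (hM : IsCoatom M) (hP : perf M = O.C.P) : M = O.C.K := by
  have hPne : O.C.P ≠ ⊥ := fun h => E.t_ne_one (mem_bot.1 (h ▸ O.C.t_mem))
  have hNP : normalizer (O.C.P : Set G) ≠ ⊤ :=
    normalizer_ne_top E hPne fun h => O.K_ne_top (top_le_iff.1 (h ▸ O.C.P_le))
  have h1 : M ≤ normalizer (O.C.P : Set G) := fun k hk =>
    mem_normalizer_of_conj_le fun x hx => hP ▸ conj_perf_of_mem hk (hP.symm ▸ hx)
  have h2 : O.C.K ≤ normalizer (O.C.P : Set G) := fun k hk =>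
    mem_normalizer_of_conj_le fun x hx => by
      have := conj_perf_of_mem hk (O.perf_K.symm ▸ hx : x ∈ perf O.C.K)
      rwa [O.perf_K] at this
  rw [← (hM.le_iff.1 h1).resolve_left hNP,
    (O.C.isCoatom.le_iff.1 h2).resolve_left hNP]

/-- No non-trivial element of `R ∩ C(b)` is central in `R`. -/
theorem eq_one_of_central {z : G} (hz : z ∈ O.fixR) (hc : ∀ x ∈ E.R r, x * z = z * x) : z = 1 := by
  classical
  by_contra hz1
  have hr := O.prime
  haveI := Fact.mk hr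
  have hb := O.refl
  obtain ⟨j, hj⟩ := exists_order hr ((R_isPGroup E hr).to_le inf_le_left : IsPGroup r O.fixR) hz hz1
  let Q : Subgroup G :=
    { carrier := {x | (x ∈ O.fixR ∧ ∀ y ∈ E.R r, y * x = x * y) ∧ x ^ r = 1}
      one_mem' := ⟨⟨one_mem _, fun y _ => by rw [mul_one, one_mul]⟩, one_pow r⟩
      mul_mem' := fun {x y} hx hy => ⟨⟨mul_mem hx.1.1 hy.1.1, fun w hw =>
          ((show Commute w x from hx.1.2 w hw).mul_right (hy.1.2 w hw)).eq⟩, by
        rw [(show Commute x y from hy.1.2 x hx.1.1.1).mul_pow, hx.2, hy.2, one_mul]⟩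
      inv_mem' := fun {x} hx => ⟨⟨O.fixR.inv_mem hx.1.1, fun w hw =>
          (show Commute w x from hx.1.2 w hw).inv_right.eq⟩, by rw [inv_pow, hx.2, inv_one]⟩ }
  have hQf : Q ≤ O.fixR := fun x hx => hx.1.1
  have hQR : Q ≤ E.R r := hQf.trans inf_le_left
  have hzQ : z ^ j ∈ Q := ⟨⟨pow_mem hz j, fun y hy => ((show Commute y z from hc y hy).pow_right j).eq⟩,
    by rw [← hj]; exact pow_orderOf_eq_one _⟩
  have hQne : Q ≠ ⊥ := fun h => hr.ne_one (by
    rw [h, mem_bot] at hzQ; rw [hzQ, orderOf_one] at hj; exact hj.symm)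
  obtain ⟨M, hM, hNM⟩ := (eq_top_or_exists_le_coatom (normalizer (Q : Set G))).resolve_left
    (normalizer_ne_top E hQne (ne_top_of_le_R E hQR))
  have hcentM : ∀ g : G, (∀ x ∈ Q, x * g = g * x) → g ∈ M := fun g hg =>
    hNM (centralizer_le_normalizer _ (mem_centralizer_iff.2 fun x hx => hg x hx))
  have hnormM : ∀ g : G, g ∈ E.H → (∀ x ∈ O.fixR, g * x * g⁻¹ ∈ O.fixR) → g ∈ M := fun g hg hgf =>
    hNM (mem_normalizer_of_conj_le fun x hx => ⟨⟨hgf x hx.1.1, fun y hy => by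
        have := hx.1.2 _ (conj_mem_R E (inv_mem hg) hy)
        calc y * (g * x * g⁻¹) = g * (g⁻¹ * y * g⁻¹⁻¹ * x) * g⁻¹ := by group
          _ = g * x * g⁻¹ * y := by rw [this]; group⟩,
      by rw [conj_pow, hx.2, mul_one, mul_inv_cancel]⟩)
  have hRM : E.R r ≤ M := fun y hy => hcentM y fun x hx => (hx.1.2 y hy).symm
  have htM : E.t ∈ M := hcentM _ fun x hx => (O.fix_props (hQf hx)).1
  have hbM : b ∈ M := hcentM _ fun x hx => (O.fix_props (hQf hx)).2.1
  have hXM : E.X b ≤ M := fun g hg => hnormM g (E.U_le_H hg.1) fun x hx =>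
    ⟨conj_mem_R E (E.U_le_H hg.1) hx.1, (E.X b).mul_mem ((E.X b).mul_mem hg hx.2) ((E.X b).inv_mem hg)⟩
  have hσ : 1 ≤ E.d.k → E.d.t ∈ M := fun hk => hnormM _ (E.S_le_H E.d.t_mem) fun x hx => by
    obtain ⟨hs1, hs2⟩ := hb.swap hk
    refine ⟨conj_mem_R E (E.S_le_H E.d.t_mem) hx.1, ?_⟩
    obtain ⟨h1, h2, h3⟩ := O.fix_props hx
    have c1 := Setup.commute_conj (g := E.d.t) h1
    have c2 := Setup.commute_conj (g := E.d.t) h2
    rw [hs1] at c1
    rw [hs2] at c2
    rw [← hb.X_mul_t]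
    exact hb.mul_t.mem_X.2 ⟨c1, c2, CfsgLib.RankOneInvol.odd_orderOf_conj h3 _⟩
  have D0 := Max31.kData O.coatom O.U_ne hb hM htM hbM (leadsTo_of_le E hr hQne hQR hNM) (Or.inl hXM)
  -- an element inverted by `t`
  obtain ⟨g, hgt, hgb, hgbt⟩ := hb.exists_rot
  set R' := conjBy (E.R r) g with hR'
  have hR'p : IsPGroup r R' := (R_isPGroup E hr).map _
  have hgi_t : g⁻¹ * E.t * g = b * E.t := by
    calc g⁻¹ * E.t * g = g⁻¹ * (g * (b * E.t) * g⁻¹) * g := by rw [hgbt]
      _ = b * E.t := by group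
  have hgi_b : g⁻¹ * b * g = E.t := by
    calc g⁻¹ * b * g = g⁻¹ * (g * E.t * g⁻¹) * g := by rw [hgt]
      _ = E.t := by group
  have hback : ∀ {a w : G}, a * w = w * a →
      g⁻¹ * a * g * (g⁻¹ * w * g) = g⁻¹ * w * g * (g⁻¹ * a * g) := fun {a w} h => by
    have := Setup.commute_conj (g := g⁻¹) h
    rwa [inv_inv] at this
  have hnormR' : ∀ a : G, g⁻¹ * a * g ∈ E.H → ∀ x ∈ R', a * x * a⁻¹ ∈ R' := by
    intro a ha x hx
    rw [hR', mem_conjBy] at hx ⊢
    have := conj_mem_R E ha hx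
    rwa [show g⁻¹ * a * g * (g⁻¹ * x * g) * (g⁻¹ * a * g)⁻¹ = g⁻¹ * (a * x * a⁻¹) * g by group] at this
  have hR'ne : ¬ ∀ x ∈ R', x * E.t = E.t * x := by
    intro hall
    refine O.not_le_X fun w hw => ?_
    have hwt := E.mem_H.1 (R_le_H E r hw)
    have h1 := hback (hall (g * w * g⁻¹) (by rw [hR', mem_conjBy]; simpa [mul_assoc] using hw))
    rw [hgi_t, show g⁻¹ * (g * w * g⁻¹) * g = w by group] at h1
    have h2 := (show Commute w (b * E.t) from h1).mul_right (show Commute w E.t from hwt)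
    rw [mul_assoc, E.t_sq, mul_one] at h2
    exact (O.mem_fixR hw h2.eq).2
  obtain ⟨y, hyR, hy1, hyt, hyQ⟩ := exists_inverted hr O.ne_two hR'p
    ((R_isPGroup E hr).to_le hQR)
    (fun a ha => mem_normalizer_of_conj_le (hnormR' a (E.mem_H.2 (by
      have := hback (O.fix_props (hQf ha)).2.1
      rwa [hgi_b] at this))))
    E.t_sq (fun x hx => by
      have := hnormR' E.t (by rw [hgi_t]; exact mul_mem hb.mem_H (E.S_le_H E.t_mem_S)) x hx
      rwa [E.t_inv] at this)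
    (fun a ha => (O.fix_props (hQf ha)).1) hR'ne
  have hyM : y ∈ M := hcentM y hyQ
  have hyb : y * b = b * y := by
    rw [hR', mem_conjBy] at hyR
    have := Setup.commute_conj (g := g) (E.mem_H.1 (R_le_H E r hyR))
    rwa [hgt, show g * (g⁻¹ * y * g) * g⁻¹ = y by group] at this
  have hyr : ∃ j, y ^ r ^ j = 1 := by
    obtain ⟨i, hi⟩ := hR'p ⟨y, hyR⟩
    exact ⟨i, by simpa using congrArg Subtype.val hi⟩
  have hyodd : Odd (orderOf y) := by
    obtain ⟨i, hi⟩ := hyr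
    exact (hr.odd_of_ne_two O.ne_two).pow.of_dvd_nat (orderOf_dvd_of_pow_eq_one hi)
  have hycore : y ∉ coreIn M := fun hy => by
    have hc' := D0.core_commute y hy
    rw [mul_assoc, hc', ← mul_assoc, E.t_sq, one_mul] at hyt
    exact hy1 (CfsgLib.RankOneInvol.eq_one_of_sq_of_odd hyodd (mul_eq_one_iff_eq_inv.2 hyt))
  have T0 := topData_of_odd E hM.1 hyM hyodd hycore hbM hb.orderOf_eq hyb
  obtain ⟨htP0, hbP0⟩ := mem_perf_of_inverted O.coatom hb hr O.ne_two D0 T0 hQR hNM hQne hσ hyM hy1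
    hyt hyb hyr
  -- `R ∩ C(b)` lies in `O(M)`
  have hfld : ∀ x ∈ O.fixR, x ∈ coreIn M := fun x hx =>
    (core_or_seven E hb hr O.ne_two D0 T0 htP0 hbP0 hx.1 (hRM hx.1)
      (O.fix_props hx).2.1).resolve_right fun ⟨_, _, h⟩ => O.not_le_X ((le_inf le_rfl hRM).trans h)
  have hpK : perf M ≤ O.C.K := fun x hx => O.centralizer_e_le
    (mem_centralizer_singleton_iff.2 (D0.commute_of_mem hx (hfld _ O.e_mem)))
  have hpP : perf M ≤ O.C.P := O.C.le_P _ hpK (perfect_perf M)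
  have hQK : Q ≤ O.C.K := fun x hx =>
    O.centralizer_e_le (mem_centralizer_singleton_iff.2 (hx.1.2 _ O.e_mem.1).symm)
  by_cases hQc : ∀ x ∈ Q, x ∈ coreIn O.C.K
  · have hPM : O.C.P ≤ M := fun p hp => hcentM p fun x hx =>
      mem_centralizer_iff.1 (O.C.core_commute hp) x (hQc x hx)
    exact O.not_le (O.perf_normalizer_eq hM (le_antisymm hpP (le_perf hPM O.C.perfect)) ▸ hRM)
  push Not at hQc
  obtain ⟨w, hw, hwc⟩ := hQc
  obtain ⟨⟨ψ⟩, hw3, -⟩ := (core_or_seven E hb hr O.ne_two O.kData O.topData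
    (by rw [O.perf_K]; exact O.C.t_mem) (by rw [O.perf_K]; exact O.C.b_mem) (hQR hw) (hQK hw)
    (O.fix_props (hQf hw)).2.1).resolve_left hwc
  haveI := O.topData.normal
  have htop := eq_top_of_seven O.topData.dc O.topData.cent ψ
  let ψ' := (topEquiv.symm.trans (MulEquiv.subgroupCongr htop.symm)).trans ψ
  set π := bar O.C.K
  set Q0 := ((perf M).subgroupOf O.C.K).map π with hQ0
  have hQ0p : ⁅Q0, Q0⁆ = Q0 := by
    rw [hQ0, ← map_commutator]
    congr 1
    refine map_injective O.C.K.subtype_injective ?_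
    rw [map_commutator, subgroupOf_map_subtype, inf_of_le_left hpK, perfect_perf]
  have hbot := perfect_centralizer_seven ψ' hw3 hQ0p (by
    rintro _ ⟨p, hp, rfl⟩
    rw [← map_mul, ← map_mul]
    exact congrArg π (Subtype.ext (D0.commute_of_mem (mem_subgroupOf.1 hp) (hfld w (hQf hw)))))
  refine bar_ne_one_of_two (x := ⟨E.t, O.t_mem_K⟩) E.orderOf_t ?_
  rw [← mem_bot, ← hbot]
  exact ⟨⟨E.t, O.t_mem_K⟩, mem_subgroupOf.2 htP0, rfl⟩

include O in
theorem exists_center : ∃ z ∈ E.R r, z ≠ 1 ∧ ∀ x ∈ E.R r, x * z = z * x := by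
  haveI := Fact.mk O.prime
  haveI : Nontrivial (E.R r) := (nontrivial_iff_ne_bot _).2 fun h => O.not_le (h ▸ bot_le)
  haveI := (R_isPGroup E O.prime).center_nontrivial
  obtain ⟨z, hz⟩ := exists_ne (1 : center (E.R r))
  exact ⟨_, (z : E.R r).2, fun h => hz (Subtype.ext (Subtype.ext h)), fun x hx =>
    congrArg Subtype.val (mem_center_iff.1 z.2 ⟨x, hx⟩)⟩

/-- In a maximal subgroup containing `Z(R)` the elements of `R ∩ C(b)` lie in the odd core. -/
theorem core_of_fixed_in {M : Subgroup G} (D : KData E b M) (T : TopData M) (htP : E.t ∈ perf M)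
    (hbP : b ∈ perf M) (hZ : ∀ z ∈ E.R r, (∀ x ∈ E.R r, x * z = z * x) → z ∈ M) {x : G}
    (hx : x ∈ O.fixR) (hxM : x ∈ M) : x ∈ coreIn M :=
  (core_or_seven E O.refl O.prime O.ne_two D T htP hbP hx.1 hxM
    (O.fix_props hx).2.1).resolve_right fun ⟨_, _, h⟩ => by
      obtain ⟨z, hz, hz1, hzc⟩ := O.exists_center
      exact hz1 (O.eq_one_of_central ⟨hz, h ⟨hz, hZ z hz hzc⟩⟩ hzc)

theorem center_le_K {z : G} (hzc : ∀ x ∈ E.R r, x * z = z * x) : z ∈ O.C.K :=
  O.centralizer_e_le (mem_centralizer_singleton_iff.2 (hzc _ O.e_mem.1).symm)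

theorem core_of_fixed {x : G} (hx : x ∈ O.fixR) (hxK : x ∈ O.C.K) : x ∈ coreIn O.C.K :=
  O.core_of_fixed_in O.kData O.topData (by rw [O.perf_K]; exact O.C.t_mem)
    (by rw [O.perf_K]; exact O.C.b_mem) (fun _ _ h => O.center_le_K h) hx hxK

theorem P_ne_bot : O.C.P ≠ ⊥ := fun h => E.t_ne_one (mem_bot.1 (h ▸ O.C.t_mem))

/-- A maximal subgroup over the normaliser of a subgroup of `R ∩ C(b)` centralised by `P` is `K`. -/
theorem eq_K {M : Subgroup G} (hM : IsCoatom M) {Q : Subgroup G} (hQ : Q ≤ O.fixR) (hQne : Q ≠ ⊥)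
    (hN : normalizer (Q : Set G) ≤ M) (hQP : O.C.P ≤ centralizer (Q : Set G)) {c : G}
    (hc : c ∈ O.fixR) (hcM : c ∈ M) (hcK : centralizer ({c} : Set G) ≤ O.C.K) : M = O.C.K := by
  have hPM : O.C.P ≤ M := hQP.trans ((centralizer_le_normalizer _).trans hN)
  have htM : E.t ∈ M := hPM O.C.t_mem
  have hbM : b ∈ M := hPM O.C.b_mem
  have D : KData E b M := Max31.kData O.coatom O.U_ne O.refl hM htM hbM
    (leadsTo_of_le E O.prime hQne (hQ.trans inf_le_left) hN)
    (Or.inr ⟨O.C.P, hPM, O.C.perfect, O.C.t_mem⟩)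
  have hPp : O.C.P ≤ perf M := le_perf hPM O.C.perfect
  have T : TopData M := topData_of_perfect E hM.1 hPM O.C.perfect O.C.t_mem E.orderOf_t
  have hcc : c ∈ coreIn M := O.core_of_fixed_in D T (hPp O.C.t_mem) (hPp O.C.b_mem)
    (fun z _ hzc => hN (centralizer_le_normalizer _ (mem_centralizer_iff.2 fun x hx =>
      hzc x ((hQ hx).1)))) hc hcM
  have hpK : perf M ≤ O.C.K := fun x hx =>
    hcK (mem_centralizer_singleton_iff.2 (D.commute_of_mem hx hcc))
  have hP : perf M = O.C.P := le_antisymm (O.C.le_P _ hpK (perfect_perf M)) hPp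
  exact O.perf_normalizer_eq hM hP

/-- An element of `R ∩ C(b)` of order `r` central there. -/
theorem exists_central_fix :
    ∃ z ∈ O.fixR, orderOf z = r ∧ ∀ x ∈ O.fixR, x * z = z * x := by
  haveI := Fact.mk O.prime
  have hp : IsPGroup r O.fixR := (R_isPGroup E O.prime).to_le inf_le_left
  haveI : Nontrivial O.fixR := (nontrivial_iff_ne_bot _).2 fun h =>
    O.e_ne (mem_bot.1 (h ▸ O.e_mem))
  haveI := hp.center_nontrivial
  obtain ⟨z, hz⟩ := exists_ne (1 : center O.fixR)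
  obtain ⟨j, hj⟩ := exists_order O.prime hp (z : O.fixR).2
    fun h => hz (Subtype.ext (Subtype.ext h))
  exact ⟨_, pow_mem (z : O.fixR).2 j, hj, fun x hx =>
    ((show Commute x ((z : O.fixR) : G) from
      congrArg Subtype.val (mem_center_iff.1 z.2 ⟨x, hx⟩)).pow_right j).eq⟩

theorem fixR_le_K : O.fixR ≤ O.C.K := by
  obtain ⟨z, hz, hzo, hzc⟩ := O.exists_central_fix
  have hzK : z ∈ O.C.K :=
    O.centralizer_e_le (mem_centralizer_singleton_iff.2 (hzc _ O.e_mem).symm)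
  have hPz : O.C.P ≤ centralizer (zpowers z : Set G) :=
    O.C.core_commute.trans (centralizer_le (zpowers_le.2 (O.core_of_fixed hz hzK)))
  have hzne : zpowers z ≠ ⊥ := fun h => by
    rw [zpowers_eq_bot.1 h, orderOf_one] at hzo
    exact O.prime.ne_one hzo.symm
  obtain ⟨M, hM, hNM⟩ := (eq_top_or_exists_le_coatom (normalizer (zpowers z : Set G))).resolve_left
    (normalizer_ne_top E hzne (ne_top_of_le_R E (zpowers_le.2 hz.1)))
  have hcent : ∀ x ∈ O.fixR, x ∈ M := fun x hx =>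
    hNM (centralizer_le_normalizer _ (mem_centralizer_iff.2 fun _ ⟨i, hi⟩ => by
      rw [← hi]; exact ((show Commute x z from hzc x hx).zpow_right i).symm.eq))
  rw [O.eq_K hM (zpowers_le.2 hz) hzne hNM hPz O.e_mem (hcent _ O.e_mem) O.centralizer_e_le] at hcent
  exact hcent

theorem fixR_le_core : O.fixR ≤ coreIn O.C.K := fun _ hx => O.core_of_fixed hx (O.fixR_le_K hx)

theorem P_commute_fix {x c : G} (hx : x ∈ O.C.P) (hc : c ∈ O.fixR) : x * c = c * x :=
  (mem_centralizer_iff.1 (O.C.core_commute hx) c (O.fixR_le_core hc)).symm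

theorem P_le_centralizer {Q : Subgroup G} (hQ : Q ≤ O.fixR) : O.C.P ≤ centralizer (Q : Set G) :=
  fun _ hx => mem_centralizer_iff.2 fun _ hc => (O.P_commute_fix hx (hQ hc)).symm

theorem normalizer_le {Q : Subgroup G} (hQ : Q ≤ O.fixR) (hQne : Q ≠ ⊥) :
    normalizer (Q : Set G) ≤ O.C.K := by
  obtain ⟨z, hz, hzo, hzc⟩ := O.exists_central_fix
  have hCz : centralizer ({z} : Set G) ≤ O.C.K := by
    have hzne : zpowers z ≠ ⊥ := fun h => by
      rw [zpowers_eq_bot.1 h, orderOf_one] at hzo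
      exact O.prime.ne_one hzo.symm
    obtain ⟨M, hM, hNM⟩ :=
      (eq_top_or_exists_le_coatom (normalizer (zpowers z : Set G))).resolve_left
        (normalizer_ne_top E hzne (ne_top_of_le_R E (zpowers_le.2 hz.1)))
    have hle : centralizer ({z} : Set G) ≤ M := fun x hx =>
      hNM (centralizer_le_normalizer _ (mem_centralizer_iff.2 fun _ ⟨i, hi⟩ => by
        rw [← hi]
        exact ((show Commute x z from mem_centralizer_singleton_iff.1 hx).zpow_right i).symm.eq))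
    rw [← O.eq_K hM (zpowers_le.2 hz) hzne hNM (O.P_le_centralizer (zpowers_le.2 hz)) O.e_mem
      (hle (mem_centralizer_singleton_iff.2 (hzc _ O.e_mem))) O.centralizer_e_le]
    exact hle
  obtain ⟨M, hM, hNM⟩ := (eq_top_or_exists_le_coatom (normalizer (Q : Set G))).resolve_left
    (normalizer_ne_top E hQne (ne_top_of_le_R E (hQ.trans inf_le_left)))
  rw [← O.eq_K hM hQ hQne hNM (O.P_le_centralizer hQ) hz
    (hNM (centralizer_le_normalizer _ (mem_centralizer_iff.2 fun x hx => hzc x (hQ hx)))) hCz]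
  exact hNM

theorem centralizer_le {c : G} (hc : c ∈ O.fixR) (hc1 : c ≠ 1) :
    centralizer ({c} : Set G) ≤ O.C.K := fun x hx =>
  O.normalizer_le (zpowers_le.2 hc) (fun h => hc1 (zpowers_eq_bot.1 h))
    (centralizer_le_normalizer _ (mem_centralizer_iff.2 fun _ ⟨i, hi⟩ => by
      rw [← hi]; exact ((show Commute x c from mem_centralizer_singleton_iff.1 hx).zpow_right i).symm.eq))

theorem conj_mem_fixR {g x : G} (hg : g ∈ E.X b) (hx : x ∈ O.fixR) : g * x * g⁻¹ ∈ O.fixR :=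
  ⟨conj_mem_R E (E.U_le_H hg.1) hx.1,
    (E.X b).mul_mem ((E.X b).mul_mem hg hx.2) ((E.X b).inv_mem hg)⟩

theorem X_le_K : E.X b ≤ O.C.K := fun _ hg =>
  O.normalizer_le le_rfl (fun h => O.e_ne (mem_bot.1 (h ▸ O.e_mem)))
    (mem_normalizer_of_conj_le fun _ hx => O.conj_mem_fixR hg hx)

end Out

end CfsgLib.GW.Max31
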