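import Cfsg.Agent.Lib.GW.Max31OutOther
import Cfsg.Agent.Lib.GW.ThetaBlock

/-!
Gorenstein–Walter, Step 3.1 e: homomorphisms of `O(C(t))` into abelian groups which are invariant
under `S` and trivial on rotated elements are trivial; consequently `O(C(t))` centralises the
cyclic invariant subgroups of `F(C(t))`.
-/

set_option autoImplicit false
set_option linter.style.haveILetI false
set_option linter.unusedSectionVars false

namespace CfsgLib.GW.Max31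

open Subgroup

universe u

/-- The automorphisms of a cyclic group commute. -/
theorem mulAut_comm {W : Type*} [Group W] [hc : IsCyclic W] (f g : MulAut W) : f * g = g * f := by
  obtain ⟨w, hw⟩ := hc.exists_generator
  obtain ⟨a, ha⟩ := mem_zpowers_iff.1 (hw (f w))
  obtain ⟨c, hc'⟩ := mem_zpowers_iff.1 (hw (g w))
  refine MulEquiv.ext fun x => ?_
  obtain ⟨i, rfl⟩ := mem_zpowers_iff.1 (hw x)
  show f (g (w ^ i)) = g (f (w ^ i))
  rw [map_zpow, map_zpow, map_zpow, map_zpow, ← ha, ← hc', map_zpow, map_zpow, ← ha, ← hc',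
    ← zpow_mul, ← zpow_mul, ← zpow_mul, ← zpow_mul]
  congr 1
  ring

namespace Out

variable {G : Type u} [Group G] [Finite G] {E : Setup G} {b : G} {r : ℕ} (O : Out E b r)

include O

theorem conj_P {k x : G} (hk : k ∈ O.C.K) (hx : x ∈ O.C.P) : k * x * k⁻¹ ∈ O.C.P :=
  O.perf_K ▸ conj_perf_of_mem hk (O.perf_K.symm ▸ hx)

/-- A rotation of `⟨t, v⟩` in `K^∞` centralising `C_K(t, v)` modulo `O(K)`. -/
theorem exists_rot_of (hF : FalseOfLe E r) {v : G} (hv : E.Refl v) (hvP : v ∈ O.C.P) :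
    ∃ g ∈ O.C.P, g * E.t * g⁻¹ = v ∧ g * v * g⁻¹ = v * E.t ∧
      ∀ x ∈ E.X v, x ∈ O.C.K → g * x * g⁻¹ * x⁻¹ ∈ coreIn O.C.K := by
  obtain ⟨F, i1, i2, h⟩ := O.exists_psl hF
  have hvK := O.C.P_le hvP
  set π := bar O.C.K
  set t' := π ⟨E.t, O.t_mem_K⟩
  set v' := π ⟨v, hvK⟩
  have htL : t' ∈ topL O.C.K := bar_mem_topL (O.perf_K.symm ▸ O.C.t_mem)
  have hvL : v' ∈ topL O.C.K := bar_mem_topL (O.perf_K.symm ▸ hvP)
  obtain ⟨g', hg'L, hg'c, hg't, hg'v⟩ := h.exists_rot (orderOf_bar E.orderOf_t)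
    (orderOf_bar hv.orderOf_eq) (bar_ne E.orderOf_t hv.orderOf_eq hv.comm.symm hv.ne_t.symm)
    (show t' * v' = v' * t' by rw [← map_mul, ← map_mul]; exact congrArg π (Subtype.ext hv.comm.symm))
    htL hvL
  obtain ⟨g, hg, hgg⟩ := hg'L
  have hgP : (g : G) ∈ O.C.P := O.perf_K ▸ mem_subgroupOf.1 hg
  -- the lifts are exact
  have key : ∀ x y : O.C.K, (x : G) ∈ O.C.P → (y : G) ∈ O.C.P → (x : G) * x = 1 →
      (y : G) * y = 1 → g' * π x * g'⁻¹ = π y → (g : G) * x * (g : G)⁻¹ = y := by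
    intro x y hx hy hx2 hy2 e
    set c := (y : G)⁻¹ * ((g : G) * x * (g : G)⁻¹) with hc
    have hcP : c ∈ O.C.P := mul_mem (inv_mem hy) (mul_mem (mul_mem hgP hx) (inv_mem hgP))
    have hcc : c ∈ coreIn O.C.K := bar_eq_one.1 (show π (y⁻¹ * (g * x * g⁻¹)) = 1 by
      rw [map_mul, map_mul, map_mul, map_inv, map_inv, hgg, e, inv_mul_cancel])
    have he : (g : G) * x * (g : G)⁻¹ = y * c := by rw [hc, mul_inv_cancel_left]
    have hyc : Commute (y : G) c := (mem_centralizer_iff.1 (O.C.core_commute hy) c hcc).symm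
    have h2 : c * c = 1 := by
      have h3 : (g : G) * x * (g : G)⁻¹ * ((g : G) * x * (g : G)⁻¹) = 1 := by
        rw [show (g : G) * x * (g : G)⁻¹ * ((g : G) * x * (g : G)⁻¹) = g * ((x : G) * x) * (g : G)⁻¹
          by group, hx2, mul_one, mul_inv_cancel]
      rwa [he, hyc.symm.mul_mul_mul_comm, hy2, one_mul] at h3
    rw [he, CfsgLib.RankOneInvol.eq_one_of_mem_of_sq (odd_card_coreIn _) hcc h2, mul_one]
  refine ⟨g, hgP, key ⟨E.t, O.t_mem_K⟩ ⟨v, hvK⟩ O.C.t_mem hvP E.t_sq hv.sq hg't,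
    key ⟨v, hvK⟩ (⟨v, hvK⟩ * ⟨E.t, O.t_mem_K⟩) hvP (mul_mem hvP O.C.t_mem) hv.sq ?_ ?_,
    fun x hx hxK => ?_⟩
  · exact hv.mul_t.sq
  · rw [map_mul]; exact hg'v
  · obtain ⟨hxt, hxv, hxo⟩ := hv.mem_X.1 hx
    refine (bar_eq_one (x := g * ⟨x, hxK⟩ * g⁻¹ * (⟨x, hxK⟩ : O.C.K)⁻¹)).1 ?_
    rw [map_mul, map_mul, map_mul, map_inv, map_inv, hgg, hg'c _
      (by rw [← map_mul, ← map_mul]; exact congrArg π (Subtype.ext hxt))
      (by rw [← map_mul, ← map_mul]; exact congrArg π (Subtype.ext hxv))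
      (hxo.of_dvd_nat (by rw [← Subgroup.orderOf_mk x hxK]; exact orderOf_map_dvd _ _)),
      mul_inv_cancel_right, mul_inv_cancel]

/-- An `S`-invariant homomorphism of `O(C(t))` into an abelian group killing the rotated elements is
trivial. -/
theorem hom_eq_one (hF : FalseOfLe E r) {A : Type*} [CommGroup A] [Finite A] (θ : E.U →* A)
    (hS : ∀ s (hs : s ∈ (E.S : Subgroup G)) (x : E.U),
      θ ⟨s * x * s⁻¹, E.conj_mem_U (E.S_le_H hs) x.2⟩ = θ x)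
    (hkill : ∀ v (O' : Out E v r), ∀ g ∈ O'.C.P, ∀ x ∈ E.X v, ∀ z : E.U,
      (z : G) = g * x * g⁻¹ * x⁻¹ → (z : G) ∈ E.X v → (z : G) ∈ O'.C.P →
        (z : G) ∈ coreIn O'.C.K → θ z = 1) : θ = 1 := by
  by_contra hθ
  obtain ⟨u, hu⟩ : ∃ u, θ u ≠ 1 := by
    by_contra hno
    push Not at hno
    exact hθ (MonoidHom.ext hno)
  obtain ⟨ψ, hψ⟩ := CommGroup.exists_apply_ne_one_of_hasEnoughRootsOfUnity A ℂ hu
  have hcomm := ThetaBlock.isMulCommutative_U E (ψ.comp θ)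
    (fun h => hψ (DFunLike.congr_fun h u)) (fun s hs x => congrArg ψ (hS s hs x)) fun v hv => ?_
  · exact O.not_le fun x hx => O.centralizer_e_le (mem_centralizer_singleton_iff.2
      (hcomm x (R_le_U E O.prime O.ne_two hx) _ (R_le_U E O.prime O.ne_two O.e_mem.1)))
  obtain ⟨O'⟩ := O.exists_out hF hv
  obtain ⟨g, hgP, hgt, hgv, hgX⟩ := O'.exists_rot_of hF hv O'.C.b_mem
  refine ⟨g, hgt, hgv, fun x y hx hy => ?_⟩
  set z : E.U := y * x⁻¹ with hzdef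
  have hz : (z : G) = g * x * g⁻¹ * (x : G)⁻¹ := by simp [hzdef, hy]
  have hxK := O'.X_le_K hx
  have hzc : (z : G) ∈ coreIn O'.C.K := hz ▸ hgX x hx hxK
  have hzP : (z : G) ∈ O'.C.P := by
    rw [hz, show g * (x : G) * g⁻¹ * (x : G)⁻¹ = g * ((x : G) * g⁻¹ * (x : G)⁻¹) by group]
    exact mul_mem hgP (O'.conj_P hxK (inv_mem hgP))
  have hzX : (z : G) ∈ E.X v := hv.mem_X.2
    ⟨(E.mem_U.1 z.2).1, O'.core_fixed hzc, (E.mem_U.1 z.2).2⟩
  have h1 := congrArg ψ (hkill v O' g hgP x hx z hz hzX hzP hzc)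
  simp only [MonoidHom.comp_apply]
  rw [show y = z * x by rw [hzdef, inv_mul_cancel_right], map_mul, map_mul, h1, map_one, one_mul]

/-- `O(C(t))` acts trivially on a cyclic invariant section on which the rotated elements act
trivially. -/
theorem centralizes_section (hF : FalseOfLe E r) (W Q : Subgroup G)
    (hW : ∀ h ∈ E.H, ∀ x ∈ W, h * x * h⁻¹ ∈ W) (hQ : ∀ h ∈ E.H, ∀ x ∈ Q, h * x * h⁻¹ ∈ Q)
    (hn : ∀ w ∈ W, ∀ x ∈ Q, w * x * w⁻¹ ∈ Q)
    (hcyc : ∃ w ∈ W, ∀ x ∈ W, ∃ i : ℤ, x * (w ^ i)⁻¹ ∈ Q)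
    (hkill : ∀ v (O' : Out E v r), ∀ g ∈ O'.C.P, ∀ x ∈ E.X v, ∀ z : G, z = g * x * g⁻¹ * x⁻¹ →
      z ∈ E.X v → z ∈ O'.C.P → z ∈ coreIn O'.C.K → ∀ y ∈ W, z * y * z⁻¹ * y⁻¹ ∈ Q) :
    ∀ u ∈ E.U, ∀ y ∈ W, u * y * u⁻¹ * y⁻¹ ∈ Q := by
  haveI hN : (Q.subgroupOf W).Normal :=
    ⟨fun x hx w => mem_subgroupOf.2 (hn w w.2 x (mem_subgroupOf.1 hx))⟩
  haveI : IsCyclic (W ⧸ Q.subgroupOf W) := by
    obtain ⟨w, hw, hgen⟩ := hcyc
    refine ⟨⟨QuotientGroup.mk ⟨w, hw⟩, fun q => ?_⟩⟩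
    obtain ⟨x, rfl⟩ := QuotientGroup.mk_surjective q
    obtain ⟨i, hi⟩ := hgen x x.2
    refine ⟨i, ?_⟩
    show (QuotientGroup.mk ⟨w, hw⟩ : W ⧸ Q.subgroupOf W) ^ i = _
    rw [← QuotientGroup.mk_zpow]
    refine QuotientGroup.eq.2 (mem_subgroupOf.2 ?_)
    have := hn (w ^ i)⁻¹ (inv_mem (zpow_mem hw i)) _ hi
    simpa [mul_assoc] using this
  let c : E.H → (W →* W) := fun h =>
    { toFun := fun x => ⟨(h : G) * x * (h : G)⁻¹, hW h h.2 x x.2⟩
      map_one' := Subtype.ext (by simp)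
      map_mul' := fun x y => Subtype.ext (by simp [mul_assoc]) }
  let f : E.H → (W ⧸ Q.subgroupOf W →* W ⧸ Q.subgroupOf W) := fun h =>
    QuotientGroup.map _ _ (c h) fun x hx => mem_subgroupOf.2 (hQ h h.2 x (mem_subgroupOf.1 hx))
  have hf : ∀ h k q, f h (f k q) = f (h * k) q := fun h k q => by
    obtain ⟨x, rfl⟩ := QuotientGroup.mk_surjective q
    exact congrArg (QuotientGroup.mk (s := Q.subgroupOf W)) (Subtype.ext (by simp [c, mul_assoc]))
  have hf1 : ∀ q, f 1 q = q := fun q => by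
    obtain ⟨x, rfl⟩ := QuotientGroup.mk_surjective q
    exact congrArg (QuotientGroup.mk (s := Q.subgroupOf W)) (Subtype.ext (by simp [c]))
  let φ : E.H →* MulAut (W ⧸ Q.subgroupOf W) :=
    { toFun := fun h =>
        { toFun := f h
          invFun := f h⁻¹
          left_inv := fun q => by rw [hf, inv_mul_cancel, hf1]
          right_inv := fun q => by rw [hf, mul_inv_cancel, hf1]
          map_mul' := map_mul (f h) }
      map_one' := MulEquiv.ext hf1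
      map_mul' := fun h k => MulEquiv.ext fun q => (hf h k q).symm }
  have hφ : ∀ (h : E.H) (y : W), φ h (y : W ⧸ Q.subgroupOf W) = ((c h y : W) : W ⧸ Q.subgroupOf W) :=
    fun h y => rfl
  letI : CommGroup (MulAut (W ⧸ Q.subgroupOf W)) :=
    { (inferInstance : Group (MulAut (W ⧸ Q.subgroupOf W))) with mul_comm := mulAut_comm }
  haveI : Finite (MulAut (W ⧸ Q.subgroupOf W)) :=
    Finite.of_injective _ (DFunLike.coe_injective (F := MulAut (W ⧸ Q.subgroupOf W)))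
  set θ := φ.comp (Subgroup.inclusion E.U_le_H) with hθdef
  have hone : θ = 1 := by
    refine O.hom_eq_one hF θ (fun s hs x => ?_) fun v O' g hg x hx z hz hzX hzP hzc => ?_
    · show φ _ = φ _
      rw [show Subgroup.inclusion E.U_le_H ⟨s * x * s⁻¹, E.conj_mem_U (E.S_le_H hs) x.2⟩ =
        ⟨s, E.S_le_H hs⟩ * Subgroup.inclusion E.U_le_H x * ⟨s, E.S_le_H hs⟩⁻¹ from Subtype.ext rfl,
        map_mul, map_mul, map_inv, mul_right_comm, mul_inv_cancel, one_mul]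
    · refine MulEquiv.ext fun q => ?_
      obtain ⟨y, rfl⟩ := QuotientGroup.mk_surjective q
      show φ _ (y : W ⧸ Q.subgroupOf W) = (y : W ⧸ Q.subgroupOf W)
      rw [hφ]
      refine QuotientGroup.eq.2 (mem_subgroupOf.2 ?_)
      have h1 := hn (y : G)⁻¹ (inv_mem y.2) _ (hkill v O' g hg x hx z hz hzX hzP hzc y y.2)
      refine inv_mem_iff.1 ?_
      simpa [c, mul_assoc] using h1
  intro u hu y hy
  have h1 : φ (Subgroup.inclusion E.U_le_H ⟨u, hu⟩) ((⟨y, hy⟩ : W) : W ⧸ Q.subgroupOf W) =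
      ((⟨y, hy⟩ : W) : W ⧸ Q.subgroupOf W) :=
    DFunLike.congr_fun (DFunLike.congr_fun hone ⟨u, hu⟩) _
  rw [hφ] at h1
  have h2 := hn y hy _ (inv_mem (mem_subgroupOf.1 (QuotientGroup.eq.1 h1)))
  simpa [c, mul_assoc] using h2

/-- `O(C(t))` centralises a cyclic invariant subgroup centralised by the rotated elements. -/
theorem centralizes_cyclic (hF : FalseOfLe E r) (W : Subgroup G) [hc : IsCyclic W]
    (hW : ∀ h ∈ E.H, ∀ x ∈ W, h * x * h⁻¹ ∈ W)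
    (hkill : ∀ v (O' : Out E v r), ∀ z : G, z ∈ E.X v → z ∈ coreIn O'.C.K →
      ∀ y ∈ W, z * y = y * z) : ∀ u ∈ E.U, ∀ y ∈ W, u * y = y * u := by
  intro u hu y hy
  obtain ⟨⟨w, hw⟩, hgen⟩ := hc.exists_generator
  refine mul_inv_eq_iff_eq_mul.1 (mul_inv_eq_one.1 (mem_bot.1
    (O.centralizes_section hF W ⊥ hW (fun h _ x hx => by rw [mem_bot.1 hx]; simp)
      (fun v _ x hx => by rw [mem_bot.1 hx]; simp) ⟨w, hw, fun x hx => ?_⟩
      (fun v O' g _ x _ z _ hzX _ hzc y hy => by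
        rw [mem_bot, hkill v O' z hzX hzc y hy, mul_inv_cancel_right, mul_inv_cancel]) u hu y hy)))
  obtain ⟨i, hi⟩ := mem_zpowers_iff.1 (hgen ⟨x, hx⟩)
  exact ⟨i, mem_bot.2 (mul_inv_eq_one.2 (congrArg Subtype.val hi).symm)⟩

/-- `O(C(t))` centralises `Z(R)`. -/
theorem centralizes_center (hF : FalseOfLe E r) :
    ∀ u ∈ E.U, ∀ x ∈ E.R r, (∀ y ∈ E.R r, y * x = x * y) → u * x = x * u := by
  intro u hu x hx hxc
  let Z : Subgroup G :=
    { carrier := {x | x ∈ E.R r ∧ ∀ y ∈ E.R r, y * x = x * y}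
      one_mem' := ⟨one_mem _, fun y _ => by rw [mul_one, one_mul]⟩
      mul_mem' := fun {a c} ha hc => ⟨mul_mem ha.1 hc.1, fun y hy =>
        ((show Commute y a from ha.2 y hy).mul_right (hc.2 y hy)).eq⟩
      inv_mem' := fun {a} ha => ⟨inv_mem ha.1, fun y hy =>
        (show Commute y a from ha.2 y hy).inv_right.eq⟩ }
  have hcyc : IsCyclic Z := O.isCyclic_of_inverted (fun a ha => R_le_U E O.prime O.ne_two ha.1)
    (fun a ha => O.center_le_K ha.2) fun a ha => O.center_inverted ha.1 ha.2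
  refine O.centralizes_cyclic hF Z (fun h hh a ha => ⟨conj_mem_R E hh ha.1, fun y hy => ?_⟩)
    (fun v O' z _ hzc a ha => O'.commute_core_inverted hzc (R_le_U E O.prime O.ne_two ha.1)
      (O'.center_le_K ha.2) (O'.center_inverted ha.1 ha.2)) u hu x ⟨hx, hxc⟩
  have h1 := ha.2 _ (conj_mem_R E (inv_mem hh) hy)
  calc y * (h * a * h⁻¹) = h * (h⁻¹ * y * h⁻¹⁻¹ * a) * h⁻¹ := by group
    _ = h * a * h⁻¹ * y := by rw [h1]; group

theorem centralizes_tau (hF : FalseOfLe E r) {τ : G} (hτ : IsTau E r τ) {u : G} (hu : u ∈ E.U) :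
    u * τ = τ * u := O.centralizes_center hF u hu τ hτ.1 hτ.2.2

/-- `O(C(t))` centralises `O_m(C(t))` for odd `m ≠ r`. -/
theorem centralizes_part (hF : FalseOfLe E r) :
    ∀ u ∈ E.U, ∀ m, m.Prime → m ≠ r → m ≠ 2 → ∀ x ∈ E.R m, u * x = x * u := by
  intro u hu m hm hmr hm2 x hx
  haveI := O.isCyclic_part hm hm2 hmr
  exact O.centralizes_cyclic hF (E.R m) (fun h hh a ha => conj_mem_R E hh ha)
    (fun v O' z _ hzc a ha => O'.commute_core_inverted hzc (R_le_U E hm hm2 ha)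
      (O'.part_le_K hm hmr ha) (O'.part_inverted hm hm2 hmr ha)) u hu x hx

end Out

end CfsgLib.GW.Max31
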