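import Cfsg.Agent.Lib.GW.Main
import Cfsg.Agent.Lib.GW.Field
import Cfsg.Agent.Lib.GW.TopFacts

/-!
Gorenstein–Walter, Step 3.2: odd subgroups of a top group centralising a four-group and normalised
by the centraliser of an inner involution of it are trivial, except in `A₇`.
-/

set_option autoImplicit false
set_option linter.all false

namespace CfsgLib.GW.Max32

open Subgroup CfsgLib.GW.Main

universe u

variable {Y : Type u} [Group Y] [Finite Y]

theorem eq_one_of_odd_sq {x : Y} (hx : Odd (orderOf x)) (h : x * x = 1) : x = 1 :=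
  CfsgLib.GW.TopFacts.eq_one_of_sq hx h

/-- A Sylow 2-subgroup containing a four-group is dihedral. -/
theorem dihedral_of_four (hDC : DC Y) {v w : Y} (hv : orderOf v = 2) (hw : orderOf w = 2)
    (hne : v ≠ w) (hvw : v * w = w * v) :
    ∀ S : Sylow 2 Y, ∃ n : ℕ, 2 ≤ n ∧ Nonempty (↥(S : Subgroup Y) ≃* DihedralGroup n) := by
  haveI : Fact (Nat.Prime 2) := ⟨Nat.prime_two⟩
  obtain ⟨hv1, hvv⟩ := CfsgLib.Involutions.orderOf_eq_two_iff_mul.1 hv
  obtain ⟨hw1, hww⟩ := CfsgLib.Involutions.orderOf_eq_two_iff_mul.1 hw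
  have hp : IsPGroup 2 (closure ({v, w} : Set Y)) := by
    refine CfsgLib.DGroup.closure_isPGroup (fun x hx y hy => ?_) (fun x hx => ?_)
    · simp only [Set.mem_insert_iff, Set.mem_singleton_iff] at hx hy
      rcases hx with rfl | rfl <;> rcases hy with rfl | rfl <;>
        first | rfl | exact hvw | exact hvw.symm
    · simp only [Set.mem_insert_iff, Set.mem_singleton_iff] at hx
      rcases hx with rfl | rfl
      exacts [hvv, hww]
  obtain ⟨T, hT⟩ := hp.exists_le_sylow
  have hTc : ¬ IsCyclic (T : Subgroup Y) := by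
    intro hc
    haveI := hc
    classical
    letI : Fintype (T : Subgroup Y) := Fintype.ofFinite _
    have h := IsCyclic.card_pow_eq_one_le (α := (T : Subgroup Y)) (n := 2) (by norm_num)
    have hle : ({1, ⟨v, hT (subset_closure (by simp))⟩, ⟨w, hT (subset_closure (by simp))⟩} :
        Finset (T : Subgroup Y)).card ≤ 2 := by
      refine le_trans (Finset.card_le_card fun x hx => ?_) h
      simp only [Finset.mem_insert, Finset.mem_singleton] at hx
      rw [Finset.mem_filter]
      refine ⟨Finset.mem_univ _, ?_⟩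
      rcases hx with rfl | rfl | rfl
      · exact one_pow 2
      · exact Subtype.ext (by simpa [pow_two] using hvv)
      · exact Subtype.ext (by simpa [pow_two] using hww)
    rw [Finset.card_insert_of_notMem, Finset.card_insert_of_notMem, Finset.card_singleton] at hle
    · omega
    · simp [Subtype.ext_iff, hne]
    · simp [Subtype.ext_iff, hv1.symm, hw1.symm]
  intro S
  obtain ⟨m, hm, ⟨e⟩⟩ := (hDC _ T.2).resolve_left hTc
  exact ⟨m, hm, ⟨(Sylow.equiv S T).trans e⟩⟩

/-- One involution of a four-group lies in the simple normal subgroup. -/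
theorem exists_inner (hDC : DC Y) {L : Subgroup Y} (hLn : L.Normal) (hL : IsPSLOrA7 L) {v w : Y}
    (hv : orderOf v = 2) (hw : orderOf w = 2) (hne : v ≠ w) (hvw : v * w = w * v) :
    v ∈ L ∨ w ∈ L ∨ v * w ∈ L := by
  haveI : Fact (Nat.Prime 2) := ⟨Nat.prime_two⟩
  haveI := hLn
  obtain ⟨hv1, hvv⟩ := CfsgLib.Involutions.orderOf_eq_two_iff_mul.1 hv
  obtain ⟨hw1, hww⟩ := CfsgLib.Involutions.orderOf_eq_two_iff_mul.1 hw
  have hp : IsPGroup 2 (closure ({v, w} : Set Y)) := by
    refine CfsgLib.DGroup.closure_isPGroup (fun x hx y hy => ?_) (fun x hx => ?_)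
    · simp only [Set.mem_insert_iff, Set.mem_singleton_iff] at hx hy
      rcases hx with rfl | rfl <;> rcases hy with rfl | rfl <;>
        first | rfl | exact hvw | exact hvw.symm
    · simp only [Set.mem_insert_iff, Set.mem_singleton_iff] at hx
      rcases hx with rfl | rfl
      exacts [hvv, hww]
  obtain ⟨T, hT⟩ := hp.exists_le_sylow
  obtain ⟨n, hn, ⟨e⟩⟩ := dihedral_of_four hDC hv hw hne hvw T
  haveI : NeZero n := ⟨by omega⟩
  obtain ⟨hs, hperf⟩ := isSimple_and_perfect hL
  haveI := hs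
  haveI := hperf
  obtain ⟨R₁⟩ : Nonempty (Sylow 2 L) := inferInstance
  obtain ⟨T₁, hT₁⟩ := (R₁.2.map L.subtype).exists_le_sylow
  obtain ⟨a, ha⟩ := MulAction.exists_smul_eq Y T₁ T
  have hnc : ¬ IsCyclic (L.subgroupOf (T : Subgroup Y)) := by
    intro hc
    haveI := hc
    let f : (R₁ : Subgroup L) →* L.subgroupOf (T : Subgroup Y) :=
      { toFun := fun x => ⟨⟨a * (x : L) * a⁻¹, by rw [← ha]; exact ⟨(x : L), hT₁ ⟨(x : L), x.2, rfl⟩, rfl⟩⟩,
          mem_subgroupOf.2 (hLn.conj_mem _ (x : L).2 a)⟩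
        map_one' := by ext; simp
        map_mul' := fun x y => by ext; simp [mul_assoc] }
    have hf : Function.Injective f := fun x y h => by
      have h' := congrArg (fun z : L.subgroupOf (T : Subgroup Y) => ((z : (T : Subgroup Y)) : Y)) h
      exact Subtype.ext (Subtype.ext (by simpa [f] using h'))
    exact not_isCyclic_sylow R₁ (isCyclic_of_injective f hf)
  let R := (L.subgroupOf (T : Subgroup Y)).map e.toMonoidHom
  haveI : R.Normal := (normal_subgroupOf (N := L) (H := (T : Subgroup Y))).map _ e.surjective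
  have hRc : ¬ IsCyclic R := fun h => hnc
    (cyclic_of_equiv ((L.subgroupOf (T : Subgroup Y)).equivMapOfInjective e.toMonoidHom e.injective).symm h)
  have h2 : (L.subgroupOf (T : Subgroup Y)).index ≤ 2 := by
    rw [← index_map_equiv (L.subgroupOf (T : Subgroup Y)) e]
    exact index_le_two (T.2.of_equiv e) hn R hRc
  have hpos : (L.subgroupOf (T : Subgroup Y)).index ≠ 0 := index_ne_zero_of_finite
  have hvT : v ∈ (T : Subgroup Y) := hT (subset_closure (by simp))
  have hwT : w ∈ (T : Subgroup Y) := hT (subset_closure (by simp))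
  rcases (show (L.subgroupOf (T : Subgroup Y)).index = 1 ∨ (L.subgroupOf (T : Subgroup Y)).index = 2 by omega)
    with h | h
  · left
    exact subgroupOf_eq_top.1 (index_eq_one.1 h) hvT
  · by_cases hvL : v ∈ L
    · exact Or.inl hvL
    · by_cases hwL : w ∈ L
      · exact Or.inr (Or.inl hwL)
      · right; right
        exact mem_subgroupOf.1 ((Subgroup.mul_mem_iff_of_index_two h (a := ⟨v, hvT⟩) (b := ⟨w, hwT⟩)).2
          (by simp only [mem_subgroupOf]; exact iff_of_false hvL hwL))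

/-- An inner involution commutes with another inner involution. -/
theorem exists_inner_partner (hDC : DC Y) {L : Subgroup Y} (hL : IsPSLOrA7 L) {v : Y}
    (hv : orderOf v = 2) (hvL : v ∈ L) :
    ∃ b : Y, b ∈ L ∧ orderOf b = 2 ∧ v ≠ b ∧ v * b = b * v := by
  haveI : Fact (Nat.Prime 2) := ⟨Nat.prime_two⟩
  obtain ⟨hs, hperf⟩ := isSimple_and_perfect hL
  haveI := hs
  haveI := hperf
  obtain ⟨R, hR⟩ := (CfsgLib.Involutions.isPGroup_two_zpowers (x := (⟨v, hvL⟩ : L))
    (by rw [Subgroup.orderOf_mk, hv])).exists_le_sylow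
  obtain ⟨m, hm, ⟨e⟩⟩ := ((hDC.subgroup L) _ R.2).resolve_left (not_isCyclic_sylow R)
  haveI : NeZero m := ⟨by omega⟩
  set x : (R : Subgroup L) := ⟨⟨v, hvL⟩, hR (mem_zpowers _)⟩ with hx
  have hxo : orderOf x = 2 := by rw [hx, Subgroup.orderOf_mk, Subgroup.orderOf_mk, hv]
  obtain ⟨l, hl⟩ : ∃ l, m = l + l := by
    obtain ⟨k, hk⟩ := (R.2.of_equiv e).exists_card_eq
    rw [DihedralGroup.nat_card] at hk
    rcases Nat.lt_or_ge k 2 with h | h
    · interval_cases k <;> omega
    · exact ⟨2 ^ (k - 2), by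
        have : 2 ^ k = 4 * 2 ^ (k - 2) := by
          rw [show (4 : ℕ) = 2 ^ 2 from rfl, ← pow_add]; congr 1; omega
        omega⟩
  set z : DihedralGroup m := DihedralGroup.r (l : ZMod m) with hz
  have hzz : z * z = 1 := by
    rw [hz, DihedralGroup.r_mul_r, ← Nat.cast_add, ← hl, ZMod.natCast_self, DihedralGroup.one_def]
  have hl0 : (l : ZMod m) ≠ 0 := by
    rw [Ne, ZMod.natCast_eq_zero_iff]
    intro h
    have := Nat.le_of_dvd (by omega) h
    omega
  have hneg : -(l : ZMod m) = (l : ZMod m) := by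
    rw [neg_eq_iff_add_eq_zero, ← Nat.cast_add, ← hl, ZMod.natCast_self]
  have hzc : ∀ y : DihedralGroup m, z * y = y * z := by
    rintro (i | i)
    · rw [hz, DihedralGroup.r_mul_r, DihedralGroup.r_mul_r, add_comm]
    · rw [hz, DihedralGroup.r_mul_sr, DihedralGroup.sr_mul_r, sub_eq_add_neg, hneg]
  obtain ⟨y, hy1, hyy, hyne, hyc⟩ : ∃ y : DihedralGroup m, y ≠ 1 ∧ y * y = 1 ∧ y ≠ e x ∧ Commute y (e x) := by
    by_cases hxz : e x = z
    · refine ⟨DihedralGroup.sr 0, fun h => ?_, DihedralGroup.sr_mul_self 0, fun h => ?_, ?_⟩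
      · rw [DihedralGroup.one_def] at h; cases h
      · rw [hxz, hz] at h; cases h
      · rw [hxz]; exact (hzc _).symm
    · exact ⟨z, fun h => hl0 (by rw [hz, DihedralGroup.one_def] at h; exact DihedralGroup.r.inj h), hzz,
        fun h => hxz h.symm, hzc _⟩
  set b' := e.symm y with hb'
  refine ⟨((b' : L) : Y), (b' : L).2, ?_, ?_, ?_⟩
  · rw [Subgroup.orderOf_coe, Subgroup.orderOf_coe, MulEquiv.orderOf_eq]
    exact CfsgLib.Involutions.orderOf_eq_two_iff_mul.2 ⟨hy1, hyy⟩
  · intro h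
    refine hyne ?_
    have : b' = x := Subtype.ext (Subtype.ext h.symm)
    rw [← this, hb', e.apply_symm_apply]
  · have h := congrArg e.symm hyc.eq
    rw [map_mul, map_mul, e.symm_apply_apply] at h
    exact (congrArg (fun q : (R : Subgroup L) => ((q : L) : Y)) h).symm

/-- In a group over `A₇` with dihedral Sylow subgroups nothing lies outside. -/
theorem equiv_alt_seven (P : Sylow 2 Y) {n : ℕ} (e : Nonempty ((P : Subgroup Y) ≃* DihedralGroup n))
    (L : Subgroup Y) (hLn : L.Normal) (hC : centralizer (L : Set Y) = ⊥)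
    (f : L ≃* alternatingGroup (Fin 7)) : Nonempty (Y ≃* alternatingGroup (Fin 7)) := by
  haveI := hLn
  let φ : Y →* MulAut (alternatingGroup (Fin 7)) :=
    (MulAut.congr f).toMonoidHom.comp MulAut.conjNormal
  have hφ : Function.Injective φ := by
    rw [injective_iff_map_eq_one]
    intro g hg
    have hg' : (MulAut.conjNormal g : MulAut L) = 1 := by
      apply (MulAut.congr f).injective
      rw [map_one]
      exact hg
    have : g ∈ centralizer (L : Set Y) := by
      rw [mem_centralizer_iff]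
      intro x hx
      have h1 := congrArg Subtype.val (DFunLike.congr_fun hg' (⟨x, hx⟩ : L))
      rw [MulAut.conjNormal_apply] at h1
      exact (mul_inv_eq_iff_eq_mul.1 h1).symm
    rwa [hC, mem_bot] at this
  have hle := Nat.card_le_card_of_injective φ hφ
  rw [CfsgLib.DimThreeMax.card_mulAut_alt_seven] at hle
  have hc := L.card_mul_index
  rw [Nat.card_congr f.toEquiv, CfsgLib.DimThreeMax.card_alt_seven] at hc
  by_cases hidx : L.index = 1
  · rw [index_eq_one] at hidx
    exact ⟨((MulEquiv.subgroupCongr hidx).trans topEquiv).symm.trans f⟩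
  · exfalso
    have hne : L.index ≠ 0 := index_ne_zero_of_finite
    have h2' : Nat.card Y = 5040 := by omega
    let ψ : Y ≃* Equiv.Perm (Fin 7) :=
      (MulEquiv.ofBijective φ ((Nat.bijective_iff_injective_and_card φ).2
        ⟨hφ, by rw [h2', CfsgLib.DimThreeMax.card_mulAut_alt_seven]⟩)).trans
      (MulEquiv.ofBijective _ (Cfsg.Agent.S2119.result 7 (by norm_num) (by norm_num))).symm
    obtain ⟨e⟩ := e
    haveI : NeZero n := ⟨fun h => by
      subst h
      haveI : Finite (DihedralGroup 0) := Finite.of_equiv _ e.toEquiv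
      haveI : Finite ℤ :=
        (Finite.of_injective DihedralGroup.r fun a b h => by injection h : Finite (ZMod 0))
      exact not_finite ℤ⟩
    exact CfsgLib.GWCons.DihedralGenerated.not_perm_seven P e ψ

theorem four_free : ∀ v x : Equiv.Perm (Fin 4),
    (v * v = 1 ∧ v ≠ 1 ∧ x * x * x = 1 ∧ x * v = v * x) → x = 1 := by
  set_option maxRecDepth 100000 in decide +kernel

theorem cube_four {x : Equiv.Perm (Fin 4)} (hx : Odd (orderOf x)) : x * x * x = 1 := by
  have h : orderOf x ∣ 24 := (orderOf_dvd_natCard x).trans (by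
    rw [Nat.card_perm, Nat.card_fin]; decide)
  rw [← pow_two, ← pow_succ, ← orderOf_dvd_iff_pow_eq_one]
  exact CfsgLib.GW.TopFacts.odd_dvd_four hx h

/-- The odd part of the centraliser of a four-group normalised by the centraliser of an inner
involution is trivial outside `A₇`. -/
theorem eq_bot_or_alt_seven (hT : Top Y) (hDC : DC Y) {B : Subgroup Y} (hB : Odd (Nat.card B))
    {v w : Y} (hv : orderOf v = 2) (hw : orderOf w = 2) (hne : v ≠ w) (hvw : v * w = w * v)
    (hBv : ∀ x ∈ B, x * v = v * x) (hBw : ∀ x ∈ B, x * w = w * x)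
    (hn : ∀ c, c * v = v * c → ∀ x ∈ B, c * x * c⁻¹ ∈ B)
    (hin : ∀ L : Subgroup Y, L.Normal → centralizer (L : Set Y) = ⊥ → IsPSLOrA7 L → v ∈ L) :
    B = ⊥ ∨ Nonempty (Y ≃* alternatingGroup (Fin 7)) := by
  obtain ⟨hv1, hvv⟩ := CfsgLib.Involutions.orderOf_eq_two_iff_mul.1 hv
  have hodd : ∀ x ∈ B, Odd (orderOf x) := fun x hx => CfsgLib.GW.TopFacts.odd_orderOf hB hx
  have small : ∀ f : Y →* Equiv.Perm (Fin 4), Function.Injective f → B = ⊥ := by
    intro f hf
    refine eq_bot_iff.2 fun x hx => mem_bot.2 (hf ((four_free (f v) (f x) ⟨?_, ?_, ?_, ?_⟩).trans (map_one f).symm))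
    · rw [← map_mul, hvv, map_one]
    · exact fun h => hv1 (hf (h.trans (map_one f).symm))
    · exact cube_four (by rw [orderOf_injective f hf]; exact hodd x hx)
    · rw [← map_mul, ← map_mul, hBv x hx]
  rcases hT with h2 | ⟨⟨a⟩⟩ | ⟨⟨a⟩⟩ | ⟨L, hLn, hC, hPA⟩
  · left
    refine eq_bot_iff.2 fun x hx => mem_bot.2 ?_
    obtain ⟨k, hk⟩ := h2 x
    exact orderOf_eq_one_iff.1 (Nat.eq_one_of_dvd_coprimes
      ((Nat.coprime_two_left.2 (hodd x hx)).pow_left k) (orderOf_dvd_of_pow_eq_one hk) dvd_rfl)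
  · exact Or.inl (small ((alternatingGroup (Fin 4)).subtype.comp a.toMonoidHom)
      fun x y h => a.injective (Subtype.ext h))
  · exact Or.inl (small a.toMonoidHom a.injective)
  rcases hPA with ⟨F, i1, i2, hFodd, h3, hiso⟩ | ⟨⟨f⟩⟩
  · left
    have hP : CfsgLib.GW.Field.Psl L F := ⟨hLn, hC, hiso, hFodd, h3, fun S => by
      obtain ⟨n, -, hn⟩ := dihedral_of_four hDC hv hw hne hvw S
      exact ⟨n, hn⟩⟩
    have hvL := hin L hLn hC (Or.inl ⟨F, i1, i2, hFodd, h3, hiso⟩)
    obtain ⟨b0, hb0L, hb0, hb0ne, hb0c⟩ :=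
      exists_inner_partner hDC (Or.inl ⟨F, i1, i2, hFodd, h3, hiso⟩ : IsPSLOrA7 L) hv hvL
    have hkill : ∀ z ∈ B, z ∈ CfsgLib.GW.Field.torus L v → z = 1 := by
      intro z hzB hzT
      have h1 := hP.inverts_torus hv hw hvw.symm (Ne.symm hne) hzT
      rw [← hBw z hzB, mul_inv_cancel_right] at h1
      refine eq_one_of_odd_sq (hodd z hzB) ?_
      nth_rewrite 1 [h1]
      exact inv_mul_cancel z
    refine eq_bot_iff.2 fun x hx => mem_bot.2 (hkill x hx ?_)
    refine hP.mem_torus_of_centralizes hv hb0 hb0ne hb0c hvL hb0L (hBv x hx) (hodd x hx)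
      fun τ hτ => ?_
    have hτv : τ * v = v * τ := ((hP.mem_torus hv).1 hτ).2.1
    have h1 : x * τ * x⁻¹ * τ⁻¹ ∈ CfsgLib.GW.Field.torus L v :=
      mul_mem (hP.conj_mem_torus hv (hBv x hx) hτ) (inv_mem hτ)
    have h2 : x * τ * x⁻¹ * τ⁻¹ ∈ B := by
      rw [show x * τ * x⁻¹ * τ⁻¹ = x * (τ * x⁻¹ * τ⁻¹) by group]
      exact mul_mem hx (hn τ hτv _ (inv_mem hx))
    have h4 := hkill _ h2 h1
    exact mul_inv_eq_iff_eq_mul.1 (mul_inv_eq_one.1 h4)
  · right
    obtain ⟨P⟩ : Nonempty (Sylow 2 Y) := inferInstance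
    obtain ⟨n, -, hn'⟩ := dihedral_of_four hDC hv hw hne hvw P
    exact equiv_alt_seven P hn' L hLn hC f

theorem key_seven_torus : ∀ σ : Equiv.Perm (Fin 7), σ * σ * σ = 1 →
    σ * (Equiv.swap 0 1 * Equiv.swap 2 3) = Equiv.swap 0 1 * Equiv.swap 2 3 * σ →
    σ = 1 ∨ σ = Equiv.swap 4 5 * Equiv.swap 5 6 ∨
      σ = Equiv.swap 4 5 * Equiv.swap 5 6 * (Equiv.swap 4 5 * Equiv.swap 5 6) := by
  set_option maxRecDepth 100000 in decide +kernel

/-- The odd elements of an involution centraliser in `A₇`. -/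
theorem alt_seven_centralizer (eY : Y ≃* alternatingGroup (Fin 7)) {v : Y} (hv : orderOf v = 2) :
    ∃ c i : Y, orderOf c = 3 ∧ orderOf i = 2 ∧ i * v = v * i ∧ i * c * i⁻¹ = c⁻¹ ∧
      ∀ x : Y, x * v = v * x → Odd (orderOf x) → x = 1 ∨ x = c ∨ x = c * c := by
  let g : Y →* Equiv.Perm (Fin 7) := (alternatingGroup (Fin 7)).subtype.comp eY.toMonoidHom
  have hg : Function.Injective g := fun x y h => eY.injective (Subtype.ext h)
  have hct : (g v).cycleType = ({2, 2} : Multiset ℕ) := by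
    have h1 := CfsgLib.Mitchell.cycleType_even_seven _ (Equiv.Perm.mem_alternatingGroup.1 (eY v).2)
    have h2 : (g v).cycleType.lcm = 2 := by
      rw [Equiv.Perm.lcm_cycleType, orderOf_injective g hg, hv]
    simp only [List.mem_cons, List.not_mem_nil, or_false] at h1
    rw [show g v = ((eY v : alternatingGroup (Fin 7)) : Equiv.Perm (Fin 7)) from rfl] at h2 ⊢
    rcases h1 with h | h | h | h | h | h | h | h <;>
      first
      | exact h
      | (rw [h] at h2; exact absurd h2 (by decide))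
  set v₀ : Equiv.Perm (Fin 7) := Equiv.swap 0 1 * Equiv.swap 2 3 with hv₀
  set c₀ : Equiv.Perm (Fin 7) := Equiv.swap 4 5 * Equiv.swap 5 6 with hc₀
  set i₀ : Equiv.Perm (Fin 7) := Equiv.swap 0 1 * Equiv.swap 4 5 with hi₀
  obtain ⟨d, hd⟩ := isConj_iff.1 (Equiv.Perm.isConj_iff_cycleType_eq.2
    (hct.trans (show ({2, 2} : Multiset ℕ) = v₀.cycleType by decide +kernel)))
  have mk : ∀ σ : Equiv.Perm (Fin 7), Equiv.Perm.sign σ = 1 → ∃ y : Y, d * g y * d⁻¹ = σ := by
    intro σ hσ
    refine ⟨eY.symm ⟨d⁻¹ * σ * d, ?_⟩, ?_⟩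
    · rw [Equiv.Perm.mem_alternatingGroup, map_mul, map_mul, map_inv, hσ]
      simp
    · show d * ((eY (eY.symm _) : alternatingGroup (Fin 7)) : Equiv.Perm (Fin 7)) * d⁻¹ = _
      rw [eY.apply_symm_apply]; group
  let h : Y →* Equiv.Perm (Fin 7) := (MulAut.conj d).toMonoidHom.comp g
  have hh : Function.Injective h := (MulAut.conj d).injective.comp hg
  have hhv : h v = v₀ := hd
  obtain ⟨c, hc⟩ := mk c₀ (by rw [hc₀]; simp)
  obtain ⟨i, hi⟩ := mk i₀ (by rw [hi₀]; simp)
  have hc' : h c = c₀ := hc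
  have hi' : h i = i₀ := hi
  refine ⟨c, i, ?_, ?_, ?_, ?_, fun x hx hxo => ?_⟩
  · rw [← orderOf_injective h hh, hc', hc₀]
    exact orderOf_eq_prime (hp := ⟨Nat.prime_three⟩) (by decide +kernel) (by decide +kernel)
  · rw [← orderOf_injective h hh, hi', hi₀]
    exact orderOf_eq_prime (hp := ⟨Nat.prime_two⟩) (by decide +kernel) (by decide +kernel)
  · apply hh
    rw [map_mul, map_mul, hhv, hi', hv₀, hi₀]
    decide +kernel
  · apply hh
    rw [map_mul, map_mul, map_inv, map_inv, hc', hi', hc₀, hi₀]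
    decide +kernel
  · have h48 : Nat.card (centralizer ({v₀} : Set (Equiv.Perm (Fin 7)))) ∣ 48 := by
      rw [Equiv.Perm.nat_card_centralizer, show v₀.cycleType = ({2, 2} : Multiset ℕ) by decide +kernel]
      decide +kernel
    have hc1 : h x * v₀ = v₀ * h x := by rw [← hhv, ← map_mul, ← map_mul, hx]
    have h3 : h x * h x * h x = 1 := by
      have h1 := ((centralizer ({v₀} : Set (Equiv.Perm (Fin 7)))).orderOf_dvd_natCard
        (mem_centralizer_singleton_iff.2 hc1)).trans h48
      rw [← pow_two, ← pow_succ, ← orderOf_dvd_iff_pow_eq_one]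
      refine Nat.Coprime.dvd_of_dvd_mul_left ((Nat.coprime_two_left.2 ?_).pow_left 4).symm
        (show _ ∣ 2 ^ 4 * 3 from h1)
      rwa [orderOf_injective h hh]
    rcases key_seven_torus (h x) h3 hc1 with e | e | e
    · exact Or.inl (hh (e.trans (map_one h).symm))
    · exact Or.inr (Or.inl (hh (e.trans hc'.symm)))
    · exact Or.inr (Or.inr (hh (by rw [map_mul, hc']; exact e)))

end CfsgLib.GW.Max32
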