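import Cfsg.Agent.Lib.GW.Max31Kill
import Cfsg.Agent.Lib.GW.Max32Top
import Cfsg.Agent.Lib.GW.Formula

/-!
Gorenstein–Walter, Step 3.1 e, case (II): too many conjugates of the maximal subgroup `K` when
`O(C(t)) ∩ K` has index `r` in `O(C(t))`.
-/

set_option autoImplicit false
set_option linter.style.haveILetI false
set_option linter.unusedSectionVars false

namespace CfsgLib.GW.Max31Out

open Subgroup CfsgLib.GW.Max31

universe u

/-- The centraliser of an involution of `A₇` has index at least `105`. -/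
theorem alt_seven_relIndex {Y : Type u} [Group Y] [Finite Y] (ψ : Y ≃* alternatingGroup (Fin 7))
    {v : Y} (hv : orderOf v = 2) :
    105 ≤ (centralizer ({v} : Set Y)).index ∧ Nat.card (centralizer ({v} : Set Y)) ≤ 24 := by
  classical
  obtain ⟨hv1, hv2⟩ := CfsgLib.Involutions.orderOf_eq_two_iff_mul.1 hv
  have hcy := cycleType_seven (ψ v) (by rw [← map_mul, hv2, map_one])
    (fun h => hv1 (ψ.injective (h.trans (map_one ψ).symm)))
  set σ : Equiv.Perm (Fin 7) := (ψ v : Equiv.Perm (Fin 7)) with hσ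
  let f : Y →* Equiv.Perm (Fin 7) := (alternatingGroup (Fin 7)).subtype.comp ψ.toMonoidHom
  have hf : Function.Injective f := (alternatingGroup (Fin 7)).subtype_injective.comp ψ.injective
  set C := centralizer ({v} : Set Y)
  have hle : C.map f ≤ centralizer ({σ} : Set (Equiv.Perm (Fin 7))) := by
    rintro _ ⟨x, hx, rfl⟩
    rw [mem_centralizer_singleton_iff]
    show f x * f v = f v * f x
    rw [← map_mul, ← map_mul, mem_centralizer_singleton_iff.1 hx]
  have h48 : Nat.card (centralizer ({σ} : Set (Equiv.Perm (Fin 7)))) = 48 := by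
    rw [Equiv.Perm.nat_card_centralizer, hcy]
    norm_num [Fintype.card_fin, Nat.factorial]
  have hne : C.map f ≠ centralizer ({σ} : Set (Equiv.Perm (Fin 7))) := by
    obtain ⟨c, hc⟩ : σ.cycleFactorsFinset.Nonempty := by
      rw [Finset.nonempty_iff_ne_empty, Ne, Equiv.Perm.cycleFactorsFinset_eq_empty_iff]
      intro e
      rw [e, Equiv.Perm.cycleType_one] at hcy
      exact absurd (congrArg Multiset.card hcy) (by simp)
    intro he
    have hcσ : c ∈ centralizer ({σ} : Set (Equiv.Perm (Fin 7))) :=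
      mem_centralizer_singleton_iff.2 (Equiv.Perm.self_mem_cycle_factors_commute hc).eq
    rw [← he] at hcσ
    obtain ⟨x, -, hx⟩ := hcσ
    have hs : Equiv.Perm.sign c = 1 := by
      rw [← hx]; exact Equiv.Perm.mem_alternatingGroup.1 (ψ x).2
    have hcyc := (Equiv.Perm.mem_cycleFactorsFinset_iff.1 hc).1
    have hmem : c.support.card ∈ σ.cycleType := by
      rw [Equiv.Perm.cycleType_def]
      exact Multiset.mem_map.2 ⟨c, hc, rfl⟩
    rw [hcy] at hmem
    rw [hcyc.sign, show c.support.card = 2 by simpa using hmem] at hs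
    norm_num at hs
  have h24 : Nat.card C ≤ 24 := by
    have hd := card_dvd_of_le hle
    rw [h48, card_map_of_injective hf] at hd
    by_contra hlt
    have : Nat.card C = 48 := by
      obtain ⟨c, hc⟩ := hd
      rcases Nat.lt_or_ge c 2 with h | h
      · interval_cases c <;> omega
      · have := Nat.mul_le_mul_left (Nat.card C) h
        omega
    exact hne (eq_of_le_of_card_ge hle (by rw [h48, card_map_of_injective hf, this]))
  refine ⟨?_, h24⟩
  have h := C.card_mul_index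
  rw [Nat.card_congr ψ.toEquiv, CfsgLib.DimThreeMax.card_alt_seven] at h
  by_contra hlt
  have := Nat.mul_le_mul h24 (show C.index ≤ 104 by omega)
  omega

theorem arith_psl {q w idx : ℕ} {e : ℤ} (he : e = 1 ∨ e = -1) (hw : 3 ≤ w)
    (hq : (4 * w : ℤ) ≤ q - e) (hidx : (q : ℤ) * (q + e) ≤ 2 * idx) : 6 * w ^ 2 ≤ idx := by
  have h1 : (4 * w : ℤ) - 1 ≤ q := by rcases he with rfl | rfl <;> omega
  have h2 : (4 * w : ℤ) - 2 ≤ q + e := by rcases he with rfl | rfl <;> omega
  have h3 : (3 : ℤ) ≤ w := by exact_mod_cast hw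
  have h4 := mul_le_mul h1 h2 (by omega) (by omega)
  have : ((6 * w ^ 2 : ℕ) : ℤ) ≤ idx := by push_cast; nlinarith
  exact_mod_cast this

theorem arith_false {r z k idx : ℕ} (hr : 3 ≤ r) (hrz : r ≤ z)
    (h : (r - 1) * idx ^ 2 ≤ 15 * 4 ^ k * r ^ 3 * z ^ 2)
    (hidx : 6 * (2 ^ k * z) ^ 2 ≤ idx ∨ (z ≤ 3 ∧ k ≤ 1 ∧ 105 ≤ idx)) : False := by
  rcases hidx with hidx | ⟨hz, hk, hidx⟩
  · set w := 2 ^ k * z with hw
    have hzw : z ≤ w := Nat.le_mul_of_pos_left z (Nat.two_pow_pos k)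
    rw [show 15 * 4 ^ k * r ^ 3 * z ^ 2 = 15 * r ^ 3 * w ^ 2 by
      rw [hw, mul_pow, ← pow_mul, mul_comm k 2, pow_mul]; ring] at h
    have h1 : (r - 1) * (6 * w ^ 2) ^ 2 ≤ 15 * r ^ 3 * w ^ 2 :=
      le_trans (Nat.mul_le_mul_left _ (Nat.pow_le_pow_left hidx 2)) h
    have h2 : (r - 1) * 36 * w ^ 2 ≤ 15 * r ^ 3 :=
      Nat.le_of_mul_le_mul_right (c := w ^ 2) (by
        rw [show (r - 1) * 36 * w ^ 2 * w ^ 2 = (r - 1) * (6 * w ^ 2) ^ 2 by ring]; exact h1)
        (pow_pos (by omega) 2)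
    have h3 : (r - 1) * 36 * r ^ 2 ≤ 15 * r ^ 3 :=
      le_trans (Nat.mul_le_mul_left _ (Nat.pow_le_pow_left (hrz.trans hzw) 2)) h2
    have h4 : (r - 1) * 36 ≤ 15 * r := Nat.le_of_mul_le_mul_right (c := r ^ 2) (by
      rw [show 15 * r * r ^ 2 = 15 * r ^ 3 by ring]; exact h3) (pow_pos (by omega) 2)
    omega
  · obtain rfl : r = 3 := by omega
    obtain rfl : z = 3 := by omega
    have h1 := Nat.pow_le_pow_left hidx 2
    have h2 := Nat.pow_le_pow_right (show 0 < 4 by norm_num) hk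
    norm_num at h h1 h2
    omega

variable {G : Type u} [Group G] [Finite G] {E : Setup G} {b : G} {K : Subgroup G}

theorem perfect_commutator (E : Setup G) : commutator G = ⊤ := by
  haveI := E.simple
  refine ((inferInstance : (commutator G).Normal).eq_bot_or_eq_top).resolve_left fun h => ?_
  refine E.H_ne_top (top_le_iff.1 fun g _ => E.mem_H.2 ?_)
  have := (commutator_eq_bot_iff_le_centralizer.1 h) (mem_top g)
  exact (mem_centralizer_iff.1 this E.t (mem_top _)).symm

/-- `|O(C(t)) ∩ K| ≤ |X_v| z` when the images of the elements inverted by `v` lie in a set of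
size `z`. -/
theorem card_inf_le {v : G} (hv : E.Refl v) (D : KData E b K) (hvP : v ∈ perf K)
    {A : Subgroup (K ⧸ Cfsg.oddCore K)}
    (hA : ∀ w : K, (w : G) ∈ E.U → v * w * v = (w : G)⁻¹ → bar K w ∈ A) :
    Nat.card ↥(E.U ⊓ K) ≤ Nat.card (E.X v) * Nat.card A := by
  classical
  have hvK := perf_le K hvP
  have hd : ∀ x : ↥(E.U ⊓ K), (x : G)⁻¹ * (v * x * v) ∈ E.U ⊓ K := fun x => by
    refine mul_mem (inv_mem x.2) ⟨?_, mul_mem (mul_mem hvK x.2.2) hvK⟩
    have := E.conj_mem_U hv.mem_H x.2.1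
    rwa [hv.inv] at this
  have hinv : ∀ x : ↥(E.U ⊓ K), v * ((x : G)⁻¹ * (v * x * v)) * v = ((x : G)⁻¹ * (v * x * v))⁻¹ := by
    intro x
    calc v * ((x : G)⁻¹ * (v * x * v)) * v = v * (x : G)⁻¹ * v * x * (v * v) := by group
      _ = v⁻¹ * (x : G)⁻¹ * v⁻¹ * x := by rw [hv.sq, mul_one, hv.inv]
      _ = _ := by group
  let d : ↥(E.U ⊓ K) → A := fun x =>
    ⟨bar K ⟨_, (hd x).2⟩, hA ⟨_, (hd x).2⟩ (hd x).1 (hinv x)⟩
  have key : ∀ x y, d x = d y → (y : G) * (x : G)⁻¹ ∈ E.X v := by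
    intro x y he
    set a := (x : G)⁻¹ * (v * x * v) with ha
    set a' := (y : G)⁻¹ * (v * y * v) with ha'
    have hc : a⁻¹ * a' ∈ coreIn K := by
      have h1 : bar K ((⟨a, (hd x).2⟩ : K)⁻¹ * ⟨a', (hd y).2⟩) = 1 := by
        rw [map_mul, map_inv]
        exact inv_mul_eq_one.2 (congrArg Subtype.val he)
      exact bar_eq_one.1 h1
    set c := a⁻¹ * a' with hc'
    have hcv : c * v = v * c := mem_centralizer_iff.1 (D.perf_core hvP) c hc
    have hca : a * c * a⁻¹ = c⁻¹ := by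
      have e1 : v * (a * c) * v = (a * c)⁻¹ := by
        rw [show a * c = a' by rw [hc']; group]; exact hinv y
      have e2 : v * (a * c) * v = a⁻¹ * c := by
        calc v * (a * c) * v = v * a * (c * v) := by group
          _ = v * a * v * c := by rw [hcv]; group
          _ = a⁻¹ * c := by rw [hinv x]
      rw [e2, mul_inv_rev] at e1
      rw [mul_inv_eq_iff_eq_mul]
      simpa [mul_inv_rev] using (congrArg Inv.inv e1).symm
    have hca' : Commute (a * a) c := by
      show a * a * c = c * (a * a)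
      rw [← mul_inv_eq_iff_eq_mul]
      calc a * a * c * (a * a)⁻¹ = a * (a * c * a⁻¹) * a⁻¹ := by group
        _ = a * c⁻¹ * a⁻¹ := by rw [hca]
        _ = (a * c * a⁻¹)⁻¹ := by group
        _ = c := by rw [hca, inv_inv]
    have hcc : Commute a c := by
      obtain ⟨j, hj⟩ := (E.mem_U.1 (hd x).1).2
      have h3 := hca'.pow_left (j + 1)
      rwa [← pow_two, ← pow_mul, show 2 * (j + 1) = 2 * j + 1 + 1 by ring, pow_succ, ← hj,
        pow_orderOf_eq_one, one_mul] at h3
    have hc1 : c = 1 := by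
      refine CfsgLib.RankOneInvol.eq_one_of_sq_of_odd
        (CfsgLib.RankOneInvol.odd_orderOf_of_mem (odd_card_coreIn K) hc) ?_
      have : c⁻¹ = c := by rw [← hca, hcc.eq, mul_inv_cancel_right]
      calc c * c = c⁻¹ * c := by rw [this]
        _ = 1 := inv_mul_cancel c
    have haa : a = a' := inv_mul_eq_one.1 hc1
    refine hv.mem_X.2 ?_
    have hU : (y : G) * (x : G)⁻¹ ∈ E.U := mul_mem y.2.1 (inv_mem x.2.1)
    refine ⟨(E.mem_U.1 hU).1, ?_, (E.mem_U.1 hU).2⟩
    rw [ha, ha'] at haa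
    have e4 : (x : G)⁻¹ * (v * x) = (y : G)⁻¹ * (v * y) :=
      mul_right_cancel (b := v) (by simpa [mul_assoc] using haa)
    calc (y : G) * (x : G)⁻¹ * v = y * ((x : G)⁻¹ * (v * x)) * (x : G)⁻¹ := by group
      _ = v * ((y : G) * (x : G)⁻¹) := by rw [e4]; group
  let rep : A → ↥(E.U ⊓ K) := fun q => if h : ∃ x, d x = q then h.choose else 1
  let Φ : ↥(E.U ⊓ K) → E.X v × A := fun x =>
    (⟨(x : G) * (rep (d x) : G)⁻¹, key _ _ (by
      have h : ∃ y, d y = d x := ⟨x, rfl⟩
      simp only [rep, dif_pos h]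
      exact h.choose_spec)⟩, d x)
  have hΦ : Function.Injective Φ := fun x y h => by
    obtain ⟨h1, h2⟩ := Prod.ext_iff.1 h
    have h3 := congrArg Subtype.val h1
    simp only [Φ] at h2 h3
    rw [h2] at h3
    exact Subtype.ext (mul_right_cancel h3)
  have := Nat.card_le_card_of_injective Φ hΦ
  rwa [Nat.card_prod] at this

/-- The index of `C(t) ∩ K` in `K` is at least that of the centraliser in the socle. -/
theorem relIndex_socle_le (ht : E.t ∈ K) :
    (centralizer ({bar K ⟨E.t, ht⟩} : Set (K ⧸ Cfsg.oddCore K))).index ≤ E.H.relIndex K := by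
  set C := centralizer ({bar K ⟨E.t, ht⟩} : Set (K ⧸ Cfsg.oddCore K))
  have hle : E.H.subgroupOf K ≤ C.comap (bar K) := fun x hx => by
    rw [mem_comap, mem_centralizer_singleton_iff, ← map_mul, ← map_mul]
    exact congrArg _ (Subtype.ext (E.mem_H.1 (mem_subgroupOf.1 hx)))
  have h := Subgroup.index_dvd_of_le hle
  rw [index_comap_of_surjective (f := bar K) C (QuotientGroup.mk'_surjective _)] at h
  exact Nat.le_of_dvd (Nat.pos_of_ne_zero index_ne_zero_of_finite) h

/-- The counting: the conjugates `k u K` with `u ∈ O(C(t))` outside `K` are distinct. -/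
theorem mul_idx_le {b : G} (D : KData E b K) (htP : E.t ∈ perf K)
    (hS : (E.S : Subgroup G) ≤ K)
    (hmeet : ∀ u ∈ E.U, u ∉ K → ∀ x ∈ perf K, u⁻¹ * x * u ∈ perf K → orderOf x = 2 → x = E.t) :
    ((E.U ⊓ K).relIndex E.U - 1) * E.H.relIndex K ^ 2 * Nat.card ↥(E.U ⊓ K) * 2 ^ (E.d.k + 2) ≤
      Nat.card G := by
  classical
  set U' := (E.U ⊓ K).subgroupOf E.U
  set K' := E.H.subgroupOf K
  have hidx : Nat.card (E.U ⧸ U') = (E.U ⊓ K).relIndex E.U := rfl
  let Φ : (K ⧸ K') × {q : E.U ⧸ U' // q ≠ ((1 : E.U) : E.U ⧸ U')} → G ⧸ K := fun p =>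
    ((((p.1.out : K) : G) * ((p.2.1.out : E.U) : G) : G) : G ⧸ K)
  have hΦ : Function.Injective Φ := by
    rintro ⟨k, q, hq⟩ ⟨k', q', hq'⟩ h
    have h1 := QuotientGroup.eq.1 h
    simp only at h1
    set u : G := ((q.out : E.U) : G) with hu
    set u' : G := ((q'.out : E.U) : G) with hu'
    have huK : u ∉ K := fun hmem => hq (by
      rw [← q.out_eq]
      refine QuotientGroup.eq.2 (mem_subgroupOf.2 ?_)
      simpa using mem_inf.2 ⟨inv_mem q.out.2, inv_mem hmem⟩)
    set g : G := ((k.out : K) : G)⁻¹ * ((k'.out : K) : G) with hg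
    have hgK : g ∈ K := mul_mem (inv_mem k.out.2) k'.out.2
    set j : G := u⁻¹ * g * u' with hj
    have hjK : j ∈ K := by
      rw [hj, hg]; simpa [mul_assoc] using h1
    have hu't : u' * E.t = E.t * u' := (E.mem_U.1 q'.out.2).1
    have e : u⁻¹ * (g * E.t * g⁻¹) * u = j * E.t * j⁻¹ := by
      rw [hj, show u⁻¹ * g * u' * E.t * (u⁻¹ * g * u')⁻¹ =
        u⁻¹ * g * (u' * E.t * u'⁻¹) * g⁻¹ * u by group, hu't, mul_inv_cancel_right]
      group
    have ht : g * E.t * g⁻¹ = E.t := hmeet u q.out.2 huK _ (conj_perf_of_mem hgK htP)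
      (e ▸ conj_perf_of_mem hjK htP)
      (by rw [CfsgLib.Involutions.orderOf_conj_eq, E.orderOf_t])
    have hk : k = k' := by
      rw [← k.out_eq, ← k'.out_eq]
      refine QuotientGroup.eq.2 (mem_subgroupOf.2 (E.mem_H.2 ?_))
      exact mul_inv_eq_iff_eq_mul.1 ht
    subst hk
    have hqq : q = q' := by
      rw [← q.out_eq, ← q'.out_eq]
      refine QuotientGroup.eq.2 (mem_subgroupOf.2 ?_)
      simpa [mul_assoc] using mem_inf.2 ⟨mul_mem (inv_mem q.out.2) q'.out.2,
        show u⁻¹ * u' ∈ K by simpa [hg, hj] using hjK⟩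
    subst hqq
    rfl
  have h1 := Nat.card_le_card_of_injective Φ hΦ
  rw [Nat.card_prod] at h1
  have h2 : Nat.card {q : E.U ⧸ U' // q ≠ ((1 : E.U) : E.U ⧸ U')} = (E.U ⊓ K).relIndex E.U - 1 := by
    rw [← hidx]
    haveI := Fintype.ofFinite (E.U ⧸ U')
    rw [Nat.card_eq_fintype_card, Nat.card_eq_fintype_card, Fintype.card_subtype_compl,
      Fintype.card_subtype_eq]
  rw [h2, show Nat.card (K ⧸ K') = E.H.relIndex K from rfl, ← index_eq_card] at h1
  have h3 : Nat.card ↥(E.U ⊓ K) * 2 ^ (E.d.k + 2) ≤ Nat.card K' := by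
    rw [← E.card_S, ← Nat.card_prod]
    refine Nat.card_le_card_of_injective (fun p => ⟨⟨p.1 * p.2, mul_mem p.1.2.2 (hS p.2.2)⟩,
      mem_subgroupOf.2 (mul_mem (E.U_le_H p.1.2.1) (E.S_le_H p.2.2))⟩) fun p p' h => ?_
    obtain ⟨e1, e2⟩ := E.mul_inj p.1.2.1 p'.1.2.1 p.2.2 p'.2.2
      (congrArg (fun x : K' => ((x : K) : G)) h)
    exact Prod.ext (Subtype.ext e1) (Subtype.ext e2)
  calc _ = (E.H.relIndex K * ((E.U ⊓ K).relIndex E.U - 1)) *
        (E.H.relIndex K * (Nat.card ↥(E.U ⊓ K) * 2 ^ (E.d.k + 2))) := by ring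
    _ ≤ K.index * (E.H.relIndex K * Nat.card K') := Nat.mul_le_mul h1 (Nat.mul_le_mul_left _ h3)
    _ = K.index * Nat.card K := by
        rw [mul_comm (E.H.relIndex K), show E.H.relIndex K = K'.index from rfl, K'.card_mul_index]
    _ = Nat.card G := by rw [mul_comm, K.card_mul_index]

/-- Case (II). -/
theorem false_count (E : Setup G) (D : KData E b K) (htP : E.t ∈ perf K)
    (hall : ∀ v, E.Refl v → v ∈ perf K) (hb : E.Refl b) {r : ℕ} (hr : r.Prime) (hr2 : r ≠ 2)
    (hw : ∃ w ∈ E.U ⊓ K, b * w * b = w⁻¹ ∧ orderOf w = r) (hrel : (E.U ⊓ K).relIndex E.U = r)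
    (hmeet : ∀ u ∈ E.U, u ∉ K → ∀ x ∈ perf K, u⁻¹ * x * u ∈ perf K → orderOf x = 2 → x = E.t) :
    False := by
  classical
  haveI := Fact.mk hr
  haveI : Fact (Nat.Prime 2) := ⟨Nat.prime_two⟩
  have T := topData_of_perfect E D.coatom.1 (perf_le K) (perfect_perf K) htP E.orderOf_t
  haveI := T.normal
  set π := bar K with hπ
  set t' := π ⟨E.t, D.t_mem⟩ with ht'
  have ht2 : orderOf t' = 2 := orderOf_bar E.orderOf_t
  have htL : t' ∈ topL K := bar_mem_topL htP
  have hS : (E.S : Subgroup G) ≤ perf K := by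
    intro s hs
    by_cases hrot : s ∈ zpowers E.d.r
    · have hra : E.Refl (s * E.d.a) := ⟨mul_mem hs E.d.a_mem, fun h =>
        E.d.a_notMem ((mul_mem_cancel_left hrot).1 h)⟩
      simpa using mul_mem (hall _ hra) (inv_mem (hall _ E.refl_a))
    · exact hall s ⟨hs, hrot⟩
  have hSK : (E.S : Subgroup G) ≤ K := hS.trans (perf_le K)
  have hinv : ∀ v, E.Refl v → ∀ w : K, (w : G) ∈ E.U → v * w * v = (w : G)⁻¹ →
      π w ∈ topL K ∧ π w * t' = t' * π w ∧ Odd (orderOf (π w)) := by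
    intro v hv w hwU hwv
    have ho : Odd (orderOf (π w)) :=
      (E.mem_U.1 hwU).2.of_dvd_nat ((orderOf_map_dvd π w).trans (dvd_of_eq (Subgroup.orderOf_coe w).symm))
    refine ⟨?_, ?_, ho⟩
    · have hvL : π ⟨v, perf_le K (hall v hv)⟩ ∈ topL K := bar_mem_topL (hall v hv)
      have h2 : π w * π w ∈ topL K := by
        have h1 := mul_mem (T.normal.conj_mem _ hvL (π w)) (inv_mem hvL)
        rw [← map_inv, ← map_mul, ← map_inv π ⟨v, _⟩, ← map_mul, ← map_mul] at h1
        convert h1 using 1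
        rw [← map_mul]
        refine congrArg π (Subtype.ext ?_)
        simp only [Subgroup.coe_mul, Subgroup.coe_inv]
        rw [← hwv, hv.inv]
        simp [mul_assoc, hv.sq]
        rw [← mul_assoc v v, hv.sq, one_mul]
      obtain ⟨j, hj⟩ := ho
      have := pow_mem h2 (j + 1)
      rwa [← pow_two, ← pow_mul, show 2 * (j + 1) = 2 * j + 1 + 1 by ring, pow_succ, ← hj,
        pow_orderOf_eq_one, one_mul] at this
    · rw [ht', ← map_mul, ← map_mul]
      exact congrArg π (Subtype.ext (E.mem_U.1 hwU).1)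
  have hr3 : 3 ≤ r := by have := hr.two_le; omega
  -- the image of the inverted element of order `r`
  obtain ⟨w, ⟨hwU, hwK⟩, hwb, hwo⟩ := hw
  have hw1 : orderOf (π ⟨w, hwK⟩) = r := by
    refine ((Nat.dvd_prime hr).1 ?_).resolve_left ?_
    · rw [← hwo, ← Subgroup.orderOf_mk w hwK]; exact orderOf_map_dvd π _
    · intro h1
      have hc : w ∈ coreIn K := bar_eq_one.1 (orderOf_eq_one_iff.1 h1)
      have hwb' : w * b = b * w := mem_centralizer_iff.1 (D.perf_core (hall b hb)) w hc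
      have hw1 : w = 1 := CfsgLib.RankOneInvol.eq_one_of_sq_of_odd (E.mem_U.1 hwU).2 (by
        have h' : w⁻¹ = w := by rw [← hwb, ← hwb', mul_assoc, hb.sq, mul_one]
        calc w * w = w⁻¹ * w := by rw [h']
          _ = 1 := inv_mul_cancel w)
      rw [hw1, orderOf_one] at hwo
      omega
  -- the two cases
  obtain ⟨A, hA, hrA, hidx⟩ : ∃ A : Subgroup (K ⧸ Cfsg.oddCore K),
      (∀ v, E.Refl v → ∀ w : K, (w : G) ∈ E.U → v * w * v = (w : G)⁻¹ → π w ∈ A) ∧
      r ≤ Nat.card A ∧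
      (6 * (2 ^ E.d.k * Nat.card A) ^ 2 ≤ E.H.relIndex K ∨
        (Nat.card A ≤ 3 ∧ E.d.k ≤ 1 ∧ 105 ≤ E.H.relIndex K)) := by
    have hle := relIndex_socle_le (E := E) (K := K) D.t_mem
    have hSinj : ∀ C : Subgroup (K ⧸ Cfsg.oddCore K),
        (∀ s (hs : s ∈ (E.S : Subgroup G)), π ⟨s, hSK hs⟩ ∈ C) → 2 ^ (E.d.k + 2) ∣ Nat.card C := by
      intro C hC
      let f : (E.S : Subgroup G) →* C :=
        (π.comp (Subgroup.inclusion hSK)).codRestrict C fun s => hC s s.2
      have hf : Function.Injective f := (injective_iff_map_eq_one f).2 fun s hs => by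
        have h1 : (s : G) ∈ coreIn K := bar_eq_one.1 (congrArg Subtype.val hs :
          π ⟨s, hSK s.2⟩ = 1)
        obtain ⟨i, hi⟩ := IsPGroup.iff_orderOf.1 E.S.2 s
        have h2 := CfsgLib.RankOneInvol.odd_orderOf_of_mem (odd_card_coreIn K) h1
        rw [Subgroup.orderOf_coe, hi] at h2
        rcases Nat.eq_zero_or_pos i with rfl | hi0
        · rwa [pow_zero, orderOf_eq_one_iff] at hi
        · exact absurd (Nat.even_pow.2 ⟨even_two, hi0.ne'⟩) (Nat.not_even_iff_odd.2 h2)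
      rw [← E.card_S]
      exact Subgroup.card_dvd_of_injective f hf
    have hSc : ∀ s (hs : s ∈ (E.S : Subgroup G)), π ⟨s, hSK hs⟩ * t' = t' * π ⟨s, hSK hs⟩ :=
      fun s hs => by
        rw [ht', ← map_mul, ← map_mul]; exact congrArg π (Subtype.ext (E.d.z_central hs))
    rcases T.shape with ⟨F, i1, i2, hoddF, h3, ⟨f⟩⟩ | ⟨⟨ψ⟩⟩
    · have h := psl_of_topData T hoddF h3 f
      refine ⟨Field.torus (topL K) t', fun v hv w' hw' hwv => (h.mem_torus ht2).2 (hinv v hv w' hw' hwv),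
        ?_, Or.inl ?_⟩
      · rw [← hw1]
        rw [← Subgroup.orderOf_mk _ ((h.mem_torus ht2).2 (hinv b hb ⟨w, hwK⟩ hwU hwb))]
        exact Nat.le_of_dvd Nat.card_pos (orderOf_dvd_natCard _)
      · have hz : Odd (Nat.card (Field.torus (topL K) t')) := h.odd_card_torus ht2
        have hd2 : (2 ^ (E.d.k + 2) : ℤ) ∣ (Fintype.card F : ℤ) - FieldModel.eps (Fintype.card F) := by
          have h1 := hSinj (topL K ⊓ centralizer ({t'} : Set (K ⧸ Cfsg.oddCore K))) fun s hs =>
            ⟨bar_mem_topL (hS hs), mem_centralizer_singleton_iff.2 (hSc s hs)⟩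
          rw [← h.card_centralizer ht2 htL]
          exact_mod_cast h1
        have hdz := (h.card_torus_inner ht2 htL).1
        have hdvd : ((2 ^ (E.d.k + 2) * Nat.card (Field.torus (topL K) t') : ℕ) : ℤ) ∣
            (Fintype.card F : ℤ) - FieldModel.eps (Fintype.card F) := by
          push_cast
          refine IsCoprime.mul_dvd ?_ hd2 hdz
          rw [Int.isCoprime_iff_gcd_eq_one]
          exact ((Nat.coprime_two_left.2 hz).pow_left _ : _)
        have hpos : (0 : ℤ) < (Fintype.card F : ℤ) - FieldModel.eps (Fintype.card F) := by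
          rcases FieldModel.eps_cases (Fintype.card F) with e | e <;> rw [e] <;> omega
        have hle' := Int.le_of_dvd hpos hdvd
        refine arith_psl (q := Fintype.card F) (FieldModel.eps_cases (Fintype.card F)) ?_ ?_ ?_
        · have := Nat.le_mul_of_pos_left (Nat.card (Field.torus (topL K) t')) (Nat.two_pow_pos E.d.k)
          have : r ≤ Nat.card (Field.torus (topL K) t') := by
            rw [← hw1,
              ← Subgroup.orderOf_mk _ ((h.mem_torus ht2).2 (hinv b hb ⟨w, hwK⟩ hwU hwb))]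
            exact Nat.le_of_dvd Nat.card_pos (orderOf_dvd_natCard _)
          omega
        · push_cast at hle' ⊢
          rw [show (4 : ℤ) * (2 ^ E.d.k * (Nat.card (Field.torus (topL K) t') : ℤ)) =
            2 ^ (E.d.k + 2) * (Nat.card (Field.torus (topL K) t') : ℤ) by ring]
          exact hle'
        · rw [← h.two_mul_relIndex ht2 htL]
          have h1 : (centralizer ({t'} : Set (K ⧸ Cfsg.oddCore K))).relIndex (topL K) ≤
              E.H.relIndex K := by
            refine le_trans ?_ hle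
            rw [← relIndex_top_right (centralizer ({t'} : Set (K ⧸ Cfsg.oddCore K)))]
            exact relIndex_le_of_le_right le_top (by rw [relIndex_top_right]; exact index_ne_zero_of_finite)
          exact_mod_cast Nat.mul_le_mul_left 2 h1
    · -- `A₇`
      have htop := eq_top_of_seven T.dc T.cent ψ
      let ψ' := (topEquiv.symm.trans (MulEquiv.subgroupCongr htop.symm)).trans ψ
      obtain ⟨h105, h24⟩ := alt_seven_relIndex ψ' ht2
      obtain ⟨c, -, hc, -, -, -, hallc⟩ := Max32.alt_seven_centralizer ψ' ht2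
      have hmemc : ∀ v, E.Refl v → ∀ x : K, (x : G) ∈ E.U → v * x * v = (x : G)⁻¹ →
          π x ∈ zpowers c := fun v hv x hx hxv => by
        rcases hallc _ (hinv v hv x hx hxv).2.1 (hinv v hv x hx hxv).2.2 with e | e | e <;> rw [e]
        · exact one_mem _
        · exact mem_zpowers c
        · exact mul_mem (mem_zpowers c) (mem_zpowers c)
      refine ⟨zpowers c, hmemc, ?_, Or.inr ⟨by rw [Nat.card_zpowers, hc], ?_, le_trans h105 hle⟩⟩
      · rw [← hw1, ← Subgroup.orderOf_mk _ (hmemc b hb ⟨w, hwK⟩ hwU hwb)]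
        exact Nat.le_of_dvd Nat.card_pos (orderOf_dvd_natCard _)
      · have h1 := Nat.le_of_dvd Nat.card_pos
          (hSinj (centralizer ({t'} : Set _)) fun s hs => mem_centralizer_singleton_iff.2 (hSc s hs))
        by_contra hk
        have := Nat.pow_le_pow_right (show 0 < 2 by norm_num) (show 4 ≤ E.d.k + 2 by omega)
        have := h1.trans h24
        have h5 : 32 ≤ 2 ^ (E.d.k + 2) ∨ 2 ^ (E.d.k + 2) = 16 := by
          rcases Nat.lt_or_ge (E.d.k + 2) 5 with h | h
          · exact Or.inr (by rw [show E.d.k + 2 = 4 by omega]; norm_num)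
          · exact Or.inl (Nat.pow_le_pow_right (show 0 < 2 by norm_num) h)
        rcases h5 with h5 | h5
        · omega
        · -- `16` does not divide a group of order at most `24` unless it has order `16`
          have h6 := hSinj (centralizer ({t'} : Set _)) fun s hs =>
            mem_centralizer_singleton_iff.2 (hSc s hs)
          rw [h5] at h6
          have h7 := h6.trans (card_subgroup_dvd_card _)
          rw [Nat.card_congr ψ'.toEquiv, CfsgLib.DimThreeMax.card_alt_seven] at h7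
          norm_num at h7
  set z := Nat.card A
  set u := Nat.card ↥(E.U ⊓ K) with hu
  have hu0 : 0 < u := Nat.card_pos
  have hcard := mul_idx_le D htP hSK hmeet
  rw [hrel] at hcard
  have hUr : Nat.card E.U = u * r := by
    rw [← hrel, hu, ← Nat.card_congr (subgroupOfEquivOfLe (inf_le_left : E.U ⊓ K ≤ E.U)).toEquiv]
    exact (card_mul_index _).symm
  obtain ⟨F, -, hF, hG⟩ := Formula.exists_factor E.S E.d (fun x hx => E.exists_conj hx)
    fun _ => perfect_commutator E
  have hx : ∀ v, E.Refl v → (u : ℚ) * (1 / (Nat.card (E.X v) : ℚ)) ≤ z := fun v hv => by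
    rw [mul_one_div, div_le_iff₀ (Nat.cast_pos.2 Nat.card_pos), mul_comm]
    exact_mod_cast card_inf_le hv D (hall v hv) (hA v hv)
  have hra : E.Refl (E.d.r * E.d.a) :=
    ⟨mul_mem E.d.r_mem E.d.a_mem, fun h => E.d.a_notMem ((mul_mem_cancel_left (mem_zpowers _)).1 h)⟩
  have h1 := hx _ E.refl_a
  have h2 := hx _ hra
  refine arith_false (k := E.d.k) hr3 hrA ?_ hidx
  have hGq : (((r - 1) * E.H.relIndex K ^ 2 * u * 2 ^ (E.d.k + 2) : ℕ) : ℚ) ≤ Nat.card G := by
    exact_mod_cast hcard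
  rw [hG, show (Nat.card (core E.d.z) : ℚ) = (u * r : ℕ) by rw [← hUr]; rfl] at hGq
  set xa := (Nat.card (E.X E.d.a) : ℚ)
  set xb := (Nat.card (E.X (E.d.r * E.d.a)) : ℚ)
  have h3 : ((u : ℚ) * (1 / xa + 1 / xb)) ^ 2 ≤ (2 * z) ^ 2 :=
    pow_le_pow_left₀ (by positivity) (by rw [mul_add]; linarith) 2
  have h4 : (((r - 1) * E.H.relIndex K ^ 2 : ℕ) : ℚ) * (u * 2 ^ (E.d.k + 2)) ≤
      ((15 * 4 ^ E.d.k * r ^ 3 * z ^ 2 : ℕ) : ℚ) * (u * 2 ^ (E.d.k + 2)) := by
    refine le_trans (le_of_eq (by push_cast; ring)) (hGq.trans ?_)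
    calc F * 2 ^ (3 * E.d.k + 3) * ((u * r : ℕ) : ℚ) ^ 3 * (1 / xa + 1 / xb) ^ 2
        = F * (2 ^ (3 * E.d.k + 3) * (r : ℚ) ^ 3 * u * ((u : ℚ) * (1 / xa + 1 / xb)) ^ 2) := by
          push_cast; ring
      _ ≤ 15 / 8 * (2 ^ (3 * E.d.k + 3) * (r : ℚ) ^ 3 * u * (2 * (z : ℚ)) ^ 2) := by
          gcongr
      _ = _ := by
          push_cast
          rw [show (2 : ℚ) ^ (3 * E.d.k + 3) = (2 ^ E.d.k) ^ 3 * 8 by ring,
            show (4 : ℚ) ^ E.d.k = (2 ^ E.d.k) ^ 2 by rw [← pow_mul, mul_comm, pow_mul]; norm_num,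
            show (2 : ℚ) ^ (E.d.k + 2) = 2 ^ E.d.k * 4 by ring]
          ring
  exact_mod_cast le_of_mul_le_mul_right h4 (by positivity)

end CfsgLib.GW.Max31Out
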