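import Cfsg.Agent.Lib.GW.Max31Kill
import Cfsg.Agent.Lib.GW.Max32Top
import Mathlib.NumberTheory.Multiplicity

/-!
Gorenstein–Walter, Step 3.1 e: an element of `O_m(C(t)) ∩ C(b)` never induces a field automorphism
on the top of a subgroup `K` in which `t`, `b` lie in a perfect subgroup.
-/

set_option autoImplicit false
set_option linter.style.haveILetI false
set_option linter.unusedSectionVars false

namespace CfsgLib.GW.Max31Out

open Subgroup CfsgLib.GW.Max31
open scoped commutatorElement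

universe u

theorem eq_geom {m : ℕ} {x y S : ℤ} (hym : y ^ m = y) (hne : x ≠ y)
    (h : x ^ m - y = (x - y) * S) :
    S = ∑ i ∈ Finset.range m, x ^ i * y ^ (m - 1 - i) := by
  refine mul_left_cancel₀ (sub_ne_zero.2 hne) ?_
  rw [← h, mul_comm, geom_sum₂_mul, hym]

/-- `q₀^m - ε` has a prime divisor different from `m` not accounted for by `q₀ - ε`. -/
theorem not_field_pow {q0 m : ℕ} (hq0 : Odd q0) (h3 : 3 ≤ q0) (hm : m.Prime) (hm2 : m ≠ 2)
    (h : ∀ d : ℕ, Odd d → ¬ m ∣ d → (d : ℤ) ∣ ((q0 ^ m : ℕ) : ℤ) - FieldModel.eps (q0 ^ m) →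
      (d : ℤ) ∣ (q0 : ℤ) - FieldModel.eps q0) : False := by
  have hmodd := hm.odd_of_ne_two hm2
  obtain ⟨S, hS, hS1, -, hSodd⟩ := FieldModel.exists_factor hq0 hmodd
  obtain ⟨hSn1, hSn1'⟩ := hS1 hm.one_lt h3
  rw [FieldModel.eps_pow hq0 hmodd] at hS h
  set y := FieldModel.eps q0 with hy
  have hy1 : y = 1 ∨ y = -1 := FieldModel.eps_cases q0
  have hxy : (q0 : ℤ) - y ≠ 0 := by rcases hy1 with e | e <;> omega
  have hSo : Odd S.natAbs := Int.natAbs_odd.2 hSodd
  -- every prime divisor of `S` is `m`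
  have hprime : ∀ l : ℕ, l.Prime → l ∣ S.natAbs → l = m := by
    intro l hl hlS
    by_contra hne
    obtain ⟨a, o, ho, hao⟩ := Nat.exists_eq_pow_mul_and_not_dvd
      (n := ((q0 : ℤ) - y).natAbs) (Int.natAbs_ne_zero.2 hxy) l hl.ne_one
    have hd : ((l ^ (a + 1) : ℕ) : ℤ) ∣ ((q0 ^ m : ℕ) : ℤ) - y := by
      rw [hS, pow_succ, Nat.cast_mul]
      refine mul_dvd_mul (Int.natCast_dvd.2 ⟨o, hao⟩) (Int.natCast_dvd.2 hlS)
    have h1 := Int.natCast_dvd.1 (h _ (hSo.of_dvd_nat hlS).pow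
      (fun hdvd => hne ((Nat.prime_dvd_prime_iff_eq hm hl).1 (hm.dvd_of_dvd_pow hdvd)).symm) hd)
    rw [hao, pow_succ] at h1
    exact ho (Nat.dvd_of_mul_dvd_mul_left (pow_pos hl.pos a) h1)
  -- `m` divides `S`
  have hmS : m ∣ S.natAbs := by
    obtain ⟨l, hl, hlS⟩ := Nat.exists_prime_and_dvd (n := S.natAbs) (by
      intro e
      rcases Int.natAbs_eq S with e' | e' <;> rw [e] at e'
      · exact hSn1 (by exact_mod_cast e')
      · exact hSn1' (by exact_mod_cast e'))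
    exact hprime l hl hlS ▸ hlS
  have hmS' : (m : ℤ) ∣ S := Int.natCast_dvd.2 hmS
  haveI := Fact.mk hm
  -- `m` divides `q₀ - ε`
  have hmxy : (m : ℤ) ∣ (q0 : ℤ) - y := by
    rw [← ZMod.intCast_zmod_eq_zero_iff_dvd]
    have e : ((((q0 ^ m : ℕ) : ℤ) - y : ℤ) : ZMod m) = 0 := by
      rw [ZMod.intCast_zmod_eq_zero_iff_dvd, hS]
      exact Dvd.dvd.mul_left hmS' _
    push_cast at e ⊢
    rwa [ZMod.pow_card] at e
  obtain ⟨b, hb⟩ := hmxy
  have hym : y ^ m = y := by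
    rcases hy1 with e | e <;> rw [e]
    · exact one_pow m
    · exact hmodd.neg_one_pow
  have hym1 : y ^ (m - 1) = 1 := by
    have hev : Even (m - 1) := Nat.Odd.sub_odd hmodd odd_one
    rcases hy1 with e | e <;> rw [e]
    · exact one_pow _
    · exact hev.neg_one_pow
  have hgeo := eq_geom (m := m) hym (sub_ne_zero.1 hxy) (by push_cast at hS; exact hS)
  have hsq : (m : ℤ) ^ 2 ∣ S - m := by
    have h2 := odd_sq_dvd_geom_sum₂_sub (a := y) (b := b) hmodd
    rw [show y + (m : ℤ) * b = (q0 : ℤ) by rw [← hb]; ring, hym1, mul_one, ← hgeo] at h2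
    exact h2
  -- hence `|S| = m`
  obtain ⟨c, hc⟩ := hmS
  have hc1 : c = 1 := by
    by_contra hne
    obtain ⟨l, hl, hlc⟩ := Nat.exists_prime_and_dvd hne
    have hlm := hprime l hl (hc ▸ hlc.mul_left m)
    subst hlm
    have h4 : (l : ℤ) ^ 2 ∣ S := by
      rw [show (l : ℤ) ^ 2 = ((l * l : ℕ) : ℤ) by push_cast; ring, Int.natCast_dvd, hc]
      exact mul_dvd_mul_left l hlc
    have h5 : (l : ℤ) ^ 2 ∣ (l : ℤ) := by
      have := dvd_sub h4 hsq
      rwa [sub_sub_cancel] at this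
    have h6 := Int.le_of_dvd (by exact_mod_cast hl.pos) h5
    have : (2 : ℤ) ≤ l := by exact_mod_cast hl.two_le
    nlinarith
  rw [hc1, mul_one] at hc
  -- too small
  have h7 : q0 ^ m ≤ m * (q0 + 1) + 1 := by
    have e := congrArg Int.natAbs hS
    rw [Int.natAbs_mul, hc] at e
    have h8 : ((q0 : ℤ) - y).natAbs ≤ q0 + 1 := by rcases hy1 with e' | e' <;> omega
    have h9 : q0 ^ m ≤ (((q0 ^ m : ℕ) : ℤ) - y).natAbs + 1 := by
      rcases hy1 with e' | e' <;> omega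
    rw [e] at h9
    calc q0 ^ m ≤ ((q0 : ℤ) - y).natAbs * m + 1 := h9
      _ ≤ _ := by rw [mul_comm m]; gcongr
  have hgrow : ∀ k : ℕ, 9 * (k + 1) ≤ q0 ^ (k + 2) := by
    intro k
    induction k with
    | zero =>
      rw [pow_two]
      have := Nat.mul_le_mul h3 h3
      omega
    | succ k ih =>
      rw [pow_succ]
      have := Nat.mul_le_mul ih h3
      nlinarith
  have hm3 : 3 ≤ m := by have := hm.two_le; omega
  have h10 := hgrow (m - 3)
  have e : q0 ^ m = q0 ^ (m - 3 + 2) * q0 := by rw [← pow_succ]; congr 1; omega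
  rw [e] at h7
  have h11 := Nat.mul_le_mul_right q0 h10
  have : m - 3 + 1 + 2 = m := by omega
  nlinarith

variable {G : Type u} [Group G] [Finite G] {E : Setup G} {b : G} {K : Subgroup G}

theorem topData_of (E : Setup G) {K : Subgroup G} (hK : K ≠ ⊤) (htP : E.t ∈ perf K) : TopData K :=
  topData_of_perfect E hK (perf_le K) (perfect_perf K) htP E.orderOf_t

/-- An element of `O_m(C(t)) ∩ C(b)` in `K` lies in `O(K)`, provided some nontrivial element of
`O(C(t)) ∩ K` is inverted by `b`. -/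
theorem mem_core_of_field (hb : E.Refl b) (D : KData E b K) (htP : E.t ∈ perf K)
    (hbP : b ∈ perf K) (hw : ∃ w ∈ E.U ⊓ K, b * w * b = w⁻¹ ∧ w ≠ 1) {m : ℕ} (hm : m.Prime)
    (hm2 : m ≠ 2) {x : G} (hxR : x ∈ E.R m) (hxK : x ∈ K) (hxb : x * b = b * x) :
    x ∈ coreIn K := by
  classical
  haveI := Fact.mk hm
  haveI : Fact (Nat.Prime 2) := ⟨Nat.prime_two⟩
  have T := topData_of E D.coatom.1 htP
  haveI := T.normal
  set π := bar K with hπ
  set t' := π ⟨E.t, D.t_mem⟩ with ht'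
  set b' := π ⟨b, D.b_mem⟩ with hb'
  have ht2 : orderOf t' = 2 := orderOf_bar E.orderOf_t
  have hb2 : orderOf b' = 2 := orderOf_bar hb.orderOf_eq
  have htL : t' ∈ topL K := bar_mem_topL htP
  have hbL : b' ∈ topL K := bar_mem_topL hbP
  have hne : t' ≠ b' := bar_ne E.orderOf_t hb.orderOf_eq hb.comm.symm hb.ne_t.symm
  have hcomm : ∀ {u v : G} (hu : u ∈ K) (hv : v ∈ K), u * v = v * u →
      π ⟨u, hu⟩ * π ⟨v, hv⟩ = π ⟨v, hv⟩ * π ⟨u, hu⟩ := fun hu hv h => by
    rw [← map_mul, ← map_mul]; exact congrArg π (Subtype.ext h)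
  have htb : t' * b' = b' * t' := hcomm _ _ hb.comm.symm
  have hodd : ∀ {u : G} (hu : u ∈ K), Odd (orderOf u) → Odd (orderOf (π ⟨u, hu⟩)) := fun hu h => by
    refine h.of_dvd_nat ?_
    rw [← Subgroup.orderOf_mk _ hu]
    exact orderOf_map_dvd π _
  rw [← bar_eq_one (x := (⟨x, hxK⟩ : K))]
  by_contra hx1
  set x' := π ⟨x, hxK⟩ with hx'
  have hxt' : x' * t' = t' * x' := hcomm _ _ (E.mem_H.1 (R_le_H E m hxR))
  have hxb' : x' * b' = b' * x' := hcomm _ _ hxb
  have hxo : Odd (orderOf x') := hodd hxK (odd_of_mem_R E hm hm2 hxR)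
  rcases T.shape with ⟨F, i1, i2, hoddF, h3, ⟨f⟩⟩ | ⟨⟨ψ⟩⟩
  swap
  · -- `A₇`
    have htop := eq_top_of_seven T.dc T.cent ψ
    let ψ' := (topEquiv.symm.trans (MulEquiv.subgroupCongr htop.symm)).trans ψ
    obtain ⟨c, -, hc, -, -, -, hall⟩ := Max32.alt_seven_centralizer ψ' ht2
    obtain ⟨w, ⟨hwU, hwK⟩, hwb, hw1⟩ := hw
    set w' := π ⟨w, hwK⟩ with hw'
    have hwo : Odd (orderOf w') := hodd hwK (E.mem_U.1 hwU).2
    have hwt' : w' * t' = t' * w' := hcomm _ _ (E.mem_U.1 hwU).1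
    have hw1' : w' ≠ 1 := by
      intro h
      have hwb' : w * b = b * w :=
        mem_centralizer_iff.1 (D.perf_core hbP) w (bar_eq_one.1 h)
      refine hw1 (CfsgLib.RankOneInvol.eq_one_of_sq_of_odd (E.mem_U.1 hwU).2 ?_)
      have h' : w⁻¹ = w := by rw [← hwb, ← hwb', mul_assoc, hb.sq, mul_one]
      calc w * w = w⁻¹ * w := by rw [h']
        _ = 1 := inv_mul_cancel w
    have hwinv : b' * w' * b'⁻¹ = w'⁻¹ := by
      rw [hb', hw', ← map_inv π ⟨b, D.b_mem⟩, ← map_mul, ← map_mul, ← map_inv π ⟨w, hwK⟩]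
      exact congrArg π (Subtype.ext (by simpa [hb.inv] using hwb))
    -- both lie in the cyclic group of order three, so `b'` inverts `x'`
    have hmem : ∀ v, (v = c ∨ v = c * c) → ∀ u, (u = c ∨ u = c * c) → u = v ∨ u = v⁻¹ := by
      have h3c : c * c * c = 1 := by
        have e := pow_orderOf_eq_one c
        rwa [hc, pow_succ, pow_two] at e
      have e1 : c⁻¹ = c * c := inv_eq_of_mul_eq_one_right (by rw [← mul_assoc]; exact h3c)
      have e2 : (c * c)⁻¹ = c := inv_eq_of_mul_eq_one_right h3c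
      rintro v (rfl | rfl) u (rfl | rfl) <;>
        first | exact Or.inl rfl | exact Or.inr e1.symm | exact Or.inr e2.symm
    have hxinv : b' * x' * b'⁻¹ = x'⁻¹ := by
      rcases hmem w' ((hall w' hwt' hwo).resolve_left hw1') x' ((hall x' hxt' hxo).resolve_left hx1) with
        e | e
      · rw [e, hwinv]
      · rw [e, show b' * w'⁻¹ * b'⁻¹ = (b' * w' * b'⁻¹)⁻¹ by group, hwinv]
    rw [← hxb', mul_inv_cancel_right] at hxinv
    exact hx1 (CfsgLib.RankOneInvol.eq_one_of_sq_of_odd hxo (mul_eq_one_iff_eq_inv.2 hxinv))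
  · -- `PSL₂(q)`
    have h := psl_of_topData T hoddF h3 f
    -- an element of order `m`
    obtain ⟨j, hj⟩ := exists_pow_R E hm hxR
    have hxm : x' ^ m ^ j = 1 := by
      rw [hx', ← map_pow, show (⟨x, hxK⟩ : K) ^ m ^ j = 1 from Subtype.ext (by rw [coe_pow]; exact hj),
        map_one]
    obtain ⟨l, -, hl⟩ := (Nat.dvd_prime_pow hm).1 (orderOf_dvd_of_pow_eq_one hxm)
    have hl0 : l ≠ 0 := fun h0 => hx1 (orderOf_eq_one_iff.1 (by rw [hl, h0, pow_zero]))
    set y := x ^ m ^ (l - 1) with hy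
    have hyK : y ∈ K := pow_mem hxK _
    have hyR : y ∈ E.R m := pow_mem hxR _
    set y' := π ⟨y, hyK⟩ with hy'
    have hyx : y' = x' ^ m ^ (l - 1) := by
      rw [hy', hx', ← map_pow]; exact congrArg π (Subtype.ext (by rw [coe_pow]))
    have hyo : orderOf y' = m := by
      rw [hyx, orderOf_pow_of_dvd (pow_ne_zero _ hm.ne_zero)
        (by rw [hl]; exact pow_dvd_pow m (Nat.sub_le l 1)), hl, Nat.pow_div (Nat.sub_le l 1) hm.pos,
        show l - (l - 1) = 1 by omega, pow_one]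
    have hyt' : y' * t' = t' * y' := by rw [hyx]; exact ((show Commute x' t' from hxt').pow_left _).eq
    have hyb' : y' * b' = b' * y' := by rw [hyx]; exact ((show Commute x' b' from hxb').pow_left _).eq
    have hmodd := hm.odd_of_ne_two hm2
    -- it centralises the torus elements of order prime to `m`
    have hfix : ∀ τ ∈ Field.torus (topL K) t', ¬ m ∣ orderOf τ → y' * τ = τ * y' := by
      intro τ hτ hτm
      obtain ⟨q, -, hqτ, hqR⟩ := exists_conj_lift (r := m) D (x := (⟨y, hyK⟩ : K)) hyR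
        ((h.mem_torus ht2).1 hτ).2.1
      set z := y' * τ * y'⁻¹ * τ⁻¹ with hz
      have hzim : z = π (⟨y, hyK⟩ * (q * ⟨y, hyK⟩⁻¹ * q⁻¹)) := by
        simp only [map_mul, map_inv, hz, ← hy', mul_assoc]
        rw [show π q = τ from hqτ]
      obtain ⟨i, hi⟩ := exists_pow_R E hm
        (x := ((⟨y, hyK⟩ * (q * ⟨y, hyK⟩⁻¹ * q⁻¹) : K) : G)) (mul_mem hyR (hqR _ (inv_mem hyR)))
      have hzi : z ^ m ^ i = 1 := by
        rw [hzim, ← map_pow, show ((⟨y, hyK⟩ * (q * ⟨y, hyK⟩⁻¹ * q⁻¹) : K)) ^ m ^ i = 1 from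
          Subtype.ext (by rw [coe_pow]; exact hi), map_one]
      have hc := h.torus_commute ht2 (h.conj_mem_torus ht2 hyt' hτ) (inv_mem hτ)
      have hzo : z ^ orderOf τ = 1 := by
        rw [hz, (show Commute (y' * τ * y'⁻¹) τ⁻¹ from hc).mul_pow, conj_pow, inv_pow,
          pow_orderOf_eq_one]
        group
      have hz1 : z = 1 := orderOf_eq_one_iff.1 (Nat.eq_one_of_dvd_coprimes
        (((hm.coprime_iff_not_dvd.2 hτm)).pow_left i) (orderOf_dvd_of_pow_eq_one hzi)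
        (orderOf_dvd_of_pow_eq_one hzo))
      rw [hz, mul_inv_eq_one, mul_inv_eq_iff_eq_mul] at hz1
      exact hz1
    obtain ⟨q0, hq0, h30, hq, hdvd⟩ := h.exists_fixed_dvd ht2 hb2 hne htb htL hyt' hyb' (hyo ▸ hmodd)
    rw [hyo] at hq
    refine not_field_pow hq0 h30 hm hm2 fun d hd hmd hdd => ?_
    have hdT : d ∣ Nat.card (Field.torus (topL K) t') :=
      (h.card_torus_inner ht2 htL).2 d hd (by rw [hq]; exact hdd)
    haveI := h.isCyclic_torus ht2
    obtain ⟨g, hg⟩ := IsCyclic.exists_ofOrder_eq_natCard (α := Field.torus (topL K) t')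
    obtain ⟨c, hc⟩ := hdT
    have hc0 : c ≠ 0 := fun h0 => by
      rw [h0, mul_zero] at hc
      exact (Nat.card_pos (α := Field.torus (topL K) t')).ne' hc
    have hgo : orderOf ((g : K ⧸ Cfsg.oddCore K) ^ c) = d := by
      rw [orderOf_pow_of_dvd hc0 (by rw [Subgroup.orderOf_coe, hg, hc]; exact dvd_mul_left c d),
        Subgroup.orderOf_coe, hg, hc, Nat.mul_div_cancel _ (Nat.pos_of_ne_zero hc0)]
    have := hdvd _ (pow_mem g.2 c) (hfix _ (pow_mem g.2 c) (by rw [hgo]; exact hmd))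
    rwa [hgo] at this

end CfsgLib.GW.Max31Out
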