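import Cfsg.Agent.Lib.GW.Max31OutHeisTorus
import Cfsg.Agent.Lib.GW.Formula

/-!
Gorenstein–Walter, Step 3.1 e, case (III): `w` and `e` both in the second centre of `O_r(C(t))`.
-/

set_option autoImplicit false
set_option linter.style.haveILetI false
set_option linter.unusedSectionVars false

namespace CfsgLib.GW.Max31

open Subgroup

universe u

variable {G : Type u} [Group G] [Finite G]

namespace Heis.Data

variable {E : Setup G} {b : G} {r : ℕ} {O : Out E b r} {w : G}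

/-- The contradiction of case (III). -/
theorem false_of_data (D : Data O w) (hinv : ∀ g ∈ D.psi.range, flip g = g⁻¹)
    (hne : D.psi.range ≠ ⊥) : False := by
  classical
  haveI := Fact.mk O.prime
  obtain ⟨-, hμ2, htri⟩ :=
    Max31Out.inverted_bound O.ne_two D.odd_range D.not_dvd_range (D.diag_eq hinv)
  set μ := Nat.card D.psi.range with hμdef
  set z := Nat.card (Max32.Zc E) with hzdef
  have hμodd : Odd μ := D.odd_range
  have hμ1 : μ ≠ 1 := fun h => hne (eq_bot_of_card_eq _ h)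
  have hr5 : 5 ≤ r := by
    obtain ⟨l, hl⟩ := hμodd
    omega
  obtain ⟨q, e, hq, hqo, he, hqe, hqG⟩ := D.exists_q hr5 htri
  have hX := fun v (hv : E.Refl v) => D.card_X hinv hv
  have hra : E.Refl (E.d.r * E.d.a) :=
    ⟨mul_mem E.d.r_mem E.d.a_mem, fun h => E.d.a_notMem ((mul_mem_cancel_left (mem_zpowers _)).1 h)⟩
  obtain ⟨f, δ, hδ, hf, hdvd, heq⟩ : ∃ (f : ℕ) (δ : ℤ), (δ = 1 ∨ δ = -1) ∧ 3 ≤ f ∧
      (2 : ℤ) ^ (E.d.k + 1) ∣ (f : ℤ) - δ ∧
      (Nat.card G : ℚ) * ((f : ℚ) - δ) ^ 2 = f * ((f : ℚ) + δ) * 2 ^ (3 * E.d.k + 3) *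
        (Nat.card E.U : ℚ) ^ 3 * (2 / (r : ℚ)) ^ 2 := by
    rcases Nat.eq_zero_or_pos E.d.k with hk | hk
    · obtain ⟨f, δ, hδ, hf, -, h4, heq⟩ := D.degree_zero hk hinv hne
      refine ⟨f, δ, hδ, hf, ?_, ?_⟩
      · rw [hk]
        exact (show (2 : ℤ) ^ (0 + 1) ∣ 4 by norm_num).trans h4
      · rw [hX _ E.refl_a] at heq
        rw [hk]
        exact heq
    · obtain ⟨f, δ, hδ, hf, -, hdvd, heq⟩ :=
        CfsgLib.GW.Formula.exists_degree E.S E.d hk fun x hx => E.exists_conj hx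
      refine ⟨f, δ, hδ, by omega, hdvd, ?_⟩
      change (Nat.card G : ℚ) * ((f : ℚ) - δ) ^ 2 = f * ((f : ℚ) + δ) * 2 ^ (3 * E.d.k + 3) *
        (Nat.card E.U : ℚ) ^ 3 * (1 / (Nat.card (E.X E.d.a) : ℚ) +
          1 / (Nat.card (E.X (E.d.r * E.d.a)) : ℚ)) ^ 2 at heq
      rw [hX _ E.refl_a, hX _ hra] at heq
      rw [heq]
      ring
  set N := E.H.index with hNdef
  have hNodd : Odd N := by
    rw [← Nat.not_even_iff_odd, even_iff_two_dvd]
    haveI : Fact (Nat.Prime 2) := ⟨Nat.prime_two⟩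
    exact fun h => E.S.not_dvd_index (h.trans (index_dvd_of_le E.S_le_H))
  have hU : Nat.card E.U = r * r * z * μ := D.card_U
  have hG : Nat.card G = r * r * z * μ * 2 ^ (E.d.k + 2) * N := by
    rw [hNdef, ← E.H.card_mul_index, E.card_H, E.card_S, hU]
  have heqZ : (N : ℤ) * ((f : ℤ) - δ) ^ 2 =
      f * ((f : ℤ) + δ) * 2 ^ (2 * E.d.k + 3) * ((r : ℤ) * z * μ) ^ 2 := by
    have hr0 : (r : ℚ) ≠ 0 := Nat.cast_ne_zero.2 O.prime.ne_zero
    have hz0 : (z : ℚ) ≠ 0 := Nat.cast_ne_zero.2 Nat.card_pos.ne'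
    have hμ0 : (μ : ℚ) ≠ 0 := Nat.cast_ne_zero.2 Nat.card_pos.ne'
    have key : (((N : ℤ) * ((f : ℤ) - δ) ^ 2 : ℤ) : ℚ) =
        ((f * ((f : ℤ) + δ) * 2 ^ (2 * E.d.k + 3) * ((r : ℤ) * z * μ) ^ 2 : ℤ) : ℚ) := by
      rw [hG, hU] at heq
      push_cast at heq ⊢
      refine mul_left_cancel₀ (show (r : ℚ) * r * z * μ * 2 ^ (E.d.k + 2) ≠ 0 by positivity) ?_
      rw [← mul_assoc, heq]
      field_simp
      ring
    exact_mod_cast key
  have hN := Heis.index_eq (N := N) O.prime hr5 D.r_dvd_z hμodd hμ2 hNodd hδ (by exact_mod_cast hf)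
    hdvd D.index_mod heqZ
  refine Heis.false_of_index (N := N) O.prime hr5 D.r_dvd_z Nat.card_pos hμodd hμ2 he hδ hq hqo hqe ?_ hN
  -- `q` is prime to `2^(k+2) z`
  have hqcop : q.Coprime (2 ^ (E.d.k + 2) * z) := by
    refine Nat.coprime_of_dvd fun p hp h1 h2 => ?_
    have h3 : (p : ℤ) ∣ (q : ℤ) - e := by
      rw [hqe]
      exact_mod_cast h2
    have h4 : (p : ℤ) ∣ e := by simpa using dvd_sub (Int.natCast_dvd_natCast.2 h1) h3
    refine hp.not_dvd_one (Int.natCast_dvd_natCast.1 ?_)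
    rcases he with h | h <;> rw [h] at h4 <;> simpa using h4
  have hqz : q.Coprime z := hqcop.coprime_dvd_right (dvd_mul_left _ _)
  have hqr : q.Coprime r := hqz.coprime_dvd_right D.r_dvd_z
  have hq2 : q.Coprime (2 ^ (E.d.k + 2)) := hqcop.coprime_dvd_right (dvd_mul_right _ _)
  rw [hG, show r * r * z * μ * 2 ^ (E.d.k + 2) * N = r * (r * (z * (2 ^ (E.d.k + 2) * (μ * N)))) by
    ring] at hqG
  exact hq2.dvd_of_dvd_mul_left (hqz.dvd_of_dvd_mul_left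
    (hqr.dvd_of_dvd_mul_left (hqr.dvd_of_dvd_mul_left hqG)))

end Heis.Data

namespace Out

variable {E : Setup G} {b : G} {r : ℕ}

/-- Step 3.1 e, case (III). -/
theorem false_heis (O : Out E b r)
    (hall : ∀ v, E.Refl v → v ∈ O.C.P)
    {tau : G} (htR : tau ∈ E.R r) (hto : orderOf tau = r) (htc : ∀ x ∈ E.R r, x * tau = tau * x)
    {w : G} (hw : w ∈ E.R r) (hwK : w ∉ O.C.K) (hwb : b * w * b = w⁻¹)
    (hwA : ∀ x ∈ E.R r, w * x * w⁻¹ * x⁻¹ ∈ zpowers tau)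
    (heA : ∀ x ∈ E.R r, O.C.e * x * O.C.e⁻¹ * x⁻¹ ∈ zpowers tau)
    (hinvZ : ∀ v, E.Refl v → ∀ x ∈ E.R r, (∀ y ∈ E.R r, y * x = x * y) → v * x * v = x⁻¹)
    (hOm : ∀ m, m.Prime → m ≠ r → m ≠ 2 → ∀ x ∈ E.R m,
      x ∈ O.C.K ∧ ∀ v, E.Refl v → v * x * v = x⁻¹)
    (hcentZ : ∀ u ∈ E.U, ∀ x ∈ E.R r, (∀ y ∈ E.R r, y * x = x * y) → u * x = x * u)
    (hcentO : ∀ u ∈ E.U, ∀ m, m.Prime → m ≠ r → m ≠ 2 → ∀ x ∈ E.R m, u * x = x * u)
    (hCS : ∀ θ : E.U →* ℂˣ, (∀ s (hs : s ∈ (E.S : Subgroup G)) (x : E.U),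
        θ ⟨s * x * s⁻¹, E.conj_mem_U (E.S_le_H hs) x.2⟩ = θ x) →
      (∀ x : E.U, (x : G) ∈ O.fixR → θ x = 1) → θ = 1)
    (hrot : ∀ v, E.Refl v → ∃ g ∈ O.C.P, g * E.t * g⁻¹ = v ∧ g * v * g⁻¹ = v * E.t) : False := by
  haveI := Fact.mk O.prime
  set e := O.C.e
  set τ := e * w * e⁻¹ * w⁻¹ with hτ
  have hmem : τ ∈ zpowers tau := heA w hw
  have hne : τ ≠ 1 := fun h => hwK (O.centralizer_e_le (mem_centralizer_singleton_iff.2
    (mul_inv_eq_iff_eq_mul.1 (mul_inv_eq_one.1 h)).symm))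
  have hord : orderOf τ = r := by
    refine ((Nat.dvd_prime O.prime).1 ?_).resolve_left fun h => hne (orderOf_eq_one_iff.1 h)
    obtain ⟨i, hi⟩ := hmem
    rw [← hi, ← hto]
    refine orderOf_dvd_of_pow_eq_one ?_
    show (tau ^ i) ^ orderOf tau = 1
    rw [← zpow_natCast (tau ^ i), ← zpow_mul, mul_comm, zpow_mul, zpow_natCast, pow_orderOf_eq_one,
      one_zpow]
  have hzp : zpowers τ = zpowers tau :=
    eq_of_le_of_card_ge (zpowers_le.2 hmem) (by rw [Nat.card_zpowers, Nat.card_zpowers, hord, hto])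
  have hcen : ∀ x ∈ E.R r, x * τ = τ * x := fun x hx => by
    obtain ⟨i, hi⟩ := hmem
    rw [← hi]
    exact ((show Commute x tau from htc x hx).zpow_right i).eq
  have D : Heis.Data O w :=
    ⟨hall, hw, hwK, hwb, hord, hcen, fun x hx => by
      show _ ∈ zpowers τ; rw [hzp]; exact hwA x hx,
    fun x hx => by show _ ∈ zpowers τ; rw [hzp]; exact heA x hx,
    hinvZ, hOm, hcentZ, hcentO⟩
  exact D.false_of_data (D.range_inverted hCS) (D.range_ne_bot hrot)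

end Out

end CfsgLib.GW.Max31
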