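import Mathlib

/-!
Gorenstein–Walter, Step 3.1 e, case (III): the arithmetic of the degree equation.
-/

set_option autoImplicit false

namespace CfsgLib.GW.Max31.Heis

/-- The degree equation with `N ≡ 1` modulo `z` determines `N = |G : C(t)|`. -/
theorem index_eq {r z μ k N : ℕ} {f δ : ℤ} (hr : r.Prime) (hr5 : 5 ≤ r) (hrz : r ∣ z)
    (hμ : Odd μ) (hμ2 : 2 * μ ≤ r + 1) (hN : Odd N) (hδ : δ = 1 ∨ δ = -1) (hf : 3 ≤ f)
    (hdvd : (2 : ℤ) ^ (k + 1) ∣ f - δ) (hN1 : (z : ℤ) ∣ (N : ℤ) - 1)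
    (heq : (N : ℤ) * (f - δ) ^ 2 = f * (f + δ) * 2 ^ (2 * k + 3) * ((r : ℤ) * z * μ) ^ 2) :
    (N : ℤ) = (2 * (2 ^ (k + 1) * (r * z * μ)) + δ) * (2 ^ (k + 1) * (r * z * μ) + δ) := by
  obtain ⟨j, hj⟩ := hdvd
  set T : ℤ := 2 ^ k with hT
  have hT0 : (0 : ℤ) < T := by positivity
  have e1 : (2 : ℤ) ^ (k + 1) = 2 * T := by rw [hT, pow_succ]; ring
  rw [e1] at hj ⊢
  have hδ2 : δ * δ = 1 := by rcases hδ with e | e <;> rw [e] <;> norm_num
  have hfe : f = 2 * T * j + δ := by linarith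
  have hj0 : 0 < j := by
    by_contra h
    push Not at h
    have : 2 * T * j ≤ 0 := mul_nonpos_of_nonneg_of_nonpos (by positivity) h
    rcases hδ with e | e <;> omega
  set M : ℤ := (r : ℤ) * z * μ with hM
  have h1 : (N : ℤ) * j ^ 2 = 4 * f * (T * j + δ) * M ^ 2 := by
    have e2 : (2 : ℤ) ^ (2 * k + 3) = 8 * T ^ 2 := by rw [hT]; ring
    rw [e2, hj, show f + δ = 2 * (T * j + δ) by rw [hfe]; ring] at heq
    refine mul_left_cancel₀ (show (4 * T ^ 2 : ℤ) ≠ 0 by positivity) ?_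
    linear_combination heq
  obtain ⟨i, hi⟩ : (2 : ℤ) ∣ j := by
    by_contra h2
    have hjodd : Odd j := Int.not_even_iff_odd.1 (fun he => h2 (even_iff_two_dvd.1 he))
    have ho : Odd ((N : ℤ) * j ^ 2) := (Int.odd_coe_nat N).2 hN |>.mul hjodd.pow
    rw [h1] at ho
    exact absurd ho (Int.not_odd_iff_even.2 ⟨2 * f * (T * j + δ) * M ^ 2, by ring⟩)
  subst hi
  set f' : ℤ := 2 * T * i + δ with hf'
  have h2 : (N : ℤ) * i ^ 2 = f * f' * M ^ 2 := by
    refine mul_left_cancel₀ (show (4 : ℤ) ≠ 0 by norm_num) ?_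
    rw [hf']
    linear_combination h1
  have hcop : IsCoprime i (f * f') := by
    refine IsCoprime.mul_right ⟨-(4 * T) * δ, δ, ?_⟩ ⟨-(2 * T) * δ, δ, ?_⟩
    · rw [hfe]; linear_combination hδ2
    · rw [hf']; linear_combination hδ2
  obtain ⟨a, ha⟩ : i ∣ M := by
    have hd : i ^ 2 ∣ M ^ 2 := (hcop.pow_left (m := 2)).dvd_of_dvd_mul_left
      ⟨N, by linear_combination -h2⟩
    exact (Int.pow_dvd_pow_iff two_ne_zero).1 hd
  have hi0 : i ≠ 0 := by omega
  have hNa : (N : ℤ) = f * f' * a ^ 2 := mul_right_cancel₀ (pow_ne_zero 2 hi0) (by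
    rw [h2, ha]; ring)
  have ha0 : 0 < a := by
    have hM0 : 0 < M := by
      have := hr.pos
      have hz0 : 0 < z := Nat.pos_of_ne_zero fun h => by
        subst h
        have h' : ((N : ℤ) - 1) = 0 := zero_dvd_iff.1 (by simpa using hN1)
        have : N = 1 := by omega
        subst this
        -- `N = 1` forces a zero right-hand side
        rw [hM] at h2
        simp at h2
        omega
      have hμ0 : 0 < μ := hμ.pos
      positivity
    rw [ha] at hM0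
    exact pos_of_mul_pos_right hM0 (by omega)
  -- `a` is prime to `z`
  have hcz : IsCoprime a (z : ℤ) := by
    obtain ⟨c, hc⟩ := hN1
    exact ⟨f * f' * a, -c, by linear_combination -hNa + hc⟩
  have hcr : IsCoprime a (r : ℤ) := hcz.of_isCoprime_of_dvd_right (Int.natCast_dvd_natCast.2 hrz)
  have haμ : a ∣ (μ : ℤ) := by
    refine (hcr.mul_right hcz).dvd_of_dvd_mul_left ⟨i, ?_⟩
    rw [← hM, ha]; ring
  obtain ⟨c, hc⟩ := haμ
  have hic : i = (r : ℤ) * z * c := mul_right_cancel₀ ha0.ne' (by rw [← ha, hM, hc]; ring)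
  have hza : (z : ℤ) ∣ a ^ 2 - 1 := by
    obtain ⟨d, hd⟩ := hN1
    refine ⟨d - (4 * T * (r * c) * f' + δ * (2 * T * (r * c))) * a ^ 2, ?_⟩
    rw [hNa, hfe, hf', hic] at hd
    rw [hf', hic]
    linear_combination hd + a ^ 2 * (-1 : ℤ) * hδ2
  have ha1 : a = 1 := by
    have hle : a ≤ (μ : ℤ) := Int.le_of_dvd (by exact_mod_cast hμ.pos) ⟨c, hc⟩
    have hra : (r : ℤ) ∣ (a - 1) * (a + 1) := by
      rw [show (a - 1) * (a + 1) = a ^ 2 - 1 by ring]
      exact (Int.natCast_dvd_natCast.2 hrz).trans hza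
    have hμ' : (2 * μ : ℤ) ≤ r + 1 := by exact_mod_cast hμ2
    have hr5' : (5 : ℤ) ≤ r := by exact_mod_cast hr5
    rcases (Nat.prime_iff_prime_int.1 hr).dvd_or_dvd hra with h | h
    · have h0 := Int.eq_zero_of_abs_lt_dvd h (by rw [abs_lt]; constructor <;> linarith)
      linarith
    · have h0 := Int.eq_zero_of_abs_lt_dvd h (by rw [abs_lt]; constructor <;> linarith)
      linarith
  subst ha1
  rw [one_pow, mul_one] at hNa
  rw [mul_one] at ha
  rw [hNa, hfe, hf', ← ha]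
  ring

/-- The end of case (III). -/
theorem false_of_index {r z μ k N q : ℕ} {e δ : ℤ} (hr : r.Prime) (hr5 : 5 ≤ r) (hrz : r ∣ z)
    (hz : 0 < z) (hμ : Odd μ) (hμ2 : 2 * μ ≤ r + 1) (he : e = 1 ∨ e = -1) (hδ : δ = 1 ∨ δ = -1)
    (hq : IsPrimePow q) (hqo : Odd q) (hqe : (q : ℤ) - e = 2 ^ (k + 2) * z) (hdvd : q ∣ μ * N)
    (hN : (N : ℤ) = (2 * (2 ^ (k + 1) * (r * z * μ)) + δ) * (2 ^ (k + 1) * (r * z * μ) + δ)) :
    False := by
  obtain ⟨p, n, hp, hn, rfl⟩ := hq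
  have hp' : p.Prime := hp.nat_prime
  have hpi : Prime (p : ℤ) := Nat.prime_iff_prime_int.1 hp'
  have he2 : e * e = 1 := by rcases he with h | h <;> rw [h] <;> norm_num
  have hδ2 : δ * δ = 1 := by rcases hδ with h | h <;> rw [h] <;> norm_num
  set s := e * δ with hs
  have hs1 : s = 1 ∨ s = -1 := by rcases he with h | h <;> rcases hδ with h' | h' <;> simp [hs, h, h']
  set Q : ℤ := ((p ^ n : ℕ) : ℤ) with hQ
  set A : ℤ := (r : ℤ) * μ with hA
  set m : ℤ := 2 ^ (k + 1) * (r * z * μ) with hm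
  have hm2 : 2 * m = (Q - e) * A := by
    rw [hqe, hm, hA, pow_succ 2 (k + 1)]; ring
  -- `q ∣ μ (r μ - s) (r μ - 2 s)`
  have h1 : Q ∣ (μ : ℤ) * ((A - s) * (A - 2 * s)) := by
    have h := dvd_mul_of_dvd_left (Int.natCast_dvd_natCast.2 hdvd) (2 : ℤ)
    obtain ⟨c, hc⟩ := h
    rw [← hQ] at hc
    refine ⟨c - (μ : ℤ) * A * (Q * A - 2 * e * A + 3 * δ), ?_⟩
    push_cast at hc
    rw [hN] at hc
    rw [hs]
    linear_combination hc - (μ : ℤ) * (2 * m + 3 * δ + (Q - e) * A) * hm2 +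
      (μ : ℤ) * A ^ 2 * (-1 : ℤ) * he2 + (μ : ℤ) * 2 * δ ^ 2 * he2
  have hQpow : Q = (p : ℤ) ^ n := by rw [hQ]; push_cast; rfl
  have hpodd : Odd p := (Nat.odd_pow_iff hn.ne').1 hqo
  have hp2 : ¬ (p : ℤ) ∣ 2 := fun h => by
    have := Nat.le_of_dvd two_pos (Int.natCast_dvd_natCast.1 h)
    have := hp'.two_le
    obtain ⟨c, hc⟩ := hpodd
    omega
  have hunit : ¬ (p : ℤ) ∣ s := fun h => hpi.not_isUnit (isUnit_of_dvd_unit h
    (Int.isUnit_iff.2 hs1))
  have hμ0 : (0 : ℤ) < μ := by exact_mod_cast hμ.pos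
  have hr5' : (5 : ℤ) ≤ r := by exact_mod_cast hr5
  have hz1 : (1 : ℤ) ≤ z := by exact_mod_cast hz
  have hzr : (r : ℤ) ≤ z := by exact_mod_cast Nat.le_of_dvd hz hrz
  have hμ' : (2 * μ : ℤ) ≤ r + 1 := by exact_mod_cast hμ2
  have hQbig : 4 * (r : ℤ) - 1 ≤ Q := by
    have : (4 : ℤ) * z ≤ 2 ^ (k + 2) * z := by
      refine mul_le_mul_of_nonneg_right ?_ (by linarith)
      calc (4 : ℤ) = 2 ^ 2 := by norm_num
        _ ≤ 2 ^ (k + 2) := pow_le_pow_right₀ (by norm_num) (by omega)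
    rcases he with h | h <;> rw [h] at hqe <;> linarith
  have hone : Q ∣ (μ : ℤ) ∨ Q ∣ A - s ∨ Q ∣ A - 2 * s := by
    rw [hQpow] at h1 ⊢
    by_cases hd : (p : ℤ) ∣ (μ : ℤ)
    · refine Or.inl (hpi.pow_dvd_of_dvd_mul_right n (fun h => ?_) h1)
      have hA' : (p : ℤ) ∣ A := dvd_mul_of_dvd_right hd _
      rcases hpi.dvd_or_dvd h with h' | h'
      · exact hunit (by simpa using dvd_sub hA' h')
      · have h2s : (p : ℤ) ∣ 2 * s := by simpa using dvd_sub hA' h'
        exact (hpi.dvd_or_dvd h2s).elim hp2 hunit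
    · have h2 := hpi.pow_dvd_of_dvd_mul_left n hd h1
      by_cases hd' : (p : ℤ) ∣ A - s
      · refine Or.inr (Or.inl (hpi.pow_dvd_of_dvd_mul_right n (fun h => hunit ?_) h2))
        simpa [two_mul] using dvd_sub hd' h
      · exact Or.inr (Or.inr (hpi.pow_dvd_of_dvd_mul_left n hd' h2))
  have hAodd : Odd A := by
    rw [hA]
    exact ((Int.odd_coe_nat r).2 (hr.odd_of_ne_two (by omega))).mul ((Int.odd_coe_nat μ).2 hμ)
  have key : ∀ j : ℤ, (j = 1 ∨ j = 2) → Q ∣ A - j * s → False := by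
    rintro j hj ⟨l, hl⟩
    have hA5 : 5 ≤ A := by rw [hA]; nlinarith
    have hpos : 0 < A - j * s := by
      rcases hj with h | h <;> rcases hs1 with h' | h' <;> rw [h, h'] <;> linarith
    have hl0 : 0 < l := by
      rw [hl] at hpos; exact pos_of_mul_pos_right hpos (by linarith)
    have hup : A - j * s ≤ A + 2 := by
      rcases hj with h | h <;> rcases hs1 with h' | h' <;> rw [h, h'] <;> linarith
    have hA2 : 2 * A ≤ (r : ℤ) * (r + 1) := by rw [hA]; nlinarith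
    have hl3 : l ≤ r - 3 := by
      by_contra hlt
      push Not at hlt
      have h3 : ((r : ℤ) - 2) * (4 * r - 1) ≤ l * Q :=
        mul_le_mul (by linarith) hQbig (by linarith) (by linarith)
      nlinarith
    have hrl : (r : ℤ) ∣ l + j * δ := by
      obtain ⟨c, hc⟩ : (r : ℤ) ∣ Q - e := hqe ▸ dvd_mul_of_dvd_right (Int.natCast_dvd_natCast.2 hrz) _
      refine ⟨e * μ - e * l * c, ?_⟩
      rw [hs, hA] at hl
      linear_combination -e * hl - e * l * hc - (l + j * δ) * he2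
    have h0 : l + j * δ = 0 := Int.eq_zero_of_abs_lt_dvd hrl (by
      rw [abs_lt]
      rcases hj with h | h <;> rcases hδ with h' | h' <;> rw [h, h'] <;> constructor <;> linarith)
    obtain rfl : δ = -1 := by
      rcases hδ with h | h
      · rw [h] at h0; rcases hj with h' | h' <;> rw [h'] at h0 <;> linarith
      · exact h
    have hlj : l = j := by linarith
    subst hlj
    have hev : A = l * (Q - e) := by
      rw [hs] at hl
      linear_combination hl
    rw [hqe, pow_succ 2 (k + 1)] at hev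
    exact absurd hAodd (Int.not_odd_iff_even.2 ⟨l * (2 ^ (k + 1) * z), by rw [hev]; ring⟩)
  rcases hone with h | h | h
  · have := Int.le_of_dvd hμ0 h
    linarith
  · exact key 1 (Or.inl rfl) (by rwa [one_mul])
  · exact key 2 (Or.inr rfl) h

end CfsgLib.GW.Max31.Heis
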