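import Cfsg.Agent.Lib.GW.Max33
import Cfsg.Agent.Lib.GW.Local
import Cfsg.Agent.Lib.GW.UniqOne

/-!
Gorenstein–Walter, Step 3.2: the signs of the reflections on the groups `O_q(C(t))` and the part of
`U` centralising `F(C(t))`.
-/

set_option autoImplicit false
set_option linter.all false

namespace CfsgLib.GW.Max32

open Subgroup CfsgLib.GW

universe u

variable {G : Type u} [Group G] [Finite G] (E : Setup G)

/-- `U ∩ C(F(C(t)))`, an abelian normal subgroup of `C(t)`. -/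
def Zc : Subgroup G := E.U ⊓ centralizer (fitIn E.H : Set G)

theorem R_le_H (r : ℕ) : E.R r ≤ E.H := map_subtype_le _

theorem isPGroup_R {r : ℕ} (hr : r.Prime) : IsPGroup r (E.R r) :=
  Cfsg.Tech46.Bender.coreIn_isPGroup hr E.H

theorem odd_card_R {r : ℕ} (hr : r.Prime) (hr2 : r ≠ 2) : Odd (Nat.card (E.R r)) :=
  Local.odd_card_of_isPGroup hr hr2 (isPGroup_R E hr)

theorem R_le_U {r : ℕ} (hr : r.Prime) (hr2 : r ≠ 2) : E.R r ≤ E.U := fun _ hx =>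
  E.odd_orderOf_mem_U (R_le_H E r hx) (CfsgLib.RankOneInvol.odd_orderOf_of_mem (odd_card_R E hr hr2) hx)

theorem conj_mem_R {r : ℕ} {h x : G} (hh : h ∈ E.H) (hx : x ∈ E.R r) : h * x * h⁻¹ ∈ E.R r :=
  (mem_normalizer_iff.1 (Cfsg.Tech46.Bender.coreIn_le_normalizer r E.H hh) x).1 hx

theorem normalizer_R (hH : IsCoatom E.H) {r : ℕ} (hne : E.R r ≠ ⊥) :
    normalizer (E.R r : Set G) = E.H :=
  haveI := E.simple
  Cfsg.Tech46.Bender.normalizer_eq_of_isCoatom hH _ hne (R_le_H E r)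
    (Cfsg.Tech46.Bender.coreIn_le_normalizer r E.H)

/-- An element normalising a four-group element-wise fixes membership. -/
theorem conj_eq_self {a x : G} (h : a * x = x * a) : a * x * a⁻¹ = x := by
  rw [h, mul_inv_cancel_right]

/-- A reflection meeting `O_r` trivially inverts it. -/
theorem inverts_of_inf {b : G} (hb : E.Refl b) {r : ℕ} (hr : r.Prime) (hr2 : r ≠ 2)
    (h : E.R r ⊓ E.X b = ⊥) : ∀ y ∈ E.R r, b * y * b⁻¹ = y⁻¹ := by
  intro y hy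
  have hodd := odd_card_R E hr hr2
  have hn : ∀ w ∈ E.R r, b * w * b ∈ E.R r := fun w hw => by
    have := conj_mem_R E hb.mem_H hw
    rwa [hb.inv] at this
  obtain ⟨c, z, hc, hcb, -, hzb, rfl⟩ :=
    CfsgLib.RankOneInvol.exists_fixed_mul_inverted hodd hb.sq hn hy
  have hcc : c * b = b * c := by
    calc c * b = b * c * b * b := by rw [hcb]
      _ = b * c := by rw [mul_assoc, hb.sq, mul_one]
  have h1 : c ∈ E.R r ⊓ E.X b := ⟨hc, hb.mem_X.2 ⟨E.mem_H.1 (R_le_H E r hc), hcc,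
    CfsgLib.RankOneInvol.odd_orderOf_of_mem hodd hc⟩⟩
  rw [h, mem_bot] at h1
  rw [h1, one_mul, hb.inv]
  exact hzb

theorem commute_of_le {b : G} (hb : E.Refl b) {r : ℕ} (h : E.R r ≤ E.X b) :
    ∀ y ∈ E.R r, b * y * b⁻¹ = y := fun y hy => conj_eq_self (hb.mem_X.1 (h hy)).2.1.symm

theorem sign_refl (hD : E.Dichotomy) {b : G} (hb : E.Refl b) {r : ℕ} (hr : r.Prime) (hr2 : r ≠ 2) :
    (∀ y ∈ E.R r, b * y * b⁻¹ = y) ∨ (∀ y ∈ E.R r, b * y * b⁻¹ = y⁻¹) :=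
  (hD r hr hr2 b hb).elim (fun h => Or.inl (commute_of_le E hb h))
    (fun h => Or.inr (inverts_of_inf E hb hr hr2 h))

/-- Every element of the Sylow subgroup centralises or inverts each `O_r(C(t))`. -/
theorem sign (hD : E.Dichotomy) {s : G} (hs : s ∈ (E.S : Subgroup G)) {r : ℕ} (hr : r.Prime)
    (hr2 : r ≠ 2) :
    (∀ y ∈ E.R r, s * y * s⁻¹ = y) ∨ (∀ y ∈ E.R r, s * y * s⁻¹ = y⁻¹) := by
  by_cases hsr : s ∈ zpowers E.d.r
  swap
  · exact sign_refl E hD (⟨hs, hsr⟩ : E.Refl s) hr hr2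
  have hsa : E.Refl (s * E.d.a) := ⟨mul_mem hs E.d.a_mem, E.d.mul_refl hsr E.d.a_notMem⟩
  have e : ∀ y : G, s * y * s⁻¹ = (s * E.d.a) * (E.d.a * y * E.d.a⁻¹) * (s * E.d.a)⁻¹ := fun y => by
    rw [mul_inv_rev, E.d.a_inv]
    calc s * y * s⁻¹ = s * (E.d.a * E.d.a) * y * (E.d.a * E.d.a) * s⁻¹ := by
          rw [E.d.sq]; group
      _ = _ := by group
  rcases sign_refl E hD hsa hr hr2 with h1 | h1 <;> rcases sign_refl E hD E.refl_a hr hr2 with h2 | h2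
  · exact Or.inl fun y hy => by rw [e, h2 y hy, h1 y hy]
  · exact Or.inr fun y hy => by rw [e, h2 y hy, h1 _ (inv_mem hy)]
  · exact Or.inr fun y hy => by rw [e, h2 y hy, h1 y hy]
  · exact Or.inl fun y hy => by rw [e, h2 y hy, h1 _ (inv_mem hy), inv_inv]

omit [Finite G] in
theorem comm_of_inverts {A : Subgroup G} {s : G} (h : ∀ y ∈ A, s * y * s⁻¹ = y⁻¹) :
    ∀ x ∈ A, ∀ y ∈ A, x * y = y * x := fun x hx y hy => by
  have h1 := h _ (mul_mem hx hy)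
  rw [show s * (x * y) * s⁻¹ = (s * x * s⁻¹) * (s * y * s⁻¹) by group, h x hx, h y hy] at h1
  have := congrArg (·⁻¹) h1
  simpa using this.symm

theorem Zc_le_U : Zc E ≤ E.U := inf_le_left

theorem Zc_le_fit : Zc E ≤ fitIn E.H := by
  haveI := Max33.solvable_H E
  intro x hx
  refine ⟨⟨x, E.U_le_H hx.1⟩, CfsgLib.Fitting.centralizer_fitting_le ?_, rfl⟩
  rw [mem_centralizer_iff]
  exact fun f hf => Subtype.ext (mem_centralizer_iff.1 hx.2 _ ⟨f, hf, rfl⟩)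

theorem Zc_comm : ∀ x ∈ Zc E, ∀ y ∈ Zc E, x * y = y * x := fun _ hx _ hy =>
  mem_centralizer_iff.1 hy.2 _ (Zc_le_fit E hx)

/-- The elements of `U` centralising every odd `O_m(C(t))` lie in `Zc`. -/
theorem mem_Zc {x : G} (hx : x ∈ E.U)
    (h : ∀ m : ℕ, m.Prime → m ≠ 2 → ∀ y ∈ E.R m, x * y = y * x) : x ∈ Zc E := by
  refine ⟨hx, mem_centralizer_iff.2 ?_⟩
  rintro _ ⟨f, hf, rfl⟩
  refine (Cfsg.Tech46.Bender.commute_of_parts (mem_map_of_mem E.H.subtype hf)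
    fun m hm y _ hy => ?_).eq.symm
  by_cases hm2 : m = 2
  · subst hm2
    refine Cfsg.Tech46.Bender.commute_of_disjoint (A := E.U) (B := Cfsg.Agent.S1312.coreIn 2 E.H)
      ?_ hx hy (Cfsg.Tech46.Bender.coreIn_le_normalizer 2 E.H (E.U_le_H hx)) ?_
    · rw [disjoint_iff]
      haveI : Fact (Nat.Prime 2) := ⟨Nat.prime_two⟩
      refine CfsgLib.PCore.eq_bot_of_isPGroup_coprime
        ((Cfsg.Tech46.Bender.coreIn_isPGroup Nat.prime_two E.H).to_le inf_le_right) ?_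
      exact Nat.Coprime.coprime_dvd_left (card_dvd_of_le inf_le_left)
        (Nat.coprime_two_right.2 E.odd_card_U)
    · rw [mem_normalizer_iff]
      have hyH : y ∈ E.H := Cfsg.Agent.S1312.coreIn_le _ _ hy
      refine fun u => ⟨fun hu => E.conj_mem_U hyH hu, fun hu => ?_⟩
      have := E.conj_mem_U (inv_mem hyH) hu
      simpa [mul_assoc] using this
  · exact h m hm hm2 y hy

theorem conj_mem_Zc {h x : G} (hh : h ∈ E.H) (hx : x ∈ Zc E) : h * x * h⁻¹ ∈ Zc E := by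
  refine ⟨E.conj_mem_U hh hx.1, mem_centralizer_iff.2 fun f hf => ?_⟩
  have hf' := Max33.conj_mem_fit E (inv_mem hh) hf
  rw [inv_inv] at hf'
  have h1 := mem_centralizer_iff.1 hx.2 _ hf'
  calc f * (h * x * h⁻¹) = h * ((h⁻¹ * f * h) * x) * h⁻¹ := by group
    _ = h * (x * (h⁻¹ * f * h)) * h⁻¹ := by rw [h1]
    _ = h * x * h⁻¹ * f := by group

/-- The Sylow subgroup centralises `U` modulo `Zc`. -/
theorem sylow_commutator_mem_Zc (hD : E.Dichotomy) {s u : G} (hs : s ∈ (E.S : Subgroup G))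
    (hu : u ∈ E.U) : u⁻¹ * (s * u * s⁻¹) ∈ Zc E := by
  refine mem_Zc E (mul_mem (inv_mem hu) (E.conj_mem_U (E.S_le_H hs) hu)) fun m hm hm2 y hy => ?_
  have hkey : s * u * s⁻¹ * y * (s * u * s⁻¹)⁻¹ = u * y * u⁻¹ := by
    have hi : s * u * s⁻¹ * y * (s * u * s⁻¹)⁻¹ = s * (u * (s⁻¹ * y * s) * u⁻¹) * s⁻¹ := by group
    have huy : u * y * u⁻¹ ∈ E.R m := conj_mem_R E (E.U_le_H hu) hy
    rcases sign E hD hs hm hm2 with h1 | h1
    · have h2 : s⁻¹ * y * s = y := by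
        calc s⁻¹ * y * s = s⁻¹ * (s * y * s⁻¹) * s := by rw [h1 y hy]
          _ = y := by group
      rw [hi, h2, h1 _ huy]
    · have h2 : s⁻¹ * y * s = y⁻¹ := by
        calc s⁻¹ * y * s = s⁻¹ * (s * y⁻¹ * s⁻¹) * s := by rw [h1 _ (inv_mem hy), inv_inv]
          _ = y⁻¹ := by group
      rw [hi, h2, show u * y⁻¹ * u⁻¹ = (u * y * u⁻¹)⁻¹ by group, h1 _ (inv_mem huy), inv_inv]
  calc u⁻¹ * (s * u * s⁻¹) * y
      = u⁻¹ * (s * u * s⁻¹ * y * (s * u * s⁻¹)⁻¹) * (s * u * s⁻¹) := by group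
    _ = u⁻¹ * (u * y * u⁻¹) * (s * u * s⁻¹) := by rw [hkey]
    _ = y * (u⁻¹ * (s * u * s⁻¹)) := by group

theorem mem_R_of_Zc {r : ℕ} (hr : r.Prime) {x : G} (hx : x ∈ Zc E) {k : ℕ}
    (hk : x ^ r ^ k = 1) : x ∈ E.R r := by
  obtain ⟨j, -, hj⟩ := (Nat.dvd_prime_pow hr).1 (orderOf_dvd_of_pow_eq_one hk)
  exact Max33.mem_R_of_fit E hr (Zc_le_fit E hx) hj

theorem mem_R_of_Zc' {r : ℕ} (hr : r.Prime) {A : Subgroup G} (hA : IsPGroup r A) {x : G}
    (hx : x ∈ Zc E) (hxA : x ∈ A) : x ∈ E.R r := by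
  obtain ⟨k, hk⟩ := hA ⟨x, hxA⟩
  exact mem_R_of_Zc E hr hx (congrArg Subtype.val hk)

/-- An invariant subgroup of `U` is covered by `Zc` and the centraliser of the reflection. -/
theorem exists_X_mul (hD : E.Dichotomy) {c : G} (hc : E.Refl c) {A : Subgroup G} (hA : A ≤ E.U)
    (hn : ∀ x ∈ A, c * x * c ∈ A) {u : G} (hu : u ∈ A) :
    ∃ y ∈ A, y ∈ E.X c ∧ y⁻¹ * u ∈ Zc E := by
  have hfix := sylow_commutator_mem_Zc E hD hc.1 (hA hu)
  rw [hc.inv] at hfix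
  obtain ⟨y, hy, hyc, hyu⟩ := CfsgLib.GW.Uniq.exists_fixed_coset_rep (M := Zc E)
    (E.odd_card_U.of_dvd_nat (card_dvd_of_le hA)) hc.sq hn hu hfix
  refine ⟨y, hy, hc.mem_X.2 ⟨(E.mem_U.1 (hA hy)).1, ?_, (E.mem_U.1 (hA hy)).2⟩, hyu⟩
  calc y * c = c * y * c * c := by rw [hyc]
    _ = c * y := by rw [mul_assoc, hc.sq, mul_one]

end CfsgLib.GW.Max32
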