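import Cfsg.Agent.Lib.GW.Max31OutPlane
import Cfsg.Agent.Lib.GW.Max32Base

/-!
Gorenstein–Walter, Step 3.1 e, case (III): the structure of `R = O_r(C(t))` when both `e` and the
inverted element `w` lie in the second centre.
-/

set_option autoImplicit false
set_option linter.style.haveILetI false
set_option linter.unusedSectionVars false

namespace CfsgLib.GW.Max31.Heis

open Subgroup

universe u

variable {G : Type u} [Group G]

/-- The exponent of a power of `τ`, modulo `r`. -/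
noncomputable def lg (r : ℕ) (τ c : G) : ZMod r :=
  open scoped Classical in
  if h : ∃ i : ℤ, τ ^ i = c then (h.choose : ZMod r) else 0

theorem lg_zpow {r : ℕ} {τ : G} (hτ : orderOf τ = r) (i : ℤ) : lg r τ (τ ^ i) = i := by
  have h : ∃ j : ℤ, τ ^ j = τ ^ i := ⟨i, rfl⟩
  rw [lg, dif_pos h]
  have h1 : τ ^ (h.choose - i) = 1 := by rw [zpow_sub, h.choose_spec, mul_inv_cancel]
  have h2 : (orderOf τ : ℤ) ∣ h.choose - i := orderOf_dvd_iff_zpow_eq_one.2 h1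
  rw [hτ] at h2
  exact ((ZMod.intCast_eq_intCast_iff_dvd_sub _ _ r).2 (by rw [dvd_sub_comm]; exact h2))

/-- The commutator exponent. -/
noncomputable def kap (r : ℕ) (τ x y : G) : ZMod r := lg r τ (x * y * x⁻¹ * y⁻¹)

variable {r : ℕ} {τ : G}

theorem kap_eq (hτ : orderOf τ = r) {x y : G} {i : ℤ} (h : x * y * x⁻¹ * y⁻¹ = τ ^ i) :
    kap r τ x y = i := by rw [kap, h, lg_zpow hτ]

theorem kap_mul_left (hτ : orderOf τ = r) {x x' y : G} (h : x * y * x⁻¹ * y⁻¹ ∈ zpowers τ)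
    (h' : x' * y * x'⁻¹ * y⁻¹ ∈ zpowers τ) (hc : Commute x τ) :
    x * x' * y * (x * x')⁻¹ * y⁻¹ ∈ zpowers τ ∧
      kap r τ (x * x') y = kap r τ x y + kap r τ x' y := by
  obtain ⟨i, hi⟩ := mem_zpowers_iff.1 h
  obtain ⟨j, hj⟩ := mem_zpowers_iff.1 h'
  have e : x * x' * y * (x * x')⁻¹ * y⁻¹ = τ ^ (j + i) := by
    calc x * x' * y * (x * x')⁻¹ * y⁻¹
        = x * (x' * y * x'⁻¹ * y⁻¹) * x⁻¹ * (x * y * x⁻¹ * y⁻¹) := by group
      _ = τ ^ j * τ ^ i := by rw [← hi, ← hj, (hc.zpow_right j).eq, mul_inv_cancel_right]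
      _ = _ := (zpow_add τ j i).symm
  refine ⟨e ▸ zpow_mem (mem_zpowers τ) _, ?_⟩
  rw [kap_eq hτ e, kap_eq hτ hi.symm, kap_eq hτ hj.symm, Int.cast_add, add_comm]

theorem kap_mul_right (hτ : orderOf τ = r) {x y y' : G} (h : x * y * x⁻¹ * y⁻¹ ∈ zpowers τ)
    (h' : x * y' * x⁻¹ * y'⁻¹ ∈ zpowers τ) (hc : Commute y τ) :
    x * (y * y') * x⁻¹ * (y * y')⁻¹ ∈ zpowers τ ∧
      kap r τ x (y * y') = kap r τ x y + kap r τ x y' := by
  obtain ⟨i, hi⟩ := mem_zpowers_iff.1 h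
  obtain ⟨j, hj⟩ := mem_zpowers_iff.1 h'
  have e : x * (y * y') * x⁻¹ * (y * y')⁻¹ = τ ^ (i + j) := by
    calc x * (y * y') * x⁻¹ * (y * y')⁻¹
        = x * y * x⁻¹ * y⁻¹ * (y * (x * y' * x⁻¹ * y'⁻¹) * y⁻¹) := by group
      _ = τ ^ i * τ ^ j := by rw [← hi, ← hj, (hc.zpow_right j).eq, mul_inv_cancel_right]
      _ = _ := (zpow_add τ i j).symm
  refine ⟨e ▸ zpow_mem (mem_zpowers τ) _, ?_⟩
  rw [kap_eq hτ e, kap_eq hτ hi.symm, kap_eq hτ hj.symm, Int.cast_add]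

theorem kap_swap (hτ : orderOf τ = r) {x y : G} (h : x * y * x⁻¹ * y⁻¹ ∈ zpowers τ) :
    y * x * y⁻¹ * x⁻¹ ∈ zpowers τ ∧ kap r τ y x = -kap r τ x y := by
  obtain ⟨i, hi⟩ := mem_zpowers_iff.1 h
  have e : y * x * y⁻¹ * x⁻¹ = τ ^ (-i) := by rw [zpow_neg, hi]; group
  exact ⟨e ▸ zpow_mem (mem_zpowers τ) _, by rw [kap_eq hτ e, kap_eq hτ hi.symm, Int.cast_neg]⟩

theorem kap_conj (hτ : orderOf τ = r) {g x y : G} {δ : ℤ} (hg : g * τ * g⁻¹ = τ ^ δ)
    (h : x * y * x⁻¹ * y⁻¹ ∈ zpowers τ) :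
    kap r τ (g * x * g⁻¹) (g * y * g⁻¹) = δ * kap r τ x y := by
  obtain ⟨i, hi⟩ := mem_zpowers_iff.1 h
  have e : g * x * g⁻¹ * (g * y * g⁻¹) * (g * x * g⁻¹)⁻¹ * (g * y * g⁻¹)⁻¹ = τ ^ (δ * i) := by
    calc g * x * g⁻¹ * (g * y * g⁻¹) * (g * x * g⁻¹)⁻¹ * (g * y * g⁻¹)⁻¹
        = g * (x * y * x⁻¹ * y⁻¹) * g⁻¹ := by group
      _ = (g * τ * g⁻¹) ^ i := by rw [← hi, conj_zpow]
      _ = _ := by rw [hg, ← zpow_mul]
  rw [kap_eq hτ e, kap_eq hτ hi.symm, Int.cast_mul]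

theorem kap_of_commute (hτ : orderOf τ = r) {x y : G} (h : x * y = y * x) :
    x * y * x⁻¹ * y⁻¹ ∈ zpowers τ ∧ kap r τ x y = 0 := by
  have e : x * y * x⁻¹ * y⁻¹ = τ ^ (0 : ℤ) := by
    rw [h, zpow_zero, mul_inv_cancel_right, mul_inv_cancel]
  exact ⟨e ▸ zpow_mem (mem_zpowers τ) _, by rw [kap_eq hτ e, Int.cast_zero]⟩

theorem commute_of_kap (hτ : orderOf τ = r) {x y : G} (h : x * y * x⁻¹ * y⁻¹ ∈ zpowers τ)
    (h0 : kap r τ x y = 0) : x * y = y * x := by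
  obtain ⟨i, hi⟩ := mem_zpowers_iff.1 h
  rw [kap_eq hτ hi.symm, ZMod.intCast_zmod_eq_zero_iff_dvd, ← hτ, orderOf_dvd_iff_zpow_eq_one] at h0
  rw [h0] at hi
  exact mul_inv_eq_iff_eq_mul.1 (mul_inv_eq_one.1 hi.symm)

variable [Finite G] {E : Setup G} {b : G}

/-- The hypotheses of case (III); `τ = [e, w]`. -/
structure Data (O : Out E b r) (w : G) : Prop where
  all_refl : ∀ v, E.Refl v → v ∈ O.C.P
  w_mem : w ∈ E.R r
  w_notMem : w ∉ O.C.K
  w_inv : b * w * b = w⁻¹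
  order_tau : orderOf (O.C.e * w * O.C.e⁻¹ * w⁻¹) = r
  tau_central : ∀ x ∈ E.R r, x * (O.C.e * w * O.C.e⁻¹ * w⁻¹) = O.C.e * w * O.C.e⁻¹ * w⁻¹ * x
  w_A : ∀ x ∈ E.R r, w * x * w⁻¹ * x⁻¹ ∈ zpowers (O.C.e * w * O.C.e⁻¹ * w⁻¹)
  e_A : ∀ x ∈ E.R r, O.C.e * x * O.C.e⁻¹ * x⁻¹ ∈ zpowers (O.C.e * w * O.C.e⁻¹ * w⁻¹)
  inv_center : ∀ v, E.Refl v → ∀ x ∈ E.R r, (∀ y ∈ E.R r, y * x = x * y) → v * x * v = x⁻¹
  inv_other : ∀ m, m.Prime → m ≠ r → m ≠ 2 → ∀ x ∈ E.R m,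
    x ∈ O.C.K ∧ ∀ v, E.Refl v → v * x * v = x⁻¹
  cent_center : ∀ u ∈ E.U, ∀ x ∈ E.R r, (∀ y ∈ E.R r, y * x = x * y) → u * x = x * u
  cent_other : ∀ u ∈ E.U, ∀ m, m.Prime → m ≠ r → m ≠ 2 → ∀ x ∈ E.R m, u * x = x * u

namespace Data

variable {O : Out E b r} {w : G} (D : Data O w)

/-- `[e, w]`. -/
def tau (_D : Data O w) : G := O.C.e * w * O.C.e⁻¹ * w⁻¹

/-- The commutator exponent with respect to `[e, w]`. -/
noncomputable def κ (D : Data O w) (x y : G) : ZMod r := kap r D.tau x y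

include D in
theorem e_mem : O.C.e ∈ E.R r := O.e_mem.1

theorem tau_mem : D.tau ∈ E.R r :=
  mul_mem (mul_mem (mul_mem D.e_mem D.w_mem) (inv_mem D.e_mem)) (inv_mem D.w_mem)

theorem hord : orderOf D.tau = r := D.order_tau

theorem commute_tau {x : G} (hx : x ∈ E.R r) : Commute x D.tau := D.tau_central x hx

theorem kap_ew : D.κ O.C.e w = 1 := by
  rw [κ, kap_eq D.hord (i := 1) (zpow_one _).symm, Int.cast_one]

include D in
/-- `R ∩ C(b) = ⟨e⟩`. -/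
theorem fixR_eq {x : G} (hx : x ∈ O.fixR) : x ∈ zpowers O.C.e := by
  haveI := Fact.mk O.prime
  have hmem : ∀ c : O.fixR, (c : G) * w * (c : G)⁻¹ * w⁻¹ ∈ zpowers D.tau := fun c =>
    (kap_swap D.hord (D.w_A c c.2.1)).1
  let f : O.fixR →* Multiplicative (ZMod r) :=
    { toFun := fun c => Multiplicative.ofAdd (D.κ c w)
      map_one' := by
        show Multiplicative.ofAdd (kap r D.tau ((1 : O.fixR) : G) w) = 1
        rw [Subgroup.coe_one, (kap_of_commute D.hord (show (1 : G) * w = w * 1 by rw [one_mul, mul_one])).2]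
        rfl
      map_mul' := fun c c' => by
        rw [← ofAdd_add]
        exact congrArg _ (kap_mul_left D.hord (hmem c) (hmem c') (D.commute_tau c.2.1)).2 }
  have hf : Function.Injective f := (injective_iff_map_eq_one f).2 fun c hc => by
    have h0 : D.κ c w = 0 := Multiplicative.toAdd.injective.eq_iff.2 hc
    have h := commute_of_kap D.hord (hmem c) h0
    refine Subtype.ext (O.fix_eq_one_of_conj D.w_mem D.w_notMem D.w_inv c.2 ?_)
    rw [← h, mul_inv_cancel_right]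
    exact c.2
  have hle : zpowers O.C.e ≤ O.fixR := zpowers_le.2 O.e_mem
  have hcard : Nat.card O.fixR ≤ Nat.card (zpowers O.C.e) := by
    refine le_trans (Nat.card_le_card_of_injective f hf) ?_
    rw [Nat.card_zpowers, O.C.orderOf_e, Nat.card_congr Multiplicative.toAdd, Nat.card_zmod]
  rw [← eq_of_le_of_card_ge hle hcard] at hx
  exact hx

include D in
/-- An element of `R ∩ K` inverted by `b` is central in `R`. -/
theorem central_of_inv {y : G} (hy : y ∈ E.R r ⊓ O.C.K) (hyb : b * y * b = y⁻¹) :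
    ∀ x ∈ E.R r, x * y = y * x := by
  haveI := Fact.mk O.prime
  have heK : O.C.e ∈ E.R r ⊓ O.C.K := ⟨D.e_mem, O.fixR_le_K O.e_mem⟩
  have hew : O.C.e * w * O.C.e⁻¹ * w⁻¹ ∈ zpowers D.tau := mem_zpowers _
  have hyw := (kap_swap D.hord (D.w_A y hy.1)).1
  set a : ℕ := (D.κ y w).val
  set z := (O.C.e ^ a)⁻¹ * y with hz
  have hzK : z ∈ E.R r ⊓ O.C.K := mul_mem (inv_mem (pow_mem heK a)) hy
  have hpw : ∀ n : ℕ, O.C.e ^ n * w * (O.C.e ^ n)⁻¹ * w⁻¹ ∈ zpowers D.tau ∧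
      D.κ (O.C.e ^ n) w = n := by
    intro n
    induction n with
    | zero =>
      rw [pow_zero, Nat.cast_zero]
      exact kap_of_commute D.hord (by rw [one_mul, mul_one])
    | succ n ih =>
      have h := kap_mul_left D.hord ih.1 hew (D.commute_tau (pow_mem D.e_mem n))
      rw [← pow_succ] at h
      refine ⟨h.1, ?_⟩
      show kap r D.tau (O.C.e ^ (n + 1)) w = _
      rw [h.2, show kap r D.tau (O.C.e ^ n) w = (n : ZMod r) from ih.2,
        show kap r D.tau O.C.e w = 1 from D.kap_ew, Nat.cast_succ]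
  have hye : O.C.e ^ a * z = y := by rw [hz, mul_inv_cancel_left]
  have hzw : z * w = w * z := by
    have h1 := (kap_swap D.hord (D.w_A z hzK.1)).1
    refine commute_of_kap D.hord h1 ?_
    have h := (kap_mul_left D.hord (hpw a).1 h1 (D.commute_tau (pow_mem D.e_mem a))).2
    rw [hye, show kap r D.tau (O.C.e ^ a) w = (a : ZMod r) from (hpw a).2,
      show (a : ZMod r) = D.κ y w from ZMod.natCast_zmod_val _] at h
    exact (add_eq_left.1 h.symm)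
  have hcen : ∀ x ∈ E.R r, x * z = z * x := by
    intro x hx
    obtain ⟨i, hi⟩ := mem_zpowers_iff.1 (D.e_A x hx)
    set x' := (w ^ i)⁻¹ * x with hx'
    have hx'R : x' ∈ E.R r := mul_mem (inv_mem (zpow_mem D.w_mem i)) hx
    have hwi : O.C.e * w ^ i * O.C.e⁻¹ * (w ^ i)⁻¹ = D.tau ^ i := by
      have h0 : O.C.e * w * O.C.e⁻¹ = D.tau * w := by rw [tau, inv_mul_cancel_right]
      rw [← conj_zpow, h0, (D.commute_tau D.w_mem).symm.mul_zpow, mul_inv_cancel_right]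
    have hex : O.C.e * x' = x' * O.C.e := by
      have h2 : O.C.e * x * O.C.e⁻¹ = D.tau ^ i * x := by rw [tau, hi, inv_mul_cancel_right]
      have h3 : O.C.e * w ^ i * O.C.e⁻¹ = D.tau ^ i * w ^ i := by rw [← hwi, inv_mul_cancel_right]
      rw [← mul_inv_eq_iff_eq_mul]
      calc O.C.e * x' * O.C.e⁻¹
          = (O.C.e * w ^ i * O.C.e⁻¹)⁻¹ * (O.C.e * x * O.C.e⁻¹) := by rw [hx']; group
        _ = x' := by rw [h2, h3, hx']; group
    have hx'K : x' ∈ E.R r ⊓ O.C.K :=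
      ⟨hx'R, O.centralizer_e_le (mem_centralizer_singleton_iff.2 hex.symm)⟩
    have h4 : Commute x' z := O.commute_of_mem hx'K hzK
    have h5 : Commute (w ^ i) z := (show Commute w z from hzw.symm).zpow_left i
    have := h5.mul_left h4
    rwa [hx', mul_inv_cancel_left] at this
  have hzb := O.center_inverted hzK.1 hcen
  have he1 : O.C.e ^ a = 1 := by
    have hec : b * O.C.e ^ a * b = O.C.e ^ a := by
      rw [← (show Commute (O.C.e ^ a) b from (show Commute O.C.e b from (O.fix_props O.e_mem).2.1).pow_left a).eq,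
        mul_assoc, O.refl.sq, mul_one]
    refine O.eq_one_of_fix_inv (pow_mem D.e_mem a) (O.fix_props (pow_mem O.e_mem a)).2.1 ?_
    have h1 : b * y * b = (b * O.C.e ^ a * b) * (b * z * b) := by
      rw [← hye]
      calc b * (O.C.e ^ a * z) * b = b * O.C.e ^ a * 1 * z * b := by group
        _ = _ := by rw [← O.refl.sq]; group
    have hcm : Commute (O.C.e ^ a) z := hcen _ (pow_mem D.e_mem a)
    rw [hyb, hec, hzb, ← hye, mul_inv_rev, ← hcm.inv_inv.eq] at h1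
    rw [hec, mul_right_cancel h1]
  rw [he1, one_mul] at hye
  rwa [hye] at hcen

include D in
/-- `R = ⟨e⟩ ⟨w⟩ Z(R)`. -/
theorem decomp {x : G} (hx : x ∈ E.R r) :
    ∃ (i j : ℤ) (ζ : G), ζ ∈ E.R r ∧ (∀ y ∈ E.R r, y * ζ = ζ * y) ∧
      x = O.C.e ^ i * w ^ j * ζ := by
  obtain ⟨j, hj⟩ := mem_zpowers_iff.1 (D.e_A x hx)
  set x' := x * (w ^ j)⁻¹ with hx'
  have hx'R : x' ∈ E.R r := mul_mem hx (inv_mem (zpow_mem D.w_mem j))
  have h0 : O.C.e * w * O.C.e⁻¹ = D.tau * w := by rw [tau, inv_mul_cancel_right]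
  have h3 : O.C.e * w ^ j * O.C.e⁻¹ = D.tau ^ j * w ^ j := by
    rw [← conj_zpow, h0, (D.commute_tau D.w_mem).symm.mul_zpow]
  have h2 : O.C.e * x * O.C.e⁻¹ = D.tau ^ j * x := by rw [tau, hj, inv_mul_cancel_right]
  have hex : O.C.e * x' = x' * O.C.e := by
    rw [← mul_inv_eq_iff_eq_mul]
    calc O.C.e * x' * O.C.e⁻¹
        = (O.C.e * x * O.C.e⁻¹) * (O.C.e * w ^ j * O.C.e⁻¹)⁻¹ := by rw [hx']; group
      _ = D.tau ^ j * x' * (D.tau ^ j)⁻¹ := by rw [h2, h3, hx']; group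
      _ = x' := by rw [← ((D.commute_tau hx'R).zpow_right j).eq, mul_inv_cancel_right]
  have hx'K : x' ∈ E.R r ⊓ O.C.K :=
    ⟨hx'R, O.centralizer_e_le (mem_centralizer_singleton_iff.2 hex.symm)⟩
  obtain ⟨c, hc, y, hy, hyb, e⟩ := O.decompose hx'K
  obtain ⟨i, rfl⟩ := D.fixR_eq hc
  have hyc := D.central_of_inv hy hyb
  refine ⟨i, j, y, hy.1, hyc, ?_⟩
  calc x = x' * w ^ j := by rw [hx', inv_mul_cancel_right]
    _ = O.C.e ^ i * (y * w ^ j) := by rw [e, mul_assoc]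
    _ = _ := by rw [← hyc _ (zpow_mem D.w_mem j), ← mul_assoc]

include D in
/-- All commutators in `R` are powers of `[e, w]`. -/
theorem comm_mem {x y : G} (hx : x ∈ E.R r) (hy : y ∈ E.R r) :
    x * y * x⁻¹ * y⁻¹ ∈ zpowers D.tau := by
  let L : Subgroup G :=
    { carrier := {x | x ∈ E.R r ∧ x * y * x⁻¹ * y⁻¹ ∈ zpowers D.tau}
      one_mem' := ⟨one_mem _, by simp⟩
      mul_mem' := fun {a c} ha hc =>
        ⟨mul_mem ha.1 hc.1, (kap_mul_left D.hord ha.2 hc.2 (D.commute_tau ha.1)).1⟩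
      inv_mem' := fun {a} ha => ⟨(E.R r).inv_mem ha.1, by
        obtain ⟨i, hi⟩ := mem_zpowers_iff.1 ha.2
        have e : a⁻¹ * y * a⁻¹⁻¹ * y⁻¹ = a⁻¹ * (a * y * a⁻¹ * y⁻¹)⁻¹ * a := by group
        rw [e, ← hi, ((D.commute_tau ha.1).inv_left.zpow_right i).inv_right.eq, inv_mul_cancel_right]
        exact inv_mem (zpow_mem (mem_zpowers _) i)⟩ }
  obtain ⟨i, j, ζ, hζ, hζc, rfl⟩ := D.decomp hx
  have he : O.C.e ∈ L := ⟨D.e_mem, D.e_A y hy⟩
  have hw : w ∈ L := ⟨D.w_mem, D.w_A y hy⟩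
  have hz : ζ ∈ L := ⟨hζ, (kap_of_commute D.hord (hζc y hy).symm).1⟩
  exact (mul_mem (mul_mem (zpow_mem he i) (zpow_mem hw j)) hz : _ ∈ L).2

theorem κ_mul_left {x x' y : G} (hx : x ∈ E.R r) (hx' : x' ∈ E.R r) (hy : y ∈ E.R r) :
    D.κ (x * x') y = D.κ x y + D.κ x' y :=
  (kap_mul_left D.hord (D.comm_mem hx hy) (D.comm_mem hx' hy) (D.commute_tau hx)).2

theorem κ_mul_right {x y y' : G} (hx : x ∈ E.R r) (hy : y ∈ E.R r) (hy' : y' ∈ E.R r) :
    D.κ x (y * y') = D.κ x y + D.κ x y' :=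
  (kap_mul_right D.hord (D.comm_mem hx hy) (D.comm_mem hx hy') (D.commute_tau hy)).2

theorem κ_swap {x y : G} (hx : x ∈ E.R r) (hy : y ∈ E.R r) : D.κ y x = -D.κ x y :=
  (kap_swap D.hord (D.comm_mem hx hy)).2

theorem κ_zero {x y : G} (h : x * y = y * x) : D.κ x y = 0 := (kap_of_commute D.hord h).2

theorem κ_zpow_left {x y : G} (hx : x ∈ E.R r) (hy : y ∈ E.R r) (i : ℤ) :
    D.κ (x ^ i) y = i * D.κ x y := by
  induction i using Int.induction_on with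
  | zero => rw [zpow_zero, D.κ_zero (by rw [one_mul, mul_one]), Int.cast_zero, zero_mul]
  | succ n ih =>
    rw [zpow_add_one, D.κ_mul_left (zpow_mem hx _) hx hy, ih]
    push_cast; ring
  | pred n ih =>
    have h := D.κ_mul_left (zpow_mem hx (-(n : ℤ) - 1)) hx hy
    rw [← zpow_add_one, sub_add_cancel, ih] at h
    push_cast at h ⊢
    linear_combination -h

/-- The two coordinates of an element of `R`. -/
theorem κ_decomp {i j : ℤ} {ζ y : G} (hζ : ζ ∈ E.R r) (hζc : ∀ y ∈ E.R r, y * ζ = ζ * y)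
    (hy : y ∈ E.R r) :
    D.κ (O.C.e ^ i * w ^ j * ζ) y = i * D.κ O.C.e y + j * D.κ w y := by
  rw [D.κ_mul_left (mul_mem (zpow_mem D.e_mem i) (zpow_mem D.w_mem j)) hζ hy,
    D.κ_mul_left (zpow_mem D.e_mem i) (zpow_mem D.w_mem j) hy, D.κ_zpow_left D.e_mem hy,
    D.κ_zpow_left D.w_mem hy, D.κ_zero (hζc y hy).symm, add_zero]

theorem κ_self {x : G} : D.κ x x = 0 := D.κ_zero rfl

/-- The pairing expressed in coordinates. -/
theorem κ_pair {x y : G} (hx : x ∈ E.R r) (hy : y ∈ E.R r) :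
    D.κ x y = D.κ x w * D.κ O.C.e y - D.κ O.C.e x * D.κ y w := by
  obtain ⟨i, j, ζ, hζ, hζc, rfl⟩ := D.decomp hx
  have hx' : O.C.e ^ i * w ^ j * ζ ∈ E.R r := hx
  rw [D.κ_swap hx' D.e_mem, D.κ_decomp hζ hζc hy, D.κ_decomp hζ hζc D.w_mem,
    D.κ_decomp hζ hζc D.e_mem, D.κ_self, D.κ_self, D.kap_ew,
    D.κ_swap D.e_mem D.w_mem, D.kap_ew, D.κ_swap hy D.w_mem]
  ring

end Data

end CfsgLib.GW.Max31.Heis
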