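import Cfsg.Agent.Lib.GW.Max31OutHeisGamma
import Cfsg.Agent.Lib.GW.Max31OutHeisArith

/-!
Gorenstein–Walter, Step 3.1 e, case (III): orders of the subgroups involved and the congruence
for the number of involutions.
-/

set_option autoImplicit false
set_option linter.style.haveILetI false
set_option linter.unusedSectionVars false

namespace CfsgLib.GW.Max31.Heis.Data

open Subgroup

universe u

variable {G : Type u} [Group G] [Finite G] {E : Setup G} {b : G} {r : ℕ}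
  {O : Out E b r} {w : G} (D : Data O w)

include D

/-- `U ∩ C(F(C(t))) = Z(R) O'` has order `z`, the image of `U` has order `μ`. -/
theorem coords_exist (a c : ZMod r) :
    ∃ i j : ℤ, D.κ (O.C.e ^ i * w ^ j) w = a ∧ D.κ O.C.e (O.C.e ^ i * w ^ j) = c := by
  haveI := Fact.mk O.prime
  refine ⟨(a.val : ℤ), (c.val : ℤ), ?_⟩
  obtain ⟨h1, h2⟩ := D.coords_zpow (a.val : ℤ) (c.val : ℤ)
  rw [h1, h2, Int.cast_natCast, Int.cast_natCast]
  exact ⟨ZMod.natCast_zmod_val a, ZMod.natCast_zmod_val c⟩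

theorem mem_T_of_coords {x : G} (hx : x ∈ E.R r) (h1 : D.κ x w = 0) (h2 : D.κ O.C.e x = 0) :
    x ∈ Max32.Zc E :=
  D.center_mem_T hx (D.central_of_coords hx h1 h2)

theorem coords_T {x : G} (hxR : x ∈ E.R r) (hx : x ∈ Max32.Zc E) :
    D.κ x w = 0 ∧ D.κ O.C.e x = 0 :=
  ⟨D.κ_zero (D.T_comm_R hx D.w_mem).symm, D.κ_zero (D.T_comm_R hx D.e_mem)⟩

theorem card_ker : Nat.card D.psi.ker = r * r * Nat.card (Max32.Zc E) := by
  haveI := Fact.mk O.prime
  have hr := O.prime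
  let f : (ZMod r × ZMod r) × Max32.Zc E → D.psi.ker := fun p =>
    ⟨⟨O.C.e ^ (p.1.1.val : ℤ) * w ^ (p.1.2.val : ℤ), D.R_le_U (mul_mem (zpow_mem D.e_mem _)
        (zpow_mem D.w_mem _))⟩ * ⟨p.2, p.2.2.1⟩, by
      rw [MonoidHom.mem_ker, map_mul, D.psi_R (x := ⟨_, _⟩) (mul_mem (zpow_mem D.e_mem _)
        (zpow_mem D.w_mem _)), D.psi_T (x := ⟨_, _⟩) p.2.2, one_mul]⟩
  have hf : Function.Bijective f := by
    refine ⟨fun p p' h => ?_, fun u => ?_⟩
    · have h' : O.C.e ^ (p.1.1.val : ℤ) * w ^ (p.1.2.val : ℤ) * (p.2 : G) =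
          O.C.e ^ (p'.1.1.val : ℤ) * w ^ (p'.1.2.val : ℤ) * (p'.2 : G) :=
        congrArg (fun u : D.psi.ker => ((u : E.U) : G)) h
      set x := O.C.e ^ (p.1.1.val : ℤ) * w ^ (p.1.2.val : ℤ) with hx
      set x' := O.C.e ^ (p'.1.1.val : ℤ) * w ^ (p'.1.2.val : ℤ) with hx'
      have hxR : x ∈ E.R r := mul_mem (zpow_mem D.e_mem _) (zpow_mem D.w_mem _)
      have hxR' : x' ∈ E.R r := mul_mem (zpow_mem D.e_mem _) (zpow_mem D.w_mem _)
      set d := x'⁻¹ * x with hd
      have hdT : d ∈ Max32.Zc E := by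
        have : d = (p'.2 : G) * (p.2 : G)⁻¹ := by
          rw [hd, eq_mul_inv_iff_mul_eq, mul_assoc, h', inv_mul_cancel_left]
        rw [this]; exact mul_mem p'.2.2 (inv_mem p.2.2)
      obtain ⟨d1, d2⟩ := D.coords_T (mul_mem (inv_mem hxR') hxR) hdT
      have e1 : D.κ x w = D.κ x' w := by
        have := D.κ_mul_left hxR' (mul_mem (inv_mem hxR') hxR) D.w_mem
        rwa [mul_inv_cancel_left, d1, add_zero] at this
      have e2 : D.κ O.C.e x = D.κ O.C.e x' := by
        have := D.κ_mul_right D.e_mem hxR' (mul_mem (inv_mem hxR') hxR)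
        rwa [mul_inv_cancel_left, d2, add_zero] at this
      rw [(D.coords_zpow _ _).1, (D.coords_zpow _ _).1, Int.cast_natCast, Int.cast_natCast,
        ZMod.natCast_zmod_val, ZMod.natCast_zmod_val] at e1
      rw [(D.coords_zpow _ _).2, (D.coords_zpow _ _).2, Int.cast_natCast, Int.cast_natCast,
        ZMod.natCast_zmod_val, ZMod.natCast_zmod_val] at e2
      have e12 : p.1 = p'.1 := Prod.ext e1 e2
      refine Prod.ext e12 (Subtype.ext ?_)
      rw [hx, hx', e12] at h'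
      exact mul_left_cancel h'
    · obtain ⟨x, hxR, ζ, hζ, e⟩ := D.decomp_of_psi u.2
      set a := D.κ x w
      set c := D.κ O.C.e x
      set x' := O.C.e ^ (a.val : ℤ) * w ^ (c.val : ℤ) with hx'
      have hxR' : x' ∈ E.R r := mul_mem (zpow_mem D.e_mem _) (zpow_mem D.w_mem _)
      have hd : x'⁻¹ * x ∈ Max32.Zc E := by
        refine D.mem_T_of_coords (mul_mem (inv_mem hxR') hxR) ?_ ?_
        · have := D.κ_mul_left hxR' (mul_mem (inv_mem hxR') hxR) D.w_mem
          rw [mul_inv_cancel_left, hx', (D.coords_zpow _ _).1, Int.cast_natCast,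
            ZMod.natCast_zmod_val] at this
          linear_combination -this
        · have := D.κ_mul_right D.e_mem hxR' (mul_mem (inv_mem hxR') hxR)
          rw [mul_inv_cancel_left, hx', (D.coords_zpow _ _).2, Int.cast_natCast,
            ZMod.natCast_zmod_val] at this
          linear_combination -this
      refine ⟨((a, c), ⟨x'⁻¹ * x * ζ, mul_mem hd hζ⟩), Subtype.ext (Subtype.ext ?_)⟩
      show x' * (x'⁻¹ * x * ζ) = ((u : E.U) : G)
      rw [e]; group
  rw [← Nat.card_congr (Equiv.ofBijective f hf), Nat.card_prod, Nat.card_prod, Nat.card_zmod]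

theorem card_U :
    Nat.card E.U = r * r * Nat.card (Max32.Zc E) * Nat.card D.psi.range := by
  rw [← D.card_ker, ← D.psi.ker.card_mul_index, index_ker]

theorem r_dvd_z : r ∣ Nat.card (Max32.Zc E) := by
  have h := orderOf_dvd_natCard (⟨D.tau, D.center_mem_T D.tau_mem D.tau_central⟩ : Max32.Zc E)
  rwa [Subgroup.orderOf_mk, D.hord] at h

/-- With the image inverted, `X_v = ⟨e⟩` for every reflection `v`. -/
theorem X_eq (hinv : ∀ g ∈ D.psi.range, flip g = g⁻¹) {v : G} (hv : E.Refl v) :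
    E.X v = zpowers O.C.e := by
  refine le_antisymm (fun x hx => ?_) (zpowers_le.2 ?_)
  swap
  · have he := O.fix_props O.e_mem
    exact hv.mem_X.2 ⟨he.1, (O.C.P_commute v (D.all_refl v hv)).symm, he.2.2⟩
  haveI := Fact.mk O.prime
  obtain ⟨hxt, hxvc, hxo⟩ := hv.mem_X.1 hx
  have hxU : x ∈ E.U := hx.1
  have hxv : v * x * v = x := by rw [← hxvc, mul_assoc, hv.sq, mul_one]
  have hψ : D.psi ⟨x, hxU⟩ = 1 := by
    have hm := E.conj_mem_U hv.mem_H hxU
    have h := D.psi_refl hv ⟨x, hxU⟩ hm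
    rw [show (⟨_, hm⟩ : E.U) = ⟨x, hxU⟩ from Subtype.ext (by
      show v * x * v⁻¹ = x; rw [hv.inv, hxv]), hinv _ ⟨_, rfl⟩] at h
    refine CfsgLib.RankOneInvol.eq_one_of_sq_of_odd
      (D.odd_range.of_dvd_nat (D.psi.range.orderOf_dvd_natCard ⟨_, rfl⟩)) ?_
    exact mul_eq_one_iff_eq_inv.2 h
  obtain ⟨i, j, ζ, hζ, e⟩ := D.decomp_of_psi' hψ
  replace e : x = O.C.e ^ i * w ^ j * ζ := e
  have hpR : O.C.e ^ i * w ^ j ∈ E.R r := mul_mem (zpow_mem D.e_mem i) (zpow_mem D.w_mem j)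
  have hpv := D.refl_conj_R hv hpR
  have e2 : v * x * v = v * (O.C.e ^ i * w ^ j) * v * (v * ζ * v) := by
    rw [e]
    calc v * (O.C.e ^ i * w ^ j * ζ) * v = v * (O.C.e ^ i * w ^ j) * 1 * ζ * v := by group
      _ = _ := by rw [← hv.sq]; group
  rw [hxv, e, D.T_inverted hζ hv] at e2
  have hz : (O.C.e ^ i * w ^ j)⁻¹ * (v * (O.C.e ^ i * w ^ j) * v) = ζ * ζ := by
    calc (O.C.e ^ i * w ^ j)⁻¹ * (v * (O.C.e ^ i * w ^ j) * v)
        = (O.C.e ^ i * w ^ j)⁻¹ * (v * (O.C.e ^ i * w ^ j) * v * ζ⁻¹) * ζ := by group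
      _ = _ := by rw [← e2]; group
  have hj : (j : ZMod r) = 0 := by
    have hzR : ζ * ζ ∈ E.R r := hz ▸ mul_mem (inv_mem hpR) hpv
    have h0 : D.κ O.C.e (ζ * ζ) = 0 := (D.coords_T hzR (mul_mem hζ hζ)).2
    rw [← hz, D.κ_mul_right D.e_mem (inv_mem hpR) hpv, (D.coord_refl hv hpR).2, (D.coords_zpow i j).2,
      D.κ_swap (inv_mem hpR) D.e_mem, ← zpow_neg_one, D.κ_zpow_left hpR D.e_mem,
      D.κ_swap D.e_mem hpR, (D.coords_zpow i j).2] at h0
    push_cast at h0
    refine (mul_eq_zero.1 (?_ : (2 : ZMod r) * (j : ZMod r) = 0)).resolve_left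
      (Max31Out.two_ne_zero' O.ne_two)
    linear_combination -h0
  have hwj : w ^ j ∈ Max32.Zc E := by
    refine D.mem_T_of_coords (zpow_mem D.w_mem j) ?_ ?_
    · rw [D.κ_zpow_left D.w_mem D.w_mem, hj, zero_mul]
    · rw [D.κ_swap (zpow_mem D.w_mem j) D.e_mem, D.κ_zpow_left D.w_mem D.e_mem, hj, zero_mul, neg_zero]
  set η := w ^ j * ζ with hη
  have hηT : η ∈ Max32.Zc E := mul_mem hwj hζ
  have hxe : x = O.C.e ^ i * η := by rw [e, hη, mul_assoc]
  have hη1 : η = 1 := by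
    refine CfsgLib.RankOneInvol.eq_one_of_sq_of_odd (E.mem_U.1 hηT.1).2 (mul_eq_one_iff_eq_inv.2 ?_)
    have he : v * O.C.e ^ i * v = O.C.e ^ i := by
      have := conj_zpow (i := i) (a := v) (b := O.C.e)
      rw [hv.inv, D.refl_e hv] at this
      exact this.symm
    have h2 : v * x * v = O.C.e ^ i * (v * η * v) := by
      rw [hxe]
      calc v * (O.C.e ^ i * η) * v = v * O.C.e ^ i * 1 * η * v := by group
        _ = v * O.C.e ^ i * v * (v * η * v) := by rw [← hv.sq]; group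
        _ = _ := by rw [he]
    rw [hxv, D.T_inverted hηT hv, hxe] at h2
    exact mul_left_cancel h2
  rw [hxe, hη1, mul_one]
  exact zpow_mem (mem_zpowers _) i

theorem card_X (hinv : ∀ g ∈ D.psi.range, flip g = g⁻¹) {v : G} (hv : E.Refl v) :
    Nat.card (E.X v) = r := by
  rw [D.X_eq hinv hv, Nat.card_zpowers, O.C.orderOf_e]

/-- `U ∩ K = ⟨e⟩ T`. -/
theorem mem_inf_K
    (htri : ∀ g ∈ D.psi.range, g 0 1 * g 1 0 = 0 → g = 1) {x : G} (hxU : x ∈ E.U) (hxK : x ∈ O.C.K) :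
    ∃ i : ℤ, ∃ ζ ∈ Max32.Zc E, x = O.C.e ^ i * ζ := by
  have hψ : D.psi ⟨x, hxU⟩ = 1 := by
    refine htri _ ⟨_, rfl⟩ ?_
    obtain ⟨i, hi⟩ := D.fixR_eq (O.mem_fix_of_core (D.conj_R hxU D.e_mem)
      (conj_mem_coreIn hxK (O.fixR_le_core O.e_mem)))
    rw [D.psi_apply10]
    show _ * D.κ O.C.e (x * O.C.e * x⁻¹) = 0
    rw [show x * O.C.e * x⁻¹ = O.C.e ^ i from hi.symm, D.κ_zero ((Commute.refl O.C.e).zpow_right i).eq,
      mul_zero]
  obtain ⟨i, j, ζ, hζ, e⟩ := D.decomp_of_psi' hψ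
  replace e : x = O.C.e ^ i * w ^ j * ζ := e
  have heK : O.C.e ∈ O.C.K := O.fixR_le_K O.e_mem
  have hwjK : w ^ j ∈ O.C.K := by
    have : w ^ j = (O.C.e ^ i)⁻¹ * x * ζ⁻¹ := by rw [e]; group
    rw [this]
    exact mul_mem (mul_mem (inv_mem (zpow_mem heK i)) hxK) (inv_mem (D.T_le_K hζ))
  have hj : (j : ZMod r) = 0 := by
    have h1 : D.κ O.C.e (w ^ j) = 0 :=
      D.κ_zero (O.commute_of_mem ⟨D.e_mem, heK⟩ ⟨zpow_mem D.w_mem j, hwjK⟩)
    rw [D.κ_swap (zpow_mem D.w_mem j) D.e_mem, D.κ_zpow_left D.w_mem D.e_mem,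
      D.κ_swap D.e_mem D.w_mem, D.kap_ew] at h1
    linear_combination h1
  refine ⟨i, w ^ j * ζ, mul_mem (D.mem_T_of_coords (zpow_mem D.w_mem j) ?_ ?_) hζ, by rw [e, mul_assoc]⟩
  · rw [D.κ_zpow_left D.w_mem D.w_mem, hj, zero_mul]
  · rw [D.κ_swap (zpow_mem D.w_mem j) D.e_mem, D.κ_zpow_left D.w_mem D.e_mem, hj, zero_mul, neg_zero]

theorem T_bar_injective {x : G} (hx : x ∈ Max32.Zc E) (h : x ∈ coreIn O.C.K) : x = 1 := by
  refine CfsgLib.RankOneInvol.eq_one_of_sq_of_odd (E.mem_U.1 hx.1).2 (mul_eq_one_iff_eq_inv.2 ?_)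
  rw [← D.T_inverted hx O.refl, ← O.core_fixed h, mul_assoc, O.refl.sq, mul_one]

/-- The centraliser of a non-trivial element of `T` lies in `H`. -/
theorem T_centralizer {y : G} (hy : y ∈ Max32.Zc E) (hy1 : y ≠ 1) :
    centralizer ({y} : Set G) ≤ E.H := by
  have hH : E.H ≤ normalizer (zpowers y : Set G) := by
    intro h hh
    obtain ⟨u, hu, s, hs, rfl⟩ := E.exists_mul hh
    refine mul_mem (centralizer_le_normalizer _ (mem_centralizer_iff.2 ?_)) ?_
    · rintro _ ⟨i, rfl⟩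
      exact ((show Commute u y from D.T_comm_U hy hu).zpow_right i).symm.eq
    · refine mem_normalizer_zpowers ?_
      by_cases hrot : s ∈ zpowers E.d.r
      · set v := s * E.d.a with hv'
        have hv : E.Refl v := ⟨mul_mem hs E.d.a_mem, fun h =>
          E.d.a_notMem ((mul_mem_cancel_left hrot).1 h)⟩
        have e : s * y * s⁻¹ = v * (E.d.a * y * E.d.a⁻¹) * v⁻¹ := by
          rw [show s = v * E.d.a by rw [hv', mul_assoc, E.d.sq, mul_one]]; group
        rw [e, E.refl_a.inv, D.T_inverted hy E.refl_a, hv.inv,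
          D.T_inverted (inv_mem hy) hv, inv_inv]
        exact mem_zpowers y
      · have hv : E.Refl s := ⟨hs, hrot⟩
        rw [hv.inv, D.T_inverted hy hv]
        exact inv_mem (mem_zpowers y)
  have hne := normalizer_ne_top E (Q := zpowers y) (fun h => hy1 (zpowers_eq_bot.1 h)) fun h =>
    E.H_ne_top (top_le_iff.1 (h ▸ zpowers_le.2 (E.U_le_H hy.1)))
  intro x hx
  rw [← (O.coatom.le_iff.1 hH).resolve_left hne]
  exact centralizer_le_normalizer _ (mem_centralizer_iff.2 fun _ ⟨i, hi⟩ => by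
    rw [← hi]
    exact ((show Commute x y from mem_centralizer_singleton_iff.1 hx).zpow_right i).symm.eq)

/-- `t` is the only involution centralising a non-trivial element of `T`. -/
theorem T_involution {y s : G} (hy : y ∈ Max32.Zc E) (hy1 : y ≠ 1) (hs : orderOf s = 2)
    (hc : s * y = y * s) : s = E.t := by
  obtain ⟨hs1, hss⟩ := CfsgLib.Involutions.orderOf_eq_two_iff_mul.1 hs
  have hsH := D.T_centralizer hy hy1 (mem_centralizer_singleton_iff.2 hc)
  obtain ⟨u, hu, s0, hs0, e⟩ := E.exists_mul hsH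
  have hrot : s0 ∈ zpowers E.d.r := by
    by_contra hrot
    have hv : E.Refl s0 := ⟨hs0, hrot⟩
    refine hy1 (CfsgLib.RankOneInvol.eq_one_of_sq_of_odd (E.mem_U.1 hy.1).2
      (mul_eq_one_iff_eq_inv.2 ?_))
    calc y = s * y * s⁻¹ := by rw [hc, mul_inv_cancel_right]
      _ = u * (s0 * y * s0⁻¹) * u⁻¹ := by rw [e]; group
      _ = y⁻¹ := by
        rw [hv.inv, D.T_inverted hy hv, D.T_comm_U (inv_mem hy) hu, mul_inv_cancel_right]
  have h2 : u * (s0 * u * s0⁻¹) * (s0 * s0) = 1 * 1 := by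
    rw [one_mul, ← hss, e]; group
  obtain ⟨h3, h4⟩ := E.mul_inj (mul_mem hu (E.conj_mem_U (E.S_le_H hs0) hu)) (one_mem _)
    (mul_mem hs0 hs0) (one_mem _) h2
  rcases E.d.rot_sq_eq_one hrot h4 with h5 | h5
  · rw [h5, mul_one] at e
    rw [h5, one_mul, inv_one, mul_one] at h3
    exact absurd (e.trans (CfsgLib.RankOneInvol.eq_one_of_sq_of_odd (E.mem_U.1 hu).2 h3)) hs1
  · have h6 : E.t * u * E.t⁻¹ = u := by rw [← (E.mem_U.1 hu).1, mul_inv_cancel_right]
    rw [h5] at h3 e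
    change u * (E.t * u * E.t⁻¹) = 1 at h3
    rw [h6] at h3
    rw [e, CfsgLib.RankOneInvol.eq_one_of_sq_of_odd (E.mem_U.1 hu).2 h3, one_mul]
    rfl

/-- `|G : C(t)| ≡ 1` modulo `z`. -/
theorem index_mod : (Nat.card (Max32.Zc E) : ℤ) ∣ (E.H.index : ℤ) - 1 := by
  classical
  let X0 : Type u := {x : G // orderOf x = 2 ∧ x ≠ E.t}
  let act : MulAction (Max32.Zc E) X0 :=
    { smul := fun y x => ⟨(y : G) * x.1 * (y : G)⁻¹,
        by rw [CfsgLib.Involutions.orderOf_conj_eq]; exact x.2.1, fun h => x.2.2 (by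
          have hc := (E.mem_U.1 y.2.1).1
          calc x.1 = (y : G)⁻¹ * ((y : G) * x.1 * (y : G)⁻¹) * y := by group
            _ = E.t := by rw [h, mul_assoc, ← hc, inv_mul_cancel_left])⟩
      one_smul := fun x => Subtype.ext (show (1 : G) * x.1 * (1 : G)⁻¹ = x.1 by group)
      mul_smul := fun y y' x => Subtype.ext
        (show ((y : G) * y') * x.1 * ((y : G) * y')⁻¹ =
          (y : G) * ((y' : G) * x.1 * (y' : G)⁻¹) * (y : G)⁻¹ by group) }
  letI := act
  have hfree : ∀ x : X0, MulAction.stabilizer (Max32.Zc E) x = ⊥ := fun x => by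
    refine eq_bot_iff.2 fun y hy => mem_bot.2 ?_
    by_contra hy1
    have h : (y : G) * x.1 * (y : G)⁻¹ = x.1 :=
      congrArg Subtype.val (MulAction.mem_stabilizer_iff.1 hy)
    refine x.2.2 (D.T_involution y.2 (fun e => hy1 (Subtype.ext e)) x.2.1 ?_)
    exact (mul_inv_eq_iff_eq_mul.1 h).symm
  have hdvd : Nat.card (Max32.Zc E) ∣ Nat.card X0 := by
    rw [Nat.card_congr (MulAction.selfEquivOrbitsQuotientProd hfree), Nat.card_prod]
    exact dvd_mul_left _ _
  have hall : Nat.card {x : G // orderOf x = 2} = E.H.index := by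
    rw [index_eq_card]
    refine (Nat.card_congr (Equiv.ofBijective (fun q : G ⧸ E.H => Quotient.liftOn' q
      (fun g => (⟨g * E.t * g⁻¹, by rw [CfsgLib.Involutions.orderOf_conj_eq, E.orderOf_t]⟩ :
        {x : G // orderOf x = 2})) fun g g' h => ?_) ⟨?_, ?_⟩)).symm
    · have h' := E.mem_H.1 (QuotientGroup.leftRel_apply.1 h)
      refine Subtype.ext ?_
      show g * E.t * g⁻¹ = g' * E.t * g'⁻¹
      calc g * E.t * g⁻¹ = g * (E.t * (g⁻¹ * g')) * g'⁻¹ := by group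
        _ = g' * E.t * g'⁻¹ := by rw [← h']; group
    · intro q q'
      refine Quotient.inductionOn₂' q q' fun g g' h => Quotient.sound' ?_
      rw [QuotientGroup.leftRel_apply, E.mem_H]
      have h' : g * E.t * g⁻¹ = g' * E.t * g'⁻¹ := congrArg Subtype.val h
      calc g⁻¹ * g' * E.t = g⁻¹ * (g' * E.t * g'⁻¹) * g' := by group
        _ = E.t * (g⁻¹ * g') := by rw [← h']; group
    · rintro ⟨x, hx⟩
      obtain ⟨g, hg⟩ := E.exists_conj hx
      exact ⟨(g : G ⧸ E.H), Subtype.ext hg⟩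
  have hsplit : Nat.card X0 + 1 = E.H.index := by
    rw [← hall]
    let t0 : {x : G // orderOf x = 2} := ⟨E.t, E.orderOf_t⟩
    have e : Nat.card X0 = Nat.card {x : {x : G // orderOf x = 2} // x ≠ t0} :=
      Nat.card_congr ((Equiv.subtypeSubtypeEquivSubtypeInter (fun x : G => orderOf x = 2)
        (fun x => x ≠ E.t)).symm.trans (Equiv.subtypeEquivRight fun x => by
          simp [t0, Subtype.ext_iff]))
    haveI := Fintype.ofFinite {x : G // orderOf x = 2}
    rw [e, Nat.card_eq_fintype_card, Nat.card_eq_fintype_card, Fintype.card_subtype_compl,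
      Fintype.card_subtype_eq]
    have := Fintype.card_pos_iff.2 (⟨t0⟩ : Nonempty {x : G // orderOf x = 2})
    omega
  rw [← hsplit]
  push_cast
  rw [add_sub_cancel_right]
  exact Int.natCast_dvd_natCast.2 hdvd

/-- The top is `PSL₂(q)` with `q - ε = 2^(k+2) z` and `q` divides `|G|`. -/
theorem exists_q (hr5 : 5 ≤ r)
    (htri : ∀ g ∈ D.psi.range, g 0 1 * g 1 0 = 0 → g = 1) :
    ∃ (q : ℕ) (e : ℤ), IsPrimePow q ∧ Odd q ∧ (e = 1 ∨ e = -1) ∧
      (q : ℤ) - e = 2 ^ (E.d.k + 2) * Nat.card (Max32.Zc E) ∧ q ∣ Nat.card G := by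
  classical
  haveI := O.topData.normal
  set K := O.C.K with hKdef
  set π := bar K with hπ
  have hSP : (E.S : Subgroup G) ≤ O.C.P := by
    intro s hs
    by_cases hrot : s ∈ zpowers E.d.r
    · have hra : E.Refl (s * E.d.a) := ⟨mul_mem hs E.d.a_mem, fun h =>
        E.d.a_notMem ((mul_mem_cancel_left hrot).1 h)⟩
      simpa using mul_mem (D.all_refl _ hra) (inv_mem (D.all_refl _ E.refl_a))
    · exact D.all_refl s ⟨hs, hrot⟩
  have hSK : (E.S : Subgroup G) ≤ K := hSP.trans O.C.P_le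
  set t' := π ⟨E.t, O.t_mem_K⟩
  have ht2 : orderOf t' = 2 := orderOf_bar E.orderOf_t
  have htL : t' ∈ topL K := bar_mem_topL (O.perf_K.symm ▸ O.C.t_mem)
  have hcomm : ∀ {x : G} (hx : x ∈ K), x * E.t = E.t * x → π ⟨x, hx⟩ * t' = t' * π ⟨x, hx⟩ :=
    fun hx h => by rw [← map_mul, ← map_mul]; exact congrArg π (Subtype.ext h)
  have hodd : ∀ {x : G} (hx : x ∈ K), x ∈ E.U → Odd (orderOf (π ⟨x, hx⟩)) := fun hx h => by
    refine (E.mem_U.1 h).2.of_dvd_nat ?_
    rw [← Subgroup.orderOf_mk _ hx]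
    exact orderOf_map_dvd π _
  set T := Max32.Zc E
  have hTK : T ≤ K := fun x hx => D.T_le_K hx
  have hTL : ∀ {x : G} (hx : x ∈ T), π ⟨x, hTK hx⟩ ∈ topL K := fun {x} hx => by
    refine mem_of_inverted O.topData.normal (b := π ⟨b, O.b_mem_K⟩)
      (bar_mem_topL (O.perf_K.symm ▸ O.C.b_mem)) ?_ (hodd _ hx.1)
    rw [← map_inv π ⟨b, O.b_mem_K⟩, ← map_mul, ← map_mul, ← map_inv π ⟨x, hTK hx⟩]
    exact congrArg π (Subtype.ext (show b * x * b⁻¹ = x⁻¹ by
      rw [O.refl.inv, D.T_inverted hx O.refl]))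
  rcases O.topData.shape with ⟨F, i1, i2, hoddF, h3, ⟨f⟩⟩ | ⟨⟨ψ⟩⟩
  swap
  · exfalso
    have htop := eq_top_of_seven O.topData.dc O.topData.cent ψ
    let ψ' := (topEquiv.symm.trans (MulEquiv.subgroupCongr htop.symm)).trans ψ
    have hτT := D.center_mem_T D.tau_mem D.tau_central
    set c := π ⟨D.tau, hTK hτT⟩
    have hc : orderOf c = r := by
      refine ((Nat.dvd_prime O.prime).1 ?_).resolve_left ?_
      · rw [← D.hord, ← Subgroup.orderOf_mk _ (hTK hτT)]; exact orderOf_map_dvd π _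
      · intro h
        have h1 := D.hord
        rw [D.T_bar_injective hτT (bar_eq_one.1 (orderOf_eq_one_iff.1 h)), orderOf_one] at h1
        omega
    have h := card_dvd_three ψ' ht2 (B := zpowers c)
      (by rw [Nat.card_zpowers, hc]; exact O.prime.odd_of_ne_two O.ne_two) (by
        rintro _ ⟨i, rfl⟩
        exact ((show Commute c t' from hcomm _ (E.mem_U.1 hτT.1).1).zpow_left i).eq)
    rw [Nat.card_zpowers, hc] at h
    have := Nat.le_of_dvd (by norm_num) h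
    omega
  have h := psl_of_topData O.topData hoddF h3 f
  set C := topL K ⊓ centralizer ({t'} : Set (K ⧸ Cfsg.oddCore K)) with hC
  have hCcard := h.card_centralizer ht2 htL
  -- the torus part
  have hTC : ∀ x : T, π ⟨x, hTK x.2⟩ ∈ C := fun x =>
    ⟨hTL x.2, mem_centralizer_singleton_iff.2 (hcomm _ (E.mem_U.1 x.2.1).1)⟩
  have hzdvd : Nat.card T ∣ Nat.card C := by
    let g : T →* C := (π.comp (Subgroup.inclusion hTK)).codRestrict C hTC
    refine Subgroup.card_dvd_of_injective g ((injective_iff_map_eq_one g).2 fun x hx => ?_)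
    exact Subtype.ext (D.T_bar_injective x.2 (bar_eq_one.1 (congrArg Subtype.val hx)))
  have hSdvd : 2 ^ (E.d.k + 2) ∣ Nat.card C := by
    let g : (E.S : Subgroup G) →* C := (π.comp (Subgroup.inclusion hSK)).codRestrict C fun s =>
      ⟨bar_mem_topL (O.perf_K.symm ▸ hSP s.2),
        mem_centralizer_singleton_iff.2 (hcomm _ (E.d.z_central s.2))⟩
    rw [← E.card_S]
    refine Subgroup.card_dvd_of_injective g ((injective_iff_map_eq_one g).2 fun s hs => ?_)
    have h1 : (s : G) ∈ coreIn K := bar_eq_one.1 (congrArg Subtype.val hs :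
      π ⟨s, hSK s.2⟩ = 1)
    obtain ⟨i, hi⟩ := IsPGroup.iff_orderOf.1 E.S.2 s
    have h2 := CfsgLib.RankOneInvol.odd_orderOf_of_mem (odd_card_coreIn K) h1
    rw [Subgroup.orderOf_coe, hi] at h2
    rcases Nat.eq_zero_or_pos i with rfl | hi0
    · rwa [pow_zero, orderOf_eq_one_iff] at hi
    · exact absurd (Nat.even_pow.2 ⟨even_two, hi0.ne'⟩) (Nat.not_even_iff_odd.2 h2)
  have hle : Nat.card C ≤ Nat.card T * 2 ^ (E.d.k + 2) := by
    rw [← E.card_S, ← Nat.card_prod]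
    have key : ∀ q : C, ∃ p : T × (E.S : Subgroup G),
        π ⟨(p.1 : G) * p.2, mul_mem (hTK p.1.2) (hSK p.2.2)⟩ = q.1 := by
      intro q
      obtain ⟨c, hc, hcq⟩ := lift_commute (t := ⟨E.t, O.t_mem_K⟩) E.orderOf_t
        (mem_centralizer_singleton_iff.1 q.2.2)
      obtain ⟨x, hx, s, hs, e⟩ := E.exists_mul (E.mem_H.2 hc)
      have hxK : x ∈ K := by
        have := mul_mem c.2 (inv_mem (hSK hs))
        rwa [e, mul_inv_cancel_right] at this
      obtain ⟨i, ζ, hζ, e'⟩ := D.mem_inf_K htri hx hxK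
      refine ⟨(⟨ζ, hζ⟩, ⟨s, hs⟩), ?_⟩
      rw [← hcq]
      have he : π ⟨O.C.e ^ i, zpow_mem (O.fixR_le_K O.e_mem) i⟩ = 1 :=
        bar_eq_one.2 (zpow_mem (O.fixR_le_core O.e_mem) i)
      rw [show c = ⟨O.C.e ^ i, zpow_mem (O.fixR_le_K O.e_mem) i⟩ *
        ⟨ζ * s, mul_mem (hTK hζ) (hSK hs)⟩ from Subtype.ext (by
          rw [e, e']; simp [mul_assoc]), map_mul, he, one_mul]
    choose g hg using key
    exact Nat.card_le_card_of_injective g fun q q' e => Subtype.ext (by rw [← hg q, ← hg q', e])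
  have hcop : (Nat.card T).Coprime (2 ^ (E.d.k + 2)) :=
    (Nat.coprime_two_right.2 (E.odd_card_U.of_dvd_nat (card_dvd_of_le (Max32.Zc_le_U E)))).pow_right _
  have hCeq : Nat.card C = Nat.card T * 2 ^ (E.d.k + 2) :=
    le_antisymm hle (Nat.le_of_dvd Nat.card_pos (hcop.mul_dvd_of_dvd_of_dvd hzdvd hSdvd))
  refine ⟨Fintype.card F, _, FiniteField.isPrimePow_card F, hoddF,
    FieldModel.eps_cases (Fintype.card F), ?_, ?_⟩
  · rw [← hCcard, hCeq]; push_cast; ring
  · have h2 := h.two_mul_card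
    have hqL : Fintype.card F ∣ 2 * Nat.card (topL K) := by
      rw [← Int.natCast_dvd_natCast]
      push_cast
      exact ⟨_, h2⟩
    have h4 : Fintype.card F ∣ Nat.card (topL K) :=
      (Nat.coprime_two_right.2 hoddF).dvd_of_dvd_mul_left hqL
    exact h4.trans ((card_subgroup_dvd_card _).trans ((card_quotient_dvd_card _).trans
      (card_subgroup_dvd_card K)))

end CfsgLib.GW.Max31.Heis.Data
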