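import Mathlib
import Cfsg.Agent.Lib.PF.OddOrder

/-!
Gorenstein–Walter, Step 3.1 e: subgroups of odd order of `SL₂(r)`.
-/

set_option autoImplicit false
set_option linter.unusedSectionVars false

namespace CfsgLib.GW.Max31Out

open Matrix Subgroup
open scoped MatrixGroups

variable {r : ℕ} [hr : Fact r.Prime]

local notation "SLr" => Matrix.SpecialLinearGroup (Fin 2) (ZMod r)

theorem two_ne_zero' (hr2 : r ≠ 2) : (2 : ZMod r) ≠ 0 := by
  intro h
  have h' : ((2 : ℕ) : ZMod r) = 0 := by exact_mod_cast h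
  rw [ZMod.natCast_eq_zero_iff] at h'
  exact hr2 ((Nat.prime_dvd_prime_iff_eq hr.out Nat.prime_two).1 h')

theorem mul_apply' (A B : SLr) (i j : Fin 2) :
    (A * B : SLr) i j = A i 0 * B 0 j + A i 1 * B 1 j := by
  show ((A : Matrix (Fin 2) (Fin 2) (ZMod r)) * (B : Matrix (Fin 2) (Fin 2) (ZMod r))) i j = _
  rw [Matrix.mul_apply, Fin.sum_univ_two]

theorem eq_one_of_sq_eq_one {Γ : Type*} [Group Γ] {x : Γ} (ho : Odd (orderOf x)) (h : x ^ 2 = 1) :
    x = 1 :=
  orderOf_eq_one_iff.1 (Nat.eq_one_of_dvd_coprimes (Nat.coprime_two_left.2 ho)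
    (orderOf_dvd_of_pow_eq_one h) dvd_rfl)

/-- In odd order subgroups of `SL₂(r)` there is no element of trace zero. -/
theorem trace_ne_zero (hr2 : r ≠ 2) {M : SLr} (ho : Odd (orderOf M)) :
    (M : Matrix (Fin 2) (Fin 2) (ZMod r)).trace ≠ 0 := by
  intro ht
  rw [Matrix.trace_fin_two] at ht
  have hd : M 0 0 * M 1 1 - M 0 1 * M 1 0 = 1 := by
    have := M.2
    rwa [Matrix.det_fin_two] at this
  have h4 : M ^ 4 = 1 := by
    have h2 : ∀ i j, (M ^ 2 : SLr) i j = if i = j then -1 else 0 := by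
      have hp : ∀ i j, (M ^ 2 : SLr) i j = M i 0 * M 0 j + M i 1 * M 1 j := fun i j => by
        rw [pow_two, mul_apply']
      intro i j
      rw [hp]
      fin_cases i <;> fin_cases j <;> simp <;>
        first
        | linear_combination -hd + (M 0 0) * ht
        | linear_combination (M 0 1) * ht
        | linear_combination (M 1 0) * ht
        | linear_combination -hd + (M 1 1) * ht
    rw [show (4 : ℕ) = 2 + 2 from rfl, pow_add]
    ext i j
    rw [mul_apply', h2, h2, h2, h2]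
    fin_cases i <;> fin_cases j <;> simp
  have h1 : M = 1 := orderOf_eq_one_iff.1 (Nat.eq_one_of_dvd_coprimes
    ((Nat.coprime_two_left.2 ho).pow_left 2) (orderOf_dvd_of_pow_eq_one (n := 2 ^ 2) h4) dvd_rfl)
  subst h1
  have : (2 : ZMod r) = 0 := by
    simp at ht
    linear_combination ht
  exact two_ne_zero' hr2 this

theorem nil_of_pow (hr2 : r ≠ 2) {u : SLr} (hu : u ^ r = 1) : u 0 0 + u 1 1 = 2 := by
  have h : (u : Matrix (Fin 2) (Fin 2) (ZMod r)) ^ r = 1 := by
    exact (Matrix.SpecialLinearGroup.coe_pow u r).symm.trans (congrArg Subtype.val hu)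
  have h1 : ((u : Matrix (Fin 2) (Fin 2) (ZMod r)) - 1) ^ r = 0 := by
    rw [sub_pow_char_of_commute _ (Commute.one_right _), one_pow, h,
      sub_self]
  have h2 := (Matrix.isNilpotent_trace_of_isNilpotent ⟨r, h1⟩).eq_zero
  rw [Matrix.trace_sub, Matrix.trace_one, Fintype.card_fin, Matrix.trace_fin_two] at h2
  push_cast at h2
  linear_combination h2

/-- Two elements of order dividing `r` of an odd order subgroup commute. -/
theorem unipotent_commute (hr2 : r ≠ 2) {u v : SLr}
    (hodd : ∀ g ∈ Subgroup.closure ({u, v} : Set SLr), Odd (orderOf g)) (hu : u ^ r = 1) (hv : v ^ r = 1) :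
    u * v = v * u := by
  have hd : ∀ g : SLr, g 0 0 * g 1 1 - g 0 1 * g 1 0 = 1 := fun g => by
    have := g.2; rwa [Matrix.det_fin_two] at this
  obtain ⟨a, ha⟩ : ∃ a, u 0 0 = 1 + a := ⟨u 0 0 - 1, by ring⟩
  obtain ⟨d, hd'⟩ : ∃ d, v 0 0 = 1 + d := ⟨v 0 0 - 1, by ring⟩
  have ha' : u 1 1 = 1 - a := by linear_combination nil_of_pow hr2 hu - ha
  have hd'' : v 1 1 = 1 - d := by linear_combination nil_of_pow hr2 hv - hd'
  have ea : a ^ 2 + u 0 1 * u 1 0 = 0 := by
    have := hd u; rw [ha, ha'] at this; linear_combination -this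
  have ed : d ^ 2 + v 0 1 * v 1 0 = 0 := by
    have := hd v; rw [hd', hd''] at this; linear_combination -this
  set b := u 0 1 with hb
  set c := u 1 0 with hc
  set e := v 0 1 with he
  set f := v 1 0 with hf
  by_cases hT : 2 * a * d + b * f + c * e = 0
  · have e1 : a * e - b * d = 0 := sq_eq_zero_iff.1 (by
      linear_combination e ^ 2 * ea + b ^ 2 * ed - b * e * hT)
    have e2 : a * f - c * d = 0 := sq_eq_zero_iff.1 (by
      linear_combination f ^ 2 * ea + c ^ 2 * ed - c * f * hT)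
    have e3 : b * f - c * e = 0 := sq_eq_zero_iff.1 (by
      linear_combination (b * f + c * e - 2 * a * d) * hT + 4 * d ^ 2 * ea - 4 * b * c * ed)
    ext i j
    simp only [mul_apply']
    fin_cases i <;> fin_cases j <;> simp only [Fin.zero_eta, Fin.mk_one, ha, ha', hd', hd'', ← hb, ← hc, ← he, ← hf]
    · linear_combination e3
    · linear_combination 2 * e1
    · linear_combination -2 * e2
    · linear_combination -e3
  · exfalso
    obtain ⟨y, hy⟩ : ∃ y : ZMod r, y * (2 * a * d + b * f + c * e) = -1 :=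
      ⟨-(2 * a * d + b * f + c * e)⁻¹, by rw [neg_mul, inv_mul_cancel₀ hT]⟩
    -- `u * v^y * u` has trace zero
    have hpow : ∀ n : ℕ, (v ^ n : SLr) 0 0 = 1 + n * d ∧ (v ^ n : SLr) 0 1 = n * e ∧
        (v ^ n : SLr) 1 0 = n * f ∧ (v ^ n : SLr) 1 1 = 1 - n * d := by
      intro n
      induction n with
      | zero => simp
      | succ n ih =>
        obtain ⟨i1, i2, i3, i4⟩ := ih
        simp only [pow_succ, mul_apply', i1, i2,
          i3, i4, hd', hd'', ← he, ← hf]
        push_cast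
        refine ⟨?_, ?_, ?_, ?_⟩
        · linear_combination (n : ZMod r) * ed
        · ring
        · ring
        · linear_combination (n : ZMod r) * ed
    obtain ⟨i1, i2, i3, i4⟩ := hpow y.val
    rw [ZMod.natCast_zmod_val] at i1 i2 i3 i4
    set w := u * v ^ y.val * u
    refine trace_ne_zero hr2 (M := w) (hodd w ?_) ?_
    · exact mul_mem (mul_mem (Subgroup.subset_closure (by simp)) (pow_mem (Subgroup.subset_closure (by simp)) _))
        (Subgroup.subset_closure (by simp))
    · rw [Matrix.trace_fin_two]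
      simp only [w, mul_apply', i1, i2, i3, i4,
        ha, ha', ← hb, ← hc]
      linear_combination 2 * hy + 2 * ea

/-- A subgroup of odd order prime to `r` is abelian. -/
theorem commute_of_odd (hr2 : r ≠ 2) {Γ : Subgroup SLr} (hodd : Odd (Nat.card Γ))
    (hcop : ¬ r ∣ Nat.card Γ) : ∀ x ∈ Γ, ∀ y ∈ Γ, x * y = y * x := by
  have ho : ∀ g ∈ Γ, Odd (orderOf g) := fun g hg => hodd.of_dvd_nat (Γ.orderOf_dvd_natCard hg)
  by_cases hΓ : Γ = ⊥
  · intro x hx y hy
    rw [hΓ, mem_bot] at hx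
    rw [hx, one_mul, mul_one]
  haveI : Nontrivial Γ := (nontrivial_iff_ne_bot Γ).2 hΓ
  haveI : Group.IsSolvable Γ := CfsgLib.PF.oddSolvable Γ hodd
  -- a nontrivial abelian normal subgroup
  obtain ⟨N, hN, hNne, hNab⟩ : ∃ N : Subgroup Γ, N.Normal ∧ N ≠ ⊥ ∧
      ∀ x ∈ N, ∀ y ∈ N, x * y = y * x := by
    obtain ⟨n, hn⟩ := (Group.isSolvable_def Γ).1 inferInstance
    classical
    have hne : Nat.find (⟨n, hn⟩ : ∃ n, derivedSeries Γ n = ⊥) ≠ 0 := fun h => by
      have := Nat.find_spec (⟨n, hn⟩ : ∃ n, derivedSeries Γ n = ⊥)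
      rw [h, derivedSeries_zero] at this
      exact top_ne_bot this
    obtain ⟨k, hk⟩ := Nat.exists_eq_succ_of_ne_zero hne
    refine ⟨derivedSeries Γ k, derivedSeries_normal Γ k,
      Nat.find_min (⟨n, hn⟩ : ∃ n, derivedSeries Γ n = ⊥) (by omega), fun x hx y hy => ?_⟩
    have hbot := Nat.find_spec (⟨n, hn⟩ : ∃ n, derivedSeries Γ n = ⊥)
    rw [hk, derivedSeries_succ] at hbot
    have h1 := mem_bot.1 (hbot ▸ commutator_mem_commutator hx hy)
    rwa [commutatorElement_eq_one_iff_mul_comm] at h1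
  obtain ⟨n, hnN, hn1⟩ : ∃ n ∈ N, n ≠ 1 := by
    by_contra hno
    push Not at hno
    exact hNne (eq_bot_iff.2 fun x hx => mem_bot.2 (hno x hx))
  set m : SLr := n.1 with hm
  have hm1 : m ≠ 1 := fun h => hn1 (Subtype.ext h)
  have hdet : m 0 0 * m 1 1 - m 0 1 * m 1 0 = 1 := by
    have := m.2; rwa [Matrix.det_fin_two] at this
  have hmord : m ^ r ≠ 1 := fun h => hm1 (orderOf_eq_one_iff.1 (Nat.eq_one_of_dvd_coprimes
    ((hr.out.coprime_iff_not_dvd.2 hcop)) (orderOf_dvd_of_pow_eq_one h) (Γ.orderOf_dvd_natCard n.2)))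
  -- the trace is not `± 2`
  have htr : ∀ s : ZMod r, s ^ 2 = 1 → m 0 0 + m 1 1 ≠ 2 * s := by
    intro s hs h
    obtain ⟨a, ha⟩ : ∃ a, m 0 0 = s + a := ⟨m 0 0 - s, by ring⟩
    have ha' : m 1 1 = s - a := by linear_combination h - ha
    have ea : a ^ 2 + m 0 1 * m 1 0 = 0 := by
      rw [ha, ha'] at hdet; linear_combination -hdet + hs
    have key : ∀ k : ℕ, (m ^ (k + 1) : SLr) 0 0 = s ^ (k + 1) + (k + 1) * s ^ k * a ∧
        (m ^ (k + 1) : SLr) 0 1 = (k + 1) * s ^ k * m 0 1 ∧
        (m ^ (k + 1) : SLr) 1 0 = (k + 1) * s ^ k * m 1 0 ∧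
        (m ^ (k + 1) : SLr) 1 1 = s ^ (k + 1) - (k + 1) * s ^ k * a := by
      intro k
      induction k with
      | zero => simp [ha, ha']
      | succ k ih =>
        obtain ⟨i1, i2, i3, i4⟩ := ih
        rw [pow_succ m (k + 1)]
        simp only [mul_apply', i1, i2, i3, i4,
          ha, ha']
        push_cast
        refine ⟨?_, ?_, ?_, ?_⟩
        · linear_combination ((k : ZMod r) + 1) * s ^ k * ea
        · ring
        · ring
        · linear_combination ((k : ZMod r) + 1) * s ^ k * ea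
    obtain ⟨k, hk⟩ : ∃ k, r = k + 1 := ⟨r - 1, by have := hr.out.pos; omega⟩
    obtain ⟨i1, i2, i3, i4⟩ := key k
    have hk0 : ((k : ZMod r) + 1) = 0 := by
      have : ((k + 1 : ℕ) : ZMod r) = 0 := by rw [← hk]; exact ZMod.natCast_self r
      exact_mod_cast this
    rw [hk0] at i1 i2 i3 i4
    have hsq : s ^ (k + 1) = s := by rw [← hk]; exact ZMod.pow_card s
    rcases sq_eq_one_iff.1 hs with rfl | rfl
    · refine hmord ((congrArg (m ^ ·) hk).trans ?_)
      ext i j
      fin_cases i <;> fin_cases j <;> simp [i1, i2, i3, i4, hsq]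
    · have h2 : (m ^ r) ^ 2 = 1 := by
        refine (congrArg (fun n => (m ^ n) ^ 2) hk).trans ?_
        ext i j
        rw [pow_two, mul_apply']
        fin_cases i <;> fin_cases j <;> simp [i1, i2, i3, i4, hsq]
      exact hmord (eq_one_of_sq_eq_one ((ho m n.2).of_dvd_nat (orderOf_pow_dvd r)) h2)
  -- every element commuting with `m` is a polynomial in it
  have hns : m 0 1 ≠ 0 ∨ m 1 0 ≠ 0 ∨ m 0 0 - m 1 1 ≠ 0 := by
    by_contra hno
    push Not at hno
    obtain ⟨h1, h2, h3⟩ := hno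
    refine htr (m 0 0) ?_ (by linear_combination -h3)
    linear_combination hdet + (m 0 1) * h2 + (m 0 0) * h3
  have cent : ∀ x : SLr, x * m = m * x → ∃ α β : ZMod r, x 0 0 = α * m 0 0 + β ∧
      x 0 1 = α * m 0 1 ∧ x 1 0 = α * m 1 0 ∧ x 1 1 = α * m 1 1 + β := by
    intro x hx
    have e : ∀ i j, x i 0 * m 0 j + x i 1 * m 1 j = m i 0 * x 0 j + m i 1 * x 1 j := fun i j => by
      have := congrArg (fun M : SLr => M i j) hx
      rwa [mul_apply', mul_apply'] at this
    have e00 := e 0 0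
    have e01 := e 0 1
    have e10 := e 1 0
    rcases hns with h | h | h
    · refine ⟨x 0 1 / m 0 1, x 0 0 - x 0 1 / m 0 1 * m 0 0, by ring, by field_simp, ?_, ?_⟩
      · field_simp; linear_combination -e00
      · field_simp; linear_combination -e01
    · refine ⟨x 1 0 / m 1 0, x 0 0 - x 1 0 / m 1 0 * m 0 0, by ring, ?_, by field_simp, ?_⟩
      · field_simp; linear_combination e00
      · field_simp; linear_combination e10
    · set δ := m 0 0 - m 1 1 with hδ
      refine ⟨(x 0 0 - x 1 1) / δ, x 0 0 - (x 0 0 - x 1 1) / δ * m 0 0, by ring, ?_, ?_, ?_⟩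
      · field_simp; rw [hδ]; linear_combination -e01
      · field_simp; rw [hδ]; linear_combination e10
      · field_simp; rw [hδ]; ring
  -- everything centralises `m`
  have hall : ∀ g ∈ Γ, g * m = m * g := by
    intro g hg
    set n' : Γ := ⟨g, hg⟩ * n * ⟨g, hg⟩⁻¹ with hn'
    have hc : n' * n = n * n' := hNab _ (hN.conj_mem n hnN _) _ hnN
    obtain ⟨α, β, e1, e2, e3, e4⟩ := cent (g * m * g⁻¹) (congrArg Subtype.val hc)
    have ht : (g * m * g⁻¹ : SLr) 0 0 + (g * m * g⁻¹ : SLr) 1 1 = m 0 0 + m 1 1 := by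
      rw [← Matrix.trace_fin_two, ← Matrix.trace_fin_two]
      show ((g : Matrix (Fin 2) (Fin 2) (ZMod r)) * (m : Matrix (Fin 2) (Fin 2) (ZMod r)) *
        ((g⁻¹ : SLr) : Matrix (Fin 2) (Fin 2) (ZMod r))).trace = _
      rw [Matrix.trace_mul_cycle, ← Matrix.SpecialLinearGroup.coe_mul,
        inv_mul_cancel, Matrix.SpecialLinearGroup.coe_one, Matrix.one_mul]
    have hd' : (g * m * g⁻¹ : SLr) 0 0 * (g * m * g⁻¹ : SLr) 1 1 -
        (g * m * g⁻¹ : SLr) 0 1 * (g * m * g⁻¹ : SLr) 1 0 = 1 := by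
      have := (g * m * g⁻¹).2; rwa [Matrix.det_fin_two] at this
    rw [e1, e4] at ht
    rw [e1, e2, e3, e4] at hd'
    have hα : (α ^ 2 - 1) * ((m 0 0 + m 1 1) ^ 2 - 4) = 0 := by
      linear_combination -4 * hd' + 4 * α ^ 2 * hdet + (2 * β + (α + 1) * (m 0 0 + m 1 1)) * ht
    have ht2 : (m 0 0 + m 1 1) ^ 2 - 4 ≠ 0 := by
      intro h
      have : (m 0 0 + m 1 1 - 2 * 1) * (m 0 0 + m 1 1 - 2 * (-1)) = 0 := by linear_combination h
      rcases mul_eq_zero.1 this with h' | h'
      · exact htr 1 (one_pow 2) (sub_eq_zero.1 h')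
      · exact htr (-1) (by ring) (sub_eq_zero.1 h')
    have h2 := two_ne_zero' (r := r) hr2
    rcases sq_eq_one_iff.1 (sub_eq_zero.1 ((mul_eq_zero.1 hα).resolve_right ht2)) with rfl | rfl
    · have hβ : β = 0 := mul_left_cancel₀ h2 (by linear_combination ht)
      have he : g * m * g⁻¹ = m := by
        ext i j; fin_cases i <;> fin_cases j <;> simp only [Fin.zero_eta, Fin.mk_one, e1, e2, e3, e4, hβ] <;> ring
      exact mul_inv_eq_iff_eq_mul.1 he
    · have hβ : β = m 0 0 + m 1 1 := mul_left_cancel₀ h2 (by linear_combination ht)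
      have he : g * m * g⁻¹ = m⁻¹ := by
        refine eq_inv_of_mul_eq_one_left ?_
        ext i j
        rw [mul_apply']
        fin_cases i <;> fin_cases j <;> simp [e1, e2, e3, e4, hβ] <;>
          first
          | ring1
          | linear_combination hdet
      have hg2 : Commute (g ^ 2) m := by
        show g ^ 2 * m = m * g ^ 2
        rw [← mul_inv_eq_iff_eq_mul]
        calc g ^ 2 * m * (g ^ 2)⁻¹ = g * (g * m * g⁻¹) * g⁻¹ := by rw [pow_two]; group
          _ = g * m⁻¹ * g⁻¹ := by rw [he]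
          _ = (g * m * g⁻¹)⁻¹ := by group
          _ = m := by rw [he, inv_inv]
      obtain ⟨j, hj⟩ := ho g hg
      have h3 := hg2.pow_left (j + 1)
      rwa [← pow_mul, show 2 * (j + 1) = 2 * j + 1 + 1 by ring, pow_succ, ← hj, pow_orderOf_eq_one,
        one_mul] at h3
  intro x hx y hy
  obtain ⟨α, β, a1, a2, a3, a4⟩ := cent x (hall x hx)
  obtain ⟨α', β', b1, b2, b3, b4⟩ := cent y (hall y hy)
  ext i j
  simp only [mul_apply']
  fin_cases i <;> fin_cases j <;> simp only [Fin.zero_eta, Fin.mk_one, a1, a2, a3, a4, b1, b2, b3, b4] <;> ring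

/-- A subgroup of odd order prime to `r` inverted by `diag(1,-1)`: cyclic of order at most
`(r+1)/2`, and only `1` is triangular (upper or lower). -/
theorem inverted_bound (hr2 : r ≠ 2) {Γ : Subgroup SLr} (hodd : Odd (Nat.card Γ))
    (hcop : ¬ r ∣ Nat.card Γ) (hinv : ∀ g ∈ Γ, g 0 0 = g 1 1) :
    IsCyclic Γ ∧ 2 * Nat.card Γ ≤ r + 1 ∧ ∀ g ∈ Γ, g 0 1 * g 1 0 = 0 → g = 1 := by
  classical
  have ho : ∀ g ∈ Γ, Odd (orderOf g) := fun g hg => hodd.of_dvd_nat (Γ.orderOf_dvd_natCard hg)
  have hd : ∀ g ∈ Γ, g 0 0 ^ 2 - g 0 1 * g 1 0 = 1 := fun g hg => by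
    have := g.2
    rw [Matrix.det_fin_two, ← hinv g hg] at this
    linear_combination this
  have htri : ∀ g ∈ Γ, g 0 1 * g 1 0 = 0 → g = 1 := by
    intro g hg h
    have hs : g 0 0 ^ 2 = 1 := by linear_combination hd g hg + h
    have hpow : ∀ k : ℕ, (g ^ k : SLr) 0 0 = g 0 0 ^ k ∧ (g ^ k : SLr) 1 1 = g 0 0 ^ k ∧
        (g ^ k : SLr) 0 1 = k * g 0 0 ^ (k - 1) * g 0 1 ∧
        (g ^ k : SLr) 1 0 = k * g 0 0 ^ (k - 1) * g 1 0 := by
      intro k
      induction k with
      | zero => simp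
      | succ k ih =>
        obtain ⟨i1, i2, i3, i4⟩ := ih
        simp only [pow_succ g k, mul_apply', i1, i2,
          i3, i4, ← hinv g hg]
        rcases Nat.eq_zero_or_pos k with rfl | hk
        · simp
        obtain ⟨l, rfl⟩ : ∃ l, k = l + 1 := ⟨k - 1, by omega⟩
        simp only [Nat.add_sub_cancel]
        push_cast
        refine ⟨?_, ?_, ?_, ?_⟩
        · linear_combination ((l : ZMod r) + 1) * g 0 0 ^ l * h
        · linear_combination ((l : ZMod r) + 1) * g 0 0 ^ l * h
        · ring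
        · ring
    obtain ⟨i1, i2, i3, i4⟩ := hpow (2 * r)
    have e1 : g 0 0 ^ (2 * r) = 1 := by rw [pow_mul, hs, one_pow]
    have h2r : g ^ (2 * r) = 1 := by
      ext i j; fin_cases i <;> fin_cases j <;> simp [i1, i2, i3, i4, e1]
    exact orderOf_eq_one_iff.1 (Nat.eq_one_of_dvd_coprimes
      (Nat.Coprime.mul_left (Nat.coprime_two_left.2 hodd) (hr.out.coprime_iff_not_dvd.2 hcop))
      (orderOf_dvd_of_pow_eq_one h2r) (Γ.orderOf_dvd_natCard hg))
  refine ⟨?_, ?_, fun g hg h => htri g hg h⟩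
  all_goals by_cases hΓ : Γ = ⊥
  · subst hΓ; infer_instance
  swap
  · subst hΓ
    rw [card_bot]
    have := hr.out.two_le
    omega
  all_goals
    obtain ⟨m, hm, hm1⟩ : ∃ m ∈ Γ, m ≠ 1 := by
      by_contra hno
      push Not at hno
      exact hΓ (eq_bot_iff.2 fun x hx => mem_bot.2 (hno x hx))
    have hb0 : m 0 1 ≠ 0 := fun h => hm1 (htri m hm (by rw [h, zero_mul]))
    have hc0 : m 1 0 ≠ 0 := fun h => hm1 (htri m hm (by rw [h, mul_zero]))
    obtain ⟨lam, hlam⟩ : ∃ lam, m 1 0 = lam * m 0 1 := ⟨m 1 0 / m 0 1, (div_mul_cancel₀ _ hb0).symm⟩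
    have hl0 : lam ≠ 0 := fun h => hc0 (by rw [hlam, h, zero_mul])
    have hc : ∀ g ∈ Γ, g 1 0 = lam * g 0 1 := by
      intro g hg
      have h1 := hinv (g * m) (mul_mem hg hm)
      simp only [mul_apply', ← hinv g hg,
        ← hinv m hm, hlam] at h1
      refine mul_right_cancel₀ hb0 ?_
      linear_combination -h1
  · -- cyclic
    set K := AlgebraicClosure (ZMod r)
    set ι := algebraMap (ZMod r) K
    obtain ⟨σ, hσ⟩ := IsAlgClosed.exists_pow_nat_eq (ι lam) two_pos
    let f : Γ →* K :=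
      { toFun := fun g => ι ((g : SLr) 0 0) + ι ((g : SLr) 0 1) * σ
        map_one' := by simp
        map_mul' := fun x y => by
          have hy := hinv (y : SLr) y.2
          simp only [Subgroup.coe_mul, mul_apply',
            hc _ y.2, ← hy, map_add, map_mul]
          linear_combination -(ι ((x : SLr) 0 1) * ι ((y : SLr) 0 1)) * hσ }
    refine isCyclic_of_injective_ringHom f fun x y hxy => ?_
    suffices key : ∀ g : Γ, f g = 1 → g = 1 from
      inv_mul_eq_one.1 (key (x⁻¹ * y) (by rw [map_mul, ← hxy, ← map_mul, inv_mul_cancel, map_one]))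
    intro g hg
    have hg' : ι ((g : SLr) 0 0) + ι ((g : SLr) 0 1) * σ = 1 := hg
    have hdι := congrArg ι (hd _ g.2)
    rw [hc _ g.2, map_sub, map_pow, map_mul, map_mul, ← hσ, map_one] at hdι
    have h2 : ι ((g : SLr) 0 0) - ι ((g : SLr) 0 1) * σ = 1 := by
      linear_combination hdι - (ι ((g : SLr) 0 0) - ι ((g : SLr) 0 1) * σ) * hg'
    have h3 : ι ((g : SLr) 0 1) * σ * 2 = 0 := by linear_combination hg' - h2
    have hσ0 : σ ≠ 0 := fun h => hl0 (ι.injective (by rw [← hσ, h, zero_pow two_ne_zero, map_zero]))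
    have h2K : (2 : K) ≠ 0 := by
      rw [← map_ofNat ι 2]; exact fun h => two_ne_zero' hr2 (ι.injective (h.trans (map_zero ι).symm))
    have hb : (g : SLr) 0 1 = 0 := ι.injective (by
      rw [map_zero]
      exact (mul_eq_zero.1 ((mul_eq_zero.1 h3).resolve_right h2K)).resolve_right hσ0)
    exact Subtype.ext (htri _ g.2 (by rw [hb, zero_mul]))
  · -- the rational parametrisation of the conic
    have h2 := two_ne_zero' (r := r) hr2
    let T : ZMod r → ZMod r → Option (ZMod r) := fun a b =>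
      if a + 1 = 0 then none else some (b / (a + 1))
    have hTinj : ∀ a b a' b' : ZMod r, a ^ 2 - lam * b ^ 2 = 1 → a' ^ 2 - lam * b' ^ 2 = 1 →
        T a b = T a' b' → a = a' ∧ b = b' := by
      intro a b a' b' h h' e
      simp only [T] at e
      by_cases hs : a + 1 = 0 <;> by_cases hs' : a' + 1 = 0
      · have hz : ∀ a b : ZMod r, a ^ 2 - lam * b ^ 2 = 1 → a + 1 = 0 → b = 0 := fun a b h hs => by
          have : lam * b ^ 2 = 0 := by linear_combination -h + (a - 1) * hs
          exact sq_eq_zero_iff.1 ((mul_eq_zero.1 this).resolve_left hl0)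
        exact ⟨by linear_combination hs - hs', by rw [hz a b h hs, hz a' b' h' hs']⟩
      · simp [hs, hs'] at e
      · simp [hs, hs'] at e
      · simp only [hs, hs', if_false, Option.some.injEq] at e
        set t := b / (a + 1) with ht
        have hb : b = t * (a + 1) := by rw [ht]; field_simp
        have hb' : b' = t * (a' + 1) := by rw [e]; field_simp
        have k1 : (a + 1) * (1 - lam * t ^ 2) = 2 := mul_left_cancel₀ hs (by
          rw [hb] at h; linear_combination h)
        have k2 : (a' + 1) * (1 - lam * t ^ 2) = 2 := mul_left_cancel₀ hs' (by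
          rw [hb'] at h'; linear_combination h')
        have hne : 1 - lam * t ^ 2 ≠ 0 := fun h0 => h2 (by rw [h0, mul_zero] at k1; exact k1.symm)
        have haa : a + 1 = a' + 1 := mul_right_cancel₀ hne (k1.trans k2.symm)
        exact ⟨by linear_combination haa, by rw [hb, hb', haa]⟩
    let F : Γ × Bool → Option (ZMod r) := fun p => cond p.2
      (T ((p.1 : SLr) 0 0) ((p.1 : SLr) 0 1)) (T (-((p.1 : SLr) 0 0)) (-((p.1 : SLr) 0 1)))
    have hconic : ∀ g : Γ, (g : SLr) 0 0 ^ 2 - lam * (g : SLr) 0 1 ^ 2 = 1 := fun g => by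
      have := hd _ g.2; rw [hc _ g.2] at this; linear_combination this
    have hneg : ∀ g : Γ, (-((g : SLr) 0 0)) ^ 2 - lam * (-((g : SLr) 0 1)) ^ 2 = 1 := fun g => by
      linear_combination hconic g
    have hext : ∀ g g' : Γ, (g : SLr) 0 0 = (g' : SLr) 0 0 → (g : SLr) 0 1 = (g' : SLr) 0 1 → g = g' := by
      intro g g' h h'
      refine Subtype.ext ?_
      ext i j
      fin_cases i <;> fin_cases j <;>
        simp only [Fin.zero_eta, Fin.mk_one, h, h', hc _ g.2, hc _ g'.2, ← hinv _ g.2, ← hinv _ g'.2]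
    have hnot : ∀ g g' : Γ, ¬ ((g : SLr) 0 0 = -((g' : SLr) 0 0) ∧ (g : SLr) 0 1 = -((g' : SLr) 0 1)) := by
      rintro g g' ⟨h, h'⟩
      have hsq : g ^ 2 = g' ^ 2 := by
        refine Subtype.ext ?_
        ext i j
        simp only [pow_two, Subgroup.coe_mul, mul_apply']
        fin_cases i <;> fin_cases j <;>
          simp [h, h', hc _ g.2, hc _ g'.2, ← hinv _ g.2, ← hinv _ g'.2]
      obtain ⟨k, hk⟩ := hodd
      have e : g = g' := by
        have e1 : ∀ y : Γ, y = (y ^ 2) ^ (k + 1) := fun y => by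
          rw [← pow_mul, show 2 * (k + 1) = (2 * k + 1) + 1 by ring, pow_succ, ← hk, pow_card_eq_one',
            one_mul]
        rw [e1 g, hsq, ← e1 g']
      subst e
      have h0 : (g : SLr) 0 0 = 0 := mul_left_cancel₀ h2 (by linear_combination h)
      have h0' : (g : SLr) 0 1 = 0 := mul_left_cancel₀ h2 (by linear_combination h')
      have := hconic g
      rw [h0, h0'] at this
      simp at this
    have hFi : Function.Injective F := by
      rintro ⟨g, _ | _⟩ ⟨g', _ | _⟩ h <;> simp only [F, cond_true, cond_false] at h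
      · obtain ⟨e, e'⟩ := hTinj _ _ _ _ (hneg g) (hneg g') h
        rw [hext g g' (neg_inj.1 e) (neg_inj.1 e')]
      · obtain ⟨e, e'⟩ := hTinj _ _ _ _ (hneg g) (hconic g') h
        exact absurd ⟨e.symm, e'.symm⟩ (hnot g' g)
      · obtain ⟨e, e'⟩ := hTinj _ _ _ _ (hconic g) (hneg g') h
        exact absurd ⟨e, e'⟩ (hnot g g')
      · obtain ⟨e, e'⟩ := hTinj _ _ _ _ (hconic g) (hconic g') h
        rw [hext g g' e e']
    have h4 := Nat.card_le_card_of_injective F hFi
    rw [Nat.card_prod, Nat.card_eq_fintype_card (α := Bool), Fintype.card_bool,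
      Nat.card_eq_fintype_card (α := Option (ZMod r)), Fintype.card_option, ZMod.card] at h4
    omega

end CfsgLib.GW.Max31Out
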