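import Cfsg.Agent.Lib.GW.Max31OutHeisBase
import Cfsg.Agent.Lib.GW.Max31OutSL
import Cfsg.Agent.Lib.GW.ThetaBlock
import Cfsg.Agent.Lib.Solvable.Fitting

/-!
Gorenstein–Walter, Step 3.1 e, case (III): the action of `U` on `R / Z(R)`.
-/

set_option autoImplicit false
set_option linter.style.haveILetI false
set_option linter.unusedSectionVars false

namespace CfsgLib.GW.Max31.Heis.Data

open Subgroup

universe u

variable {G : Type u} [Group G] [Finite G] {E : Setup G} {b : G} {r : ℕ}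
  {O : Out E b r} {w : G} (D : Data O w)

include D

theorem conj_R {u x : G} (hu : u ∈ E.U) (hx : x ∈ E.R r) : u * x * u⁻¹ ∈ E.R r :=
  Max31.conj_mem_R E (E.U_le_H hu) hx

theorem refl_conj_R {v x : G} (hv : E.Refl v) (hx : x ∈ E.R r) : v * x * v ∈ E.R r := by
  have := Max31.conj_mem_R E hv.mem_H hx
  rwa [hv.inv] at this

theorem R_le_U : E.R r ≤ E.U := Max31.R_le_U E O.prime O.ne_two

theorem tau_comm_U {u : G} (hu : u ∈ E.U) : u * D.tau = D.tau * u :=
  D.cent_center u hu _ D.tau_mem D.tau_central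

theorem refl_tau {v : G} (hv : E.Refl v) : v * D.tau * v = D.tau⁻¹ :=
  D.inv_center v hv _ D.tau_mem D.tau_central

theorem κ_U {u x y : G} (hu : u ∈ E.U) (hx : x ∈ E.R r) (hy : y ∈ E.R r) :
    D.κ (u * x * u⁻¹) (u * y * u⁻¹) = D.κ x y := by
  have h := kap_conj D.hord (g := u) (δ := 1)
    (by rw [zpow_one, D.tau_comm_U hu, mul_inv_cancel_right]) (D.comm_mem hx hy)
  rwa [Int.cast_one, one_mul] at h

theorem κ_refl {v x y : G} (hv : E.Refl v) (hx : x ∈ E.R r) (hy : y ∈ E.R r) :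
    D.κ (v * x * v) (v * y * v) = -D.κ x y := by
  have h := kap_conj D.hord (g := v) (δ := -1)
    (by rw [zpow_neg, zpow_one, hv.inv, D.refl_tau hv]) (D.comm_mem hx hy)
  rw [hv.inv] at h
  rw [κ, h]
  simp [κ]

/-- Elements with both coordinates zero are central. -/
theorem central_of_coords {x : G} (hx : x ∈ E.R r) (h1 : D.κ x w = 0) (h2 : D.κ O.C.e x = 0) :
    ∀ y ∈ E.R r, y * x = x * y := fun y hy =>
  (commute_of_kap D.hord (D.comm_mem hx hy) (by
    show D.κ x y = 0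
    rw [D.κ_pair hx hy, h1, h2, zero_mul, zero_mul, sub_zero])).symm

theorem coord_image {u x : G} (hu : u ∈ E.U) (hx : x ∈ E.R r) :
    D.κ (u * x * u⁻¹) w = D.κ (u * O.C.e * u⁻¹) w * D.κ x w + D.κ (u * w * u⁻¹) w * D.κ O.C.e x ∧
      D.κ O.C.e (u * x * u⁻¹) =
        D.κ O.C.e (u * O.C.e * u⁻¹) * D.κ x w + D.κ O.C.e (u * w * u⁻¹) * D.κ O.C.e x := by
  have key : ∀ {y : G}, y ∈ E.R r → D.κ (u * x * u⁻¹) y =
      D.κ (u * O.C.e * u⁻¹) y * D.κ x w + D.κ (u * w * u⁻¹) y * D.κ O.C.e x := by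
    intro y hy
    set y' := u⁻¹ * y * u with hy'
    have hy'R : y' ∈ E.R r := by
      have := D.conj_R (inv_mem hu) hy
      rwa [inv_inv] at this
    have e : ∀ {z : G}, z ∈ E.R r → D.κ (u * z * u⁻¹) y = D.κ z y' := fun {z} hz => by
      rw [← D.κ_U hu hz hy'R]
      congr 1
      rw [hy']; group
    rw [e hx, e D.e_mem, e D.w_mem, D.κ_pair hx hy'R, D.κ_pair D.w_mem hy'R, D.κ_self, D.kap_ew]
    ring
  refine ⟨key D.w_mem, ?_⟩
  rw [D.κ_swap (D.conj_R hu hx) D.e_mem, D.κ_swap (D.conj_R hu D.e_mem) D.e_mem,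
    D.κ_swap (D.conj_R hu D.w_mem) D.e_mem, key D.e_mem]
  ring

/-- The matrix of `u` on `R / Z(R)`. -/
noncomputable def mat (u : G) : Matrix (Fin 2) (Fin 2) (ZMod r) :=
  !![D.κ (u * O.C.e * u⁻¹) w, D.κ (u * w * u⁻¹) w;
    D.κ O.C.e (u * O.C.e * u⁻¹), D.κ O.C.e (u * w * u⁻¹)]

theorem mat_det {u : G} (hu : u ∈ E.U) : (D.mat u).det = 1 := by
  rw [mat, Matrix.det_fin_two_of]
  have h := D.κ_U hu D.e_mem D.w_mem
  rw [D.kap_ew, D.κ_pair (D.conj_R hu D.e_mem) (D.conj_R hu D.w_mem)] at h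
  linear_combination h

theorem mat_mul {u v : G} (hu : u ∈ E.U) (hv : v ∈ E.U) :
    D.mat (u * v) = D.mat u * D.mat v := by
  have e : ∀ x : G, u * v * x * (u * v)⁻¹ = u * (v * x * v⁻¹) * u⁻¹ := fun x => by group
  obtain ⟨a1, a2⟩ := D.coord_image hu (D.conj_R hv D.e_mem)
  obtain ⟨b1, b2⟩ := D.coord_image hu (D.conj_R hv D.w_mem)
  rw [mat, mat, mat, Matrix.mul_fin_two, e, e, a1, a2, b1, b2]

theorem mat_one : D.mat 1 = 1 := by
  rw [mat, Matrix.one_fin_two, one_mul, inv_one, mul_one, one_mul, mul_one, D.kap_ew, D.κ_self,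
    D.κ_self]

/-- `U → SL₂(r)`. -/
noncomputable def psi : E.U →* Matrix.SpecialLinearGroup (Fin 2) (ZMod r) where
  toFun u := ⟨D.mat u, D.mat_det u.2⟩
  map_one' := Subtype.ext D.mat_one
  map_mul' u v := Subtype.ext (D.mat_mul u.2 v.2)

theorem psi_eq (u : E.U) : (D.psi u : Matrix (Fin 2) (Fin 2) (ZMod r)) = D.mat u := rfl

theorem psi_apply00 (u : E.U) : D.psi u 0 0 = D.κ ((u : G) * O.C.e * (u : G)⁻¹) w := rfl

theorem psi_apply10 (u : E.U) : D.psi u 1 0 = D.κ O.C.e ((u : G) * O.C.e * (u : G)⁻¹) := rfl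

theorem psi_apply01 (u : E.U) : D.psi u 0 1 = D.κ ((u : G) * w * (u : G)⁻¹) w := rfl

theorem psi_apply11 (u : E.U) : D.psi u 1 1 = D.κ O.C.e ((u : G) * w * (u : G)⁻¹) := rfl

/-- Elements of `R` act trivially. -/
theorem psi_R {x : E.U} (hx : (x : G) ∈ E.R r) : D.psi x = 1 := by
  have key : ∀ {y z : G}, y ∈ E.R r → z ∈ E.R r → D.κ ((x : G) * y * (x : G)⁻¹) z = D.κ y z := by
    intro y z hy hz
    rw [D.κ_mul_left (mul_mem hx hy) (inv_mem hx) hz, D.κ_mul_left hx hy hz,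
      ← zpow_neg_one, D.κ_zpow_left hx hz]
    push_cast; ring
  refine Subtype.ext ?_
  rw [D.psi_eq, mat, Matrix.SpecialLinearGroup.coe_one, Matrix.one_fin_two, key D.e_mem D.w_mem,
    key D.w_mem D.w_mem, D.κ_swap (D.conj_R x.2 D.e_mem) D.e_mem, key D.e_mem D.e_mem,
    D.κ_swap (D.conj_R x.2 D.w_mem) D.e_mem, key D.w_mem D.e_mem, D.κ_self, D.κ_self, D.kap_ew,
    D.κ_swap D.e_mem D.w_mem, D.kap_ew]
  simp

/-! ### `T = Z(R) O'` -/

theorem center_mem_T {x : G} (hx : x ∈ E.R r) (hc : ∀ y ∈ E.R r, y * x = x * y) :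
    x ∈ Max32.Zc E := by
  refine Max32.mem_Zc E (D.R_le_U hx) fun m hm hm2 y hy => ?_
  by_cases h : m = r
  · subst h; exact (hc y hy).symm
  · exact D.cent_other x (D.R_le_U hx) m hm h hm2 y hy

theorem central_of_mem_T {x : G} (hxR : x ∈ E.R r) (hx : x ∈ Max32.Zc E) :
    ∀ y ∈ E.R r, y * x = x * y := fun y hy =>
  mem_centralizer_iff.1 hx.2 y (pCoreIn_le_fitIn O.prime E.H hy)

theorem T_comm_R {x y : G} (hx : x ∈ Max32.Zc E) (hy : y ∈ E.R r) : y * x = x * y :=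
  mem_centralizer_iff.1 hx.2 y (pCoreIn_le_fitIn O.prime E.H hy)

/-- A statement about `T` reduces to its primary elements. -/
theorem T_primary {x : G} (hx : x ∈ Max32.Zc E) {m : ℕ} (hm : m.Prime) {k : ℕ}
    (hk : x ^ m ^ k = 1) :
    (∀ u ∈ E.U, u * x = x * u) ∧ (∀ v, E.Refl v → v * x * v = x⁻¹) := by
  have hxR := Max32.mem_R_of_Zc E hm hx hk
  by_cases h2 : m = 2
  · subst h2
    obtain ⟨j, -, hj⟩ := (Nat.dvd_prime_pow Nat.prime_two).1 (orderOf_dvd_of_pow_eq_one hk)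
    have h1 := (E.mem_U.1 hx.1).2
    rcases Nat.eq_zero_or_pos j with rfl | hj0
    · rw [pow_zero, orderOf_eq_one_iff] at hj
      subst hj
      exact ⟨fun u _ => by rw [mul_one, one_mul], fun v hv => by rw [mul_one, hv.sq, inv_one]⟩
    · rw [hj] at h1
      exact absurd (Nat.even_pow.2 ⟨even_two, hj0.ne'⟩) (Nat.not_even_iff_odd.2 h1)
  by_cases hr : m = r
  · subst hr
    exact ⟨fun u hu => D.cent_center u hu x hxR (D.central_of_mem_T hxR hx),
      fun v hv => D.inv_center v hv x hxR (D.central_of_mem_T hxR hx)⟩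
  · exact ⟨fun u hu => D.cent_other u hu m hm hr h2 x hxR, (D.inv_other m hm hr h2 x hxR).2⟩

theorem T_comm_U {x : G} (hx : x ∈ Max32.Zc E) {u : G} (hu : u ∈ E.U) : u * x = x * u := by
  obtain ⟨f, hf, rfl⟩ := Max32.Zc_le_fit E hx
  refine (Cfsg.Tech46.Bender.commute_of_parts (x := u) (mem_map_of_mem E.H.subtype hf) ?_).eq
  intro m hm z hz hzm
  obtain ⟨k, hk⟩ := (Cfsg.Tech46.Bender.coreIn_isPGroup hm E.H) ⟨z, hzm⟩
  exact (D.T_primary (zpowers_le.2 hx hz) hm (congrArg Subtype.val hk)).1 u hu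

theorem T_inverted {x : G} (hx : x ∈ Max32.Zc E) {v : G} (hv : E.Refl v) : v * x * v = x⁻¹ := by
  set y := x * (v * x * v) with hy
  have hvx : v * x * v ∈ Max32.Zc E := by
    have := Max32.conj_mem_Zc E hv.mem_H hx
    rwa [hv.inv] at this
  have hyT : y ∈ Max32.Zc E := mul_mem hx hvx
  have hyv : v * y * v = y := by
    rw [hy, show v * (x * (v * x * v)) * v = v * x * v * x * (v * v) by group, hv.sq, mul_one,
      Max32.Zc_comm E x hx _ hvx]
  suffices hy1 : y = 1 from (inv_eq_of_mul_eq_one_right (hy ▸ hy1)).symm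
  by_contra hne
  obtain ⟨m, hm, hmd⟩ := Nat.exists_prime_and_dvd (fun h => hne (orderOf_eq_one_iff.1 h))
  set y' := y ^ (orderOf y / m) with hy'
  have hord : orderOf y' = m := orderOf_pow_orderOf_div (orderOf_pos y).ne' hmd
  have hy'T : y' ∈ Max32.Zc E := pow_mem hyT _
  have hk : y' ^ m ^ 1 = 1 := by rw [pow_one, ← hord, pow_orderOf_eq_one]
  have h1 := (D.T_primary hy'T hm hk).2 v hv
  have h2 : v * y' * v = y' := by
    have := conj_pow (i := orderOf y / m) (a := v) (b := y)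
    rw [hv.inv, hyv] at this
    exact this.symm
  rw [h2] at h1
  have h3 := CfsgLib.RankOneInvol.eq_one_of_sq_of_odd (E.mem_U.1 hy'T.1).2
    (mul_eq_one_iff_eq_inv.2 h1)
  rw [h3, orderOf_one] at hord
  exact hm.ne_one hord.symm

theorem T_le_K {x : G} (hx : x ∈ Max32.Zc E) : x ∈ O.C.K :=
  O.centralizer_e_le (mem_centralizer_singleton_iff.2 (D.T_comm_R hx D.e_mem).symm)

theorem psi_T {x : E.U} (hx : (x : G) ∈ Max32.Zc E) : D.psi x = 1 := by
  have key : ∀ {y : G}, y ∈ E.R r → (x : G) * y * (x : G)⁻¹ = y := fun hy => by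
    rw [← D.T_comm_R hx hy, mul_inv_cancel_right]
  refine Subtype.ext ?_
  rw [D.psi_eq, mat, Matrix.SpecialLinearGroup.coe_one, Matrix.one_fin_two, key D.e_mem,
    key D.w_mem, D.kap_ew, D.κ_self, D.κ_self]

/-- A central element of `R` of exponent `r` is a power of `[e, w]`. -/
theorem mem_tau {x : G} (hx : x ∈ E.R r) (hc : ∀ y ∈ E.R r, y * x = x * y) (hr : x ^ r = 1) :
    x ∈ zpowers D.tau := by
  obtain ⟨y₀, -, -, hgen⟩ := O.exists_inv_gen
  have h : ∀ z ∈ E.R r, (∀ y ∈ E.R r, y * z = z * y) → z ∈ zpowers y₀ := fun z hz hzc =>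
    hgen z ⟨hz, O.center_le_K hzc⟩ (O.center_inverted hz hzc)
  exact mem_zpowers_of_cyclic (Φ := zpowers y₀) inferInstance O.prime
    (h _ D.tau_mem D.tau_central) D.hord (h x hx hc) hr

theorem coords_zpow (i j : ℤ) :
    D.κ (O.C.e ^ i * w ^ j) w = i ∧ D.κ O.C.e (O.C.e ^ i * w ^ j) = j := by
  have h1 : ∀ y ∈ E.R r, D.κ (O.C.e ^ i * w ^ j) y = i * D.κ O.C.e y + j * D.κ w y := fun y hy => by
    rw [D.κ_mul_left (zpow_mem D.e_mem i) (zpow_mem D.w_mem j) hy, D.κ_zpow_left D.e_mem hy,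
      D.κ_zpow_left D.w_mem hy]
  refine ⟨by rw [h1 w D.w_mem, D.kap_ew, D.κ_self]; ring, ?_⟩
  rw [D.κ_swap (mul_mem (zpow_mem D.e_mem i) (zpow_mem D.w_mem j)) D.e_mem, h1 _ D.e_mem, D.κ_self,
    D.κ_swap D.e_mem D.w_mem, D.kap_ew]
  ring

/-- An element with trivial action lies in `R T`. -/
theorem decomp_of_psi {u : E.U} (hu : D.psi u = 1) :
    ∃ x ∈ E.R r, ∃ ζ ∈ Max32.Zc E, (u : G) = x * ζ := by
  have h00 : D.κ ((u : G) * O.C.e * (u : G)⁻¹) w = 1 := by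
    rw [← D.psi_apply00, hu]; rfl
  have h10 : D.κ O.C.e ((u : G) * O.C.e * (u : G)⁻¹) = 0 := by
    rw [← D.psi_apply10, hu]; rfl
  have h01 : D.κ ((u : G) * w * (u : G)⁻¹) w = 0 := by
    rw [← D.psi_apply01, hu]; rfl
  have h11 : D.κ O.C.e ((u : G) * w * (u : G)⁻¹) = 1 := by
    rw [← D.psi_apply11, hu]; rfl
  have hcomm : ∀ {y : G}, y ∈ E.R r → (D.κ ((u : G) * y * (u : G)⁻¹) w = D.κ y w) →
      (D.κ O.C.e ((u : G) * y * (u : G)⁻¹) = D.κ O.C.e y) → (∀ z ∈ E.R r, z * y ^ r = y ^ r * z) →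
      (u : G) * y * (u : G)⁻¹ * y⁻¹ ∈ zpowers D.tau := by
    intro y hy e1 e2 hyr
    set uy := (u : G) * y * (u : G)⁻¹ with huy
    have huyR : uy ∈ E.R r := D.conj_R u.2 hy
    have hζR : uy * y⁻¹ ∈ E.R r := mul_mem huyR (inv_mem hy)
    have hζc := D.central_of_coords hζR
      (by rw [D.κ_mul_left huyR (inv_mem hy) D.w_mem, e1, ← zpow_neg_one, D.κ_zpow_left hy D.w_mem]
          push_cast; ring)
      (by rw [D.κ_mul_right D.e_mem huyR (inv_mem hy), e2, D.κ_swap (inv_mem hy) D.e_mem,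
            ← zpow_neg_one, D.κ_zpow_left hy D.e_mem, D.κ_swap D.e_mem hy]
          push_cast; ring)
    refine D.mem_tau hζR hζc ?_
    have h1 : uy ^ r = y ^ r := by
      rw [huy, conj_pow, D.cent_center u u.2 _ (pow_mem hy r) hyr, mul_inv_cancel_right]
    have hcy : Commute (uy * y⁻¹) y := (hζc y hy).symm
    have h2 := hcy.mul_pow r
    rwa [inv_mul_cancel_right, h1, eq_comm, mul_eq_right] at h2
  have hwr : ∀ z ∈ E.R r, z * w ^ r = w ^ r * z := by
    refine D.central_of_coords (pow_mem D.w_mem r) ?_ ?_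
    · rw [← zpow_natCast, D.κ_zpow_left D.w_mem D.w_mem, D.κ_self, mul_zero]
    · rw [D.κ_swap (pow_mem D.w_mem r) D.e_mem, ← zpow_natCast, D.κ_zpow_left D.w_mem D.e_mem]
      simp
  obtain ⟨i, hi⟩ := mem_zpowers_iff.1 (hcomm D.e_mem (by rw [h00, D.kap_ew]) (by rw [h10, D.κ_self])
    (fun z _ => by
      have her := pow_orderOf_eq_one O.C.e
      rw [O.C.orderOf_e] at her
      rw [her, mul_one, one_mul]))
  obtain ⟨j, hj⟩ := mem_zpowers_iff.1 (hcomm D.w_mem (by rw [h01, D.κ_self]) (by rw [h11, D.kap_ew])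
    hwr)
  set x := O.C.e ^ (-j) * w ^ i with hx
  have hxR : x ∈ E.R r := mul_mem (zpow_mem D.e_mem _) (zpow_mem D.w_mem _)
  obtain ⟨hx1, hx2⟩ := D.coords_zpow (-j) i
  rw [← hx] at hx1 hx2
  set y := x * u with hy
  have hyU : y ∈ E.U := mul_mem (D.R_le_U hxR) u.2
  have hye : y * O.C.e = O.C.e * y := by
    obtain ⟨hm, hk⟩ := kap_mul_left D.hord (D.comm_mem hxR D.e_mem) (x' := (u : G))
      (hi ▸ zpow_mem (mem_zpowers _) i) (D.commute_tau hxR)
    refine commute_of_kap D.hord hm ?_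
    rw [hk, kap_eq D.hord hi.symm]
    show D.κ x O.C.e + (i : ZMod r) = 0
    rw [D.κ_swap D.e_mem hxR, hx2, neg_add_cancel]
  have hyw : y * w = w * y := by
    obtain ⟨hm, hk⟩ := kap_mul_left D.hord (D.comm_mem hxR D.w_mem) (x' := (u : G))
      (hj ▸ zpow_mem (mem_zpowers _) j) (D.commute_tau hxR)
    refine commute_of_kap D.hord hm ?_
    rw [hk, kap_eq D.hord hj.symm]
    show D.κ x w + (j : ZMod r) = 0
    rw [hx1]; push_cast; ring
  have hyR : ∀ z ∈ E.R r, y * z = z * y := by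
    intro z hz
    obtain ⟨p, q, ζ, hζ, hζc, rfl⟩ := D.decomp hz
    exact ((((show Commute y O.C.e from hye).zpow_right p).mul_right
      ((show Commute y w from hyw).zpow_right q)).mul_right (D.cent_center y hyU ζ hζ hζc)).eq
  refine ⟨x⁻¹, inv_mem hxR, y, Max32.mem_Zc E hyU fun m hm hm2 z hz => ?_, by rw [hy, inv_mul_cancel_left]⟩
  by_cases h : m = r
  · subst h; exact hyR z hz
  · exact D.cent_other y hyU m hm h hm2 z hz

/-- The kernel in coordinates. -/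
theorem decomp_of_psi' {u : E.U} (hu : D.psi u = 1) :
    ∃ i j : ℤ, ∃ ζ ∈ Max32.Zc E, (u : G) = O.C.e ^ i * w ^ j * ζ := by
  obtain ⟨x, hx, ζ, hζ, e⟩ := D.decomp_of_psi hu
  obtain ⟨i, j, ζ', hζ', hζc, rfl⟩ := D.decomp hx
  exact ⟨i, j, ζ' * ζ, mul_mem (D.center_mem_T hζ' hζc) hζ, by rw [e, ← mul_assoc]⟩

/-! ### The Sylow 2-subgroup -/

/-- The diagonal involution. -/
def flip (g : Matrix.SpecialLinearGroup (Fin 2) (ZMod r)) :
    Matrix.SpecialLinearGroup (Fin 2) (ZMod r) :=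
  ⟨!![g 0 0, -g 0 1; -g 1 0, g 1 1], by
    rw [Matrix.det_fin_two_of, neg_mul_neg, ← Matrix.det_fin_two]; exact g.2⟩

omit D in
theorem flip_flip (g : Matrix.SpecialLinearGroup (Fin 2) (ZMod r)) : flip (flip g) = g := by
  refine Subtype.ext ?_
  show !![g 0 0, - -g 0 1; - -g 1 0, g 1 1] = (g : Matrix (Fin 2) (Fin 2) (ZMod r))
  rw [neg_neg, neg_neg]
  exact (Matrix.eta_fin_two _).symm

omit D in
theorem flip_mul (g h : Matrix.SpecialLinearGroup (Fin 2) (ZMod r)) :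
    flip (g * h) = flip g * flip h := by
  ext i j
  rw [Matrix.SpecialLinearGroup.coe_mul]
  fin_cases i <;> fin_cases j <;>
    simp [flip, Matrix.mul_apply, Fin.sum_univ_two] <;> ring

theorem refl_e {v : G} (hv : E.Refl v) : v * O.C.e * v = O.C.e := by
  rw [O.C.P_commute v (D.all_refl v hv), mul_assoc, hv.sq, mul_one]

/-- A reflection acts as `diag(1, -1)`. -/
theorem coord_refl {v x : G} (hv : E.Refl v) (hx : x ∈ E.R r) :
    D.κ (v * x * v) w = D.κ x w ∧ D.κ O.C.e (v * x * v) = -D.κ O.C.e x := by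
  have hsec : ∀ {v x : G}, E.Refl v → x ∈ E.R r → D.κ O.C.e (v * x * v) = -D.κ O.C.e x := by
    intro v x hv hx
    have h := D.κ_refl hv D.e_mem hx
    rwa [D.refl_e hv] at h
  refine ⟨?_, hsec hv hx⟩
  set a := D.κ (v * w * v) w with ha
  have hvwR := D.refl_conj_R hv D.w_mem
  have ha0 : a = 0 := by
    haveI := Fact.mk O.prime
    haveI : Fact (Nat.Prime 2) := ⟨Nat.prime_two⟩
    set g := b * v with hg
    have hgS : g ∈ (E.S : Subgroup G) := mul_mem O.refl.1 hv.1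
    have hgH := E.S_le_H hgS
    have hgR : ∀ {x : G}, x ∈ E.R r → g * x * g⁻¹ ∈ E.R r := fun hx => Max31.conj_mem_R E hgH hx
    have hgx : ∀ x : G, g * x * g⁻¹ = b * (v * x * v) * b := fun x => by
      rw [hg, mul_inv_rev, O.refl.inv, hv.inv]; group
    have hbw : ∀ {x : G}, x ∈ E.R r → D.κ (b * x * b) w = D.κ x w := fun {x} hx => by
      have h := D.κ_refl O.refl (D.refl_conj_R O.refl hx) D.w_mem
      rw [show b * (b * x * b) * b = (b * b) * x * (b * b) by group, O.refl.sq, one_mul, mul_one,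
        D.w_inv, D.κ_swap (inv_mem D.w_mem) hx, ← zpow_neg_one, D.κ_zpow_left D.w_mem hx] at h
      rw [D.κ_swap D.w_mem hx]
      push_cast at h
      linear_combination h
    have hg1 : ∀ {x : G}, x ∈ E.R r → D.κ (g * x * g⁻¹) w = D.κ x w + a * D.κ O.C.e x := by
      intro x hx
      rw [hgx, hbw (D.refl_conj_R hv hx)]
      have h := D.κ_refl hv hx D.w_mem
      rw [D.κ_pair (D.refl_conj_R hv hx) hvwR, hsec hv hx, hsec hv D.w_mem, D.kap_ew, ← ha] at h
      linear_combination -h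
    have hg2 : ∀ {x : G}, x ∈ E.R r → D.κ O.C.e (g * x * g⁻¹) = D.κ O.C.e x := fun {x} hx => by
      rw [hgx, hsec O.refl (D.refl_conj_R hv hx), hsec hv hx, neg_neg]
    have hpow : ∀ n : ℕ, g ^ n * w * (g ^ n)⁻¹ ∈ E.R r ∧
        D.κ (g ^ n * w * (g ^ n)⁻¹) w = (n : ZMod r) * a ∧
        D.κ O.C.e (g ^ n * w * (g ^ n)⁻¹) = 1 := by
      intro n
      induction n with
      | zero =>
        rw [pow_zero, one_mul, inv_one, mul_one, D.κ_self, D.kap_ew]
        exact ⟨D.w_mem, by simp, rfl⟩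
      | succ n ih =>
        obtain ⟨i1, i2, i3⟩ := ih
        rw [show g ^ (n + 1) * w * (g ^ (n + 1))⁻¹ = g * (g ^ n * w * (g ^ n)⁻¹) * g⁻¹ by
          rw [pow_succ']; group, hg1 i1, hg2 i1, i2, i3]
        exact ⟨hgR i1, by push_cast; ring, rfl⟩
    obtain ⟨k, hk⟩ := IsPGroup.iff_orderOf.1 E.S.2 ⟨g, hgS⟩
    rw [Subgroup.orderOf_mk] at hk
    have h := (hpow (2 ^ k)).2.1
    rw [← hk, pow_orderOf_eq_one, one_mul, inv_one, mul_one, D.κ_self, hk] at h
    have h2 : ((2 ^ k : ℕ) : ZMod r) ≠ 0 := by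
      rw [Ne, ZMod.natCast_eq_zero_iff]
      exact fun hd => O.ne_two ((Nat.prime_dvd_prime_iff_eq O.prime Nat.prime_two).1
        (O.prime.dvd_of_dvd_pow hd))
    exact (mul_eq_zero.1 h.symm).resolve_left h2
  have h := D.κ_refl hv hx D.w_mem
  rw [D.κ_pair (D.refl_conj_R hv hx) hvwR, hsec hv D.w_mem, D.kap_ew, ← ha, ha0] at h
  linear_combination -h

theorem psi_refl {v : G} (hv : E.Refl v) (u : E.U) (hm : v * (u : G) * v⁻¹ ∈ E.U) :
    D.psi ⟨_, hm⟩ = flip (D.psi u) := by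
  have hvu : ∀ y : G, v * (u : G) * v⁻¹ * y * (v * (u : G) * v⁻¹)⁻¹ =
      v * ((u : G) * (v * y * v) * (u : G)⁻¹) * v := fun y => by
    rw [mul_inv_rev, mul_inv_rev, inv_inv, hv.inv]; group
  have hue := D.conj_R u.2 D.e_mem
  have hvw := D.refl_conj_R hv D.w_mem
  have huvw := D.conj_R u.2 hvw
  obtain ⟨w1, w2⟩ := D.coord_refl hv D.w_mem
  obtain ⟨c1, c2⟩ := D.coord_image u.2 hvw
  rw [w1, w2, D.κ_self, D.kap_ew] at c1 c2
  refine Subtype.ext ?_
  show D.mat (v * (u : G) * v⁻¹) = !![D.psi u 0 0, -D.psi u 0 1; -D.psi u 1 0, D.psi u 1 1]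
  rw [mat, hvu, hvu, D.refl_e hv, (D.coord_refl hv hue).1, (D.coord_refl hv hue).2,
    (D.coord_refl hv huvw).1, (D.coord_refl hv huvw).2, c1, c2, D.psi_apply00, D.psi_apply01,
    D.psi_apply10, D.psi_apply11]
  simp

/-- The elements of `S` act as `1` or `diag(1, -1)`, and preserve the first coordinate. -/
theorem sylow_cases {s : G} (hs : s ∈ (E.S : Subgroup G)) :
    ((∀ (u : E.U), D.psi ⟨s * u * s⁻¹, E.conj_mem_U (E.S_le_H hs) u.2⟩ = D.psi u) ∨
      ∀ (u : E.U), D.psi ⟨s * u * s⁻¹, E.conj_mem_U (E.S_le_H hs) u.2⟩ = flip (D.psi u)) ∧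
    ∀ x ∈ E.R r, D.κ (s * x * s⁻¹) w = D.κ x w := by
  by_cases hrot : s ∈ zpowers E.d.r
  · set v := s * E.d.a with hv'
    have hv : E.Refl v := ⟨mul_mem hs E.d.a_mem, fun h =>
      E.d.a_notMem ((mul_mem_cancel_left hrot).1 h)⟩
    have hsv : s = v * E.d.a := by rw [hv', mul_assoc, E.d.sq, mul_one]
    have hconj : ∀ x : G, s * x * s⁻¹ = v * (E.d.a * x * E.d.a⁻¹) * v⁻¹ := fun x => by
      rw [hsv]; group
    refine ⟨Or.inl fun u => ?_, fun x hx => ?_⟩
    · have hm := E.conj_mem_U E.refl_a.mem_H u.2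
      have hm2 := E.conj_mem_U hv.mem_H hm
      rw [show (⟨s * u * s⁻¹, E.conj_mem_U (E.S_le_H hs) u.2⟩ : E.U) = ⟨_, hm2⟩ from
        Subtype.ext (hconj u), D.psi_refl hv ⟨_, hm⟩ hm2, D.psi_refl E.refl_a u hm, flip_flip]
    · rw [hconj, E.refl_a.inv, hv.inv,
        (D.coord_refl hv (D.refl_conj_R E.refl_a hx)).1, (D.coord_refl E.refl_a hx).1]
  · exact ⟨Or.inr fun u => D.psi_refl ⟨hs, hrot⟩ u _, fun x hx => by
      rw [Setup.Refl.inv (E := E) ⟨hs, hrot⟩, (D.coord_refl ⟨hs, hrot⟩ hx).1]⟩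

/-! ### The image -/

theorem odd_range : Odd (Nat.card D.psi.range) :=
  E.odd_card_U.of_dvd_nat (Subgroup.card_range_dvd D.psi)

theorem not_dvd_range : ¬ r ∣ Nat.card D.psi.range := by
  intro hd
  haveI := Fact.mk O.prime
  obtain ⟨⟨g, u₀, hu₀⟩, hg⟩ := exists_prime_orderOf_dvd_card' r hd
  replace hg : orderOf g = r :=
    (Subgroup.orderOf_mk g (MonoidHom.mem_range.2 ⟨u₀, hu₀⟩)).symm.trans hg
  have hcomm : ∀ x ∈ D.psi.range, ∀ y ∈ D.psi.range, x ^ r = 1 → y ^ r = 1 → x * y = y * x :=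
    fun x hx y hy hxr hyr => Max31Out.unipotent_commute O.ne_two (fun z hz => by
      have hle : Subgroup.closure ({x, y} : Set _) ≤ D.psi.range :=
        (Subgroup.closure_le _).2 (Set.insert_subset_iff.2 ⟨hx, Set.singleton_subset_iff.2 hy⟩)
      exact D.odd_range.of_dvd_nat (D.psi.range.orderOf_dvd_natCard (hle hz))) hxr hyr
  let Q : Subgroup E.U :=
    { carrier := {u | D.psi u ^ r = 1}
      one_mem' := by simp
      mul_mem' := fun {x y} hx hy => by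
        show D.psi (x * y) ^ r = 1
        rw [map_mul, (show Commute (D.psi x) (D.psi y) from
          hcomm _ ⟨x, rfl⟩ _ ⟨y, rfl⟩ hx hy).mul_pow, hx, hy, one_mul]
      inv_mem' := fun {x} hx => by
        show D.psi x⁻¹ ^ r = 1
        rw [map_inv, inv_pow, hx, inv_one] }
  set Q' := Q.map E.U.subtype with hQ'
  have hQU : Q' ≤ E.U := map_subtype_le _
  have hmem : ∀ {x : G} (hx : x ∈ E.U), x ∈ Q' ↔ D.psi ⟨x, hx⟩ ^ r = 1 := fun {x} hx =>
    ⟨by rintro ⟨y, hy, rfl⟩; exact hy, fun h => ⟨⟨x, hx⟩, h, rfl⟩⟩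
  have hflip : ∀ p : Matrix.SpecialLinearGroup (Fin 2) (ZMod r), ∀ n : ℕ,
      flip (p ^ n) = flip p ^ n := fun p n => map_pow (MonoidHom.mk' flip flip_mul) p n
  have hnorm : ∀ h ∈ E.H, ∀ x ∈ Q', h * x * h⁻¹ ∈ Q' := by
    intro h hh x hx
    have hxU := hQU hx
    obtain ⟨v, hv, s, hs, rfl⟩ := E.exists_mul hh
    rw [show v * s * x * (v * s)⁻¹ = v * (s * x * s⁻¹) * v⁻¹ by group]
    have hsx := E.conj_mem_U (E.S_le_H hs) hxU
    rw [hmem (mul_mem (mul_mem hv hsx) (inv_mem hv))]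
    rw [show (⟨v * (s * x * s⁻¹) * v⁻¹, mul_mem (mul_mem hv hsx) (inv_mem hv)⟩ : E.U) =
      ⟨v, hv⟩ * ⟨_, hsx⟩ * ⟨v, hv⟩⁻¹ from rfl, map_mul, map_mul, map_inv, conj_pow]
    have hxr := (hmem hxU).1 hx
    rcases (D.sylow_cases hs).1 with e | e
    · rw [e ⟨x, hxU⟩, hxr, mul_one, mul_inv_cancel]
    · rw [e ⟨x, hxU⟩, ← hflip, hxr, show flip (1 : Matrix.SpecialLinearGroup (Fin 2) (ZMod r)) = 1
        from map_one (MonoidHom.mk' flip flip_mul), mul_one, mul_inv_cancel]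
  have hQH : Q' ≤ E.H := hQU.trans E.U_le_H
  set Q'' := Q'.subgroupOf E.H with hQ''
  haveI hQn : Q''.Normal := ⟨fun x hx h => mem_subgroupOf.2 (hnorm h h.2 x (mem_subgroupOf.1 hx))⟩
  -- `Q'` is nilpotent
  have hTQ : Max32.Zc E ≤ Q' := fun x hx => (hmem hx.1).2 (by
    rw [D.psi_T (x := ⟨x, hx.1⟩) hx, one_pow])
  set T' := (Max32.Zc E).subgroupOf Q' with hT'
  have hTc : T' ≤ center Q' := fun x hx => mem_center_iff.2 fun y =>
    Subtype.ext (D.T_comm_U (mem_subgroupOf.1 hx) (hQU y.2))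
  haveI hTn : T'.Normal := ⟨fun x hx y => by
    rwa [mem_center_iff.1 (hTc hx) y, mul_inv_cancel_right]⟩
  have hqp : IsPGroup r (Q' ⧸ T') := by
    intro q
    induction q using QuotientGroup.induction_on with
    | H y =>
      have hyU := hQU y.2
      have h1 : D.psi (⟨(y : G), hyU⟩ ^ r) = 1 := by
        rw [map_pow]; exact (hmem hyU).1 y.2
      obtain ⟨x, hx, ζ, hζ, e⟩ := D.decomp_of_psi h1
      obtain ⟨n, hn⟩ := (R_isPGroup E O.prime) ⟨x, hx⟩
      refine ⟨n + 1, ?_⟩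
      rw [← QuotientGroup.mk_pow, QuotientGroup.eq_one_iff, mem_subgroupOf, pow_succ', pow_mul]
      push_cast
      rw [show (y : G) ^ r = x * ζ from e, (show Commute x ζ from D.T_comm_R hζ hx).mul_pow,
        show x ^ r ^ n = 1 from congrArg Subtype.val hn, one_mul]
      exact pow_mem hζ _
  haveI : Group.IsNilpotent (Q' ⧸ T') := hqp.isNilpotent
  haveI hnil : Group.IsNilpotent Q' :=
    Subgroup.isNilpotent_of_ker_le_center (QuotientGroup.mk' T')
      (by rw [QuotientGroup.ker_mk']; exact hTc)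
  have hfit : Q' ≤ fitIn E.H := fun x hx =>
    ⟨⟨x, hQH hx⟩, CfsgLib.Fitting.le_fitting hQn
      (Group.nilpotent_of_mulEquiv (subgroupOfEquivOfLe hQH).symm) (mem_subgroupOf.2 hx), rfl⟩
  -- the `r`-part of `u₀`
  obtain ⟨i, m, hm, hn⟩ := Nat.exists_eq_pow_mul_and_not_dvd (orderOf_pos (u₀ : G)).ne' r O.prime.ne_one
  obtain ⟨j, -, hj⟩ := Nat.exists_mul_mod_eq_one_of_coprime
    (((O.prime.coprime_iff_not_dvd.2 hm)).symm) O.prime.one_lt
  set u₁ : E.U := u₀ ^ (m * j) with hu₁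
  have h1 : D.psi u₁ = g := by
    rw [hu₁, map_pow, hu₀, ← pow_mod_orderOf, hg, hj, pow_one]
  have hu1R : (u₁ : G) ∈ E.R r := by
    have hpow : (u₁ : G) ^ r ^ i = 1 := by
      rw [hu₁, SubmonoidClass.coe_pow, ← pow_mul, show m * j * r ^ i = r ^ i * m * j by ring, ← hn,
        pow_mul, pow_orderOf_eq_one, one_pow]
    obtain ⟨l, -, hl⟩ := (Nat.dvd_prime_pow O.prime).1 (orderOf_dvd_of_pow_eq_one hpow)
    refine Max33.mem_R_of_fit E O.prime (hfit ((hmem u₁.2).2 ?_)) hl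
    rw [h1]
    have hgr := pow_orderOf_eq_one g
    rwa [hg] at hgr
  rw [D.psi_R hu1R] at h1
  rw [← h1, orderOf_one] at hg
  exact O.prime.ne_one hg.symm

theorem range_comm : ∀ x ∈ D.psi.range, ∀ y ∈ D.psi.range, x * y = y * x :=
  haveI := Fact.mk O.prime
  Max31Out.commute_of_odd O.ne_two D.odd_range D.not_dvd_range

/-- Every element of the image is inverted by `diag(1, -1)`. -/
theorem range_inverted
    (hCS : ∀ θ : E.U →* ℂˣ, (∀ s (hs : s ∈ (E.S : Subgroup G)) (x : E.U),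
        θ ⟨s * x * s⁻¹, E.conj_mem_U (E.S_le_H hs) x.2⟩ = θ x) →
      (∀ x : E.U, (x : G) ∈ O.fixR → θ x = 1) → θ = 1) :
    ∀ g ∈ D.psi.range, flip g = g⁻¹ := by
  haveI := Fact.mk O.prime
  letI : CommGroup D.psi.range :=
    { (inferInstance : Group D.psi.range) with
      mul_comm := fun a c => Subtype.ext (D.range_comm a a.2 c c.2) }
  intro g hg
  by_contra hne
  have hfr : ∀ x ∈ D.psi.range, flip x ∈ D.psi.range := by
    rintro _ ⟨u, rfl⟩
    exact ⟨⟨_, E.conj_mem_U O.refl.mem_H u.2⟩, D.psi_refl O.refl u _⟩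
  let f : E.U →* D.psi.range :=
    { toFun := fun u => ⟨D.psi u * flip (D.psi u), mul_mem ⟨u, rfl⟩ (hfr _ ⟨u, rfl⟩)⟩
      map_one' := Subtype.ext (by
        show D.psi 1 * flip (D.psi 1) = 1
        rw [map_one, one_mul]
        exact map_one (MonoidHom.mk' flip flip_mul))
      map_mul' := fun u v => Subtype.ext (by
        show D.psi (u * v) * flip (D.psi (u * v)) =
          D.psi u * flip (D.psi u) * (D.psi v * flip (D.psi v))
        have hc : D.psi v * flip (D.psi u) = flip (D.psi u) * D.psi v :=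
          D.range_comm _ ⟨v, rfl⟩ _ (hfr _ ⟨u, rfl⟩)
        rw [map_mul, flip_mul]
        calc D.psi u * D.psi v * (flip (D.psi u) * flip (D.psi v))
            = D.psi u * (D.psi v * flip (D.psi u)) * flip (D.psi v) := by group
          _ = _ := by rw [hc]; group) }
  obtain ⟨u, rfl⟩ := hg
  have hfu : f u ≠ 1 := fun h => hne (inv_eq_of_mul_eq_one_right (congrArg Subtype.val h)).symm
  obtain ⟨χ, hχ⟩ := CommGroup.exists_apply_ne_one_of_hasEnoughRootsOfUnity D.psi.range ℂ hfu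
  refine hχ (DFunLike.congr_fun (hCS (χ.comp f) (fun s hs x => ?_) fun x hx => ?_) u)
  · refine congrArg χ (Subtype.ext ?_)
    show D.psi _ * flip (D.psi _) = D.psi x * flip (D.psi x)
    rcases (D.sylow_cases hs).1 with e | e <;> rw [e x]
    rw [flip_flip]
    exact D.range_comm _ (hfr _ ⟨x, rfl⟩) _ ⟨x, rfl⟩
  · show χ (f x) = 1
    rw [show f x = 1 from Subtype.ext (by
      show D.psi x * flip (D.psi x) = 1
      rw [D.psi_R hx.1, one_mul]
      exact map_one (MonoidHom.mk' flip flip_mul)), map_one]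

/-- The image is not trivial. -/
theorem range_ne_bot
    (hrot : ∀ v, E.Refl v → ∃ g ∈ O.C.P, g * E.t * g⁻¹ = v ∧ g * v * g⁻¹ = v * E.t) :
    D.psi.range ≠ ⊥ := by
  intro hbot
  haveI := Fact.mk O.prime
  have hall : ∀ u : E.U, D.psi u = 1 := fun u => mem_bot.1 (hbot ▸ (⟨u, rfl⟩ : D.psi u ∈ D.psi.range))
  have hcw : ∀ u : E.U, (u : G) * w * (u : G)⁻¹ * w⁻¹ ∈ zpowers D.tau ∧
      ∀ x ∈ E.R r, ∀ ζ ∈ Max32.Zc E, (u : G) = x * ζ → kap r D.tau u w = D.κ x w := by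
    intro u
    have key : ∀ x ∈ E.R r, ∀ ζ ∈ Max32.Zc E, (u : G) = x * ζ →
        (u : G) * w * (u : G)⁻¹ * w⁻¹ ∈ zpowers D.tau ∧ kap r D.tau u w = D.κ x w := by
      intro x hx ζ hζ e
      obtain ⟨h1, h2⟩ := kap_of_commute D.hord (D.T_comm_R hζ D.w_mem).symm
      obtain ⟨m1, m2⟩ := kap_mul_left D.hord (D.comm_mem hx D.w_mem) h1 (D.commute_tau hx)
      rw [e]
      exact ⟨m1, by rw [m2, h2, add_zero]; rfl⟩
    obtain ⟨x, hx, ζ, hζ, e⟩ := D.decomp_of_psi (hall u)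
    exact ⟨(key x hx ζ hζ e).1, fun x hx ζ hζ e => (key x hx ζ hζ e).2⟩
  let A : E.U →* Multiplicative (ZMod r) :=
    { toFun := fun u => Multiplicative.ofAdd (kap r D.tau u w)
      map_one' := by
        show Multiplicative.ofAdd (kap r D.tau ((1 : E.U) : G) w) = 1
        rw [Subgroup.coe_one, (kap_of_commute D.hord (show (1 : G) * w = w * 1 by rw [one_mul, mul_one])).2]
        rfl
      map_mul' := fun u v => by
        rw [← ofAdd_add]
        exact congrArg _ (kap_mul_left D.hord (hcw u).1 (hcw v).1 (D.tau_comm_U u.2)).2 }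
  obtain ⟨χ, hχ⟩ := CommGroup.exists_apply_ne_one_of_hasEnoughRootsOfUnity (Multiplicative (ZMod r)) ℂ
    (a := Multiplicative.ofAdd (1 : ZMod r)) (fun h => one_ne_zero (α := ZMod r) (congrArg Multiplicative.toAdd h))
  have hAe : A ⟨O.C.e, D.R_le_U D.e_mem⟩ = Multiplicative.ofAdd 1 := congrArg Multiplicative.ofAdd D.kap_ew
  have hθ : χ.comp A ≠ 1 := fun h => hχ (by
    have := DFunLike.congr_fun h ⟨O.C.e, D.R_le_U D.e_mem⟩
    rwa [MonoidHom.comp_apply, hAe] at this)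
  have hab := ThetaBlock.isMulCommutative_U E (χ.comp A) hθ (fun s hs u => ?_) fun v hv => ?_
  · refine O.fix_eq_one_of_conj D.w_mem D.w_notMem D.w_inv O.e_mem ?_ |> O.e_ne
    rw [hab _ (D.R_le_U D.w_mem) _ (D.R_le_U D.e_mem), mul_inv_cancel_right]
    exact O.e_mem
  · refine congrArg χ (congrArg Multiplicative.ofAdd ?_)
    obtain ⟨x, hx, ζ, hζ, e⟩ := D.decomp_of_psi (hall u)
    rw [(hcw u).2 x hx ζ hζ e, (hcw _).2 (s * x * s⁻¹) (Max31.conj_mem_R E (E.S_le_H hs) hx)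
      (s * ζ * s⁻¹) (Max32.conj_mem_Zc E (E.S_le_H hs) hζ) (by
        show s * (u : G) * s⁻¹ = s * x * s⁻¹ * (s * ζ * s⁻¹)
        rw [e]; group), (D.sylow_cases hs).2 x hx]
  · obtain ⟨g, hgP, hgt, hgv⟩ := hrot v hv
    refine ⟨g, hgt, hgv, fun x y hx hy => congrArg χ ?_⟩
    obtain ⟨i, j, ζ, hζ, e⟩ := D.decomp_of_psi' (hall x)
    have hxv : v * (x : G) * v = x := by
      rw [← (hv.mem_X.1 hx).2.1, mul_assoc, hv.sq, mul_one]
    have hpR : O.C.e ^ i * w ^ j ∈ E.R r := mul_mem (zpow_mem D.e_mem i) (zpow_mem D.w_mem j)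
    have hpv := D.refl_conj_R hv hpR
    have e2 : v * (x : G) * v = v * (O.C.e ^ i * w ^ j) * v * (v * ζ * v) := by
      rw [e]
      calc v * (O.C.e ^ i * w ^ j * ζ) * v = v * (O.C.e ^ i * w ^ j) * 1 * ζ * v := by group
        _ = _ := by rw [← hv.sq]; group
    rw [hxv, e, D.T_inverted hζ hv] at e2
    have hz : (O.C.e ^ i * w ^ j)⁻¹ * (v * (O.C.e ^ i * w ^ j) * v) = ζ * ζ := by
      calc (O.C.e ^ i * w ^ j)⁻¹ * (v * (O.C.e ^ i * w ^ j) * v)
          = (O.C.e ^ i * w ^ j)⁻¹ * (v * (O.C.e ^ i * w ^ j) * v * ζ⁻¹) * ζ := by group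
        _ = _ := by rw [← e2]; group
    have hj : (j : ZMod r) = 0 := by
      have hzR : ζ * ζ ∈ E.R r := hz ▸ mul_mem (inv_mem hpR) hpv
      have h0 : D.κ O.C.e (ζ * ζ) = 0 := D.κ_zero
        ((show Commute O.C.e ζ from D.T_comm_R hζ D.e_mem).mul_right (D.T_comm_R hζ D.e_mem)).eq
      rw [← hz, D.κ_mul_right D.e_mem (inv_mem hpR) hpv, (D.coord_refl hv hpR).2, (D.coords_zpow i j).2,
        D.κ_swap (inv_mem hpR) D.e_mem, ← zpow_neg_one, D.κ_zpow_left hpR D.e_mem,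
        D.κ_swap D.e_mem hpR, (D.coords_zpow i j).2] at h0
      push_cast at h0
      refine (mul_eq_zero.1 (?_ : (2 : ZMod r) * (j : ZMod r) = 0)).resolve_left
        (Max31Out.two_ne_zero' O.ne_two)
      linear_combination -h0
    have hwj : w ^ j ∈ Max32.Zc E := by
      refine D.center_mem_T (zpow_mem D.w_mem j) (D.central_of_coords (zpow_mem D.w_mem j) ?_ ?_)
      · rw [D.κ_zpow_left D.w_mem D.w_mem, hj, zero_mul]
      · rw [D.κ_swap (zpow_mem D.w_mem j) D.e_mem, D.κ_zpow_left D.w_mem D.e_mem, hj, zero_mul, neg_zero]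
    set η := w ^ j * ζ with hη
    have hηT : η ∈ Max32.Zc E := mul_mem hwj hζ
    have hxe : (x : G) = O.C.e ^ i * η := by rw [e, hη, mul_assoc]
    have hη1 : η = 1 := by
      refine CfsgLib.RankOneInvol.eq_one_of_sq_of_odd (E.mem_U.1 hηT.1).2 (mul_eq_one_iff_eq_inv.2 ?_)
      have he : v * O.C.e ^ i * v = O.C.e ^ i := by
        have := conj_zpow (i := i) (a := v) (b := O.C.e)
        rw [hv.inv, D.refl_e hv] at this
        exact this.symm
      have h2 : v * (x : G) * v = O.C.e ^ i * (v * η * v) := by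
        rw [hxe]
        calc v * (O.C.e ^ i * η) * v = v * O.C.e ^ i * 1 * η * v := by group
          _ = v * O.C.e ^ i * v * (v * η * v) := by rw [← hv.sq]; group
          _ = _ := by rw [he]
      rw [hxv, D.T_inverted hηT hv, hxe] at h2
      exact mul_left_cancel h2
    rw [hη1, mul_one] at hxe
    refine congrArg A (Subtype.ext ?_)
    rw [hy, hxe, ((show Commute g O.C.e from O.C.P_commute g hgP).zpow_right i).eq, mul_inv_cancel_right]

end CfsgLib.GW.Max31.Heis.Data
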