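import Cfsg.Agent.Lib.GW.Max31TorusLocal
import Cfsg.Agent.Lib.PSL2.Involution
import Cfsg.Agent.Lib.PSL2.Basic

/-!
Gorenstein–Walter, Step 3.1 (e) for Sylow four-groups: every nontrivial element of
`A = Z(R) O' C` has its centraliser inside `C(t)`.

A maximal subgroup `L` over `C(x)` that is not `C(t)` meets `O(C(t))` in `A`, so it is a `PSL₂(q)`
with `q = 4|A| ± 1`; its intersection with a maximal subgroup over `N(X)` is a `PSL₂(q₀)` with
`q₀ = 4a ± 1`, and `q₀ ∣ q (q² − 1)` forces equality.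
-/

set_option autoImplicit false
set_option linter.style.haveILetI false
set_option linter.unusedSectionVars false

namespace CfsgLib.GW.Max31.TorusData

open Subgroup CfsgLib.RankOneInvol

universe u

variable {G : Type u} [Group G] [Finite G] {E : Setup G} {b : G} {r : ℕ} {D : TorusData E b r}
  {L : Subgroup G}

theorem commute_S (D : TorusData E b r) {x y : G} (hx : x ∈ (E.S : Subgroup G))
    (hy : y ∈ (E.S : Subgroup G)) : x * y = y * x :=
  E.d.comm_of_four D.four hx hy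

theorem card_S_four (D : TorusData E b r) : Nat.card (E.S : Subgroup G) = 4 := by
  rw [E.card_S, D.four]; norm_num

theorem odd_card_A (D : TorusData E b r) : Odd (Nat.card D.A) :=
  E.odd_card_U.of_dvd_nat (card_dvd_of_le D.A_le)

/-- Some element of `L` permutes the involutions of `⟨t, b⟩` and moves `t`. -/
theorem Sub.exists_rot (hL : D.Sub L) :
    ∃ n ∈ L, n ∈ normalizer ((E.S : Subgroup G) : Set G) ∧ n * E.t * n⁻¹ ≠ E.t := by
  haveI : Fact (Nat.Prime 2) := ⟨Nat.prime_two⟩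
  by_contra hcon
  push Not at hcon
  set T : Sylow 2 L := E.S.subtype hL.S_le with hT
  have memT : ∀ {x : L}, x ∈ (T : Subgroup L) ↔ (x : G) ∈ (E.S : Subgroup G) := fun {x} => Iff.rfl
  have hNC : normalizer ((T : Subgroup L) : Set L) ≤ centralizer ((T : Subgroup L) : Set L) := by
    intro g hg
    have hgN : (g : G) ∈ normalizer ((E.S : Subgroup G) : Set G) := by
      refine mem_normalizer_iff.2 fun s => ⟨fun hs => ?_, fun hs => ?_⟩
      · exact memT.1 ((mem_normalizer_iff.1 hg ⟨s, hL.S_le hs⟩).1 (memT.2 hs))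
      · have hsL : s ∈ L := by
          simpa [mul_assoc] using mul_mem (mul_mem (inv_mem g.2) (hL.S_le hs)) g.2
        exact memT.1 ((mem_normalizer_iff.1 hg ⟨s, hsL⟩).2 (memT.2 hs))
    obtain ⟨u, hu, s, hs, hus⟩ :=
      hL.exists_mul g.2 (E.mem_H.2 (mul_inv_eq_iff_eq_mul.1 (hcon g g.2 hgN)))
    have huN : u ∈ normalizer ((E.S : Subgroup G) : Set G) := by
      have h := mul_mem hgN (inv_mem (le_normalizer hs))
      rwa [hus, mul_inv_cancel_right] at h
    have hb : u * b * u⁻¹ = u * u * b := by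
      have h := D.inverted' (hL.inf_U hu)
      calc u * b * u⁻¹ = u * (b * u⁻¹ * b⁻¹) * b := by group
        _ = u * (b * u * b⁻¹)⁻¹ * b := by group
        _ = u * u * b := by rw [h, inv_inv]
    have huu : u * u ∈ (E.S : Subgroup G) := by
      have h := (mem_normalizer_iff.1 huN b).1 D.refl.1
      rw [hb] at h
      simpa using mul_mem h (inv_mem D.refl.1)
    have hu1 : u = 1 := eq_one_of_sq_of_odd (E.mem_U.1 hu.2).2
      (E.eq_one_of_mem_U_S (mul_mem hu.2 hu.2) huu)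
    have hgS : (g : G) ∈ (E.S : Subgroup G) := by rw [hus, hu1, one_mul]; exact hs
    exact mem_centralizer_iff.2 fun x hx => Subtype.ext (D.commute_S (memT.1 hx) hgS)
  obtain ⟨K, hKn, hcompl⟩ : ∃ K : Subgroup L, K.Normal ∧ K.IsComplement' (T : Subgroup L) :=
    ⟨_, MonoidHom.normal_ker _, MonoidHom.ker_transferSylow_isComplement' T hNC⟩
  have hKodd : Odd (Nat.card K) := by
    rw [← hcompl.index_eq_card, ← Nat.not_even_iff_odd, even_iff_two_dvd]
    exact T.not_dvd_index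
  have hKH : K.map L.subtype ≤ E.H := by
    refine (le_coreIn (map_subtype_le K) (fun k hk x hx => ?_) ?_).trans hL.coreIn_le_H
    · obtain ⟨y, hy, rfl⟩ := hx
      exact ⟨⟨k, hk⟩ * y * ⟨k, hk⟩⁻¹, hKn.conj_mem y hy _, rfl⟩
    · rwa [card_map_of_injective L.subtype_injective]
  refine hL.not_le fun x hx => ?_
  have h1 : K ⊔ (T : Subgroup L) ≤ E.H.comap L.subtype :=
    sup_le (fun k hk => hKH (mem_map_of_mem _ hk)) fun t ht => E.S_le_H (memT.1 ht)
  rw [hcompl.sup_eq_top] at h1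
  exact h1 (mem_top (⟨x, hx⟩ : L))

/-- `L` has no odd normal subgroup. -/
theorem Sub.coreIn_eq_bot (hL : D.Sub L) : coreIn L = ⊥ := by
  obtain ⟨n, hn, hnN, hnt⟩ := hL.exists_rot
  refine eq_bot_iff.2 fun x hx => mem_bot.2 ?_
  have hxt := E.mem_H.1 (hL.coreIn_le_H hx)
  have h1 := E.mem_H.1 (hL.coreIn_le_H (conj_mem_coreIn (inv_mem hn) hx))
  have h2 : x * (n * E.t * n⁻¹) = (n * E.t * n⁻¹) * x := by
    calc x * (n * E.t * n⁻¹) = n * (n⁻¹ * x * n⁻¹⁻¹ * E.t) * n⁻¹ := by group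
      _ = (n * E.t * n⁻¹) * x := by rw [h1]; group
  have hodd := odd_orderOf_of_mem (odd_card_coreIn L) hx
  have hxb : x * b = b * x := by
    rcases D.S_cases ((mem_normalizer_iff.1 hnN E.t).1 E.t_mem_S) with h | h | h | h
    · exact absurd (by simpa using h) E.t_ne_one
    · exact absurd h hnt
    · rwa [h] at h2
    · rw [h] at h2
      have h3 := (show Commute x (b * E.t) from h2).mul_right (show Commute x E.t from hxt)
      rwa [mul_assoc, E.t_sq, mul_one] at h3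
  exact hL.eq_one (coreIn_le L hx) hxt hxb hodd

theorem Sub.card_inf_H (hL : D.Sub L) :
    Nat.card ↥(L ⊓ E.H) = Nat.card ↥(L ⊓ E.U) * 4 := by
  rw [← D.card_S_four, ← Nat.card_prod]
  refine (Nat.card_congr (Equiv.ofBijective
    (fun p : ↥(L ⊓ E.U) × (E.S : Subgroup G) => (⟨(p.1 : G) * p.2,
      mul_mem (mem_inf.1 p.1.2).1 (hL.S_le p.2.2),
      mul_mem (E.U_le_H (mem_inf.1 p.1.2).2) (E.S_le_H p.2.2)⟩ : ↥(L ⊓ E.H)))
    ⟨fun p q h => ?_, fun h => ?_⟩)).symm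
  · obtain ⟨h1, h2⟩ := E.mul_inj (mem_inf.1 p.1.2).2 (mem_inf.1 q.1.2).2 p.2.2 q.2.2
      (congrArg Subtype.val h)
    exact Prod.ext (Subtype.ext h1) (Subtype.ext h2)
  · obtain ⟨u, hu, s, hs, e⟩ := hL.exists_mul (mem_inf.1 h.2).1 (mem_inf.1 h.2).2
    exact ⟨(⟨u, hu⟩, ⟨s, hs⟩), Subtype.ext e.symm⟩

theorem Sub.not_eight_dvd (hL : D.Sub L) : ¬ 8 ∣ Nat.card L := by
  haveI : Fact (Nat.Prime 2) := ⟨Nat.prime_two⟩
  intro h
  set T : Sylow 2 L := E.S.subtype hL.S_le with hT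
  have hc : Nat.card (T : Subgroup L) = 4 := by
    rw [hT, Sylow.coe_subtype, Nat.card_congr (subgroupOfEquivOfLe hL.S_le).toEquiv, D.card_S_four]
  rw [← (T : Subgroup L).card_mul_index, hc] at h
  exact T.not_dvd_index (Nat.dvd_of_mul_dvd_mul_left (by norm_num : 0 < 4) h)

theorem Sub.r_dvd (hL : D.Sub L) : r ∣ Nat.card ↥(L ⊓ E.U) := by
  obtain ⟨τ, hτ, hτo⟩ := hL.tau
  rw [← hτo]
  exact Subgroup.orderOf_dvd_natCard (L ⊓ E.U) ⟨(mem_inf.1 hτ).1, D.mem_U (D.T_le (mem_inf.1 hτ).2)⟩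

/-- `L` is isomorphic to `PSL₂(q)` with `q = 4 |L ∩ U| ± 1`; we keep the numerical content. -/
theorem Sub.numerics (hL : D.Sub L) :
    ∃ q : ℕ, IsPrimePow q ∧ 2 * Nat.card L = (q + 1) * (q * (q - 1)) ∧
      (q = 4 * Nat.card ↥(L ⊓ E.U) + 1 ∨ q + 1 = 4 * Nat.card ↥(L ⊓ E.U)) := by
  haveI : Fact (Nat.Prime 2) := ⟨Nat.prime_two⟩
  have hO : Cfsg.oddCore L = ⊥ :=
    (map_eq_bot_iff_of_injective _ L.subtype_injective).1 hL.coreIn_eq_bot
  have htop : Top L := Top.of_equiv (E.good L hL.ne_top)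
    ((QuotientGroup.quotientMulEquivOfEq hO).trans QuotientGroup.quotientBot)
  have hdvd : Nat.card ↥(L ⊓ E.H) ∣ Nat.card L := card_dvd_of_le inf_le_left
  have hr := hL.r_dvd
  have hr3 : 3 ≤ r := by
    have h1 := D.prime.two_le
    obtain ⟨l, hl⟩ := D.r_odd
    omega
  have hpos : 0 < Nat.card ↥(L ⊓ E.U) := Nat.card_pos
  rw [hL.card_inf_H] at hdvd
  rcases htop with h | ⟨⟨f⟩⟩ | ⟨⟨f⟩⟩ | ⟨N, hN, -, hI⟩
  · exfalso
    obtain ⟨k, hk⟩ := IsPGroup.iff_card.1 h
    have h1 : r ∣ 2 ^ k := hk ▸ (hr.trans (dvd_mul_right _ 4)).trans hdvd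
    have h2 := (Nat.prime_dvd_prime_iff_eq D.prime Nat.prime_two).1 (D.prime.dvd_of_dvd_pow h1)
    omega
  · exfalso
    have hc : Nat.card L = 12 := by
      rw [Nat.card_congr f.toEquiv, nat_card_alternatingGroup, Nat.card_fin]; rfl
    rw [hc] at hdvd
    have h3 : Nat.card ↥(L ⊓ E.U) ∣ 3 := Nat.dvd_of_mul_dvd_mul_right (by norm_num : 0 < 4) hdvd
    have h4 := Nat.le_of_dvd hpos hr
    have h5 := Nat.le_of_dvd (by norm_num) h3
    have he : L ⊓ E.H = L := eq_of_le_of_card_ge inf_le_left (by rw [hc, hL.card_inf_H]; omega)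
    exact hL.not_le (he ▸ inf_le_right)
  · exfalso
    exact hL.not_eight_dvd (by rw [Nat.card_congr f.toEquiv, Nat.card_perm, Nat.card_fin]; decide)
  rcases hI with ⟨F, i1, i2, hF, hF3, ⟨f⟩⟩ | ⟨⟨f⟩⟩
  swap
  · exfalso
    have hc : Nat.card N = 2520 := by
      rw [Nat.card_congr f.toEquiv, nat_card_alternatingGroup, Nat.card_fin]; rfl
    exact hL.not_eight_dvd (dvd_trans (by rw [hc]; norm_num) (Subgroup.card_subgroup_dvd_card N))
  have hpsl := CfsgLib.PSL2.card_psl (F := F)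
  rw [CfsgLib.PSL2.gcd_eq_two hF] at hpsl
  have hq4 : 4 ∣ Nat.card N := by
    obtain ⟨l, hl⟩ := hF
    have e : (Fintype.card F + 1) * (Fintype.card F * (Fintype.card F - 1)) =
        4 * (l * (l + 1)) * Fintype.card F := by
      rw [hl, Nat.add_sub_cancel]; ring
    obtain ⟨j, hj⟩ := Nat.even_mul_succ_self l
    rw [e, hj] at hpsl
    rw [Nat.card_congr f.toEquiv]
    exact ⟨j * Fintype.card F, by linarith⟩
  have hindex : ¬ 2 ∣ N.index := fun h => hL.not_eight_dvd (by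
    rw [← N.card_mul_index]; exact mul_dvd_mul hq4 h)
  haveI := hN
  -- the Sylow four-group lies in `N`
  have hSN : ∀ {x : L}, (x : G) ∈ (E.S : Subgroup G) → x ∈ N := fun {x} hx => by
    rw [← QuotientGroup.eq_one_iff (N := N), ← orderOf_eq_one_iff]
    obtain ⟨k, hk⟩ := IsPGroup.iff_orderOf.1 E.S.2 ⟨x, hx⟩
    refine Nat.eq_one_of_dvd_coprimes
      ((Nat.coprime_two_left.2 (Nat.not_even_iff_odd.1 (fun h => hindex h.two_dvd))).pow_left k) ?_
      (orderOf_dvd_natCard _)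
    rw [← hk, Subgroup.orderOf_mk, Subgroup.orderOf_coe]
    exact orderOf_map_dvd (QuotientGroup.mk' N) x
  set tL : L := ⟨E.t, hL.t_mem⟩ with htL
  have ht2 : orderOf (⟨tL, hSN E.t_mem_S⟩ : N) = 2 := by
    rw [Subgroup.orderOf_mk, htL, Subgroup.orderOf_mk, E.orderOf_t]
  have h2F : (2 : F) ≠ 0 := CfsgLib.PSL2.two_ne_zero_of_odd hF
  have hNtop : N = ⊤ := by
    refine eq_top_iff.2 fun g _ => ?_
    have hg2 : orderOf (⟨g * tL * g⁻¹, hN.conj_mem _ (hSN E.t_mem_S) g⟩ : N) = 2 := by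
      rw [Subgroup.orderOf_mk, show g * tL * g⁻¹ = MulAut.conj g tL from rfl,
        MulEquiv.orderOf_eq, htL, Subgroup.orderOf_mk, E.orderOf_t]
    obtain ⟨c, hc⟩ := isConj_iff.1 (CfsgLib.PSL2.isConj_of_orderOf_two h2F
      ((f.orderOf_eq _).trans ht2) ((f.orderOf_eq _).trans hg2))
    obtain ⟨l, rfl⟩ := f.surjective c
    rw [← map_inv, ← map_mul, ← map_mul] at hc
    have hc2 : (l : L) * tL * (l : L)⁻¹ = g * tL * g⁻¹ := congrArg Subtype.val (f.injective hc)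
    set h := (l : L)⁻¹ * g with hh
    have hht : h * tL * h⁻¹ = tL := by
      calc h * tL * h⁻¹ = (l : L)⁻¹ * (g * tL * g⁻¹) * l := by rw [hh]; group
        _ = tL := by rw [← hc2]; group
    obtain ⟨u, hu, s, hs, hus⟩ := hL.exists_mul h.2
      (E.mem_H.2 (mul_inv_eq_iff_eq_mul.1 (congrArg Subtype.val hht)))
    set uL : L := ⟨u, (mem_inf.1 hu).1⟩ with huL
    set bL : L := ⟨b, hL.b_mem⟩ with hbL
    have hbN : bL ∈ N := hSN D.refl.1
    have huu : uL * uL ∈ N := by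
      have e : uL * uL = (uL * bL * uL⁻¹) * bL⁻¹ := by
        refine Subtype.ext ?_
        show u * u = u * b * u⁻¹ * b⁻¹
        calc u * u = u * (b * u * b⁻¹)⁻¹ := by rw [D.inverted' (hL.inf_U hu), inv_inv]
          _ = _ := by group
      rw [e]
      exact mul_mem (hN.conj_mem _ hbN _) (inv_mem hbN)
    obtain ⟨k, hk⟩ := exists_pow_sq_eq (E.mem_U.1 (mem_inf.1 hu).2).2
    have huN : uL ∈ N := by
      have e : uL = (uL * uL) ^ k := Subtype.ext (by
        show u = ((uL * uL) ^ k : L)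
        rw [Subgroup.coe_pow]
        show u = (u * u) ^ k
        rw [(Commute.refl u).mul_pow, hk])
      rw [e]; exact pow_mem huu k
    have e : g = (l : L) * (uL * ⟨s, hL.S_le hs⟩) := by
      rw [show uL * ⟨s, hL.S_le hs⟩ = h from Subtype.ext hus.symm, hh, mul_inv_cancel_left]
    rw [e]
    exact mul_mem l.2 (mul_mem huN (hSN hs))
  let φ : L ≃* Matrix.ProjectiveSpecialLinearGroup (Fin 2) F :=
    (Subgroup.topEquiv.symm.trans (MulEquiv.subgroupCongr hNtop.symm)).trans f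
  have hφt : orderOf (φ tL) = 2 := by
    rw [φ.orderOf_eq, htL, Subgroup.orderOf_mk, E.orderOf_t]
  have hcent := CfsgLib.PSL2.card_centralizer_involution hF hφt
  have hcard : Nat.card (centralizer ({φ tL} : Set (Matrix.ProjectiveSpecialLinearGroup (Fin 2) F))) =
      Nat.card ↥(L ⊓ E.H) := by
    refine (Nat.card_congr ?_).symm
    exact
      { toFun := fun x => ⟨φ ⟨x, (mem_inf.1 x.2).1⟩, mem_centralizer_singleton_iff.2 (by
          rw [← map_mul, ← map_mul]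
          exact congrArg φ (Subtype.ext (E.mem_H.1 (mem_inf.1 x.2).2)))⟩
        invFun := fun x => ⟨(φ.symm x : L), (φ.symm x).2, E.mem_H.2 (by
          have h := congrArg φ.symm (mem_centralizer_singleton_iff.1 x.2)
          rw [map_mul, map_mul, φ.symm_apply_apply] at h
          exact congrArg Subtype.val h)⟩
        left_inv := fun x => Subtype.ext (by simp)
        right_inv := fun x => Subtype.ext (by simp) }
  rw [hcard, hL.card_inf_H] at hcent
  refine ⟨Fintype.card F, FiniteField.isPrimePow_card F, ?_, ?_⟩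
  · rw [Nat.card_congr φ.toEquiv, hpsl]
  · split_ifs at hcent <;> omega

omit [Group G] [Finite G] in
/-- The congruence step: `q₀ ∣ q (q² − 1)` forces `q = q₀`. -/
theorem arith_step {q0 a μ : ℕ} {e e0 : ℤ} (hq0 : IsPrimePow q0) (he : e = 1 ∨ e = -1)
    (he0 : e0 = 1 ∨ e0 = -1) (hq0e : (q0 : ℤ) = 4 * a + e0) (hμ : Odd μ) (hlt : μ + 2 < q0)
    (hdvd : (q0 : ℤ) ∣ (4 * a * μ + e) * ((4 * a * μ + e - 1) * (4 * a * μ + e + 1))) :
    μ = 1 ∧ e = e0 := by
  set q : ℤ := 4 * a * μ + e with hq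
  set w : ℤ := e - e0 * μ with hw
  have hd : (q0 : ℤ) ∣ w * ((w - 1) * (w + 1)) := by
    have hd2 : (q0 : ℤ) ∣ q * ((q - 1) * (q + 1)) - w * ((w - 1) * (w + 1)) :=
      ⟨μ * (q * q + q * w + w * w - 1), by rw [hq, hw, hq0e]; ring⟩
    exact (dvd_sub hdvd hd2).trans (by rw [sub_sub_cancel])
  obtain ⟨p, n, hp, hn, hpn⟩ := (isPrimePow_nat_iff q0).1 hq0
  have hpZ : Prime (p : ℤ) := Nat.prime_iff_prime_int.1 hp
  have hpodd : p ≠ 2 := by
    rintro rfl
    obtain ⟨j, hj⟩ : 2 ∣ q0 := hpn ▸ dvd_pow_self 2 (by omega)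
    omega
  have hp3 : (3 : ℤ) ≤ p := by have := hp.two_le; omega
  have hsmall : ∀ i : ℤ, i ≠ 0 → -2 ≤ i → i ≤ 2 → ¬ (p : ℤ) ∣ i := fun i hi h1 h2 hd => by
    refine hi (Int.eq_zero_of_abs_lt_dvd hd ?_)
    rw [abs_lt]; omega
  have hwb : -(μ : ℤ) - 1 ≤ w ∧ w ≤ μ + 1 := by
    rcases he with rfl | rfl <;> rcases he0 with rfl | rfl <;> omega
  have hcases : (q0 : ℤ) ∣ w ∨ (q0 : ℤ) ∣ w - 1 ∨ (q0 : ℤ) ∣ w + 1 := by
    have e : (q0 : ℤ) = (p : ℤ) ^ n := by rw [← hpn]; push_cast; ring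
    rw [e] at hd ⊢
    by_cases h1 : (p : ℤ) ∣ w
    · refine Or.inl (Prime.pow_dvd_of_dvd_mul_right hpZ n (fun h => ?_) hd)
      rcases hpZ.dvd_or_dvd h with h2 | h2
      · exact hsmall 1 one_ne_zero (by norm_num) (by norm_num) (by simpa using dvd_sub h1 h2)
      · exact hsmall 1 one_ne_zero (by norm_num) (by norm_num) (by simpa using dvd_sub h2 h1)
    have hd1 := Prime.pow_dvd_of_dvd_mul_left hpZ n h1 hd
    by_cases h2 : (p : ℤ) ∣ w - 1
    · refine Or.inr (Or.inl (Prime.pow_dvd_of_dvd_mul_right hpZ n (fun h => ?_) hd1))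
      exact hsmall 2 two_ne_zero (by norm_num) (by norm_num) (by
        have h3 := dvd_sub h h2
        rwa [show w + 1 - (w - 1) = 2 by ring] at h3)
    exact Or.inr (Or.inr (Prime.pow_dvd_of_dvd_mul_left hpZ n h2 hd1))
  have h0 : w = 0 ∨ w - 1 = 0 ∨ w + 1 = 0 := by
    rcases hcases with h | h | h
    · exact Or.inl (Int.eq_zero_of_abs_lt_dvd h (by rw [abs_lt]; omega))
    · exact Or.inr (Or.inl (Int.eq_zero_of_abs_lt_dvd h (by rw [abs_lt]; omega)))
    · exact Or.inr (Or.inr (Int.eq_zero_of_abs_lt_dvd h (by rw [abs_lt]; omega)))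
  obtain ⟨j, hj⟩ := hμ
  rcases he with rfl | rfl <;> rcases he0 with rfl | rfl <;> omega

/-- Gorenstein–Walter 3.1 (e): centralisers of nontrivial elements of `A` lie in `C(t)`. -/
theorem centralizer_le (D : TorusData E b r) :
    ∀ x ∈ D.A, x ≠ 1 → centralizer ({x} : Set G) ≤ E.H := by
  haveI : Fact (Nat.Prime 2) := ⟨Nat.prime_two⟩
  haveI := E.simple
  intro x hx hx1
  set M := normalizer (zpowers x : Set G) with hM
  have hCM : centralizer ({x} : Set G) ≤ M := by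
    rw [← centralizer_closure, ← zpowers_eq_closure]
    exact centralizer_le_normalizer _
  have hMne : M ≠ ⊤ := fun h => by
    rcases E.eq_bot_or_top (normalizer_eq_top_iff.1 h) with h1 | h1
    · exact hx1 (zpowers_eq_bot.1 h1)
    · refine E.H_ne_top (eq_top_iff.2 fun y _ => E.mem_H.2 ?_)
      obtain ⟨i, hi⟩ : y ∈ zpowers x := h1 ▸ mem_top y
      obtain ⟨j, hj⟩ : E.t ∈ zpowers x := h1 ▸ mem_top _
      rw [← hi, ← hj]
      exact (Commute.zpow_zpow_self x i j).eq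
  obtain ⟨L, hLmax, hML⟩ := (eq_top_or_exists_le_coatom M).resolve_left hMne
  by_cases hLH : L ≤ E.H
  · exact (hCM.trans hML).trans hLH
  exfalso
  have hCL : centralizer ({x} : Set G) ≤ L := hCM.trans hML
  have hAL : D.A ≤ L := fun y hy => hCL (mem_centralizer_singleton_iff.2 (D.comm hy hx))
  have htmem : E.t ∈ L := hCL (mem_centralizer_singleton_iff.2 (D.commute_t hx).symm)
  have hbmem : b ∈ L := by
    refine hML (mem_normalizer_iff.2 fun h => ?_)
    have hinv : ∀ h ∈ zpowers x, b * h * b⁻¹ = h⁻¹ := by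
      rintro _ ⟨i, rfl⟩
      exact D.inverted' (zpow_mem hx i)
    refine ⟨fun hh => (hinv h hh).symm ▸ inv_mem hh, fun hh => ?_⟩
    have e : b * (b * h * b⁻¹) * b⁻¹ = h := by
      rw [D.refl.inv]
      calc b * (b * h * b) * b = (b * b) * h * (b * b) := by group
        _ = h := by rw [D.refl.sq, one_mul, mul_one]
    rw [← e, hinv _ hh]
    exact inv_mem hh
  have hSL : (E.S : Subgroup G) ≤ L := by
    intro s hs
    rcases D.S_cases hs with rfl | rfl | rfl | rfl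
    exacts [one_mem _, htmem, hbmem, mul_mem hbmem htmem]
  have hLU : L ⊓ E.U = D.A := by
    refine (D.between (L ⊓ E.U) (le_inf hAL D.A_le) inf_le_right fun y hy => ⟨?_, ?_⟩).resolve_right
      fun h => hLH ?_
    · exact mul_mem (mul_mem hbmem hy.1) hbmem
    · simpa [D.refl.inv] using E.conj_mem_U D.refl.mem_H hy.2
    · have hHL : E.H ≤ L := fun y hy => by
        obtain ⟨u, hu, s, hs, rfl⟩ := E.exists_mul hy
        exact mul_mem (h.ge hu).1 (hSL hs)
      rcases hHL.eq_or_lt with e | e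
      · exact e.ge
      · exact absurd (D.coatom.2 L e) hLmax.1
  obtain ⟨τ, hτT, hτo⟩ := D.exists_tau
  have hL : D.Sub L := ⟨htmem, hbmem, hLU.le, ⟨τ, ⟨hAL (D.T_le hτT), hτT⟩, hτo⟩, hLmax.1, hLH⟩
  have hXS : ∀ {s : G}, s ∈ (E.S : Subgroup G) → ∀ {y : G}, y ∈ E.X b → y * s = s * y := by
    intro s hs y hy
    obtain ⟨h1, h2, -⟩ := D.refl.mem_X.1 hy
    rcases D.S_cases hs with rfl | rfl | rfl | rfl
    exacts [(Commute.one_right y).eq, h1, h2,
      ((show Commute y b from h2).mul_right (show Commute y E.t from h1)).eq]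
  have hSK : (E.S : Subgroup G) ≤ D.K := fun s hs => D.X_normalizer
    (centralizer_le_normalizer _ (mem_centralizer_iff.2 fun y hy => hXS hs hy))
  have hconj : ∀ {n : G}, n ∈ normalizer ((E.S : Subgroup G) : Set G) →
      ∀ {y : G}, y ∈ E.X b → n * y * n⁻¹ ∈ E.X b := by
    intro n hn y hy
    have key : ∀ {s : G}, s ∈ (E.S : Subgroup G) → n * y * n⁻¹ * s = s * (n * y * n⁻¹) := by
      intro s hs
      have h := hXS ((mem_normalizer_iff.1 hn (n⁻¹ * s * n)).2 (by simpa [mul_assoc] using hs)) hy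
      calc n * y * n⁻¹ * s = n * (y * (n⁻¹ * s * n)) * n⁻¹ := by group
        _ = s * (n * y * n⁻¹) := by rw [h]; group
    exact D.refl.mem_X.2 ⟨key E.t_mem_S, key D.refl.1,
      odd_orderOf_conj (D.refl.mem_X.1 hy).2.2 n⟩
  obtain ⟨n, hnL, hnN, hnt⟩ := hL.exists_rot
  have hnK : n ∈ D.K := D.X_normalizer (mem_normalizer_iff.2 fun y => ⟨fun h => hconj hnN h,
    fun h => by simpa [mul_assoc] using hconj (inv_mem hnN) h⟩)
  have hD : D.Sub (L ⊓ D.K) := ⟨⟨htmem, hSK E.t_mem_S⟩, ⟨hbmem, hSK D.refl.1⟩,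
    (inf_le_inf_right _ inf_le_left).trans hLU.le,
    ⟨τ, ⟨⟨hAL (D.T_le hτT), D.T_le_K hτT⟩, hτT⟩, hτo⟩,
    fun h => hLmax.1 (top_le_iff.1 (h ▸ inf_le_left)),
    fun h => hnt (mul_inv_eq_iff_eq_mul.2 (E.mem_H.1 (h ⟨hnL, hnK⟩)))⟩
  obtain ⟨q, -, hcL, hqL⟩ := hL.numerics
  obtain ⟨q0, hq0, hcD, hqD⟩ := hD.numerics
  set P : Subgroup G := L ⊓ D.K ⊓ E.U with hP
  have hPA : P ≤ D.A := (inf_le_inf_right _ inf_le_left).trans hLU.le
  have hTP : D.T ≤ P := fun y hy =>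
    ⟨⟨hAL (D.T_le hy), D.T_le_K hy⟩, D.mem_U (D.T_le hy)⟩
  have hμ : Nat.card P * P.relIndex D.A = Nat.card D.A := by
    rw [Subgroup.relIndex, ← Nat.card_congr (subgroupOfEquivOfLe hPA).toEquiv, card_mul_index]
  have hμodd : Odd (P.relIndex D.A) := D.odd_card_A.of_dvd_nat ⟨Nat.card P, by rw [← hμ, mul_comm]⟩
  have hμle : 2 * P.relIndex D.A ≤ r + 1 := by
    have hpos : 0 < D.T.relIndex D.A := by
      rw [Subgroup.relIndex]; exact Nat.pos_of_ne_zero index_ne_zero_of_finite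
    have h1 := Nat.le_of_dvd hpos (relIndex_dvd_of_le_left D.A hTP)
    have h2 := D.relIndex_T_le
    have h3 := D.index_le
    omega
  have hra : r ≤ Nat.card P := Nat.le_of_dvd Nat.card_pos hD.r_dvd
  have hr2 := D.prime.two_le
  have hq' : (q + 1) * (q * (q - 1)) = 2 * Nat.card L := hcL.symm
  rw [hLU] at hqL
  rw [← hμ] at hqL
  have hdvd : q0 ∣ (q + 1) * (q * (q - 1)) := by
    rw [hq']
    refine dvd_trans ?_ (mul_dvd_mul_left 2 (card_dvd_of_le (inf_le_left : L ⊓ D.K ≤ L)))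
    rw [hcD]
    exact dvd_mul_of_dvd_right (dvd_mul_right _ _) _
  set a := Nat.card P with ha
  set μ := P.relIndex D.A with hμdef
  have hq1 : 1 ≤ q := by
    have : 1 ≤ a * μ := hμ.symm ▸ Nat.card_pos
    omega
  have hdZ : (q0 : ℤ) ∣ (q : ℤ) * (((q : ℤ) - 1) * ((q : ℤ) + 1)) := by
    have h := Int.natCast_dvd_natCast.2 hdvd
    push_cast [Nat.cast_sub hq1] at h
    convert h using 1
    ring
  obtain ⟨e, he, hqe⟩ : ∃ e : ℤ, (e = 1 ∨ e = -1) ∧ (q : ℤ) = 4 * a * μ + e := by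
    rcases hqL with h | h
    · exact ⟨1, Or.inl rfl, by rw [h]; push_cast; ring⟩
    · refine ⟨-1, Or.inr rfl, ?_⟩
      have h' : ((q + 1 : ℕ) : ℤ) = ((4 * (a * μ) : ℕ) : ℤ) := by rw [h]
      push_cast at h'
      linarith
  obtain ⟨e0, he0, hq0e⟩ : ∃ e0 : ℤ, (e0 = 1 ∨ e0 = -1) ∧ (q0 : ℤ) = 4 * a + e0 := by
    rcases hqD with h | h
    · exact ⟨1, Or.inl rfl, by omega⟩
    · exact ⟨-1, Or.inr rfl, by omega⟩
  rw [hqe] at hdZ
  obtain ⟨hμ1, hee⟩ := arith_step hq0 he he0 hq0e hμodd (by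
    rcases he0 with h | h <;> omega) hdZ
  have hqq : q = q0 := by
    rw [hμ1, Nat.cast_one, mul_one, hee, ← hq0e] at hqe
    exact_mod_cast hqe
  have hLK : L ≤ D.K := by
    have h : L ⊓ D.K = L := eq_of_le_of_card_ge inf_le_left (by rw [hqq] at hcL; omega)
    exact h ▸ inf_le_right
  have hKL : D.K = L := by
    rcases hLK.eq_or_lt with e | e
    · exact e.symm
    · exact absurd (hLmax.2 D.K e) D.K_ne_top
  refine D.X_ne (eq_bot_iff.2 fun y hy => mem_bot.2 ?_)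
  obtain ⟨h1, h2, h3⟩ := D.refl.mem_X.1 hy
  exact hL.eq_one (hKL ▸ D.X_normalizer (le_normalizer hy)) h1 h2 h3

end CfsgLib.GW.Max31.TorusData
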