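import Cfsg.Agent.Lib.GW.Max31OutHeisCount
import Cfsg.Agent.Lib.GW.Max31Torus
import Cfsg.Agent.Lib.GW.Exceptional

/-!
Gorenstein–Walter, Step 3.1 e, case (III), Sylow four-groups: the abelian inverted subgroup
`A = T C` and the order formula from the exceptional character.
-/

set_option autoImplicit false
set_option linter.style.haveILetI false
set_option linter.unusedSectionVars false

namespace CfsgLib.GW.Max31.Heis.Data

open Subgroup

universe u

variable {G : Type u} [Group G] [Finite G] {E : Setup G} {b : G} {r : ℕ}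
  {O : Out E b r} {w : G} (D : Data O w)

include D

theorem diag_eq (hinv : ∀ g ∈ D.psi.range, flip g = g⁻¹) :
    ∀ g ∈ D.psi.range, g 0 0 = g 1 1 := by
  intro g hg
  have h := congrArg (fun M : Matrix.SpecialLinearGroup (Fin 2) (ZMod r) => M 0 0) (hinv g hg)
  simpa [flip, Matrix.SpecialLinearGroup.coe_inv, Matrix.adjugate_fin_two] using h

theorem κ_inv {x y : G} (hx : x ∈ E.R r) (hy : y ∈ E.R r) : D.κ x⁻¹ y = -D.κ x y := by
  have h := D.κ_zpow_left hx hy (-1)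
  rw [zpow_neg_one] at h
  rw [h]; push_cast; ring

/-- An inverted element whose image generates, with `μ`-th power in `T`. -/
theorem exists_gen (hinv : ∀ g ∈ D.psi.range, flip g = g⁻¹) (hcyc : IsCyclic D.psi.range) :
    ∃ c : E.U, b * (c : G) * b = (c : G)⁻¹ ∧ orderOf (D.psi c) = Nat.card D.psi.range ∧
      (∀ g ∈ D.psi.range, ∃ i : ℤ, g = D.psi c ^ i) ∧
      ((c : G) ^ Nat.card D.psi.range ∈ Max32.Zc E) := by
  classical
  haveI := Fact.mk O.prime
  obtain ⟨⟨g, u, hu⟩, hgen⟩ := hcyc.exists_generator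
  set γ : D.psi.range := ⟨g, MonoidHom.mem_range.2 ⟨u, hu⟩⟩
  have hgo : orderOf γ = Nat.card D.psi.range := orderOf_eq_card_of_forall_mem_zpowers hgen
  -- the inverted part of a lift
  obtain ⟨x, y, hx, hxb, hy, hyb, e⟩ := CfsgLib.RankOneInvol.exists_fixed_mul_inverted
    E.odd_card_U O.refl.sq (fun z hz => by
      have := E.conj_mem_U O.refl.mem_H hz
      rwa [O.refl.inv] at this) u.2
  have hxX : x ∈ E.X b := O.refl.mem_X.2 ⟨(E.mem_U.1 hx).1, by
    calc x * b = b * x * b * b := by rw [hxb]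
      _ = b * x := by rw [mul_assoc, O.refl.sq, mul_one], (E.mem_U.1 hx).2⟩
  rw [D.X_eq hinv O.refl] at hxX
  obtain ⟨i, hi⟩ := hxX
  have hψx : D.psi ⟨x, hx⟩ = 1 := D.psi_R (x := ⟨x, hx⟩) (by
    show x ∈ E.R r
    rw [← hi]; exact zpow_mem D.e_mem i)
  have hψy : D.psi ⟨y, hy⟩ = g := by
    rw [← hu, show u = ⟨x, hx⟩ * ⟨y, hy⟩ from Subtype.ext e, map_mul, hψx, one_mul]
  set c : E.U := ⟨y, hy⟩ ^ r with hc
  have hμr : (Nat.card D.psi.range).Coprime r :=
    (O.prime.coprime_iff_not_dvd.2 D.not_dvd_range).symm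
  have hco : orderOf (D.psi c) = Nat.card D.psi.range := by
    rw [hc, map_pow, hψy, Nat.Coprime.orderOf_pow (by
      rw [show orderOf g = Nat.card D.psi.range from (Subgroup.orderOf_coe γ).trans hgo]; exact hμr)]
    exact (Subgroup.orderOf_coe γ).trans hgo
  refine ⟨c, ?_, hco, fun g' hg' => ?_, ?_⟩
  · rw [hc, SubmonoidClass.coe_pow]
    have := conj_pow (i := r) (a := b) (b := y)
    rw [O.refl.inv, hyb, inv_pow] at this
    exact this.symm
  · have hle : zpowers (D.psi c) ≤ D.psi.range := zpowers_le.2 ⟨c, rfl⟩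
    have heq := eq_of_le_of_card_ge hle (by rw [Nat.card_zpowers, hco])
    rw [← heq] at hg'
    obtain ⟨j, hj⟩ := hg'
    exact ⟨j, hj.symm⟩
  · have h1 : D.psi (⟨y, hy⟩ ^ Nat.card D.psi.range) = 1 := by
      rw [map_pow, hψy, ← hgo, ← Subgroup.orderOf_coe γ]
      exact pow_orderOf_eq_one g
    obtain ⟨ρ, hρ, ζ, hζ, e'⟩ := D.decomp_of_psi h1
    replace e' : y ^ Nat.card D.psi.range = ρ * ζ := e'
    rw [hc, SubmonoidClass.coe_pow]
    show (y ^ r) ^ Nat.card D.psi.range ∈ Max32.Zc E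
    rw [← pow_mul, mul_comm, pow_mul, e', (show Commute ρ ζ from D.T_comm_R hζ hρ).mul_pow]
    refine mul_mem (D.mem_T_of_coords (pow_mem hρ r) ?_ ?_) (pow_mem hζ r)
    · rw [← zpow_natCast, D.κ_zpow_left hρ D.w_mem]; simp
    · rw [D.κ_swap (pow_mem hρ r) D.e_mem, ← zpow_natCast, D.κ_zpow_left hρ D.e_mem]; simp

/-- The data of the torus lemma, the hypotheses of the exceptional character and its formula. -/
theorem degree_zero (hk : E.d.k = 0) (hinv : ∀ g ∈ D.psi.range, flip g = g⁻¹)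
    (hne : D.psi.range ≠ ⊥) :
    ∃ (f : ℕ) (δ : ℤ), (δ = 1 ∨ δ = -1) ∧ 3 ≤ f ∧ (δ = 1 → 5 ≤ f) ∧ (4 : ℤ) ∣ (f : ℤ) - δ ∧
      (Nat.card G : ℚ) * ((f : ℚ) - δ) ^ 2 = f * ((f : ℚ) + δ) * 2 ^ 3 *
        (Nat.card E.U : ℚ) ^ 3 * (2 / (Nat.card (E.X E.d.a) : ℚ)) ^ 2 := by
  classical
  haveI := Fact.mk O.prime
  obtain ⟨hcyc, hμ2, htri⟩ :=
    Max31Out.inverted_bound O.ne_two D.odd_range D.not_dvd_range (D.diag_eq hinv)
  obtain ⟨c, hcb, hco, hgen, hcT⟩ := D.exists_gen hinv hcyc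
  set μ := Nat.card D.psi.range with hμ
  set T := Max32.Zc E with hT
  set g := D.psi c with hg
  -- the subgroups `N` and `A`
  set N : Subgroup G := D.psi.ker.map E.U.subtype with hN
  have hNU : N ≤ E.U := map_subtype_le _
  have hNmem : ∀ {x : G} (hx : x ∈ E.U), x ∈ N ↔ D.psi ⟨x, hx⟩ = 1 := fun {x} hx =>
    ⟨by rintro ⟨y, hy, rfl⟩; exact hy, fun h => ⟨⟨x, hx⟩, h, rfl⟩⟩
  have hcc : ∀ {ζ : G}, ζ ∈ T → Commute (c : G) ζ := fun hζ => D.T_comm_U hζ c.2
  let A : Subgroup G :=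
    { carrier := {x | ∃ i : ℤ, ∃ ζ ∈ T, x = (c : G) ^ i * ζ}
      one_mem' := ⟨0, 1, one_mem _, by simp⟩
      mul_mem' := by
        rintro _ _ ⟨i, ζ, hζ, rfl⟩ ⟨j, η, hη, rfl⟩
        refine ⟨i + j, ζ * η, mul_mem hζ hη, ?_⟩
        rw [zpow_add, mul_assoc, ← mul_assoc ζ, ← ((hcc hζ).zpow_left j).eq]
        group
      inv_mem' := by
        rintro _ ⟨i, ζ, hζ, rfl⟩
        exact ⟨-i, ζ⁻¹, inv_mem hζ, by
          rw [mul_inv_rev, zpow_neg, ((hcc hζ).zpow_left i).inv_inv.eq]⟩ }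
  have hAU : A ≤ E.U := by
    rintro _ ⟨i, ζ, hζ, rfl⟩
    exact mul_mem (zpow_mem c.2 i) hζ.1
  have hψA : ∀ (i : ℤ) {ζ : G} (hζ : ζ ∈ T) (hm : (c : G) ^ i * ζ ∈ E.U),
      D.psi ⟨_, hm⟩ = g ^ i := fun i ζ hζ hm => by
    rw [show (⟨_, hm⟩ : E.U) = c ^ i * ⟨ζ, hζ.1⟩ from Subtype.ext (by simp), map_mul, map_zpow,
      D.psi_T (x := ⟨ζ, hζ.1⟩) hζ, mul_one]
  have hker : ∀ i : ℤ, g ^ i = 1 → (c : G) ^ i ∈ T := by
    intro i hi
    obtain ⟨l, hl⟩ : (μ : ℤ) ∣ i := by rw [← hco]; exact orderOf_dvd_iff_zpow_eq_one.2 hi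
    rw [hl, zpow_mul, zpow_natCast]
    exact zpow_mem hcT l
  have hAN : A ⊓ N ≤ T := by
    rintro x ⟨⟨i, ζ, hζ, rfl⟩, hxN⟩
    refine mul_mem (hker i ?_) hζ
    rw [← hψA i hζ (hNU hxN)]
    exact (hNmem _).1 hxN
  have hTA : T ≤ A := fun ζ hζ => ⟨0, ζ, hζ, by simp⟩
  have hNn : ∀ u ∈ E.U, ∀ x ∈ N, u * x * u⁻¹ ∈ N := by
    intro u hu x hx
    rw [hNmem (mul_mem (mul_mem hu (hNU hx)) (inv_mem hu)),
      show (⟨u * x * u⁻¹, _⟩ : E.U) = ⟨u, hu⟩ * ⟨x, hNU hx⟩ * ⟨u, hu⟩⁻¹ from rfl, map_mul, map_mul,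
      map_inv, (hNmem (hNU hx)).1 hx, mul_one, mul_inv_cancel]
  have hder : ∀ u ∈ E.U, ∀ v ∈ E.U, u * v * u⁻¹ * v⁻¹ ∈ N := by
    intro u hu v hv
    rw [hNmem (mul_mem (mul_mem (mul_mem hu hv) (inv_mem hu)) (inv_mem hv)),
      show (⟨u * v * u⁻¹ * v⁻¹, _⟩ : E.U) = ⟨u, hu⟩ * ⟨v, hv⟩ * ⟨u, hu⟩⁻¹ * ⟨v, hv⟩⁻¹ from rfl,
      map_mul, map_mul, map_mul, map_inv, map_inv,
      D.range_comm _ ⟨⟨u, hu⟩, rfl⟩ _ ⟨⟨v, hv⟩, rfl⟩, mul_inv_cancel_right, mul_inv_cancel]
  have hNne : N ≠ E.U := fun h => hne (eq_bot_iff.2 fun _ ⟨x, hx⟩ => mem_bot.2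
    (hx ▸ (hNmem x.2).1 (h.symm ▸ x.2)))
  have hab : ∀ x ∈ E.U, E.d.a * x * E.d.a⁻¹ = b * x * b := by
    intro x hx
    have hrot : b * E.d.a ∈ zpowers E.d.r :=
      E.d.refl_mul_refl O.refl.1 O.refl.2 E.d.a_mem E.d.a_notMem
    rw [E.refl_a.inv]
    rcases E.d.rot_cases hk hrot with h | h
    · have : E.d.a = b := by
        calc E.d.a = b * b * E.d.a := by rw [O.refl.sq, one_mul]
          _ = b := by rw [mul_assoc, h, mul_one]
      rw [this]
    · have : E.d.a = b * E.t := by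
        calc E.d.a = b * b * E.d.a := by rw [O.refl.sq, one_mul]
          _ = _ := by rw [mul_assoc, h]; rfl
      rw [this]
      calc b * E.t * x * (b * E.t) = b * (E.t * x) * (b * E.t) := by group
        _ = b * (x * E.t) * (E.t * b) := by rw [(E.mem_U.1 hx).1, O.refl.comm]
        _ = b * x * (E.t * E.t) * b := by group
        _ = b * x * b := by rw [E.t_sq, mul_one]
  have hinvA : ∀ x ∈ A, b * x * b = x⁻¹ := by
    rintro _ ⟨i, ζ, hζ, rfl⟩
    have h1 : b * (c : G) ^ i * b = ((c : G) ^ i)⁻¹ := by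
      have := conj_zpow (i := i) (a := b) (b := (c : G))
      rw [O.refl.inv, hcb, inv_zpow] at this
      exact this.symm
    calc b * ((c : G) ^ i * ζ) * b = b * (c : G) ^ i * 1 * ζ * b := by group
      _ = b * (c : G) ^ i * b * (b * ζ * b) := by rw [← O.refl.sq]; group
      _ = _ := by rw [h1, D.T_inverted hζ O.refl, mul_inv_rev, ((hcc hζ).zpow_left i).inv_inv.eq]
  -- the action of a non-trivial element
  have hmat : ∀ γ ∈ D.psi.range, γ ≠ 1 →
      γ 0 0 = γ 1 1 ∧ γ 0 1 ≠ 0 ∧ γ 1 0 ≠ 0 ∧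
      (1 - γ 0 0) * (1 - γ 0 0) - γ 0 1 * γ 1 0 ≠ 0 := by
    intro γ hγ hγ1
    have hd : γ 0 0 * γ 1 1 - γ 0 1 * γ 1 0 = 1 := by
      have := γ.2; rwa [Matrix.det_fin_two] at this
    have hdg := D.diag_eq hinv γ hγ
    refine ⟨hdg, fun h => hγ1 (htri γ hγ (by rw [h, zero_mul])),
      fun h => hγ1 (htri γ hγ (by rw [h, mul_zero])), fun h => hγ1 (htri γ hγ ?_)⟩
    rw [← hdg] at hd
    have h1 : γ 0 0 = 1 := mul_left_cancel₀ (Max31Out.two_ne_zero' (r := r) O.ne_two) (by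
      linear_combination -h + hd)
    rw [h1] at h
    linear_combination -h
  have himage : ∀ (u : E.U) {x : G}, x ∈ E.R r →
      D.κ ((u : G) * x * (u : G)⁻¹) w = D.psi u 0 0 * D.κ x w + D.psi u 0 1 * D.κ O.C.e x ∧
      D.κ O.C.e ((u : G) * x * (u : G)⁻¹) = D.psi u 1 0 * D.κ x w + D.psi u 1 1 * D.κ O.C.e x :=
    fun u x hx => D.coord_image u.2 hx
  -- conjugating into `A`
  have hconj : ∀ u ∈ E.U, u ∉ N → ∃ x ∈ E.R r, x⁻¹ * u * x ∈ A ∧ x⁻¹ * u * x ∉ T := by
    intro u hu huN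
    obtain ⟨i, hi⟩ := hgen _ ⟨⟨u, hu⟩, rfl⟩
    have hgi : g ^ i ≠ 1 := fun h => huN ((hNmem hu).2 (hi.trans h))
    set n : E.U := (c ^ i)⁻¹ * ⟨u, hu⟩ with hn
    have hnψ : D.psi n = 1 := by rw [hn, map_mul, map_inv, map_zpow, ← hg, hi, inv_mul_cancel]
    obtain ⟨ρ, hρ, ζ, hζ, e⟩ := D.decomp_of_psi hnψ
    replace e : ((c : G) ^ i)⁻¹ * u = ρ * ζ := by simpa [hn] using e
    obtain ⟨hdg, hq0, hs0, hdet⟩ := hmat _ (zpow_mem (show g ∈ D.psi.range from ⟨c, rfl⟩) i) hgi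
    set p := (g ^ i) 0 0
    set q := (g ^ i) 0 1
    set s := (g ^ i) 1 0
    set Δ := (1 - p) * (1 - p) - q * s
    set c1 := D.κ ρ w
    set c2 := D.κ O.C.e ρ
    obtain ⟨i', j', hv1, hv2⟩ := D.coords_exist (-((1 - p) * c1 - q * c2) / Δ)
      (-((1 - p) * c2 - s * c1) / Δ)
    set x := O.C.e ^ i' * w ^ j' with hx
    have hxR : x ∈ E.R r := mul_mem (zpow_mem D.e_mem _) (zpow_mem D.w_mem _)
    set a := (c : G) ^ i with ha
    have haU : a ∈ E.U := zpow_mem c.2 i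
    have hinvψ : D.psi ((c ^ i)⁻¹) = (g ^ i)⁻¹ := by rw [map_inv, map_zpow]
    set y := a⁻¹ * x⁻¹ * a with hy
    have hyR : y ∈ E.R r := by
      have := D.conj_R (inv_mem haU) (inv_mem hxR)
      rwa [inv_inv] at this
    obtain ⟨hy1, hy2⟩ := himage ((c ^ i)⁻¹) (inv_mem hxR)
    have hco : ((((c ^ i)⁻¹ : E.U)) : G) = a⁻¹ := by simp [ha]
    rw [hco, inv_inv, ← hy, hinvψ] at hy1 hy2
    have hxi1 : D.κ x⁻¹ w = -D.κ x w := by
      rw [← zpow_neg_one, D.κ_zpow_left hxR D.w_mem]; push_cast; ring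
    have hxi2 : D.κ O.C.e x⁻¹ = -D.κ O.C.e x := by
      rw [D.κ_swap (inv_mem hxR) D.e_mem, ← zpow_neg_one, D.κ_zpow_left hxR D.e_mem,
        D.κ_swap D.e_mem hxR]
      push_cast; ring
    rw [hxi1, hxi2, hv1, hv2] at hy1 hy2
    simp only [Matrix.SpecialLinearGroup.coe_inv, Matrix.adjugate_fin_two, Matrix.cons_val',
      Matrix.cons_val_zero, Matrix.cons_val_one, Matrix.of_apply] at hy1 hy2
    have hz : y * ρ * x ∈ T := by
      refine D.mem_T_of_coords (mul_mem (mul_mem hyR hρ) hxR) ?_ ?_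
      · rw [D.κ_mul_left (mul_mem hyR hρ) hxR D.w_mem, D.κ_mul_left hyR hρ D.w_mem, hy1, hv1,
          ← hdg]
        field_simp
        ring
      · rw [D.κ_mul_right D.e_mem (mul_mem hyR hρ) hxR, D.κ_mul_right D.e_mem hyR hρ, hy2, hv2]
        field_simp
        ring
    have e' : x⁻¹ * u * x = a * (y * ρ * x * ζ) := by
      calc x⁻¹ * u * x = x⁻¹ * a * (a⁻¹ * u) * x := by group
        _ = x⁻¹ * a * ρ * (ζ * x) := by rw [e]; group
        _ = x⁻¹ * a * ρ * (x * ζ) := by rw [D.T_comm_R hζ hxR]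
        _ = a * (y * ρ * x * ζ) := by rw [hy]; group
    refine ⟨x, hxR, ⟨i, _, mul_mem hz hζ, e'⟩, fun hTm => huN ?_⟩
    rw [hNmem hu]
    have h2 := D.psi_T (x := ⟨_, hTm.1⟩) hTm
    rw [show (⟨x⁻¹ * u * x, hTm.1⟩ : E.U) = ⟨x, D.R_le_U hxR⟩⁻¹ * ⟨u, hu⟩ * ⟨x, D.R_le_U hxR⟩ from rfl,
      map_mul, map_mul, map_inv, D.psi_R (x := ⟨x, _⟩) hxR, inv_one, one_mul, mul_one] at h2
    exact h2
  -- the centraliser in `U` of an element of `A` outside `T`
  have hCA : ∀ a ∈ A, a ∉ T → ∀ x ∈ E.U, x * a = a * x → x ∈ A := by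
    rintro _ ⟨i, ζ, hζ, rfl⟩ haT x hx hxa
    have hgi : g ^ i ≠ 1 := fun h => haT (mul_mem (hker i h) hζ)
    obtain ⟨l, hl⟩ := hgen _ ⟨⟨x, hx⟩, rfl⟩
    set n : E.U := (c ^ l)⁻¹ * ⟨x, hx⟩ with hn
    have hnψ : D.psi n = 1 := by rw [hn, map_mul, map_inv, map_zpow, ← hg, hl, inv_mul_cancel]
    obtain ⟨ρ, hρ, η, hη, e⟩ := D.decomp_of_psi hnψ
    replace e : ((c : G) ^ l)⁻¹ * x = ρ * η := by simpa [hn] using e
    have hρc : (c : G) ^ i * ρ * ((c : G) ^ i)⁻¹ = ρ := by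
      have h1 : Commute x ((c : G) ^ i) := by
        have h := (show Commute x ((c : G) ^ i * ζ) from hxa).mul_right
          (show Commute x ζ⁻¹ from D.T_comm_U (inv_mem hζ) hx)
        rwa [mul_inv_cancel_right] at h
      have h2 : Commute ρ ((c : G) ^ i) := by
        have e2 : ρ = ((c : G) ^ l)⁻¹ * x * η⁻¹ := by rw [e, mul_inv_cancel_right]
        rw [e2]
        exact ((((Commute.refl (c : G)).zpow_zpow l i).inv_left).mul_left h1).mul_left
          (((hcc hη).zpow_left i).symm.inv_left)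
      rw [← h2.eq, mul_inv_cancel_right]
    obtain ⟨h1, h2⟩ := himage (c ^ i) hρ
    obtain ⟨hdg, -, -, hdet⟩ := hmat _ (zpow_mem (show g ∈ D.psi.range from ⟨c, rfl⟩) i) hgi
    simp only [SubgroupClass.coe_zpow, hρc, map_zpow, ← hg, ← hdg] at h1 h2
    have hρT : ρ ∈ T := by
      refine D.mem_T_of_coords hρ ?_ ?_
      · refine mul_left_cancel₀ hdet ?_
        linear_combination (1 - (g ^ i) 0 0) * h1 + (g ^ i) 0 1 * h2
      · refine mul_left_cancel₀ hdet ?_
        linear_combination (g ^ i) 1 0 * h1 + (1 - (g ^ i) 0 0) * h2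
    exact ⟨l, ρ * η, mul_mem hρT hη, by rw [← e, mul_inv_cancel_left]⟩
  -- the torus lemma
  have hμcard : N.relIndex E.U = μ := by
    rw [relIndex, hN, subgroupOf, comap_map_eq_self_of_injective E.U.subtype_injective, index_ker]
  let D' : TorusData E b r :=
    { A := A, T := T, N := N, K := O.C.K, coatom := O.coatom, four := hk, refl := O.refl,
      prime := O.prime, A_le := hAU, inverted := hinvA,
      between := fun L hAL hLU hLb => by
        by_cases hLN : ∀ x ∈ L, x ∈ N → x ∈ T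
        · left
          refine le_antisymm (fun x hx => ?_) hAL
          obtain ⟨i, hi⟩ := hgen _ ⟨⟨x, hLU hx⟩, rfl⟩
          have hcL : (c : G) ^ i ∈ L := hAL ⟨i, 1, one_mem _, by rw [mul_one]⟩
          have hd := hLN _ (mul_mem (inv_mem hcL) hx) ((hNmem (mul_mem (inv_mem (zpow_mem c.2 i))
            (hLU hx))).2 (by
              rw [show (⟨((c : G) ^ i)⁻¹ * x, _⟩ : E.U) = (c ^ i)⁻¹ * ⟨x, hLU hx⟩ from
                Subtype.ext (by simp), map_mul, map_inv, map_zpow, ← hg, hi, inv_mul_cancel]))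
          exact ⟨i, _, hd, by rw [mul_inv_cancel_left]⟩
        · right
          push Not at hLN
          obtain ⟨n, hnL, hnN, hnT⟩ := hLN
          obtain ⟨ρ, hρ, ζ, hζ, e⟩ := D.decomp_of_psi ((hNmem (hNU hnN)).1 hnN)
          replace e : n = ρ * ζ := e
          have hTL : T ≤ L := hTA.trans hAL
          have hρL : ρ ∈ L := by
            have : ρ = n * ζ⁻¹ := by rw [e, mul_inv_cancel_right]
            rw [this]; exact mul_mem hnL (inv_mem (hTL hζ))
          -- an element of `L` with prescribed coordinates gives all of `R`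
          have hup : ∀ {x : G}, x ∈ E.R r → ∀ y ∈ E.R r, y ∈ L →
              ∀ m : ℕ, D.κ x w = m * D.κ y w → D.κ O.C.e x = m * D.κ O.C.e y → x ∈ L := by
            intro x hx y hy hyL m h1 h2
            have hdR := mul_mem (inv_mem (pow_mem hy m)) hx
            have hd : (y ^ m)⁻¹ * x ∈ T := by
              refine D.mem_T_of_coords hdR ?_ ?_
              · rw [D.κ_mul_left (inv_mem (pow_mem hy m)) hx D.w_mem, h1, ← zpow_natCast, ← zpow_neg,
                  D.κ_zpow_left hy D.w_mem]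
                push_cast; ring
              · rw [D.κ_mul_right D.e_mem (inv_mem (pow_mem hy m)) hx, h2,
                  D.κ_swap (inv_mem (pow_mem hy m)) D.e_mem, ← zpow_natCast, ← zpow_neg,
                  D.κ_zpow_left hy D.e_mem, D.κ_swap D.e_mem hy]
                push_cast; ring
            have := mul_mem (pow_mem hyL m) (hTL hd)
            rwa [mul_inv_cancel_left] at this
          set α := D.κ ρ w
          set β := D.κ O.C.e ρ
          have hρb := D.refl_conj_R O.refl hρ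
          obtain ⟨hb1, hb2⟩ := D.coord_refl O.refl hρ
          have hρbL : b * ρ * b ∈ L := hLb ρ hρL
          -- the two axes
          set y1 := ρ * (b * ρ * b) with hy1
          set y2 := ρ * (b * ρ * b)⁻¹ with hy2
          have hy1R : y1 ∈ E.R r := mul_mem hρ hρb
          have hy2R : y2 ∈ E.R r := mul_mem hρ (inv_mem hρb)
          have a1 : D.κ y1 w = 2 * α ∧ D.κ O.C.e y1 = 0 := by
            rw [hy1, D.κ_mul_left hρ hρb D.w_mem, D.κ_mul_right D.e_mem hρ hρb, hb1, hb2]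
            exact ⟨by ring, by ring⟩
          have a2 : D.κ y2 w = 0 ∧ D.κ O.C.e y2 = 2 * β := by
            rw [hy2, D.κ_mul_left hρ (inv_mem hρb) D.w_mem, D.κ_mul_right D.e_mem hρ (inv_mem hρb),
              D.κ_swap (inv_mem hρb) D.e_mem, ← zpow_neg_one, D.κ_zpow_left hρb D.w_mem,
              D.κ_zpow_left hρb D.e_mem, D.κ_swap D.e_mem hρb, hb1, hb2]
            push_cast
            exact ⟨by ring, by ring⟩
          have h2 := Max31Out.two_ne_zero' (r := r) O.ne_two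
          have hcL : (c : G) ∈ L := hAL ⟨1, 1, one_mem _, by simp⟩
          have hg1 : g ≠ 1 := fun h => hne (eq_bot_iff.2 fun γ hγ => mem_bot.2 (by
            obtain ⟨i, hi⟩ := hgen γ hγ
            rw [hi, h, one_zpow]))
          obtain ⟨hdg, hq0, hs0, -⟩ := hmat g ⟨c, rfl⟩ hg1
          have haxis : ∀ {a : ZMod r} {y : G}, y ∈ E.R r → y ∈ L → a ≠ 0 →
              (D.κ y w = a ∧ D.κ O.C.e y = 0 ∨ D.κ y w = 0 ∧ D.κ O.C.e y = a) →
              ∀ {x : G}, x ∈ E.R r → x ∈ L := by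
            intro a y hy hyL ha hcase x hx
            have hcy := D.conj_R c.2 hy
            have hcyL : (c : G) * y * (c : G)⁻¹ ∈ L := mul_mem (mul_mem hcL hyL) (inv_mem hcL)
            obtain ⟨i1, i2⟩ := himage c hy
            rw [← hg] at i1 i2
            -- elements on both axes
            obtain ⟨u1, hu1, hu1L, a1', ha1', e1, e1', u2, hu2, hu2L, a2', ha2', e2, e2'⟩ :
                ∃ u1, u1 ∈ E.R r ∧ u1 ∈ L ∧ ∃ a1 : ZMod r, a1 ≠ 0 ∧ D.κ u1 w = a1 ∧ D.κ O.C.e u1 = 0 ∧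
                ∃ u2, u2 ∈ E.R r ∧ u2 ∈ L ∧ ∃ a2 : ZMod r, a2 ≠ 0 ∧ D.κ u2 w = 0 ∧ D.κ O.C.e u2 = a2 := by
              have hcyb := D.refl_conj_R O.refl hcy
              have hcybL : b * ((c : G) * y * (c : G)⁻¹) * b ∈ L := hLb _ hcyL
              obtain ⟨k1, k2⟩ := D.coord_refl O.refl hcy
              rcases hcase with ⟨h1, h2'⟩ | ⟨h1, h2'⟩
              · refine ⟨y, hy, hyL, a, ha, h1, h2', _, mul_mem hcy (inv_mem hcyb),
                  mul_mem hcyL (inv_mem hcybL), 2 * (g 1 0 * a), mul_ne_zero h2 (mul_ne_zero hs0 ha),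
                  ?_, ?_⟩
                · rw [D.κ_mul_left hcy (inv_mem hcyb) D.w_mem, D.κ_inv hcyb D.w_mem, k1]
                  ring
                · rw [D.κ_mul_right D.e_mem hcy (inv_mem hcyb), D.κ_swap (inv_mem hcyb) D.e_mem,
                    D.κ_inv hcyb D.e_mem, D.κ_swap D.e_mem hcyb, k2, i2, h1, h2']
                  ring
              · refine ⟨_, mul_mem hcy hcyb, mul_mem hcyL hcybL, 2 * (g 0 1 * a),
                  mul_ne_zero h2 (mul_ne_zero hq0 ha), ?_, ?_, y, hy, hyL, a, ha, h1, h2'⟩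
                · rw [D.κ_mul_left hcy hcyb D.w_mem, k1, i1, h1, h2']; ring
                · rw [D.κ_mul_right D.e_mem hcy hcyb, k2]; ring
            set m1 := (D.κ x w / a1').val
            set m2 := (D.κ O.C.e x / a2').val
            have hv1 : ((m1 : ℕ) : ZMod r) * a1' = D.κ x w := by
              rw [ZMod.natCast_zmod_val, div_mul_cancel₀ _ ha1']
            have hv2 : ((m2 : ℕ) : ZMod r) * a2' = D.κ O.C.e x := by
              rw [ZMod.natCast_zmod_val, div_mul_cancel₀ _ ha2']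
            set x1 := x * (u1 ^ m1)⁻¹
            have hx1R : x1 ∈ E.R r := mul_mem hx (inv_mem (pow_mem hu1 m1))
            have hx1 : x1 ∈ L := by
              refine hup hx1R u2 hu2 hu2L m2 ?_ ?_
              · rw [D.κ_mul_left hx (inv_mem (pow_mem hu1 m1)) D.w_mem, ← zpow_natCast, ← zpow_neg,
                  D.κ_zpow_left hu1 D.w_mem, e1, e2]
                push_cast
                linear_combination -hv1
              · rw [D.κ_mul_right D.e_mem hx (inv_mem (pow_mem hu1 m1)),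
                  D.κ_swap (inv_mem (pow_mem hu1 m1)) D.e_mem, ← zpow_natCast, ← zpow_neg,
                  D.κ_zpow_left hu1 D.e_mem, D.κ_swap D.e_mem hu1, e1', e2']
                push_cast
                linear_combination -hv2
            have := mul_mem hx1 (pow_mem hu1L m1)
            rwa [inv_mul_cancel_right] at this
          have hRL : ∀ {x : G}, x ∈ E.R r → x ∈ L := by
            by_cases hα : α = 0
            · have hβ : β ≠ 0 := fun hβ => hnT (e ▸ mul_mem (D.mem_T_of_coords hρ hα hβ) hζ)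
              exact fun hx => haxis hy2R (mul_mem hρL (inv_mem hρbL)) (mul_ne_zero h2 hβ) (Or.inr a2) hx
            · exact fun hx => haxis hy1R (mul_mem hρL hρbL) (mul_ne_zero h2 hα) (Or.inl a1) hx
          refine le_antisymm hLU fun x hx => ?_
          obtain ⟨i, hi⟩ := hgen _ ⟨⟨x, hx⟩, rfl⟩
          set n' : E.U := (c ^ i)⁻¹ * ⟨x, hx⟩ with hn'
          have hn'ψ : D.psi n' = 1 := by
            rw [hn', map_mul, map_inv, map_zpow, ← hg, hi, inv_mul_cancel]
          obtain ⟨ρ', hρ', ζ', hζ', e'⟩ := D.decomp_of_psi hn'ψ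
          replace e' : ((c : G) ^ i)⁻¹ * x = ρ' * ζ' := by simpa [hn'] using e'
          have hxe : x = (c : G) ^ i * (ρ' * ζ') := by rw [← e', mul_inv_cancel_left]
          rw [hxe]
          exact mul_mem (zpow_mem hcL i) (mul_mem (hRL hρ') (hTL hζ'))
      T_le := hTA,
      dvd_T := D.r_dvd_z,
      T_centralizer := fun y hy hy1 => D.T_centralizer hy hy1,
      A_inf_N := hAN,
      N_le := hNU,
      N_normal := by
        rw [hN, subgroupOf, comap_map_eq_self_of_injective E.U.subtype_injective]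
        infer_instance,
      N_primary := fun x hx hxo => by
        obtain ⟨ρ, hρ, ζ, hζ, e⟩ := D.decomp_of_psi ((hNmem (hNU hx)).1 hx)
        replace e : x = ρ * ζ := e
        have hxr : x ^ r ∈ T := by
          rw [e, (show Commute ρ ζ from D.T_comm_R hζ hρ).mul_pow]
          refine mul_mem (D.mem_T_of_coords (pow_mem hρ r) ?_ ?_) (pow_mem hζ r)
          · rw [← zpow_natCast, D.κ_zpow_left hρ D.w_mem]; simp
          · rw [D.κ_swap (pow_mem hρ r) D.e_mem, ← zpow_natCast, D.κ_zpow_left hρ D.e_mem]; simp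
        obtain ⟨m, hm⟩ := exists_pow_eq_self_of_coprime hxo.symm
        rw [← hm]
        exact pow_mem hxr m,
      gen := ⟨c, c.2, fun u hu => by
        obtain ⟨i, hi⟩ := hgen _ ⟨⟨u, hu⟩, rfl⟩
        obtain ⟨m, hm⟩ := (mem_powers_iff_mem_zpowers (x := g) (y := g ^ i)).2 ⟨i, rfl⟩
        refine ⟨m, ?_⟩
        rw [hNmem (mul_mem (inv_mem (pow_mem c.2 m)) hu),
          show (⟨((c : G) ^ m)⁻¹ * u, _⟩ : E.U) = (c ^ m)⁻¹ * ⟨u, hu⟩ from Subtype.ext (by simp),
          map_mul, map_inv, map_pow, hi, show D.psi c ^ m = g ^ i from hm, inv_mul_cancel]⟩,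
      index_le := by rw [hμcard]; exact hμ2,
      K_ne_top := O.K_ne_top,
      T_le_K := fun x hx => D.T_le_K hx,
      X_ne := fun h => by
        rw [D.X_eq hinv O.refl, zpowers_eq_bot] at h
        exact O.e_ne h,
      X_normalizer := by
        rw [D.X_eq hinv O.refl]
        exact O.C.normalizer_le }
  have hTor := D'.centralizer_le
  refine Exceptional.exists_degree E hk N A hNU hNn hder hNne (fun u hu => ?_) (fun u hu huN => ?_)
    (fun x hx => ⟨hAU hx, by rw [hab x (hAU hx)]; exact hinvA x hx⟩) ?_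
  · rw [hNmem (mul_mem (E.conj_mem_U E.refl_a.mem_H hu) hu),
      show (⟨E.d.a * u * E.d.a⁻¹ * u, _⟩ : E.U) =
        ⟨E.d.a * u * E.d.a⁻¹, E.conj_mem_U E.refl_a.mem_H hu⟩ * ⟨u, hu⟩ from rfl, map_mul,
      D.psi_refl E.refl_a ⟨u, hu⟩, hinv _ ⟨_, rfl⟩, inv_mul_cancel]
  · obtain ⟨x, hx, hxA, hxT⟩ := hconj u hu huN
    have hxU := D.R_le_U hx
    have hne1 : x⁻¹ * u * x ≠ 1 := fun h => hxT (h ▸ one_mem _)
    refine ⟨fun v hv => ?_, x, hxU, fun v => ⟨fun ⟨hvU, hvu⟩ => ?_, fun hv => ?_⟩⟩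
    · have h1 : x⁻¹ * v * x ∈ centralizer ({x⁻¹ * u * x} : Set G) :=
        mem_centralizer_singleton_iff.2 (by
          calc x⁻¹ * v * x * (x⁻¹ * u * x) = x⁻¹ * (v * u) * x := by group
            _ = x⁻¹ * (u * v) * x := by rw [mem_centralizer_singleton_iff.1 hv]
            _ = _ := by group)
      have h2 := hTor _ hxA hne1 h1
      have hxH := E.U_le_H hxU
      have h3 := mul_mem (mul_mem hxH h2) (inv_mem hxH)
      rwa [show x * (x⁻¹ * v * x) * x⁻¹ = v by group] at h3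
    · refine hCA _ hxA hxT _ (mul_mem (mul_mem (inv_mem hxU) hvU) hxU) ?_
      calc x⁻¹ * v * x * (x⁻¹ * u * x) = x⁻¹ * (v * u) * x := by group
        _ = x⁻¹ * (u * v) * x := by rw [hvu]
        _ = _ := by group
    · have hvU : v ∈ E.U := by
        have := mul_mem (mul_mem hxU (hAU hv)) (inv_mem hxU)
        rwa [show x * (x⁻¹ * v * x) * x⁻¹ = v by group] at this
      refine ⟨hvU, ?_⟩
      have hcom : x⁻¹ * v * x * (x⁻¹ * u * x) = x⁻¹ * u * x * (x⁻¹ * v * x) := by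
        obtain ⟨i, ζ, hζ, e1⟩ := hv
        obtain ⟨j, η, hη, e2⟩ := hxA
        rw [e1, e2]
        exact ((((Commute.refl (c : G)).zpow_zpow i j).mul_left ((hcc hζ).zpow_left j).symm).mul_right
          (((hcc hη).zpow_left i).mul_left (Max32.Zc_comm E ζ hζ η hη))).eq
      calc v * u = x * (x⁻¹ * v * x * (x⁻¹ * u * x)) * x⁻¹ := by group
        _ = x * (x⁻¹ * u * x * (x⁻¹ * v * x)) * x⁻¹ := by rw [hcom]
        _ = u * v := by group
  · have hcA : Nat.card A = Nat.card T * μ := by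
      set φ := D.psi.comp (Subgroup.inclusion hAU) with hφ
      have hrange : φ.range = D.psi.range := by
        refine le_antisymm (fun _ ⟨x, hx⟩ => ⟨_, hx⟩) fun γ hγ => ?_
        obtain ⟨i, hi⟩ := hgen γ hγ
        refine ⟨⟨(c : G) ^ i * 1, i, 1, one_mem _, rfl⟩, ?_⟩
        rw [hi]
        exact hψA i (one_mem _) _
      have hk' : φ.ker = T.subgroupOf A := by
        ext x
        constructor
        · intro hx
          exact mem_subgroupOf.2 (hAN ⟨x.2, (hNmem (hAU x.2)).2 hx⟩)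
        · intro hx
          exact D.psi_T (x := ⟨x, _⟩) (mem_subgroupOf.1 hx)
      rw [← φ.ker.card_mul_index, index_ker, hrange, hk',
        Nat.card_congr (subgroupOfEquivOfLe hTA).toEquiv]
    rw [hcA, D.card_U, D.card_X hinv E.refl_a]
    ring

end CfsgLib.GW.Max31.Heis.Data
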