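import Cfsg.Agent.Lib.GW.Max31OutOther
import Cfsg.Agent.Lib.Coprime.Commutator

/-!
Gorenstein–Walter, Step 3.1 e: the reflections in `K` lie in `K^∞`, and `K` contains `S`.
-/

set_option autoImplicit false
set_option linter.style.haveILetI false
set_option linter.unusedSectionVars false

namespace CfsgLib.GW.Max31

open Subgroup

universe u

/-- Two elements inverted by an involution, whose conjugate is inverted too, commute. -/
theorem commute_of_inverted3 {Y : Type*} [Group Y] {v y a : Y} (hy : Odd (orderOf y))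
    (hv : v * y * v⁻¹ = y⁻¹) (ha : v * a * v⁻¹ = a⁻¹)
    (hya : v * (y * a * y⁻¹) * v⁻¹ = (y * a * y⁻¹)⁻¹) : y * a = a * y := by
  have h1 : v * (y * a * y⁻¹) * v⁻¹ = y⁻¹ * a⁻¹ * y := by
    calc v * (y * a * y⁻¹) * v⁻¹ = v * y * v⁻¹ * (v * a * v⁻¹) * (v * y * v⁻¹)⁻¹ := by group
      _ = y⁻¹ * a⁻¹ * y := by rw [hv, ha, inv_inv]
  rw [hya] at h1
  have h2 : y * a * y⁻¹ = y⁻¹ * a * y := by rw [← inv_inj, h1]; group
  have h3 : Commute (y * y) a := by
    show y * y * a = a * (y * y)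
    calc y * y * a = y * (y * a * y⁻¹) * y := by group
      _ = y * (y⁻¹ * a * y) * y := by rw [h2]
      _ = a * (y * y) := by group
  obtain ⟨k, hk⟩ := CfsgLib.RankOneInvol.exists_pow_sq_eq hy
  have h4 := h3.pow_left k
  rw [(Commute.refl y).mul_pow, hk] at h4
  exact h4.eq

namespace Out

variable {G : Type u} [Group G] [Finite G] {E : Setup G} {b : G} {r : ℕ} (O : Out E b r)

include O

/-- An element of `O(C(t)) ∩ O(K)` of order prime to `r` centralising `e` is trivial. -/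
theorem eq_one_of_core {z : G} (hz : z ∈ E.U) (hzc : z ∈ coreIn O.C.K)
    (hcop : (orderOf z).Coprime r) (hze : z * O.C.e = O.C.e * z) : z = 1 := by
  haveI := Fact.mk O.prime
  have hzb := O.core_fixed hzc
  have hzX : z ∈ E.X b := O.refl.mem_X.2 ⟨(E.mem_U.1 hz).1, hzb, (E.mem_U.1 hz).2⟩
  haveI := O.isCyclic_fixR
  have hfix : ∀ c ∈ O.fixR, z * c = c * z :=
    O.commute_cyclic (A := O.fixR) ((R_isPGroup E O.prime).to_le inf_le_left)
      (fun c hc => O.conj_mem_fixR hzX hc) hcop fun c hc hcr => by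
        obtain ⟨i, rfl⟩ := mem_zpowers_iff.1 (O.mem_zpowers_fix hc hcr)
        exact ((show Commute z O.C.e from hze).zpow_right i).eq
  have hinv : ∀ y ∈ E.U, y ∈ O.C.K → b * y * b = y⁻¹ → z * y = y * z := fun y hy hyK hyb =>
    O.commute_core_inverted hzc hy hyK hyb
  have hRK : ∀ x ∈ E.R r ⊓ O.C.K, z * x = x * z := by
    intro x hx
    obtain ⟨c, hc, y, hy, hyb, rfl⟩ := O.decompose hx
    exact ((show Commute z c from hfix c hc).mul_right
      (hinv y (R_le_U E O.prime O.ne_two hy.1) hy.2 hyb)).eq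
  have hR : ∀ x ∈ E.R r, z * x = x * z := by
    have hP : IsPGroup r (zpowers O.C.e) :=
      (R_isPGroup E O.prime).to_le (zpowers_le.2 O.e_mem.1)
    have hn : ∀ h ∈ E.H, h ∈ normalizer (E.R r : Set G) := fun h hh =>
      mem_normalizer_of_conj_le fun x hx => conj_mem_R E hh hx
    have h := CfsgLib.Coprime.pq_lemma r (zpowers O.C.e) (zpowers z) hP
      (by rwa [Nat.card_zpowers])
      (zpowers_le.2 (mem_centralizer_iff.2 fun _ ⟨i, hi⟩ => by
        rw [← hi]; exact ((show Commute z O.C.e from hze).zpow_left i).eq))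
      (E.R r) (R_isPGroup E O.prime) (zpowers_le.2 (hn _ (R_le_H E r O.e_mem.1)))
      (zpowers_le.2 (hn _ (E.U_le_H hz))) (fun x hx => mem_centralizer_iff.2 fun _ ⟨i, hi⟩ => by
        rw [← hi]
        exact ((show Commute z x from hRK x ⟨hx.1, O.centralizer_e_le (mem_centralizer_singleton_iff.2
          (mem_centralizer_iff.1 hx.2 O.C.e (mem_zpowers _)).symm)⟩).zpow_left i).eq)
    exact fun x hx => (mem_centralizer_iff.1 (h (mem_zpowers z)) x hx).symm
  have hF : z ∈ fitIn E.H := O.mem_fit_of_centralizes hz fun m hm hm2 a ha => by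
    by_cases hmr : m = r
    · subst hmr; exact hR a ha
    · exact hinv a (R_le_U E hm hm2 ha) (O.part_le_K hm hmr ha) (O.part_inverted hm hm2 hmr ha)
  by_contra hne
  obtain ⟨p, hp, hpd⟩ := Nat.exists_prime_and_dvd (n := orderOf z)
    (fun h => hne (orderOf_eq_one_iff.1 h))
  haveI := Fact.mk hp
  have hn0 := orderOf_pos z
  have ho : orderOf (z ^ (orderOf z / p)) = p := orderOf_pow_orderOf_div hn0.ne' hpd
  have hp2 : p ≠ 2 := fun h => by
    subst h
    exact Nat.not_even_iff_odd.2 (E.mem_U.1 hz).2 (even_iff_two_dvd.2 hpd)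
  have hpr : p ≠ r := fun h => by
    subst h
    exact (hp.coprime_iff_not_dvd.1 hcop.symm) hpd
  have h1 := O.part_fix_eq_one hp hp2 hpr (Max33.mem_R_of_fit E hp (k := 1)
    (pow_mem hF _) (by rw [ho, pow_one])) ((show Commute z b from hzb).pow_left _).eq
  rw [h1, orderOf_one] at ho
  exact hp.ne_one ho.symm

/-- A reflection in `K` lies in `K^∞`, provided long elements inverted by reflections of `K` have a
non-trivial power centralising `e`. -/
theorem mem_P_of_mem (hF : FalseOfLe E r)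
    (hfix : ∀ v, E.Refl v → v ∈ O.C.K → ∀ y ∈ E.U, v * y * v = y⁻¹ → (orderOf y).Coprime r →
      r < orderOf y → ∃ n : ℕ, y ^ n ≠ 1 ∧ y ^ n * O.C.e = O.C.e * y ^ n)
    {v : G} (hv : E.Refl v) (hvK : v ∈ O.C.K) : v ∈ O.C.P := by
  by_contra hvP
  haveI := Fact.mk O.prime
  obtain ⟨F, i1, i2, h⟩ := O.exists_psl hF
  obtain ⟨τ, hτ⟩ := O.exists_isTau
  set K := O.C.K with hK
  set π := bar K with hπ
  set t' := π ⟨E.t, O.t_mem_K⟩ with ht'
  set v' := π ⟨v, hvK⟩ with hv'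
  have ht2 : orderOf t' = 2 := orderOf_bar E.orderOf_t
  have hv2 : orderOf v' = 2 := orderOf_bar hv.orderOf_eq
  have htL : t' ∈ topL K := bar_mem_topL (O.perf_K.symm ▸ O.C.t_mem)
  have hvL : v' ∉ topL K := fun hL =>
    hvP (O.perf_K ▸ mem_perf_of_bar (w := ⟨v, hvK⟩) hv.orderOf_eq hL)
  have htv : t' * v' = v' * t' := by
    rw [← map_mul, ← map_mul]; exact congrArg π (Subtype.ext hv.comm.symm)
  obtain ⟨hcyc, hM2, hM1, hMT, hMinv⟩ := h.outer_torus ht2 hv2 htL hvL htv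
  set M := Nat.card (Field.torus (topL K) v') with hMdef
  set N := Nat.card (Field.torus (topL K) t') with hNdef
  obtain ⟨hτo, hτt, hτodd, hτL⟩ := O.bar_tau hτ
  have hrN : r ∣ N := by
    rw [← hτo, ← Subgroup.orderOf_mk _ ((h.mem_torus ht2).2 ⟨hτL, hτt, hτodd⟩)]
    exact orderOf_dvd_natCard _
  have hMr : M.Coprime r := hMT.coprime_dvd_right hrN
  have hrM : r < M := by
    have h4 := Field.four_mul_dvd (d := r) (O.prime.odd_of_ne_two O.ne_two)
      ((Int.natCast_dvd_natCast.2 hrN).trans (h.card_torus_inner ht2 htL).1) h.eps_four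
    have := h.three
    have := O.prime.two_le
    have hle := Int.le_of_dvd (by rcases FieldModel.eps_cases (Fintype.card F) with e | e <;>
      rw [e] <;> omega) h4
    push_cast at hle
    rcases FieldModel.eps_cases (Fintype.card F) with e | e <;> rw [e] at hM2 hle <;> omega
  -- a lift of a generator
  obtain ⟨⟨γ, hγ⟩, hγo⟩ := IsCyclic.exists_ofOrder_eq_natCard (α := Field.torus (topL K) v')
  rw [Subgroup.orderOf_mk, ← hMdef] at hγo
  obtain ⟨c, hc, hcγ⟩ := lift_commute (K := K) (t := ⟨v, hvK⟩) hv.orderOf_eq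
    ((h.mem_torus hv2).1 hγ).2.1
  set tK : K := ⟨E.t, O.t_mem_K⟩ with htK
  set x : K := c⁻¹ * (tK * c * tK) with hx
  have htK2 : tK * tK = 1 := Subtype.ext E.t_sq
  have htx : tK * x * tK = x⁻¹ := by
    have hti : tK⁻¹ = tK := inv_eq_of_mul_eq_one_right htK2
    rw [hx, mul_inv_rev, mul_inv_rev, mul_inv_rev, inv_inv, hti,
      show tK * (c⁻¹ * (tK * c * tK)) * tK = tK * c⁻¹ * tK * c * (tK * tK) by group, htK2, mul_one]
    group
  have hxv : Commute (x : G) v := by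
    have htv' : Commute E.t v := hv.comm.symm
    have hcv : Commute (c : G) v := hc
    rw [hx]
    simp only [Subgroup.coe_mul, InvMemClass.coe_inv]
    exact hcv.inv_left.mul_left ((htv'.mul_left hcv).mul_left htv')
  have hxγ : π x = (γ * γ)⁻¹ := by
    have hti : t'⁻¹ = t' := inv_eq_of_mul_eq_one_right
      (CfsgLib.Involutions.orderOf_eq_two_iff_mul.1 ht2).2
    rw [hx, map_mul, map_inv, map_mul, map_mul, hcγ, show π tK = t' from rfl]
    conv_lhs => arg 2; arg 2; rw [← hti]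
    rw [hMinv γ hγ, mul_inv_rev]
  -- its odd part
  obtain ⟨k, m, hm, hd⟩ := Nat.exists_eq_two_pow_mul_odd (orderOf_pos (x : G)).ne'
  set y0 : K := x ^ 2 ^ k with hy0
  have hMo : Odd M := h.odd_card_torus hv2
  have hy0o : orderOf (π y0) = M := by
    rw [hy0, map_pow, hxγ, inv_pow, orderOf_inv, ← pow_two, ← pow_mul, ← pow_succ',
      orderOf_pow, hγo]
    rw [Nat.Coprime.gcd_eq_one ((Nat.coprime_two_right.2 hMo).pow_right _), Nat.div_one]
  have hy0d : orderOf (y0 : G) = m := by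
    rw [hy0, Subgroup.coe_pow, orderOf_pow, hd,
      Nat.gcd_eq_right (Dvd.intro m rfl), Nat.mul_div_cancel_left m (Nat.two_pow_pos k)]
  have hMm : M ∣ m := by
    rw [← hy0o, ← hy0d, Subgroup.orderOf_coe]; exact orderOf_map_dvd π y0
  set y1 : K := y0 ^ (m / M) with hy1
  have hy1o : orderOf (y1 : G) = M := by
    rw [hy1, Subgroup.coe_pow, ← hy0d]
    exact orderOf_pow_orderOf_div (orderOf_pos _).ne' (hy0d.symm ▸ hMm)
  have hy1t : E.t * (y1 : G) * E.t = (y1 : G)⁻¹ := by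
    have h1 : tK * x * tK⁻¹ = x⁻¹ := by rw [inv_eq_of_mul_eq_one_right htK2, htx]
    have h2 : tK * y1 * tK⁻¹ = y1⁻¹ := by rw [hy1, hy0, ← pow_mul, ← conj_pow, h1, inv_pow]
    rw [inv_eq_of_mul_eq_one_right htK2] at h2
    exact congrArg Subtype.val h2
  have hy1v : Commute (y1 : G) v := by
    rw [hy1, hy0, Subgroup.coe_pow, Subgroup.coe_pow]
    exact (hxv.pow_left _).pow_left _
  -- transport
  obtain ⟨g, hgt, -, hgvt⟩ := hv.exists_rot
  set y : G := g⁻¹ * y1 * g with hy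
  have hgit : g⁻¹ * v * g = E.t := by rw [← hgt]; group
  have hgivt : g⁻¹ * E.t * g = v * E.t := by
    conv_lhs => rw [← hgvt]
    group
  have hyt : y * E.t = E.t * y := by
    have := Setup.commute_conj (g := g⁻¹) hy1v.eq
    rwa [inv_inv, hgit] at this
  have hyo : orderOf y = M := by
    have h1 := CfsgLib.Involutions.orderOf_conj_eq (g := g⁻¹) (x := (y1 : G))
    rw [inv_inv] at h1
    rw [hy, h1, hy1o]
  have hyU : y ∈ E.U := E.odd_orderOf_mem_U (E.mem_H.2 hyt) (hyo.symm ▸ hMo)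
  have hyv : v * y * v = y⁻¹ := by
    have h1 : (g⁻¹ * E.t * g) * y * (g⁻¹ * E.t * g) = y⁻¹ := by
      rw [show (g⁻¹ * E.t * g) * y * (g⁻¹ * E.t * g) = g⁻¹ * (E.t * y1 * E.t) * g by rw [hy]; group,
        hy1t, hy]
      group
    rw [hgivt] at h1
    calc v * y * v = v * (E.t * E.t) * y * v := by rw [E.t_sq, mul_one]
      _ = v * E.t * (E.t * y) * v := by group
      _ = v * E.t * (y * E.t) * v := by rw [hyt]
      _ = v * E.t * y * (E.t * v) := by group
      _ = y⁻¹ := by rw [← hv.comm, h1]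
  obtain ⟨n, hn1, hne⟩ := hfix v hv hvK y hyU hyv (hyo.symm ▸ hMr) (hyo.symm ▸ hrM)
  have hzK : y ^ n ∈ K := O.centralizer_e_le (mem_centralizer_singleton_iff.2 hne)
  set zK : K := ⟨y ^ n, hzK⟩ with hzK'
  have hzd : orderOf (y ^ n) ∣ M := hyo ▸ orderOf_pow_dvd n
  have hzbd : orderOf (π zK) ∣ M :=
    (orderOf_map_dvd π zK).trans (by rw [← Subgroup.orderOf_coe]; exact hzd)
  have hzv : v' * π zK * v'⁻¹ = (π zK)⁻¹ := by
    rw [← map_inv, ← map_mul, ← map_mul, ← map_inv]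
    refine congrArg π (Subtype.ext ?_)
    show v * y ^ n * v⁻¹ = (y ^ n)⁻¹
    rw [← conj_pow, hv.inv, hyv, inv_pow]
  have hzt : π zK * t' = t' * π zK := by
    rw [← map_mul, ← map_mul]
    exact congrArg π (Subtype.ext ((show Commute y E.t from hyt).pow_left n).eq)
  have hb2 : orderOf (π ⟨b, O.b_mem_K⟩) = 2 := orderOf_bar O.refl.orderOf_eq
  have hvt' : v' ≠ t' := bar_ne hv.orderOf_eq E.orderOf_t hv.comm hv.ne_t
  have hzT : π zK ∈ Field.torus (topL K) t' := by
    refine h.mem_torus_of_centralizes ht2 hb2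
      (bar_ne E.orderOf_t O.refl.orderOf_eq O.refl.comm.symm O.refl.ne_t.symm)
      (by rw [← map_mul, ← map_mul]; exact congrArg π (Subtype.ext O.refl.comm.symm)) htL
      (bar_mem_topL (O.perf_K.symm ▸ O.C.b_mem)) hzt (hMo.of_dvd_nat hzbd) fun a ha => ?_
    exact commute_of_inverted3 (hMo.of_dvd_nat hzbd) hzv
      (h.inverts_torus ht2 hv2 htv.symm hvt' ha)
      (h.inverts_torus ht2 hv2 htv.symm hvt' (h.conj_mem_torus ht2 hzt ha))
  have hz1 : π zK = 1 := orderOf_eq_one_iff.1 (Nat.eq_one_of_dvd_coprimes hMT hzbd (by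
    rw [← Subgroup.orderOf_mk _ hzT]; exact orderOf_dvd_natCard _))
  exact hn1 (O.eq_one_of_core (pow_mem hyU n) (bar_eq_one.1 hz1)
    (hMr.coprime_dvd_left hzd) hne)

/-- For a reflection in `K^∞` the fixed part of `R` is the one of `b`. -/
theorem fixR_eq (hF : FalseOfLe E r) {v : G} (hv : E.Refl v) (hvP : v ∈ O.C.P) (O' : Out E v r)
    {x : G} (hx : x ∈ O'.fixR) : x ∈ O.fixR := by
  have hcv : ∀ c ∈ O.fixR, c * v = v * c := fun c hc => (O.P_commute_fix hvP hc).symm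
  have he' : O.C.e ∈ O'.fixR := O'.mem_fixR O.e_mem.1 (hcv _ O.e_mem)
  haveI := O'.isCyclic_fixR
  have hxe : x * O.C.e = O.C.e * x := congrArg Subtype.val
    (IsCyclic.commGroup.mul_comm (⟨x, hx⟩ : O'.fixR) ⟨O.C.e, he'⟩)
  obtain ⟨c, hc, y, hy, hyb, rfl⟩ :=
    O.decompose ⟨hx.1, O.centralizer_e_le (mem_centralizer_singleton_iff.2 hxe)⟩
  suffices hy1 : y = 1 by rw [hy1, mul_one]; exact hc
  have hyv : Commute y v := by
    have h1 := (show Commute c v from hcv c hc).inv_left.mul_left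
      (show Commute (c * y) v from (O'.fix_props hx).2.1)
    rwa [inv_mul_cancel_left] at h1
  by_contra hy1
  obtain ⟨τ, hτ⟩ := O.exists_isTau
  obtain ⟨j, hj⟩ := exists_order O.prime (R_isPGroup E O.prime) hy.1 hy1
  have hyjb : b * y ^ j * b = (y ^ j)⁻¹ := by
    have h1 := conj_pow (i := j) (a := b) (b := y)
    rw [O.refl.inv, hyb, inv_pow] at h1
    exact h1.symm
  obtain ⟨i, hi⟩ := mem_zpowers_iff.1 (O.mem_tau_of_inverted hτ (pow_mem hy j) hyjb
    (orderOf_dvd_iff_pow_eq_one.1 (dvd_of_eq hj)))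
  have h2 := O.center_inverted_all hF hv (pow_mem hy.1 j) fun w hw => by
    rw [← hi]; exact ((show Commute w τ from hτ.2.2 w hw).zpow_right i).eq
  rw [← (hyv.pow_left j).eq, mul_assoc, hv.sq, mul_one] at h2
  rw [CfsgLib.RankOneInvol.eq_one_of_sq_of_odd (odd_of_mem_R E O.prime O.ne_two (pow_mem hy.1 j))
    (mul_eq_one_iff_eq_inv.2 h2), orderOf_one] at hj
  exact O.prime.ne_one hj.symm

/-- `K` contains `S`. -/
theorem S_le_K (hF : FalseOfLe E r) (hP : ∀ v, E.Refl v → v ∈ O.C.K → v ∈ O.C.P) :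
    (E.S : Subgroup G) ≤ O.C.K := by
  haveI : Fact (Nat.Prime 2) := ⟨Nat.prime_two⟩
  refine (eq_of_self_normalizing E.S.2 inf_le_left fun n hn hnS => ⟨hn, ?_⟩) ▸ inf_le_right
  set v := n * b * n⁻¹ with hvdef
  have hvS := hnS b ⟨O.refl.1, O.b_mem_K⟩
  have hv : E.Refl v := by
    refine ⟨hvS.1, fun h => O.refl.2 ?_⟩
    haveI : ((zpowers E.d.r).subgroupOf (E.S : Subgroup G)).Normal :=
      Subgroup.normal_of_index_eq_two E.relIndex_rot
    have h1 := (inferInstance : ((zpowers E.d.r).subgroupOf (E.S : Subgroup G)).Normal).conj_mem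
      ⟨v, hvS.1⟩ (mem_subgroupOf.2 h) ⟨n⁻¹, inv_mem hn⟩
    have h2 := mem_subgroupOf.1 h1
    simpa [hvdef, mul_assoc] using h2
  obtain ⟨O'⟩ := O.exists_out hF hv
  have hvP := hP v hv hvS.2
  have h1 : O.C.e ∈ O'.fixR := O'.mem_fixR O.e_mem.1 (O.C.P_commute v hvP).symm
  have h2 : n * O.C.e * n⁻¹ ∈ O'.fixR := O'.mem_fixR (conj_mem_R E (E.S_le_H hn) O.e_mem.1)
    (Setup.commute_conj (O.fix_props O.e_mem).2.1)
  have h3 := mem_zpowers_of_cyclic (Φ := O'.fixR) O'.isCyclic_fixR O.prime h1 O.C.orderOf_e h2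
    (by rw [conj_pow, orderOf_dvd_iff_pow_eq_one.1 (dvd_of_eq O.C.orderOf_e), mul_one, mul_inv_cancel])
  refine O.normalizer_le (zpowers_le.2 O.e_mem) (fun h => O.e_ne (zpowers_eq_bot.1 h))
    (mem_normalizer_of_conj_le fun x hx => ?_)
  obtain ⟨i, rfl⟩ := mem_zpowers_iff.1 hx
  rw [← conj_zpow]
  exact zpow_mem h3 i

/-- All reflections lie in `K^∞`. -/
theorem refl_mem_P (hF : FalseOfLe E r) (hP : ∀ v, E.Refl v → v ∈ O.C.K → v ∈ O.C.P) :
    ∀ v, E.Refl v → v ∈ O.C.P := fun v hv => hP v hv (O.S_le_K hF hP hv.1)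

end Out

end CfsgLib.GW.Max31
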