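import Cfsg.Agent.Lib.GW.Max31OutCS
import Cfsg.Agent.Lib.GW.Max31OutT3
import Cfsg.Agent.Lib.Tech46.CoprimeGen
import Cfsg.Agent.Lib.PCore.Basic

/-!
Gorenstein–Walter, Step 3.1 e, case (I): no fixed element of order `r` of a reflection lies in `A₀`.
-/

set_option autoImplicit false
set_option linter.style.haveILetI false
set_option linter.unusedSectionVars false

namespace CfsgLib.GW.Max31.Out

open Subgroup
open scoped commutatorElement

universe u

variable {G : Type u} [Group G] [Finite G] {E : Setup G} {b : G} {r : ℕ} (O : Out E b r)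

include O

/-- An element of `F(C(t))` of order prime to `r` fixed by `b` is trivial. -/
theorem eq_one_of_fit {z : G} (hz : z ∈ E.X b) (hF : z ∈ fitIn E.H)
    (hcop : (orderOf z).Coprime r) : z = 1 := by
  by_contra hne
  obtain ⟨ht, hzb, ho⟩ := O.refl.mem_X.1 hz
  obtain ⟨p, hp, hpd⟩ := Nat.exists_prime_and_dvd (n := orderOf z)
    (fun h => hne (orderOf_eq_one_iff.1 h))
  haveI := Fact.mk hp
  have hoz : orderOf (z ^ (orderOf z / p)) = p := orderOf_pow_orderOf_div (orderOf_pos z).ne' hpd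
  have hp2 : p ≠ 2 := fun h => by
    subst h
    exact Nat.not_even_iff_odd.2 ho (even_iff_two_dvd.2 hpd)
  have hpr : p ≠ r := fun h => by
    subst h
    exact (hp.coprime_iff_not_dvd.1 hcop.symm) hpd
  have h1 := O.part_fix_eq_one hp hp2 hpr (Max33.mem_R_of_fit E hp (k := 1)
    (pow_mem hF _) (by rw [hoz, pow_one])) ((show Commute z b from hzb).pow_left _).eq
  rw [h1, orderOf_one] at hoz
  exact hp.ne_one hoz.symm

variable {τ w : G} (hτ : IsTau E r τ) (hw : w ∈ O.A0) (hwK : w ∉ O.C.K)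

include hτ hw hwK

/-- `[e, w]` generates `⟨τ⟩`. -/
theorem comm_e_w : O.C.e * w * O.C.e⁻¹ * w⁻¹ ∈ zpowers τ ∧
    orderOf (O.C.e * w * O.C.e⁻¹ * w⁻¹) = r := by
  haveI := Fact.mk O.prime
  have h := O.comm_A0 hτ hw O.e_mem.1
  have hc : O.C.e * w * O.C.e⁻¹ * w⁻¹ = (w * O.C.e * w⁻¹ * O.C.e⁻¹)⁻¹ := by group
  refine ⟨hc ▸ inv_mem h, orderOf_eq_prime ?_ fun e => hwK (O.centralizer_e_le
    (mem_centralizer_singleton_iff.2 (mul_inv_eq_iff_eq_mul.1 (mul_inv_eq_one.1 e)).symm))⟩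
  obtain ⟨i, hi⟩ := mem_zpowers_iff.1 (hc ▸ inv_mem h : O.C.e * w * O.C.e⁻¹ * w⁻¹ ∈ zpowers τ)
  rw [← hi, ← zpow_natCast, ← zpow_mul, mul_comm, zpow_mul, zpow_natCast,
    orderOf_dvd_iff_pow_eq_one.1 (dvd_of_eq hτ.2.1), one_zpow]

theorem zpowers_comm_e_w : zpowers (O.C.e * w * O.C.e⁻¹ * w⁻¹) = zpowers τ :=
  eq_of_le_of_card_ge (zpowers_le.2 (O.comm_e_w hτ hw hwK).1)
    (by rw [Nat.card_zpowers, Nat.card_zpowers, (O.comm_e_w hτ hw hwK).2, hτ.2.1])

/-- `R = ⟨e⟩ C_R(w)`. -/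
theorem exists_mul_A {x : G} (hx : x ∈ E.R r) :
    ∃ i : ℤ, ((O.C.e ^ i)⁻¹ * x) * w = w * ((O.C.e ^ i)⁻¹ * x) := by
  set e := O.C.e
  set c := e * w * e⁻¹ * w⁻¹ with hc
  have hcR : ∀ y ∈ E.R r, Commute y c := fun y hy => by
    obtain ⟨i, hi⟩ := mem_zpowers_iff.1 (O.comm_e_w hτ hw hwK).1
    rw [hc, ← hi]; exact (show Commute y τ from hτ.2.2 y hy).zpow_right i
  have h1 : x * w * x⁻¹ * w⁻¹ ∈ zpowers c := by
    rw [hc, O.zpowers_comm_e_w hτ hw hwK, show x * w * x⁻¹ * w⁻¹ = (w * x * w⁻¹ * x⁻¹)⁻¹ by group]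
    exact inv_mem (O.comm_A0 hτ hw hx)
  obtain ⟨i, hi⟩ := mem_zpowers_iff.1 h1
  refine ⟨i, ?_⟩
  have hew : e * w * e⁻¹ = c * w := by rw [hc]; group
  have hei : ∀ n : ℕ, e ^ n * w * (e ^ n)⁻¹ = c ^ n * w := by
    intro n
    induction n with
    | zero => simp
    | succ n ih =>
      calc e ^ (n + 1) * w * (e ^ (n + 1))⁻¹ = e * (e ^ n * w * (e ^ n)⁻¹) * e⁻¹ := by
            rw [pow_succ']; group
        _ = c ^ n * (e * w * e⁻¹) := by
            rw [ih, ← mul_assoc e, ((hcR e O.e_mem.1).pow_right n).eq]; group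
        _ = _ := by rw [hew, pow_succ]; group
  have heiz : e ^ i * w * (e ^ i)⁻¹ = c ^ i * w := by
    obtain ⟨n, rfl | rfl⟩ := Int.eq_nat_or_neg i
    · simpa using hei n
    · have h2 := hei n
      rw [zpow_neg, zpow_neg, zpow_natCast, zpow_natCast, inv_inv]
      have hcn : Commute (e ^ n) (c ^ n)⁻¹ := ((hcR e O.e_mem.1).pow_pow n n).inv_right
      calc (e ^ n)⁻¹ * w * e ^ n = (e ^ n)⁻¹ * ((c ^ n)⁻¹ * (c ^ n * w)) * e ^ n := by group
        _ = (e ^ n)⁻¹ * ((c ^ n)⁻¹ * e ^ n) * w := by rw [← h2]; group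
        _ = (c ^ n)⁻¹ * w := by rw [← hcn.eq, inv_mul_cancel_left]
  have hxw : x * w * x⁻¹ = c ^ i * w := by rw [hi]; group
  calc (e ^ i)⁻¹ * x * w = (e ^ i)⁻¹ * (x * w * x⁻¹) * x := by group
    _ = (e ^ i)⁻¹ * (e ^ i * w * (e ^ i)⁻¹) * x := by rw [heiz, hxw]
    _ = w * ((e ^ i)⁻¹ * x) := by group

theorem eq_one_of_fix_w (hwb : b * w * b = w⁻¹) {a : G} (ha : a ∈ O.fixR) (haw : a * w = w * a) :
    a = 1 :=
  O.fix_eq_one_of_conj hw.1 hwK hwb ha (by rwa [← haw, mul_inv_cancel_right])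

omit hτ hw hwK

/-- An element of order prime to `r` centralises the inverted abelian normal subgroup `A` if it
centralises `A₀` and `e` modulo `A`. -/
theorem commute_of_delta {u : G} (hu : u ∈ E.U) (hcop : (orderOf u).Coprime r) {A : Subgroup G}
    (hAR : A ≤ E.R r) (hA : ∀ h ∈ E.H, ∀ x ∈ A, h * x * h⁻¹ ∈ A)
    (hinv : ∀ x ∈ A, b * x * b = x⁻¹) (hue : O.C.e⁻¹ * (u * O.C.e * u⁻¹) ∈ A)
    {τ : G} (hτ : IsTau E r τ) (huτ : u * τ = τ * u) :
    ∀ a ∈ A, u * a = a * u := by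
  haveI := Fact.mk O.prime
  set e := O.C.e
  have heH : e ∈ E.H := R_le_H E r O.e_mem.1
  have habel : ∀ x ∈ A, ∀ y ∈ A, x * y = y * x := fun x hx y hy => by
    have h1 := hinv _ (mul_mem hx hy)
    rw [show b * (x * y) * b = (b * x * b) * (b * y * b) by
      calc b * (x * y) * b = b * x * (b * b) * y * b := by rw [O.refl.sq, mul_one]; group
        _ = _ := by group, hinv x hx, hinv y hy] at h1
    have h2 := congrArg (·⁻¹) h1
    simpa using h2.symm
  -- `δ = [e, ·]` commutes with `u`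
  have hδu : ∀ x ∈ A, u * (e * x * e⁻¹ * x⁻¹) * u⁻¹ = e * (u * x * u⁻¹) * e⁻¹ * (u * x * u⁻¹)⁻¹ := by
    intro x hx
    set a' := e⁻¹ * (u * e * u⁻¹)
    have hx' := hA u (E.U_le_H hu) x hx
    calc u * (e * x * e⁻¹ * x⁻¹) * u⁻¹
        = e * (a' * (u * x * u⁻¹) * a'⁻¹) * e⁻¹ * (u * x * u⁻¹)⁻¹ := by
          simp only [a']; group
      _ = _ := by rw [habel _ hue _ hx', mul_inv_cancel_right]
  let J : Subgroup G := A ⊓ centralizer ({e} : Set G)
  have hJK : J ≤ O.C.K := fun x hx => O.centralizer_e_le hx.2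
  haveI hJc : IsCyclic J := O.isCyclic_of_inverted
    (fun x hx => R_le_U E O.prime O.ne_two (hAR hx.1)) hJK fun x hx => hinv x hx.1
  have hJ : ∀ x ∈ J, u * x = x * u := by
    refine O.commute_cyclic ((R_isPGroup E O.prime).to_le (inf_le_left.trans hAR)) (fun x hx => ?_)
      hcop fun x hx hxr => ?_
    · refine ⟨hA u (E.U_le_H hu) x hx.1, mem_centralizer_singleton_iff.2 ?_⟩
      have h1 := hδu x hx.1
      rw [show e * x * e⁻¹ * x⁻¹ = 1 by
        rw [← mem_centralizer_singleton_iff.1 hx.2, mul_inv_cancel_right, mul_inv_cancel],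
        mul_one, mul_inv_cancel] at h1
      exact (mul_inv_eq_iff_eq_mul.1 (mul_inv_eq_one.1 h1.symm)).symm
    · obtain ⟨i, rfl⟩ := mem_zpowers_iff.1
        (O.mem_tau_of_inverted hτ ⟨hAR hx.1, hJK hx⟩ (hinv x hx.1) hxr)
      exact ((show Commute u τ from huτ).zpow_right i).eq
  have hlcs : ∀ n : ℕ, ∀ a ∈ A, (fun x => e * x * e⁻¹ * x⁻¹)^[n] a ∈ A ∧
      (fun x => e * x * e⁻¹ * x⁻¹)^[n] a ∈ (E.R r).lowerCentralSeries n := by
    intro n
    induction n with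
    | zero => exact fun a ha => ⟨ha, hAR ha⟩
    | succ n ih =>
      intro a ha
      obtain ⟨h1, h2⟩ := ih a ha
      rw [Function.iterate_succ_apply']
      refine ⟨mul_mem (hA e heH _ h1) (inv_mem h1), ?_⟩
      rw [Subgroup.lowerCentralSeries_succ, commutator_comm]
      exact commutator_mem_commutator O.e_mem.1 h2
  have key : ∀ n : ℕ, ∀ a ∈ A, (fun x => e * x * e⁻¹ * x⁻¹)^[n] a = 1 → u * a = a * u := by
    intro n
    induction n with
    | zero => intro a _ h; rw [show a = 1 from h, mul_one, one_mul]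
    | succ n ih =>
      intro a ha h
      rw [Function.iterate_succ_apply] at h
      have hδ := ih _ (mul_mem (hA e heH a ha) (inv_mem ha)) h
      set x := u * a * u⁻¹
      have hx : x ∈ A := hA u (E.U_le_H hu) a ha
      have h1 : e * x * e⁻¹ * x⁻¹ = e * a * e⁻¹ * a⁻¹ := by
        rw [← hδu a ha, hδ, mul_inv_cancel_right]
      set d := x * a⁻¹ with hd
      have hdA : d ∈ A := mul_mem hx (inv_mem ha)
      have hde : e * d = d * e := by
        have h2 : e * d * e⁻¹ = d := by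
          calc e * d * e⁻¹ = (e * x * e⁻¹ * x⁻¹) * x * (a⁻¹ * (e * a * e⁻¹ * a⁻¹)⁻¹) := by
                rw [hd]; group
            _ = (e * a * e⁻¹ * a⁻¹) * x * ((e * a * e⁻¹ * a⁻¹)⁻¹ * a⁻¹) := by
                rw [h1, habel _ (inv_mem ha) _ (inv_mem (mul_mem (hA e heH a ha) (inv_mem ha)))]
            _ = (e * a * e⁻¹ * a⁻¹ * x) * (e * a * e⁻¹ * a⁻¹)⁻¹ * a⁻¹ := by group
            _ = d := by
                rw [habel _ (mul_mem (hA e heH a ha) (inv_mem ha)) _ hx, mul_inv_cancel_right]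
        exact mul_inv_eq_iff_eq_mul.1 h2
      have hdu : Commute u d := hJ d ⟨hdA, mem_centralizer_singleton_iff.2 hde.symm⟩
      have hpow : ∀ k : ℕ, u ^ k * a * (u ^ k)⁻¹ = d ^ k * a := by
        intro k
        induction k with
        | zero => simp
        | succ k ihk =>
          calc u ^ (k + 1) * a * (u ^ (k + 1))⁻¹ = u * (u ^ k * a * (u ^ k)⁻¹) * u⁻¹ := by
                rw [pow_succ']; group
            _ = (u * d ^ k * u⁻¹) * x := by rw [ihk]; simp only [x]; group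
            _ = d ^ k * (d * a) := by
                rw [(hdu.pow_right k).eq, mul_inv_cancel_right, show d * a = x from inv_mul_cancel_right x a]
            _ = _ := by rw [pow_succ, mul_assoc (d ^ k) d a]
      have h3 := hpow (orderOf u)
      rw [pow_orderOf_eq_one, one_mul, inv_one, mul_one, right_eq_mul] at h3
      obtain ⟨k, hk⟩ := IsPGroup.iff_orderOf.1 (R_isPGroup E O.prime) ⟨d, hAR hdA⟩
      rw [Subgroup.orderOf_mk] at hk
      have hd1 : d = 1 := orderOf_eq_one_iff.1 (Nat.eq_one_of_dvd_coprimes (hcop.pow_right k)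
        (orderOf_dvd_of_pow_eq_one h3) (dvd_of_eq hk))
      exact mul_inv_eq_iff_eq_mul.1 (mul_inv_eq_one.1 hd1)
  haveI : Group.IsNilpotent (E.R r) := (R_isPGroup E O.prime).isNilpotent
  obtain ⟨n, hn⟩ := (Subgroup.isNilpotent_iff_lowerCentralSeries (E.R r)).1 inferInstance
  intro a ha
  exact key n a ha (mem_bot.1 (hn ▸ (hlcs n a ha).2))

/-- The `r`-elements of `O(C(t))` lie in `R` if the others lie in `F(C(t))`. -/
theorem mem_R_of_pow (hF : FalseOfLe E r)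
    (hfit : ∀ u ∈ E.U, (orderOf u).Coprime r → u ∈ fitIn E.H) {x : G} (hx : x ∈ E.U) {k : ℕ}
    (hk : orderOf x = r ^ k) : x ∈ E.R r := by
  haveI := Fact.mk O.prime
  haveI : Finite E.U := inferInstance
  obtain ⟨P, hP⟩ : ∃ P : Sylow r E.U, zpowers (⟨x, hx⟩ : E.U) ≤ P := IsPGroup.exists_le_sylow
    (IsPGroup.of_card (n := k) (by rw [Nat.card_zpowers, Subgroup.orderOf_mk, hk]))
  have hPn : normalizer ((P : Subgroup E.U) : Set E.U) = ⊤ := by
    refine top_le_iff.1 (CfsgLib.Tech46.le_of_forall_sylow_le fun q hq => ?_)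
    haveI := Fact.mk hq
    by_cases hqr : q = r
    · subst hqr
      exact ⟨P, le_top, le_normalizer, by rw [relIndex_top_right]; exact P.not_dvd_index⟩
    let Q : Sylow q E.U := default
    refine ⟨Q, le_top, fun a ha => centralizer_le_normalizer _ (mem_centralizer_iff.2 fun c _ => ?_),
      by rw [relIndex_top_right]; exact Q.not_dvd_index⟩
    by_cases ha1 : a = 1
    · rw [ha1, mul_one, one_mul]
    obtain ⟨j, hj⟩ := IsPGroup.iff_orderOf.1 Q.2 ⟨a, ha⟩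
    rw [Subgroup.orderOf_mk, ← Subgroup.orderOf_coe] at hj
    have hq2 : q ≠ 2 := fun h2 => by
      subst h2
      refine ha1 (Subtype.ext (orderOf_eq_one_iff.1 ?_))
      rcases Nat.eq_zero_or_pos j with rfl | hj0
      · simpa using hj
      · have h3 := (E.mem_U.1 a.2).2
        rw [hj, ← Nat.not_even_iff_odd] at h3
        exact absurd (Nat.even_pow.2 ⟨even_two, hj0.ne'⟩) h3
    have haR : (a : G) ∈ E.R q := Max33.mem_R_of_fit E hq
      (hfit _ a.2 (hj ▸ ((Nat.coprime_primes hq O.prime).2 hqr).pow_left j)) hj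
    exact Subtype.ext (O.centralizes_part hF c c.2 q hq hqr hq2 a haR)
  haveI : (P : Subgroup E.U).Normal := normalizer_eq_top_iff.1 hPn
  have hPc := P.characteristic_of_normal inferInstance
  have hn : (((P : Subgroup E.U).map E.U.subtype).subgroupOf E.H).Normal := ⟨fun a ha h => by
    obtain ⟨p, hp, hpa⟩ := mem_subgroupOf.1 ha
    have hp' : IsPGroup r (zpowers (⟨(h : G) * p * (h : G)⁻¹, E.conj_mem_U h.2 p.2⟩ : E.U)) := by
      obtain ⟨j, hj⟩ := IsPGroup.iff_orderOf.1 P.2 ⟨p, hp⟩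
      rw [Subgroup.orderOf_mk, ← Subgroup.orderOf_coe] at hj
      exact IsPGroup.of_card (n := j) (by
        rw [Nat.card_zpowers, Subgroup.orderOf_mk, CfsgLib.Involutions.orderOf_conj_eq, hj])
    obtain ⟨P', hP'⟩ := hp'.exists_le_sylow
    haveI := P.unique_of_normal inferInstance
    rw [Subsingleton.elim P' P] at hP'
    exact mem_subgroupOf.2 ⟨_, hP' (mem_zpowers _), by
      show (h : G) * (p : G) * (h : G)⁻¹ = _
      rw [show ((p : E.U) : G) = (a : G) from hpa]; simp⟩⟩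
  have hp : IsPGroup r (((P : Subgroup E.U).map E.U.subtype).subgroupOf E.H) :=
    (P.2.map E.U.subtype).comap_of_injective E.H.subtype E.H.subtype_injective
  exact ⟨⟨x, E.U_le_H hx⟩, CfsgLib.PCore.le_pCore hn hp
    (mem_subgroupOf.2 ⟨⟨x, hx⟩, hP (mem_zpowers _), rfl⟩), rfl⟩

/-- Case (I). -/
theorem false_of_not_mem_A0 (hF : FalseOfLe E r)
    (hI : ∀ (v : G) (O' : Out E v r), O'.C.e ∉ O'.A0) : False := by
  haveI := Fact.mk O.prime
  obtain ⟨τ, hτ⟩ := O.exists_isTau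
  have hinvA0 : ∀ v, E.Refl v → ∀ x ∈ O.A0, v * x * v = x⁻¹ := fun v hv x hx => by
    obtain ⟨O'⟩ := O.exists_out hF hv
    exact (O'.A0_cases_of_not_mem hτ (hI v O') ((O.mem_A0_iff_of O').1 hx)).2
  obtain ⟨w, hw, hwτ⟩ := O.exists_A0_not_tau hτ
  have hwK : ∀ (v : G) (O' : Out E v r), w ∉ O'.C.K := fun v O' h =>
    hwτ ((O'.A0_cases_of_not_mem hτ (hI v O') ((O.mem_A0_iff_of O').1 hw)).1 h)
  set e := O.C.e with he
  set c := e * w * e⁻¹ * w⁻¹ with hc
  obtain ⟨hcτ, hco⟩ := O.comm_e_w hτ hw (hwK b O)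
  have hτR : ∀ z ∈ zpowers τ, ∀ x ∈ E.R r, Commute x z := fun z hz x hx => by
    obtain ⟨i, rfl⟩ := mem_zpowers_iff.1 hz
    exact (show Commute x τ from hτ.2.2 x hx).zpow_right i
  have hτU : ∀ z ∈ zpowers τ, ∀ x ∈ E.U, Commute x z := fun z hz x hx => by
    obtain ⟨i, rfl⟩ := mem_zpowers_iff.1 hz
    exact (show Commute x τ from O.centralizes_tau hF hτ hx).zpow_right i
  -- every element of `A₀` is `w ^ i` times a power of `τ`
  have hA0 : ∀ x ∈ O.A0, ∃ i : ℤ, (w ^ i)⁻¹ * x ∈ zpowers τ := by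
    intro x hx
    have h1 : e * x * e⁻¹ * x⁻¹ ∈ zpowers c := by
      rw [hc, O.zpowers_comm_e_w hτ hw (hwK b O),
        show e * x * e⁻¹ * x⁻¹ = (x * e * x⁻¹ * e⁻¹)⁻¹ by group]
      exact inv_mem (O.comm_A0 hτ hx O.e_mem.1)
    obtain ⟨i, hi⟩ := mem_zpowers_iff.1 h1
    refine ⟨i, (O.A0_cases_of_not_mem hτ (hI b O) (mul_mem (inv_mem (zpow_mem hw i)) hx)).1
      (O.centralizer_e_le (mem_centralizer_singleton_iff.2 ?_))⟩
    have hwi : e * w ^ i * e⁻¹ = c ^ i * w ^ i := by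
      rw [← conj_zpow, show e * w * e⁻¹ = c * w by rw [hc]; group,
        (hτR c hcτ w hw.1).symm.mul_zpow]
    have hcc : Commute (w ^ i) (c ^ i) := (hτR c hcτ w hw.1).zpow_zpow i i
    have h2 : e * ((w ^ i)⁻¹ * x) * e⁻¹ = (w ^ i)⁻¹ * x := by
      calc e * ((w ^ i)⁻¹ * x) * e⁻¹ = (e * w ^ i * e⁻¹)⁻¹ * (e * x * e⁻¹ * x⁻¹) * x := by group
        _ = (w ^ i)⁻¹ * ((c ^ i)⁻¹ * c ^ i) * x := by rw [hwi, ← hi]; group
        _ = _ := by rw [inv_mul_cancel, mul_one]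
    exact (mul_inv_eq_iff_eq_mul.1 h2).symm
  -- `A = C_R(A₀)`
  let A : Subgroup G := E.R r ⊓ centralizer ({w} : Set G)
  have hAA0 : ∀ a ∈ A, ∀ x ∈ O.A0, a * x = x * a := fun a ha x hx => by
    obtain ⟨i, hi⟩ := hA0 x hx
    have h := ((show Commute a w from mem_centralizer_singleton_iff.1 ha.2).zpow_right i).mul_right
      (hτR _ hi a ha.1)
    rwa [mul_inv_cancel_left] at h
  have hAH : ∀ h ∈ E.H, ∀ a ∈ A, h * a * h⁻¹ ∈ A := fun h hh a ha => by
    refine ⟨conj_mem_R E hh ha.1, mem_centralizer_singleton_iff.2 ?_⟩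
    have h2 := Setup.commute_conj (g := h) (hAA0 a ha _ (O.A0_conj (inv_mem hh) hw))
    rwa [show h * (h⁻¹ * w * h⁻¹⁻¹) * h⁻¹ = w by group] at h2
  have hAfix : ∀ (v : G) (O' : Out E v r), ∀ a ∈ A, a * v = v * a → a = 1 := fun v O' a ha hav =>
    O'.eq_one_of_fix_w hτ ((O.mem_A0_iff_of O').1 hw) (hwK v O') (hinvA0 v O'.refl w hw)
      (O'.mem_fixR ha.1 hav) (mem_centralizer_singleton_iff.1 ha.2)
  have hAinv : ∀ a ∈ A, b * a * b = a⁻¹ := fun a ha => by
    obtain ⟨f, y, hf, hfb, -, hyb, rfl⟩ := CfsgLib.RankOneInvol.exists_fixed_mul_inverted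
      ((odd_card_R E O.prime O.ne_two).of_dvd_nat (card_dvd_of_le (inf_le_left : A ≤ E.R r)))
      O.refl.sq (fun z hz => by
        have h := hAH b O.refl.mem_H z hz
        rwa [O.refl.inv] at h) ha
    rw [hAfix b O f hf (mul_b_b hfb O.refl.sq), one_mul]
    exact hyb
  have hAdiv : ∀ (v : G) (O' : Out E v r), ∀ x ∈ E.R r, ∃ i : ℤ, (O'.C.e ^ i)⁻¹ * x ∈ A := by
    intro v O' x hx
    obtain ⟨i, hi⟩ := O'.exists_mul_A hτ ((O.mem_A0_iff_of O').1 hw) (hwK v O') hx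
    exact ⟨i, (E.R r).mul_mem ((E.R r).inv_mem ((E.R r).zpow_mem (O'.fixR_le_R O'.e_mem) i)) hx, mem_centralizer_singleton_iff.2 hi⟩
  -- `O(C(t))` is trivial on `R/A`
  have hRA : ∀ u ∈ E.U, ∀ y ∈ E.R r, u * y * u⁻¹ * y⁻¹ ∈ A := by
    refine O.centralizes_section hF (E.R r) A (fun h hh x hx => conj_mem_R E hh hx) hAH
      (fun x hx a ha => hAH x (R_le_H E r hx) a ha) ⟨e, O.e_mem.1, fun x hx => ?_⟩
      fun v O' g _ x _ z _ hzX hzP _ y hy => ?_
    · obtain ⟨i, hi⟩ := hAdiv b O x hx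
      refine ⟨i, ?_⟩
      have h := hAH (e ^ i) (R_le_H E r ((E.R r).zpow_mem (O.fixR_le_R O.e_mem) i)) _ hi
      rwa [mul_inv_cancel_left] at h
    · obtain ⟨i, hi⟩ := hAdiv v O' y hy
      set q := O'.C.e ^ i
      have hzq : Commute z q := (show Commute z O'.C.e from O'.P_commute_fix hzP O'.e_mem).zpow_right i
      set a := q⁻¹ * y with haq
      have h := hAH q (R_le_H E r ((E.R r).zpow_mem (O'.fixR_le_R O'.e_mem) i)) _
        (mul_mem (hAH z (E.U_le_H hzX.1) a hi) (inv_mem hi))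
      convert h using 1
      rw [show y = q * a by rw [haq, mul_inv_cancel_left]]
      calc z * (q * a) * z⁻¹ * (q * a)⁻¹ = (z * q) * (a * z⁻¹ * a⁻¹) * q⁻¹ := by group
        _ = _ := by rw [hzq.eq]; group
  -- `O(C(t))` is trivial on `A₀/⟨τ⟩`
  have hwτU : ∀ u ∈ E.U, u * w * u⁻¹ * w⁻¹ ∈ zpowers τ := by
    intro u hu
    set w' := u * w * u⁻¹
    have hw' : w' ∈ O.A0 := O.A0_conj (E.U_le_H hu) hw
    refine (O.A0_cases_of_not_mem hτ (hI b O) (mul_mem hw' (inv_mem hw))).1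
      (O.centralizer_e_le (mem_centralizer_singleton_iff.2 ?_))
    set a := e⁻¹ * (u * e * u⁻¹) with ha
    have haA : a ∈ A := by
      have h := hAH e⁻¹ (inv_mem (R_le_H E r O.e_mem.1)) _ (hRA u hu e O.e_mem.1)
      rwa [show e⁻¹ * (u * e * u⁻¹ * e⁻¹) * e⁻¹⁻¹ = a by rw [ha]; group] at h
    have h1 : e * w' * e⁻¹ = c * w' := by
      calc e * w' * e⁻¹ = e * (a * w' * a⁻¹) * e⁻¹ := by
            rw [hAA0 a haA w' hw', mul_inv_cancel_right]
        _ = u * c * u⁻¹ * w' := by simp only [ha, w', hc]; group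
        _ = c * w' := by rw [(hτU c hcτ u hu).eq, mul_inv_cancel_right]
    have h2 : e * (w' * w⁻¹) * e⁻¹ = w' * w⁻¹ := by
      calc e * (w' * w⁻¹) * e⁻¹ = (e * w' * e⁻¹) * (e * w * e⁻¹)⁻¹ := by group
        _ = c * (w' * w⁻¹) * c⁻¹ := by rw [h1, show e * w * e⁻¹ = c * w by rw [hc]; group]; group
        _ = _ := by
          rw [← (hτR c hcτ (w' * w⁻¹) (mul_mem hw'.1 (inv_mem hw.1))).eq, mul_inv_cancel_right]
    exact (mul_inv_eq_iff_eq_mul.1 h2).symm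
  letI : CommGroup (zpowers τ) := IsCyclic.commGroup
  let θ : E.U →* zpowers τ :=
    { toFun := fun u => ⟨(u : G) * w * (u : G)⁻¹ * w⁻¹, hwτU u u.2⟩
      map_one' := Subtype.ext (by simp)
      map_mul' := fun u x => by
        refine Subtype.ext ?_
        show (u : G) * x * w * ((u : G) * x)⁻¹ * w⁻¹ =
          (u : G) * w * (u : G)⁻¹ * w⁻¹ * ((x : G) * w * (x : G)⁻¹ * w⁻¹)
        obtain ⟨i, hi⟩ := mem_zpowers_iff.1 (hwτU x x.2)
        obtain ⟨j, hj⟩ := mem_zpowers_iff.1 (hwτU u u.2)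
        calc (u : G) * x * w * ((u : G) * x)⁻¹ * w⁻¹
            = (u : G) * ((x : G) * w * (x : G)⁻¹ * w⁻¹) * (w * (u : G)⁻¹ * w⁻¹) := by group
          _ = τ ^ i * ((u : G) * w * (u : G)⁻¹ * w⁻¹) := by
              rw [← hi, (hτU _ (zpow_mem (mem_zpowers τ) i) u u.2).eq]; group
          _ = _ := by rw [← hi, ← hj, ← zpow_add, ← zpow_add, add_comm] }
  -- elements of order prime to `r`
  have hfit : ∀ u ∈ E.U, (orderOf u).Coprime r → u ∈ fitIn E.H := by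
    intro u hu hcop
    have hθ1 : θ ⟨u, hu⟩ = 1 := by
      refine orderOf_eq_one_iff.1 (Nat.eq_one_of_dvd_coprimes hcop ?_ ?_)
      · exact (orderOf_map_dvd θ _).trans (by rw [Subgroup.orderOf_mk])
      · have h := orderOf_dvd_natCard (θ ⟨u, hu⟩)
        rwa [Nat.card_zpowers, hτ.2.1] at h
    have huw : u * w = w * u :=
      mul_inv_eq_iff_eq_mul.1 (mul_inv_eq_one.1 (congrArg Subtype.val hθ1))
    have hue : e⁻¹ * (u * e * u⁻¹) ∈ A := by
      have h := hAH e⁻¹ (inv_mem (R_le_H E r O.e_mem.1)) _ (hRA u hu e O.e_mem.1)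
      rwa [show e⁻¹ * (u * e * u⁻¹ * e⁻¹) * e⁻¹⁻¹ = e⁻¹ * (u * e * u⁻¹) by group] at h
    have huA := O.commute_of_delta hu hcop (inf_le_left : A ≤ E.R r) hAH hAinv hue hτ
      (O.centralizes_tau hF hτ hu)
    set a := e⁻¹ * (u * e * u⁻¹) with ha
    have hpow : ∀ n : ℕ, u ^ n * e * (u ^ n)⁻¹ = e * a ^ n := by
      intro n
      induction n with
      | zero => simp
      | succ n ih =>
        calc u ^ (n + 1) * e * (u ^ (n + 1))⁻¹ = u * (u ^ n * e * (u ^ n)⁻¹) * u⁻¹ := by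
              rw [pow_succ']; group
          _ = e * a * (u * a ^ n * u⁻¹) := by rw [ih, ha]; group
          _ = _ := by
            rw [huA _ (pow_mem hue n), mul_inv_cancel_right, pow_succ', mul_assoc]
    have h3 := hpow (orderOf u)
    rw [pow_orderOf_eq_one, one_mul, inv_one, mul_one, left_eq_mul] at h3
    obtain ⟨k, hk⟩ := IsPGroup.iff_orderOf.1 (R_isPGroup E O.prime) ⟨a, hue.1⟩
    rw [Subgroup.orderOf_mk] at hk
    have ha1 : a = 1 := orderOf_eq_one_iff.1 (Nat.eq_one_of_dvd_coprimes (hcop.pow_right k)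
      (orderOf_dvd_of_pow_eq_one h3) (dvd_of_eq hk))
    have hce : Commute u e := by
      rw [ha, inv_mul_eq_one] at ha1
      exact mul_inv_eq_iff_eq_mul.1 ha1.symm
    refine O.mem_fit_of_centralizes hu fun m hm hm2 x hx => ?_
    by_cases hmr : m = r
    · subst hmr
      obtain ⟨i, hi⟩ := hAdiv b O x hx
      have h := (hce.zpow_right i).mul_right (show Commute u _ from huA _ hi)
      rwa [mul_inv_cancel_left] at h
    · exact O.centralizes_part hF u hu m hm hmr hm2 x hx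
  -- `C(t, v) ∩ O(C(t))` is `R ∩ C(v)`
  have hX : ∀ (v : G) (O' : Out E v r), ∀ x ∈ E.X v, x ∈ O'.fixR := by
    intro v O' x hx
    obtain ⟨k, m, hm, hd⟩ := Nat.exists_eq_pow_mul_and_not_dvd (orderOf_pos x).ne' r O.prime.ne_one
    have hy : x ^ r ^ k = 1 := by
      have ho : orderOf (x ^ r ^ k) = m := by
        rw [orderOf_pow, hd, Nat.gcd_eq_right (Dvd.intro m rfl),
          Nat.mul_div_cancel_left m (pow_pos O.prime.pos k)]
      have hcop : (orderOf (x ^ r ^ k)).Coprime r :=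
        ho.symm ▸ ((O.prime.coprime_iff_not_dvd).2 hm).symm
      exact O'.eq_one_of_fit (pow_mem hx _) (hfit _ (pow_mem hx.1 _) hcop) hcop
    obtain ⟨j, -, hj⟩ := (Nat.dvd_prime_pow O.prime).1 (orderOf_dvd_of_pow_eq_one hy)
    exact ⟨O.mem_R_of_pow hF hfit hx.1 hj, hx⟩
  have hθS : ∀ s (hs : s ∈ (E.S : Subgroup G)) (x : E.U),
      θ ⟨s * x * s⁻¹, E.conj_mem_U (E.S_le_H hs) x.2⟩ = θ x := by
    have hrefl : ∀ v, E.Refl v → ∀ (hv : v ∈ (E.S : Subgroup G)) (x : E.U),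
        θ ⟨v * x * v⁻¹, E.conj_mem_U (E.S_le_H hv) x.2⟩ = θ x := by
      intro v hv hvS x
      refine Subtype.ext ?_
      show v * (x : G) * v⁻¹ * w * (v * (x : G) * v⁻¹)⁻¹ * w⁻¹ = (x : G) * w * (x : G)⁻¹ * w⁻¹
      have hvw : v * w * v = w⁻¹ := hinvA0 v hv w hw
      obtain ⟨i, hi⟩ := mem_zpowers_iff.1 (hwτU x x.2)
      have hvτ : v * τ ^ i * v⁻¹ = (τ ^ i)⁻¹ := by
        rw [← conj_zpow, hv.inv, O.center_inverted_all hF hv hτ.1 hτ.2.2, inv_zpow]
      have h1 : (x : G) * w⁻¹ * (x : G)⁻¹ * w = (τ ^ i)⁻¹ := by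
        calc (x : G) * w⁻¹ * (x : G)⁻¹ * w = ((x : G) * w * (x : G)⁻¹)⁻¹ * w := by group
          _ = w⁻¹ * ((τ ^ i)⁻¹ * w) := by rw [hi]; group
          _ = (τ ^ i)⁻¹ := by
            rw [← (hτR _ (zpow_mem (mem_zpowers τ) i) w hw.1).inv_right.eq, inv_mul_cancel_left]
      calc v * (x : G) * v⁻¹ * w * (v * (x : G) * v⁻¹)⁻¹ * w⁻¹
          = v * ((x : G) * (v⁻¹ * w * v⁻¹⁻¹) * (x : G)⁻¹ * (v⁻¹ * w⁻¹ * v⁻¹⁻¹)) * v⁻¹ := by group
        _ = v * ((x : G) * w⁻¹ * (x : G)⁻¹ * w) * v⁻¹ := by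
            have h2 : v⁻¹ * w⁻¹ * v⁻¹⁻¹ = w := by
              rw [← conj_inv, hv.inv, hv.inv, hvw, inv_inv]
            rw [h2, hv.inv, hv.inv, hvw]
        _ = v * (τ ^ i)⁻¹ * v⁻¹ := by rw [h1]
        _ = _ := by rw [← conj_inv, hvτ, inv_inv, hi]
    intro s hs x
    by_cases hrot : s ∈ zpowers E.d.r
    · have hsa : E.Refl (s * E.d.a) := ⟨mul_mem hs E.d.a_mem, fun h =>
        E.d.a_notMem ((mul_mem_cancel_left hrot).1 h)⟩
      have h1 := hrefl _ hsa hsa.1 ⟨E.d.a * x * E.d.a⁻¹, E.conj_mem_U (E.S_le_H E.d.a_mem) x.2⟩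
      rw [hrefl _ E.refl_a E.d.a_mem x] at h1
      rw [← h1]
      congr 1
      refine Subtype.ext ?_
      show s * (x : G) * s⁻¹ = s * E.d.a * (E.d.a * (x : G) * E.d.a⁻¹) * (s * E.d.a)⁻¹
      rw [show s * E.d.a * (E.d.a * (x : G) * E.d.a⁻¹) * (s * E.d.a)⁻¹ =
        s * (E.d.a * E.d.a) * x * (E.d.a * E.d.a)⁻¹ * s⁻¹ by group, E.refl_a.sq, mul_one, inv_one,
        mul_one]
    · exact hrefl s ⟨hs, hrot⟩ hs x
  have hθ := O.hom_eq_one hF θ hθS fun v O' g hg x hx z hz _ _ _ => by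
    rw [show z = 1 from Subtype.ext (by
      rw [hz, O'.P_commute_fix hg (hX v O' x hx), mul_inv_cancel_right, mul_inv_cancel]; rfl), map_one]
  have h1 := congrArg Subtype.val (DFunLike.congr_fun hθ ⟨e, R_le_U E O.prime O.ne_two O.e_mem.1⟩)
  rw [show e * w * e⁻¹ * w⁻¹ = 1 from h1, orderOf_one] at hco
  exact O.prime.ne_one hco.symm

end CfsgLib.GW.Max31.Out
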