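import Cfsg.Agent.Lib.GW.Max31OutT3
import Cfsg.Agent.Lib.GW.Max31OutCS
import Cfsg.Agent.Lib.GW.Max31OutCount

/-!
Gorenstein–Walter, Step 3.1 e, case (II): `A₀ ≤ K`.
-/

set_option autoImplicit false
set_option linter.style.haveILetI false
set_option linter.unusedSectionVars false

namespace CfsgLib.GW.Max31.Out

open Subgroup

universe u

variable {G : Type u} [Group G] [Finite G] {E : Setup G} {b : G} {r : ℕ} (O : Out E b r)

include O

theorem e_pow_r : O.C.e ^ r = 1 := orderOf_dvd_iff_pow_eq_one.1 (dvd_of_eq O.C.orderOf_e)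

/-- `e` and `τ` are independent. -/
theorem dvd_of_zpow_mul {τ : G} (hτ : IsTau E r τ) {p q : ℤ} (h : O.C.e ^ p * τ ^ q = 1) :
    (r : ℤ) ∣ p ∧ (r : ℤ) ∣ q := by
  have he : O.C.e ^ p ∈ O.fixR := zpow_mem O.e_mem p
  have hinv : b * O.C.e ^ p * b = (O.C.e ^ p)⁻¹ := by
    rw [mul_eq_one_iff_eq_inv.1 h]
    have h1 := conj_zpow (i := q) (a := b) (b := τ)
    rw [O.refl.inv, O.tau_inverted hτ, inv_zpow] at h1
    calc b * (τ ^ q)⁻¹ * b = (b * τ ^ q * b)⁻¹ := by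
          rw [mul_inv_rev, mul_inv_rev, O.refl.inv, mul_assoc]
      _ = _ := by rw [← h1]
  have h1 := O.eq_one_of_fix_inv he.1 (O.fix_props he).2.1 hinv
  rw [h1, one_mul] at h
  exact ⟨by rw [← O.C.orderOf_e]; exact orderOf_dvd_iff_zpow_eq_one.2 h1,
    by rw [← hτ.2.1]; exact orderOf_dvd_iff_zpow_eq_one.2 h⟩

theorem e_mem_A0 {τ : G} (hτ : IsTau E r τ) (hA : ∀ x ∈ O.A0, x ∈ O.C.K) : O.C.e ∈ O.A0 := by
  by_contra he
  obtain ⟨x, hx, hxτ⟩ := O.exists_A0_not_tau hτ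
  exact hxτ ((O.A0_cases_of_not_mem hτ he hx).1 (hA x hx))

theorem exists_eq_of_A0 {τ : G} (hτ : IsTau E r τ) {x : G} (hx : x ∈ O.A0) (hxK : x ∈ O.C.K) :
    ∃ a i : ℤ, x = O.C.e ^ a * τ ^ i := by
  obtain ⟨c, ⟨a, rfl⟩, y, ⟨i, rfl⟩, e⟩ := O.A0_inf_K hτ hx hxK
  exact ⟨a, i, e⟩

/-- A line of `A₀/⟨τ⟩` fixed by an element inverted by a reflection of `K`. -/
theorem sq_commute_e (hF : FalseOfLe E r) {τ : G} (hτ : IsTau E r τ) (heA : O.C.e ∈ O.A0) {v : G}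
    (hv : E.Refl v) (hvK : v ∈ O.C.K) {y : G} (hy : y ∈ E.U) (hyv : v * y * v = y⁻¹)
    (hcop : (orderOf y).Coprime r) {a i : ℤ} (hai : y * O.C.e * y⁻¹ = O.C.e ^ a * τ ^ i) :
    y ^ 2 * O.C.e = O.C.e * y ^ 2 := by
  haveI := Fact.mk O.prime
  set e := O.C.e with he
  have heτ : ∀ a i : ℤ, Commute (e ^ a) (τ ^ i) := fun a i =>
    ((show Commute e τ from hτ.2.2 _ O.e_mem.1).zpow_zpow a i)
  have hyτ : ∀ j : ℤ, Commute y (τ ^ j) := fun j =>
    (show Commute y τ from O.centralizes_tau hF hτ hy).zpow_right j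
  -- `v` normalises `⟨e⟩`
  obtain ⟨s, hs⟩ := mem_zpowers_iff.1 (O.A0_core hτ (x := v * e * v⁻¹)
    (O.A0_conj hv.mem_H heA) (conj_mem_coreIn hvK O.C.e_core))
  have hs0 : ¬ (r : ℤ) ∣ s := fun hd => by
    rw [← O.C.orderOf_e, orderOf_dvd_iff_zpow_eq_one, ← he, hs, conj_eq_one_iff] at hd
    exact O.e_ne hd
  have hvτ : ∀ j : ℤ, v * τ ^ j * v⁻¹ = τ ^ (-j) := fun j => by
    rw [← conj_zpow, hv.inv, O.center_inverted_all hF hv hτ.1 hτ.2.2, inv_zpow', ]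
  have hyv' : v * y * v⁻¹ = y⁻¹ := by rw [hv.inv]; exact hyv
  have h1 : v * (y * e * y⁻¹) * v⁻¹ = e ^ (s * a) * τ ^ (-i) := by
    rw [hai, show v * (e ^ a * τ ^ i) * v⁻¹ = (v * e ^ a * v⁻¹) * (v * τ ^ i * v⁻¹) by group,
      ← conj_zpow, ← hs, hvτ, ← zpow_mul]
  have h2 : v * (y * e * y⁻¹) * v⁻¹ = y⁻¹ * e ^ s * y := by
    rw [show v * (y * e * y⁻¹) * v⁻¹ = (v * y * v⁻¹) * (v * e * v⁻¹) * (v * y * v⁻¹)⁻¹ by group,
      hyv', ← hs, inv_inv]
  rw [h1] at h2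
  have hpow : ∀ p : ℤ, y * e ^ p * y⁻¹ = e ^ (a * p) * τ ^ (i * p) := fun p => by
    rw [← conj_zpow, hai, (heτ a i).mul_zpow, ← zpow_mul, ← zpow_mul]
  have h3 : e ^ s = e ^ (a * (s * a)) * τ ^ (i * (s * a) + -i) := by
    calc e ^ s = y * (y⁻¹ * e ^ s * y) * y⁻¹ := by group
      _ = y * e ^ (s * a) * y⁻¹ * (y * τ ^ (-i) * y⁻¹) := by rw [← h2]; group
      _ = _ := by
        rw [hpow, (hyτ (-i)).eq, mul_inv_cancel_right, mul_assoc, ← zpow_add]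
  have h4 : e ^ (a * (s * a) - s) * τ ^ (i * (s * a) + -i) = 1 := by
    rw [sub_eq_add_neg, zpow_add, zpow_neg, mul_assoc, (heτ s _).inv_left.eq, ← mul_assoc,
      ← h3, mul_inv_cancel]
  have h5 : (r : ℤ) ∣ a * a - 1 := by
    have h := (O.dvd_of_zpow_mul hτ h4).1
    rw [show a * (s * a) - s = s * (a * a - 1) by ring] at h
    exact ((Nat.prime_iff_prime_int.1 O.prime).dvd_or_dvd h).resolve_left hs0
  have h6 : y ^ 2 * e * (y ^ 2)⁻¹ = e * τ ^ (i * a + i) := by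
    calc y ^ 2 * e * (y ^ 2)⁻¹ = y * (y * e * y⁻¹) * y⁻¹ := by rw [pow_two]; group
      _ = (y * e ^ a * y⁻¹) * (y * τ ^ i * y⁻¹) := by rw [hai]; group
      _ = e ^ (a * a) * τ ^ (i * a + i) := by
        rw [hpow, (hyτ i).eq, mul_inv_cancel_right, mul_assoc, ← zpow_add]
      _ = _ := by
        congr 1
        conv_rhs => rw [← zpow_one e]
        refine orderOf_dvd_sub_iff_zpow_eq_zpow.1 ?_
        rw [he, O.C.orderOf_e]; exact h5
  set q := i * a + i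
  have hn : ∀ n : ℕ, (y ^ 2) ^ n * e * ((y ^ 2) ^ n)⁻¹ = e * τ ^ (q * n) := by
    intro n
    induction n with
    | zero => simp
    | succ n ih =>
      calc (y ^ 2) ^ (n + 1) * e * ((y ^ 2) ^ (n + 1))⁻¹
          = y ^ 2 * ((y ^ 2) ^ n * e * ((y ^ 2) ^ n)⁻¹) * (y ^ 2)⁻¹ := by rw [pow_succ']; group
        _ = (y ^ 2 * e * (y ^ 2)⁻¹) * (y ^ 2 * τ ^ (q * n) * (y ^ 2)⁻¹) := by rw [ih]; group
        _ = _ := by
          rw [h6, ((hyτ _).pow_left 2).eq, mul_inv_cancel_right, mul_assoc, ← zpow_add]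
          push_cast; congr 2; ring
  have h7 := hn (orderOf (y ^ 2))
  rw [pow_orderOf_eq_one, one_mul, inv_one, mul_one, left_eq_mul,
    ← orderOf_dvd_iff_zpow_eq_one, hτ.2.1] at h7
  have hcop2 : (orderOf (y ^ 2)).Coprime r := hcop.coprime_dvd_left (orderOf_pow_dvd 2)
  have h8 : (r : ℤ) ∣ q := Int.dvd_of_dvd_mul_left_of_gcd_one h7
    (by rw [Int.gcd_natCast_natCast]; exact hcop2.symm)
  rw [← hτ.2.1, orderOf_dvd_iff_zpow_eq_one] at h8
  rw [h8, mul_one] at h6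
  exact mul_inv_eq_iff_eq_mul.1 h6

/-- Case (II). -/
theorem false_of_A0_le (hF : FalseOfLe E r) (hA : ∀ x ∈ O.A0, x ∈ O.C.K) : False := by
  haveI := Fact.mk O.prime
  obtain ⟨τ, hτ⟩ := O.exists_isTau
  set e := O.C.e with he
  have heA := O.e_mem_A0 hτ hA
  have heτ : ∀ a i : ℤ, Commute (e ^ a) (τ ^ i) := fun a i =>
    ((show Commute e τ from hτ.2.2 _ O.e_mem.1).zpow_zpow a i)
  have hconj : ∀ h ∈ E.H, ∃ a i : ℤ, h * e * h⁻¹ = e ^ a * τ ^ i := fun h hh =>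
    O.exists_eq_of_A0 hτ (O.A0_conj hh heA) (hA _ (O.A0_conj hh heA))
  -- elements inverted by a reflection of `K` of order prime to `r`
  have hfix : ∀ v, E.Refl v → v ∈ O.C.K → ∀ y ∈ E.U, v * y * v = y⁻¹ → (orderOf y).Coprime r →
      r < orderOf y → ∃ n : ℕ, y ^ n ≠ 1 ∧ y ^ n * e = e * y ^ n := by
    intro v hv hvK y hy hyv hcop hlt
    refine ⟨2, fun h => ?_, ?_⟩
    · have h2 := Nat.le_of_dvd (by norm_num) (orderOf_dvd_of_pow_eq_one h)
      have := O.prime.two_le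
      omega
    obtain ⟨a, i, hai⟩ := hconj y (E.U_le_H hy)
    exact O.sq_commute_e hF hτ heA hv hvK hy hyv hcop hai
  have hP : ∀ v, E.Refl v → v ∈ O.C.K → v ∈ O.C.P := fun v hv hvK => O.mem_P_of_mem hF hfix hv hvK
  have hall := O.refl_mem_P hF hP
  -- `O(C(t))` is trivial on `A₀/⟨τ⟩`
  have hsec : ∀ u ∈ E.U, ∀ x ∈ O.A0, u * x * u⁻¹ * x⁻¹ ∈ zpowers τ := by
    refine O.centralizes_section hF O.A0 (zpowers τ) (fun h hh x hx => O.A0_conj hh hx)
      (fun h hh x hx => O.tau_conj hτ hh hx)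
      (fun w hw x hx => O.tau_conj hτ (R_le_H E r hw.1) hx) ⟨e, heA, fun x hx => ?_⟩
      fun v O' g _ x _ z hz hzX hzP hzc y hy => ?_
    · obtain ⟨a, i, rfl⟩ := O.exists_eq_of_A0 hτ hx (hA x hx)
      exact ⟨a, by rw [(heτ a i).eq, mul_inv_cancel_right]; exact zpow_mem (mem_zpowers τ) i⟩
    · obtain ⟨a, i, rfl⟩ := O.exists_eq_of_A0 hτ hy (hA y hy)
      have hze : Commute z e := O'.P_commute_fix hzP
        (O'.mem_fixR O.e_mem.1 (O.C.P_commute v (hall v O'.refl)).symm)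
      have hzτ : Commute z τ := O.centralizes_tau hF hτ hzX.1
      rw [((hze.zpow_right a).mul_right (hzτ.zpow_right i)).eq, mul_inv_cancel_right, mul_inv_cancel]
      exact one_mem _
  letI : CommGroup (zpowers τ) := IsCyclic.commGroup
  let φ : E.U →* zpowers τ :=
    { toFun := fun u => ⟨(u : G) * e * (u : G)⁻¹ * e⁻¹, hsec u u.2 e heA⟩
      map_one' := Subtype.ext (by simp)
      map_mul' := fun u w => by
        refine Subtype.ext ?_
        show (u : G) * w * e * ((u : G) * w)⁻¹ * e⁻¹ =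
          (u : G) * e * (u : G)⁻¹ * e⁻¹ * ((w : G) * e * (w : G)⁻¹ * e⁻¹)
        obtain ⟨i, hi⟩ := mem_zpowers_iff.1 (hsec w w.2 e heA)
        obtain ⟨j, hj⟩ := mem_zpowers_iff.1 (hsec u u.2 e heA)
        have huτ : Commute (u : G) (τ ^ i) :=
          (show Commute (u : G) τ from O.centralizes_tau hF hτ u.2).zpow_right i
        calc (u : G) * w * e * ((u : G) * w)⁻¹ * e⁻¹
            = (u : G) * ((w : G) * e * (w : G)⁻¹ * e⁻¹) * (e * (u : G)⁻¹ * e⁻¹) := by group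
          _ = τ ^ i * ((u : G) * e * (u : G)⁻¹ * e⁻¹) := by rw [← hi, huτ.eq]; group
          _ = _ := by rw [← hi, ← hj, ← zpow_add, ← zpow_add, add_comm] }
  have hker : φ.ker = (E.U ⊓ O.C.K).subgroupOf E.U := by
    ext u
    simp only [MonoidHom.mem_ker, mem_subgroupOf]
    refine ⟨fun h => ⟨u.2, O.centralizer_e_le (mem_centralizer_singleton_iff.2
      (mul_inv_eq_iff_eq_mul.1 (mul_inv_eq_one.1 (congrArg Subtype.val h))))⟩, fun h => Subtype.ext ?_⟩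
    obtain ⟨i, hi⟩ := mem_zpowers_iff.1 (hsec u u.2 e heA)
    have hc : τ ^ i ∈ coreIn O.C.K :=
      hi ▸ mul_mem (conj_mem_coreIn h.2 O.C.e_core) (inv_mem O.C.e_core)
    show (u : G) * e * (u : G)⁻¹ * e⁻¹ = 1
    rw [← hi]
    exact O.eq_one_of_inv_core (zpow_mem hτ.1 i) (by
      have h1 := conj_zpow (i := i) (a := b) (b := τ)
      rw [O.refl.inv, O.tau_inverted hτ, inv_zpow] at h1
      exact h1.symm) hc
  have hrel : (E.U ⊓ O.C.K).relIndex E.U = r := by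
    show ((E.U ⊓ O.C.K).subgroupOf E.U).index = r
    rw [← hker, index_ker]
    have hdvd : Nat.card φ.range ∣ r := by
      have h := card_subgroup_dvd_card φ.range
      rwa [Nat.card_zpowers, hτ.2.1] at h
    refine ((Nat.dvd_prime O.prime).1 hdvd).resolve_left fun h1 => O.not_le fun x hx => ?_
    have hm : (⟨x, R_le_U E O.prime O.ne_two hx⟩ : E.U) ∈ φ.ker := by
      rw [MonoidHom.mem_ker]
      exact mem_bot.1 (Subgroup.eq_bot_of_card_eq _ h1 ▸ ⟨_, rfl⟩)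
    rw [hker] at hm
    exact (mem_subgroupOf.1 hm).2
  refine Max31Out.false_count E O.kData (O.perf_K.symm ▸ O.C.t_mem)
    (fun v hv => O.perf_K.symm ▸ hall v hv) O.refl O.prime O.ne_two
    ⟨τ, ⟨R_le_U E O.prime O.ne_two hτ.1, (O.tau_mem_K hτ).2⟩, O.tau_inverted hτ, hτ.2.1⟩ hrel ?_
  intro u hu huK x hx hux hx2
  rw [O.perf_K] at hx hux
  obtain ⟨i, hi⟩ := mem_zpowers_iff.1 (hsec u hu e heA)
  have hi1 : τ ^ i ≠ 1 := fun h => huK (O.centralizer_e_le (mem_centralizer_singleton_iff.2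
    (mul_inv_eq_iff_eq_mul.1 (mul_inv_eq_one.1 (hi.symm.trans h)))))
  have h1 : Commute x (u * e * u⁻¹) := by
    have h := Setup.commute_conj (g := u) (O.C.P_commute _ hux)
    rwa [show u * (u⁻¹ * x * u) * u⁻¹ = x by group] at h
  have h2 : Commute x (τ ^ i) := by
    rw [hi]
    exact h1.mul_right (show Commute x e from O.C.P_commute x hx).inv_right
  have hgen : zpowers (τ ^ i) = zpowers τ := eq_of_le_of_card_ge (zpowers_le.2 (zpow_mem (mem_zpowers τ) i))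
    (by rw [Nat.card_zpowers, Nat.card_zpowers, hτ.2.1, orderOf_eq_prime (by
      rw [← zpow_natCast, ← zpow_mul, mul_comm, zpow_mul, zpow_natCast,
        orderOf_dvd_iff_pow_eq_one.1 (dvd_of_eq hτ.2.1), one_zpow]) hi1])
  obtain ⟨j, hj⟩ := mem_zpowers_iff.1 (hgen.symm ▸ mem_zpowers τ : τ ∈ zpowers (τ ^ i))
  exact O.eq_t_of_commute_tau hF hτ hx hx2 (hj ▸ h2.zpow_right j).eq

end CfsgLib.GW.Max31.Out
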