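import Cfsg.Agent.Lib.GW.Max31OutII
import Cfsg.Agent.Lib.GW.Max31OutI
import Cfsg.Agent.Lib.GW.Max31OutHeis

/-!
Gorenstein–Walter, Step 3.1 e, case (III): the hypotheses of `false_heis`.
-/

set_option autoImplicit false
set_option linter.style.haveILetI false
set_option linter.unusedSectionVars false

namespace CfsgLib.GW.Max31

open Subgroup

universe u

variable {G : Type u} [Group G]

theorem commute_of_comm {e w x c : G} (hew : e * w * e⁻¹ = c * w) (hcw : Commute w c) {l : ℤ}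
    (hex : e * x * e⁻¹ = c ^ l * x) : Commute e ((w ^ l)⁻¹ * x) := by
  have hwl : e * w ^ l * e⁻¹ = c ^ l * w ^ l := by rw [← conj_zpow, hew, hcw.symm.mul_zpow]
  refine mul_inv_eq_iff_eq_mul.1 ?_
  calc e * ((w ^ l)⁻¹ * x) * e⁻¹ = (e * w ^ l * e⁻¹)⁻¹ * (e * x * e⁻¹) := by group
    _ = (w ^ l)⁻¹ * ((c ^ l)⁻¹ * c ^ l) * x := by rw [hwl, hex]; group
    _ = (w ^ l)⁻¹ * x := by rw [inv_mul_cancel, mul_one]

theorem commute_of_comm_left {e w z c : G} (hew : e * w * e⁻¹ = c * w) (hce : Commute e c) {j : ℤ}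
    (hzw : z * w * z⁻¹ = c ^ j * w) : Commute ((e ^ j)⁻¹ * z) w := by
  have key : ∀ n : ℕ, e ^ n * w * (e ^ n)⁻¹ = c ^ n * w := by
    intro n
    induction n with
    | zero => simp
    | succ n ih =>
      calc e ^ (n + 1) * w * (e ^ (n + 1))⁻¹ = e * (e ^ n * w * (e ^ n)⁻¹) * e⁻¹ := by
            rw [pow_succ']; group
        _ = c ^ n * (e * w * e⁻¹) := by rw [ih, ← mul_assoc e, (hce.pow_right n).eq]; group
        _ = _ := by rw [hew, pow_succ]; group
  have hej : e ^ j * w * (e ^ j)⁻¹ = c ^ j * w := by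
    obtain ⟨n, rfl | rfl⟩ := Int.eq_nat_or_neg j
    · simpa using key n
    · have hcn : Commute (e ^ n) (c ^ n)⁻¹ := (hce.pow_pow n n).inv_right
      rw [zpow_neg, zpow_neg, zpow_natCast, zpow_natCast, inv_inv]
      calc (e ^ n)⁻¹ * w * e ^ n = (e ^ n)⁻¹ * ((c ^ n)⁻¹ * (c ^ n * w)) * e ^ n := by group
        _ = (e ^ n)⁻¹ * ((c ^ n)⁻¹ * e ^ n) * w := by rw [← key n]; group
        _ = (c ^ n)⁻¹ * w := by rw [← hcn.eq, inv_mul_cancel_left]
  refine mul_inv_eq_iff_eq_mul.1 ?_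
  calc (e ^ j)⁻¹ * z * w * ((e ^ j)⁻¹ * z)⁻¹ = (e ^ j)⁻¹ * (z * w * z⁻¹) * e ^ j := by group
    _ = w := by rw [hzw, ← hej]; group

namespace Out

variable [Finite G] {E : Setup G} {b : G} {r : ℕ} (O : Out E b r) {τ w : G}

include O

/-- Some small power of an element of `O(C(t))` fixes the line of `A₀/⟨τ⟩` through `e`. -/
theorem exists_line (hF : FalseOfLe E r) (hτ : IsTau E r τ) (heA : O.C.e ∈ O.A0) (hw : w ∈ O.A0)
    (hwK : w ∉ O.C.K) (hwb : b * w * b = w⁻¹) {y : G} (hy : y ∈ E.U) :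
    ∃ n : ℕ, 0 < n ∧ n ≤ r + 1 ∧ ∃ a i : ℤ,
      y ^ n * O.C.e * (y ^ n)⁻¹ = O.C.e ^ a * τ ^ i := by
  classical
  haveI := Fact.mk O.prime
  set e := O.C.e with he
  have hcm : ∀ g ∈ E.R r, ∀ x : O.A0, (x : G) * g * (x : G)⁻¹ * g⁻¹ ∈ zpowers τ :=
    fun g hg x => O.comm_A0 hτ x.2 hg
  let f : ∀ g ∈ E.R r, O.A0 →* Multiplicative (ZMod r) := fun g hg =>
    { toFun := fun x => Multiplicative.ofAdd (Heis.kap r τ x g)
      map_one' := by
        show Multiplicative.ofAdd (Heis.kap r τ ((1 : O.A0) : G) g) = 1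
        rw [Subgroup.coe_one,
          (Heis.kap_of_commute hτ.2.1 (show (1 : G) * g = g * 1 by rw [one_mul, mul_one])).2]
        rfl
      map_mul' := fun x x' => by
        rw [← ofAdd_add]
        exact congrArg _ (Heis.kap_mul_left hτ.2.1 (hcm g hg x) (hcm g hg x') (hτ.2.2 _ x.2.1)).2 }
  have hf0 : ∀ (g : G) (hg : g ∈ E.R r) (x : O.A0), f g hg x = 1 → (x : G) * g = g * x :=
    fun g hg x h => Heis.commute_of_kap hτ.2.1 (hcm g hg x) (Multiplicative.toAdd.injective.eq_iff.2 h)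
  let B : O.A0 → ZMod r := fun x => Multiplicative.toAdd (f e O.e_mem.1 x)
  let A : O.A0 → ZMod r := fun x => Multiplicative.toAdd (f w hw.1 x)
  have hB : ∀ (x x' : O.A0) (c : ℕ), B (x * (x' ^ c)⁻¹) = B x - c * B x' := fun x x' c => by
    simp [B, sub_eq_add_neg]
  have hA : ∀ (x x' : O.A0) (c : ℕ), A (x * (x' ^ c)⁻¹) = A x - c * A x' := fun x x' c => by
    simp [A, sub_eq_add_neg]
  let X : ℕ → O.A0 := fun k =>
    ⟨y ^ k * e * (y ^ k)⁻¹, O.A0_conj (pow_mem (E.U_le_H hy) k) heA⟩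
  by_cases h0 : ∃ k, 0 < k ∧ k ≤ r + 1 ∧ B (X k) = 0
  · obtain ⟨k, hk0, hkr, hk⟩ := h0
    exact ⟨k, hk0, hkr, O.exists_eq_of_A0 hτ (X k).2 (O.centralizer_e_le
      (mem_centralizer_singleton_iff.2 (hf0 e O.e_mem.1 (X k) (Multiplicative.toAdd.injective hk))))⟩
  push Not at h0
  -- two of the lines coincide
  have key : ∀ i j : ℕ, 0 < i → i < j → j ≤ r + 1 →
      A (X i) / B (X i) = A (X j) / B (X j) →
      ∃ n : ℕ, 0 < n ∧ n ≤ r + 1 ∧ ∃ a q : ℤ, y ^ n * e * (y ^ n)⁻¹ = e ^ a * τ ^ q := by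
    intro i j hi hij hj hs
    have hBi := h0 i hi (by omega)
    have hBj := h0 j (by omega) hj
    set c := (B (X j) / B (X i)).val
    have hc : (c : ZMod r) = B (X j) / B (X i) := ZMod.natCast_zmod_val _
    set d := X j * (X i ^ c)⁻¹ with hd
    have hBd : B d = 0 := by rw [hd, hB, hc, div_mul_cancel₀ _ hBi, sub_self]
    have hAd : A d = 0 := by
      rw [hd, hA, hc]
      rw [div_eq_div_iff hBi hBj] at hs
      field_simp
      linear_combination -hs
    have hde := hf0 e O.e_mem.1 d (Multiplicative.toAdd.injective hBd)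
    have hdw := hf0 w hw.1 d (Multiplicative.toAdd.injective hAd)
    obtain ⟨p, q, hpq⟩ :=
      O.exists_eq_of_A0 hτ d.2 (O.centralizer_e_le (mem_centralizer_singleton_iff.2 hde))
    have hτw : Commute (τ ^ q) w := (show Commute w τ from hτ.2.2 w hw.1).symm.zpow_left q
    have hep : e ^ p = 1 := by
      refine O.eq_one_of_fix_w hτ hw hwK hwb (zpow_mem O.e_mem p) ?_
      have h := (show Commute (d : G) w from hdw).mul_left hτw.inv_left
      rwa [hpq, mul_inv_cancel_right] at h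
    have hyτ : Commute (y ^ i) (τ ^ q) :=
      ((show Commute y τ from O.centralizes_tau hF hτ hy).zpow_right q).pow_left i
    have hXj : y ^ j * e * (y ^ j)⁻¹ = τ ^ q * (y ^ i * e ^ c * (y ^ i)⁻¹) := by
      have h : ((d : O.A0) : G) * (((X i) ^ c : O.A0) : G) = (X j : G) := by
        rw [← Subgroup.coe_mul, hd, inv_mul_cancel_right]
      rw [hpq, hep, one_mul, Subgroup.coe_pow] at h
      rw [← conj_pow]
      exact h.symm
    refine ⟨j - i, by omega, by omega, c, q, ?_⟩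
    have hsplit : y ^ j = y ^ i * y ^ (j - i) := by rw [← pow_add, Nat.add_sub_cancel' hij.le]
    calc y ^ (j - i) * e * (y ^ (j - i))⁻¹ = (y ^ i)⁻¹ * (y ^ j * e * (y ^ j)⁻¹) * y ^ i := by
          rw [hsplit]; group
      _ = τ ^ q * e ^ c := by
          rw [hXj, ← mul_assoc (y ^ i)⁻¹, ← hyτ.inv_left.symm.eq]; group
      _ = _ := by
          rw [zpow_natCast]
          exact (((show Commute e τ from hτ.2.2 _ O.e_mem.1).pow_left c).zpow_right q).symm.eq
  obtain ⟨i, j, hne, hs⟩ := Fintype.exists_ne_map_eq_of_card_lt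
    (fun i : Fin (r + 1) => A (X (i + 1)) / B (X (i + 1))) (by simp)
  have hi := i.2
  have hj := j.2
  rcases Nat.lt_or_ge (i : ℕ) j with h | h
  · exact key _ _ (Nat.succ_pos _) (by omega) (by omega) hs
  · have h' : (j : ℕ) < i := lt_of_le_of_ne h fun e => hne (Fin.ext e.symm)
    exact key _ _ (Nat.succ_pos _) (by omega) (by omega) hs.symm

/-- An element of `R ∩ C(v)` arises from each rotated element. -/
theorem mem_fixR_of_rot (hF : FalseOfLe E r) (hall : ∀ v, E.Refl v → v ∈ O.C.P) (hτ : IsTau E r τ)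
    (hw : w ∈ O.A0) (hwK : w ∉ O.C.K) (heA : O.C.e ∈ O.A0) {v : G} (O' : Out E v r) {z : G}
    (hzX : z ∈ E.X v) (hzP : z ∈ O'.C.P) (hzc : z ∈ coreIn O'.C.K) : z ∈ O.fixR := by
  haveI := Fact.mk O.prime
  have hv := O'.refl
  set e := O.C.e with he
  have hzU : z ∈ E.U := hzX.1
  have hev : e ∈ O'.fixR := O'.mem_fixR O.e_mem.1 (O.C.P_commute v (hall v hv)).symm
  have hze : Commute z e := O'.P_commute_fix hzP hev
  have hzτ : Commute z τ := O.centralizes_tau hF hτ hzU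
  -- `z` has order a power of `r`
  obtain ⟨k, m, hm, hd⟩ := Nat.exists_eq_pow_mul_and_not_dvd (orderOf_pos z).ne' r O.prime.ne_one
  have hzk : z ^ r ^ k = 1 := by
    refine O'.eq_one_of_core (pow_mem hzU _) (pow_mem hzc _) ?_
      ((show Commute z O'.C.e from O'.P_commute_fix hzP O'.e_mem).pow_left _).eq
    rw [orderOf_pow, hd, Nat.gcd_eq_right (Dvd.intro m rfl),
      Nat.mul_div_cancel_left m (pow_pos O.prime.pos k)]
    exact ((O.prime.coprime_iff_not_dvd).2 hm).symm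
  -- an element of `A₀` outside `K` inverted by `v`
  obtain ⟨f, w', hf, hfv, hw'A, hw'v, hfw⟩ := CfsgLib.RankOneInvol.exists_fixed_mul_inverted
    ((odd_card_R E O.prime O.ne_two).of_dvd_nat (card_dvd_of_le O.A0_le_R)) hv.sq
    (fun q hq => by
      have h := O.A0_conj hv.mem_H hq
      rwa [hv.inv] at h) hw
  have hfK : f ∈ O.C.K :=
    O.fixR_le_K (O.fixR_eq hF hv (hall v hv) O' (O'.mem_fixR hf.1 (mul_b_b hfv hv.sq)))
  have hw'K : w' ∉ O.C.K := fun h => hwK (hfw ▸ mul_mem hfK h)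
  set c := e * w' * e⁻¹ * w'⁻¹ with hc
  obtain ⟨hcτ, -⟩ := O.comm_e_w hτ hw'A hw'K
  have hcg := O.zpowers_comm_e_w hτ hw'A hw'K
  have hcR : ∀ x ∈ E.R r, Commute x c := fun x hx => by
    obtain ⟨i, hi⟩ := mem_zpowers_iff.1 hcτ
    rw [hc, ← hi]; exact (show Commute x τ from hτ.2.2 x hx).zpow_right i
  have hew : e * w' * e⁻¹ = c * w' := by rw [hc]; group
  -- `[z, w'] ∈ ⟨τ⟩`
  set w'' := z * w' * z⁻¹ with hw''
  have hw''A : w'' ∈ O.A0 := O.A0_conj (E.U_le_H hzU) hw'A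
  have hzcm : Commute z c := by
    obtain ⟨i, hi⟩ := mem_zpowers_iff.1 hcτ
    rw [hc, ← hi]; exact hzτ.zpow_right i
  have hdK : w'' * w'⁻¹ ∈ O.C.K := by
    refine O.centralizer_e_le (mem_centralizer_singleton_iff.2 ?_)
    have h1 : e * w'' * e⁻¹ = c * w'' := by
      calc e * w'' * e⁻¹ = (e * z) * w' * (e * z)⁻¹ := by rw [hw'']; group
        _ = z * (e * w' * e⁻¹) * z⁻¹ := by rw [← hze.eq]; group
        _ = _ := by rw [hew, hw'', ← mul_assoc z c, hzcm.eq]; group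
    refine (mul_inv_eq_iff_eq_mul.1 ?_).symm
    calc e * (w'' * w'⁻¹) * e⁻¹ = (e * w'' * e⁻¹) * (e * w' * e⁻¹)⁻¹ := by group
      _ = c * (w'' * w'⁻¹) * c⁻¹ := by rw [h1, hew]; group
      _ = _ := by
        rw [← (hcR _ (mul_mem hw''A.1 (inv_mem hw'A.1))).eq, mul_inv_cancel_right]
  obtain ⟨p, q, hpq⟩ := O.exists_eq_of_A0 hτ (mul_mem hw''A (inv_mem hw'A)) hdK
  have hvτ : v * τ ^ q * v = (τ ^ q)⁻¹ := by
    have h := conj_zpow (i := q) (a := v) (b := τ)
    rw [hv.inv, O.center_inverted_all hF hv hτ.1 hτ.2.2, inv_zpow] at h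
    exact h.symm
  have hep : e ^ p = 1 := by
    have hvw'' : v * w'' * v⁻¹ = w''⁻¹ := by
      have hzv : Commute z v := (hv.mem_X.1 hzX).2.1
      calc v * w'' * v⁻¹ = (v * z) * w' * (v * z)⁻¹ := by rw [hw'']; group
        _ = z * (v * w' * v⁻¹) * z⁻¹ := by rw [← hzv.eq]; group
        _ = _ := by rw [hv.inv, hw'v, hw'']; group
    have hve : v * e ^ p * v⁻¹ = e ^ p := by
      rw [((show Commute v e from O.C.P_commute v (hall v hv)).zpow_right p).eq, mul_inv_cancel_right]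
    have hw2 : w'' = e ^ p * τ ^ q * w' := by rw [← hpq, inv_mul_cancel_right]
    have hτc : ∀ x ∈ E.R r, Commute x (τ ^ q) := fun x hx =>
      (show Commute x τ from hτ.2.2 x hx).zpow_right q
    have h2 : e ^ p * (τ ^ q)⁻¹ * w'⁻¹ = w'⁻¹ * (τ ^ q)⁻¹ * (e ^ p)⁻¹ := by
      calc e ^ p * (τ ^ q)⁻¹ * w'⁻¹
          = (v * e ^ p * v⁻¹) * (v * τ ^ q * v⁻¹) * (v * w' * v⁻¹) := by
            rw [hve, hv.inv, hvτ, hw'v]
        _ = v * (e ^ p * τ ^ q * w') * v⁻¹ := by group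
        _ = (e ^ p * τ ^ q * w')⁻¹ := by rw [← hw2, hvw'']
        _ = _ := by group
    have hep' : e ^ p ∈ E.R r := (E.R r).zpow_mem (O.fixR_le_R O.e_mem) p
    have h3 : e ^ p * w'⁻¹ = w'⁻¹ * (e ^ p)⁻¹ := by
      refine mul_left_cancel (a := (τ ^ q)⁻¹) ?_
      calc (τ ^ q)⁻¹ * (e ^ p * w'⁻¹) = e ^ p * (τ ^ q)⁻¹ * w'⁻¹ := by
            rw [← mul_assoc, (hτc _ hep').inv_right.eq]
        _ = w'⁻¹ * (τ ^ q)⁻¹ * (e ^ p)⁻¹ := h2
        _ = _ := by rw [(hτc _ (inv_mem hw'A.1)).inv_right.eq, mul_assoc]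
    by_contra hne
    refine hw'K (O.normalizer_le (zpowers_le.2 (zpow_mem O.e_mem p))
      (fun h => hne (zpowers_eq_bot.1 h)) (mem_normalizer_of_conj_le fun x hx => ?_))
    have h4 : w' * e ^ p * w'⁻¹ = (e ^ p)⁻¹ := by rw [mul_assoc, h3, mul_inv_cancel_left]
    obtain ⟨i, rfl⟩ := mem_zpowers_iff.1 hx
    rw [← conj_zpow, h4]
    exact zpow_mem (inv_mem (mem_zpowers _)) i
  rw [hep, one_mul] at hpq
  obtain ⟨j, hj⟩ := mem_zpowers_iff.1 (show τ ^ q ∈ zpowers c by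
    rw [hcg]; exact zpow_mem (mem_zpowers τ) q)
  -- `z e ^ (-j)` centralises `R`
  set z' := (e ^ j)⁻¹ * z with hz'
  have hzw : z * w' * z⁻¹ = c ^ j * w' := by rw [hj, ← hpq, hw'', inv_mul_cancel_right]
  have hz'w : Commute z' w' := commute_of_comm_left hew (hcR e O.e_mem.1) hzw
  have hejU : e ^ j ∈ E.U := zpow_mem (R_le_U E O.prime O.ne_two O.e_mem.1) j
  have hK' : ∀ x ∈ E.R r, x * e = e * x → Commute z' x := by
    intro x hx hxe
    have hxK : x ∈ O'.C.K := O'.centralizer_le hev O.e_ne (mem_centralizer_singleton_iff.2 hxe)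
    obtain ⟨f', y, hy1, hy2, hy3, rfl⟩ : ∃ f' y, f' ∈ O'.fixR ∧ y ∈ E.R r ⊓ O'.C.K ∧
        v * y * v = y⁻¹ ∧ x = f' * y := by
      obtain ⟨c', hc', y, hy, hyv, e'⟩ := O'.decompose ⟨hx, hxK⟩
      exact ⟨c', y, hc', hy, hyv, e'⟩
    have h1 : Commute z (f' * y) := (show Commute z f' from O'.P_commute_fix hzP hy1).mul_right
      (O'.commute_core_inverted hzc (R_le_U E O.prime O.ne_two hy2.1) hy2.2 hy3)
    exact (((show Commute e (f' * y) from hxe.symm).zpow_left j).inv_left).mul_left h1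
  have hz'R : ∀ x ∈ E.R r, z' * x = x * z' := by
    intro x hx
    have h1 : e * x * e⁻¹ * x⁻¹ ∈ zpowers c := by
      rw [hcg]; exact O.comm_A0 hτ heA hx
    obtain ⟨l, hl⟩ := mem_zpowers_iff.1 h1
    have hex : e * x * e⁻¹ = c ^ l * x := by rw [hl]; group
    have h2 := commute_of_comm hew (hcR w' hw'A.1) hex
    have h3 := hK' _ (mul_mem (inv_mem (zpow_mem hw'A.1 l)) hx) h2.symm.eq
    have h4 := (hz'w.zpow_right l).mul_right h3
    rwa [mul_inv_cancel_left] at h4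
  have hz'U : z' ∈ E.U := mul_mem (inv_mem hejU) hzU
  have hz'k : ∃ l, orderOf z' = r ^ l := by
    have hcom : Commute (e ^ j)⁻¹ z := ((hze.symm.zpow_left j)).inv_left
    have he1 : ((e ^ j)⁻¹) ^ r = 1 := by
      rw [inv_pow, ← zpow_natCast, ← zpow_mul, mul_comm, zpow_mul, zpow_natCast, he, O.e_pow_r,
        one_zpow, inv_one]
    have : z' ^ r ^ (k + 1) = 1 := by
      rw [hz', hcom.mul_pow, pow_succ', pow_mul, he1, one_pow, one_mul, mul_comm, pow_mul, hzk,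
        one_pow]
    obtain ⟨l, -, hl⟩ := (Nat.dvd_prime_pow O.prime).1 (orderOf_dvd_of_pow_eq_one this)
    exact ⟨l, hl⟩
  obtain ⟨l, hl⟩ := hz'k
  have hz'mem : z' ∈ E.R r := Max33.mem_R_of_fit E O.prime
    (O.mem_fit_of_centralizes hz'U fun m hm hm2 a ha => by
      by_cases hmr : m = r
      · subst hmr; exact hz'R a ha
      · exact O.centralizes_part hF z' hz'U m hm hmr hm2 a ha) hl
  have hzR : z ∈ E.R r := by
    rw [show z = e ^ j * z' by rw [hz', mul_inv_cancel_left]]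
    exact (E.R r).mul_mem ((E.R r).zpow_mem (O.fixR_le_R O.e_mem) j) hz'mem
  exact O.fixR_eq hF hv (hall v hv) O' ⟨hzR, hzX⟩

/-- Case (III). -/
theorem false_of_mem_A0 (hF : FalseOfLe E r) (hτ : IsTau E r τ) (heA : O.C.e ∈ O.A0) (hw : w ∈ O.A0)
    (hwK : w ∉ O.C.K) (hwb : b * w * b = w⁻¹) : False := by
  have hfix : ∀ v, E.Refl v → v ∈ O.C.K → ∀ y ∈ E.U, v * y * v = y⁻¹ → (orderOf y).Coprime r →
      r < orderOf y → ∃ n : ℕ, y ^ n ≠ 1 ∧ y ^ n * O.C.e = O.C.e * y ^ n := by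
    intro v hv hvK y hy hyv hcop hlt
    obtain ⟨n, hn0, hnr, a, i, hai⟩ := O.exists_line hF hτ heA hw hwK hwb hy
    have hodd := (E.mem_U.1 hy).2
    have hlt' : r + 1 < orderOf y := by
      have h1 := Nat.odd_iff.1 hodd
      have h2 := Nat.odd_iff.1 (O.prime.odd_of_ne_two O.ne_two)
      omega
    refine ⟨n * 2, fun h => ?_, ?_⟩
    · have h2 : orderOf y ∣ n :=
        (Nat.coprime_two_right.2 hodd).dvd_of_dvd_mul_right (orderOf_dvd_of_pow_eq_one h)
      have := Nat.le_of_dvd hn0 h2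
      omega
    · rw [pow_mul]
      refine O.sq_commute_e hF hτ heA hv hvK (pow_mem hy n) ?_
        (hcop.coprime_dvd_left (orderOf_pow_dvd n)) hai
      have h := conj_pow (i := n) (a := v) (b := y)
      rw [hv.inv, hyv, inv_pow] at h
      exact h.symm
  have hall := O.refl_mem_P hF fun v hv hvK => O.mem_P_of_mem hF hfix hv hvK
  refine false_heis O hall hτ.1 hτ.2.1 hτ.2.2 hw.1 hwK hwb (fun x hx => O.comm_A0 hτ hw hx)
    (fun x hx => O.comm_A0 hτ heA hx) (fun v hv x hx hxc => O.center_inverted_all hF hv hx hxc)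
    (fun m hm hmr hm2 x hx =>
      ⟨O.part_le_K hm hmr hx, fun v hv => O.part_inverted_all hF hv hm hm2 hmr hx⟩)
    (O.centralizes_center hF) (O.centralizes_part hF) (fun θ hS hθ => ?_)
    fun v hv => ?_
  · haveI : Finite θ.range := Finite.of_surjective θ.rangeRestrict θ.rangeRestrict_surjective
    have h := O.hom_eq_one hF θ.rangeRestrict (fun s hs x => Subtype.ext (hS s hs x))
      fun v O' g _ x _ z _ hzX hzP hzc =>
        Subtype.ext (hθ z (O.mem_fixR_of_rot hF hall hτ hw hwK heA O' hzX hzP hzc))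
    exact MonoidHom.ext fun x => congrArg Subtype.val (DFunLike.congr_fun h x)
  · obtain ⟨g, hg, h1, h2, -⟩ := O.exists_rot_of hF hv (hall v hv)
    exact ⟨g, hg, h1, h2⟩

end Out

end CfsgLib.GW.Max31
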