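import Cfsg.Agent.Lib.GW.Central
import Cfsg.Agent.Lib.Solvable.Fitting
import Cfsg.Agent.Lib.Tech46.Bender
import Cfsg.Agent.Lib.PF.OddOrder
import Cfsg.Agent.S0508
import Cfsg.Agent.Lib.ClassicalGroups.SmallIso

/-!
Gorenstein–Walter, Step 3.3: if every reflection inverts every `O_r(C(t))`, the group is `PSL₂(q)`.
-/

set_option autoImplicit false
set_option linter.style.haveILetI false
set_option linter.unusedSectionVars false

namespace CfsgLib.GW.Max33

open Subgroup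
open scoped commutatorElement

universe u

variable {G : Type u} [Group G] [Finite G] (E : Setup G)

/-- The hypothesis left by Steps 3.1 and 3.2. -/
def AllInverted : Prop :=
  ∀ r : ℕ, r.Prime → r ≠ 2 → ∀ b : G, E.Refl b → E.R r ⊓ E.X b = ⊥

theorem solvable_H : Group.IsSolvable E.H := by
  haveI : Fact (Nat.Prime 2) := ⟨Nat.prime_two⟩
  let N : Subgroup E.H := E.U.subgroupOf E.H
  haveI hNn : N.Normal := ⟨fun x hx k => mem_subgroupOf.2 (E.conj_mem_U k.2 (mem_subgroupOf.1 hx))⟩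
  haveI : Group.IsSolvable N := CfsgLib.PF.oddSolvable N
    (by rw [Nat.card_congr (subgroupOfEquivOfLe E.U_le_H).toEquiv]; exact E.odd_card_U)
  have hc : Nat.card (E.H ⧸ N) = Nat.card (E.S : Subgroup G) := by
    have h1 := N.card_mul_index
    rw [Nat.card_congr (subgroupOfEquivOfLe E.U_le_H).toEquiv, E.card_H, ← index_eq_card] at *
    exact Nat.eq_of_mul_eq_mul_left Nat.card_pos h1
  haveI : Group.IsNilpotent (E.H ⧸ N) :=
    (IsPGroup.of_card (p := 2) (by rw [hc, E.card_S]) : IsPGroup 2 (E.H ⧸ N)).isNilpotent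
  exact Group.isSolvable_of_ker_le_range N.subtype (QuotientGroup.mk' N)
    (by rw [QuotientGroup.ker_mk', range_subtype])

theorem mem_R_of_fit {r : ℕ} (hr : r.Prime) {y : G} {k : ℕ} (hy : y ∈ fitIn E.H)
    (hk : orderOf y = r ^ k) : y ∈ E.R r := by
  haveI : Fact r.Prime := ⟨hr⟩
  obtain ⟨f, hf, rfl⟩ := hy
  refine ⟨f, Cfsg.Agent.S1312.pgroup_le_fitting_le_pCore (A := zpowers f) ?_ (zpowers_le.2 hf)
    (mem_zpowers f), rfl⟩
  exact IsPGroup.of_card (n := k) (by rw [Nat.card_zpowers, ← Subgroup.orderOf_coe]; exact hk)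

/-- A reflection fixes only `1` in the odd part of `F(C(t))`. -/
theorem eq_one_of_fixed (hA : AllInverted E) {b : G} (hb : E.Refl b) {x : G} (hx : x ∈ E.X b)
    (hxF : x ∈ fitIn E.H) : x = 1 := by
  by_contra hne
  obtain ⟨p, hp, hpd⟩ := Nat.exists_prime_and_dvd (n := orderOf x)
    (fun h => hne (orderOf_eq_one_iff.1 h))
  set y := x ^ (orderOf x / p) with hy
  have hyo : orderOf y = p ^ 1 := by
    rw [pow_one, hy, orderOf_pow_of_dvd ?_ (Nat.div_dvd_of_dvd hpd),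
      Nat.div_div_self hpd (orderOf_pos x).ne']
    exact (Nat.div_pos (Nat.le_of_dvd (orderOf_pos x) hpd) hp.pos).ne'
  have hp2 : p ≠ 2 := by
    rintro rfl
    exact (Nat.not_even_iff_odd.2 (hb.mem_X.1 hx).2.2) (even_iff_two_dvd.2 hpd)
  have h1 : y ∈ E.R p ⊓ E.X b := ⟨mem_R_of_fit E hp (pow_mem hxF _) hyo, pow_mem hx _⟩
  rw [hA p hp hp2 b hb, mem_bot] at h1
  rw [h1, orderOf_one, pow_one] at hyo
  exact hp.one_lt.ne hyo

/-- A reflection inverts `O_r(C(t))`. -/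
theorem inverts (hA : AllInverted E) {b : G} (hb : E.Refl b) {r : ℕ} (hr : r.Prime) (hr2 : r ≠ 2)
    {y : G} (hy : y ∈ E.R r) : b * y * b = y⁻¹ := by
  haveI : Fact r.Prime := ⟨hr⟩
  have hodd : Odd (Nat.card (E.R r)) := by
    obtain ⟨k, hk⟩ := IsPGroup.iff_card.1 (Cfsg.Tech46.Bender.coreIn_isPGroup hr E.H)
    show Odd (Nat.card (Cfsg.Agent.S1312.coreIn r E.H))
    rw [hk]
    exact (hr.odd_of_ne_two hr2).pow
  have hn : ∀ w ∈ E.R r, b * w * b ∈ E.R r := fun w hw => by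
    have := (mem_normalizer_iff.1 (Cfsg.Tech46.Bender.coreIn_le_normalizer r E.H hb.mem_H) w).1 hw
    rwa [hb.inv] at this
  obtain ⟨c, z, hc, hcb, -, hzb, rfl⟩ :=
    CfsgLib.RankOneInvol.exists_fixed_mul_inverted hodd hb.sq hn hy
  have hcH : c ∈ E.H := coreIn_le' E r hc
  have hcc : c * b = b * c := by
    calc c * b = b * c * b * b := by rw [hcb]
      _ = b * c := by rw [mul_assoc, hb.sq, mul_one]
  have h1 : c ∈ E.R r ⊓ E.X b := ⟨hc, hb.mem_X.2 ⟨E.mem_H.1 hcH, hcc,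
    CfsgLib.RankOneInvol.odd_orderOf_of_mem hodd hc⟩⟩
  rw [hA r hr hr2 b hb, mem_bot] at h1
  rw [h1, one_mul]
  exact hzb
where
  coreIn_le' (E : Setup G) (r : ℕ) {c : G} (hc : c ∈ E.R r) : c ∈ E.H := map_subtype_le _ hc

/-- Modulo `F(C(t))` every reflection centralises `U`. -/
theorem commutator_mem_fit (hA : AllInverted E) {b : G} (hb : E.Refl b) {x : G} (hx : x ∈ E.U) :
    x⁻¹ * (b * x * b) ∈ fitIn E.H := by
  haveI := solvable_H E
  have hxH := E.U_le_H hx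
  have hwU : x⁻¹ * (b * x * b) ∈ E.U := mul_mem (inv_mem hx) (by
    have := E.conj_mem_U hb.mem_H hx; rwa [hb.inv] at this)
  set w := x⁻¹ * (b * x * b) with hw
  refine ⟨⟨w, E.U_le_H hwU⟩, CfsgLib.Fitting.centralizer_fitting_le ?_, rfl⟩
  rw [mem_centralizer_iff]
  intro f hf
  refine Subtype.ext ?_
  refine ((Cfsg.Tech46.Bender.commute_of_parts (mem_map_of_mem E.H.subtype hf)
    fun r hr y _ hy => ?_).symm).eq
  by_cases hr2 : r = 2
  · subst hr2
    refine Cfsg.Tech46.Bender.commute_of_disjoint (A := E.U) (B := Cfsg.Agent.S1312.coreIn 2 E.H)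
      ?_ hwU hy (Cfsg.Tech46.Bender.coreIn_le_normalizer 2 E.H (E.U_le_H hwU)) ?_
    · rw [disjoint_iff]
      haveI : Fact (Nat.Prime 2) := ⟨Nat.prime_two⟩
      refine CfsgLib.PCore.eq_bot_of_isPGroup_coprime
        ((Cfsg.Tech46.Bender.coreIn_isPGroup Nat.prime_two E.H).to_le inf_le_right) ?_
      exact Nat.Coprime.coprime_dvd_left (card_dvd_of_le inf_le_left)
        (Nat.coprime_two_right.2 E.odd_card_U)
    · rw [mem_normalizer_iff]
      have hyH : y ∈ E.H := map_subtype_le _ hy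
      refine fun u => ⟨fun hu => E.conj_mem_U hyH hu, fun hu => ?_⟩
      have := E.conj_mem_U (inv_mem hyH) hu
      simpa [mul_assoc] using this
  · have hyR : y ∈ E.R r := hy
    have hxy : x * y⁻¹ * x⁻¹ ∈ E.R r :=
      (mem_normalizer_iff.1 (Cfsg.Tech46.Bender.coreIn_le_normalizer r E.H hxH) _).1 (inv_mem hyR)
    have h1 := inverts E hA hb hr hr2 hyR
    have h2 := inverts E hA hb hr hr2 hxy
    show w * y = y * w
    have h3 : (b * x * b) * y = (x * y * x⁻¹) * (b * x * b) := by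
      calc b * x * b * y = b * x * (b * y * b) * b := by
            simp only [mul_assoc, hb.sq, mul_one]
        _ = b * (x * y⁻¹ * x⁻¹) * x * b := by rw [h1]; group
        _ = (b * (x * y⁻¹ * x⁻¹) * b) * (b * x * b) := by
            simp only [mul_assoc]; rw [← mul_assoc b b, hb.sq, one_mul]
        _ = _ := by rw [h2]; group
    rw [hw, mul_assoc, h3]
    group

/-- The character hypothesis supplied by the block-theoretic lemma. -/
def LinearAbelian : Prop :=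
  ∀ θ : E.U →* ℂˣ, θ ≠ 1 →
    (∀ s ∈ (E.S : Subgroup G), ∀ x y : E.U, s * (x : G) * s⁻¹ = y → θ y = θ x) →
    (1 ≤ E.d.k → ∀ b, E.Refl b → ∃ g : G, g * E.t * g⁻¹ = b ∧ g * b * g⁻¹ = b * E.t ∧
      ∀ x y : E.U, (x : G) ∈ E.X b → g * (x : G) * g⁻¹ = y → θ y = θ x) →
    (∀ b, E.Refl b → ∀ x : E.U, (x : G) ∈ E.X b → (x : G) ∈ fitIn E.H → x = 1) →
    ∀ x ∈ E.U, ∀ y ∈ E.U, x * y = y * x

theorem conj_mem_fit {h x : G} (hh : h ∈ E.H) (hx : x ∈ fitIn E.H) : h * x * h⁻¹ ∈ fitIn E.H := by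
  obtain ⟨f, hf, rfl⟩ := hx
  exact ⟨⟨h, hh⟩ * f * ⟨h, hh⟩⁻¹, (CfsgLib.Fitting.fitting_normal (G := E.H)).conj_mem f hf _, rfl⟩

/-- Every element of `S` centralises `U` modulo `F(H)`. -/
theorem sylow_commutator_mem_fit (hA : AllInverted E) {s x : G} (hs : s ∈ (E.S : Subgroup G))
    (hx : x ∈ E.U) : x⁻¹ * (s * x * s⁻¹) ∈ fitIn E.H := by
  have key : ∀ v : G, E.Refl v → x⁻¹ * (v * x * v⁻¹) ∈ fitIn E.H := fun v hv => by
    rw [hv.inv]; exact commutator_mem_fit E hA hv hx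
  by_cases hsr : s ∈ zpowers E.d.r
  · have hsa : E.Refl (s * E.d.a) := ⟨mul_mem hs E.d.a_mem, E.d.mul_refl hsr E.d.a_notMem⟩
    have e : x⁻¹ * (s * x * s⁻¹) = x⁻¹ * (s * E.d.a * x * (s * E.d.a)⁻¹) *
        (s * E.d.a * (x⁻¹ * (E.d.a * x * E.d.a⁻¹)) * (s * E.d.a)⁻¹) := by
      have e2 : s = s * E.d.a * E.d.a := by rw [mul_assoc, E.d.sq, mul_one]
      conv_lhs => rw [e2]
      group
    rw [e]
    exact mul_mem (key _ hsa) (conj_mem_fit E hsa.mem_H (key _ E.refl_a))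
  · exact key s ⟨hs, hsr⟩

/-- For `|S| ≥ 8` a rotation of the four-group acts on `X` as an inner automorphism. -/
theorem exists_inner (hA : AllInverted E) (hk : 1 ≤ E.d.k) {b : G} (hb : E.Refl b) :
    ∃ g : G, g * E.t * g⁻¹ = b ∧ g * b * g⁻¹ = b * E.t ∧
      ∃ c ∈ E.X b, ∀ x ∈ E.X b, g * x * g⁻¹ = c * x * c⁻¹ := by
  obtain ⟨g, hgt, hgb, hgbt⟩ := hb.exists_rot
  obtain ⟨hσt, hσb⟩ := hb.swap hk
  set σ := E.d.t with hσ
  have hσS : σ ∈ (E.S : Subgroup G) := E.d.t_mem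
  have hσt' : σ⁻¹ * E.t * σ = E.t := by
    calc σ⁻¹ * E.t * σ = σ⁻¹ * (σ * E.t * σ⁻¹) * σ := by rw [hσt]
      _ = E.t := by group
  have hσbt : σ * (b * E.t) * σ⁻¹ = b := by
    calc σ * (b * E.t) * σ⁻¹ = σ * b * σ⁻¹ * (σ * E.t * σ⁻¹) := by group
      _ = b := by rw [hσb, hσt, mul_assoc, E.t_sq, mul_one]
  have hσX : ∀ x ∈ E.X b, σ * x * σ⁻¹ = x := by
    intro x hx
    obtain ⟨h1, h2, h3⟩ := hb.mem_X.1 hx
    have hmem : σ * x * σ⁻¹ ∈ E.X b := by
      have e1 := Setup.commute_conj (g := σ) h1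
      have e2 := Setup.commute_conj (g := σ) h2
      rw [hσt] at e1
      rw [hσb] at e2
      refine hb.mem_X.2 ⟨e1, ?_, CfsgLib.RankOneInvol.odd_orderOf_conj h3 σ⟩
      have := (show Commute (σ * x * σ⁻¹) (b * E.t) from e2).mul_right
        (show Commute (σ * x * σ⁻¹) E.t from e1)
      rw [show b * E.t * E.t = b by rw [mul_assoc, E.t_sq, mul_one]] at this
      exact this.eq
    exact (inv_mul_eq_one.1 (eq_one_of_fixed E hA hb (mul_mem (inv_mem hx) hmem)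
      (sylow_commutator_mem_fit E hA hσS hx.1))).symm
  have hσb' : σ⁻¹ * b * σ = b * E.t := by
    calc σ⁻¹ * b * σ = σ⁻¹ * (σ * (b * E.t) * σ⁻¹) * σ := by rw [hσbt]
      _ = b * E.t := by group
  have hσX' : ∀ w ∈ E.X b, σ⁻¹ * w * σ = w := fun w hw => by
    calc σ⁻¹ * w * σ = σ⁻¹ * (σ * w * σ⁻¹) * σ := by rw [hσX w hw]
      _ = w := by group
  have hcomp : ∀ u w : G, ∀ a a' a'' : G, u * a * u⁻¹ = a' → w * a' * w⁻¹ = a'' →
      w * u * a * (w * u)⁻¹ = a'' := fun u w a a' a'' h1 h2 => by rw [← h2, ← h1]; group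
  -- elements fixing `t` and `b` act on `X` as inner automorphisms
  have inner : ∀ k : G, k * E.t * k⁻¹ = E.t → k * b * k⁻¹ = b →
      ∃ y ∈ E.X b, ∀ x ∈ E.X b, k * x * k⁻¹ = y * x * y⁻¹ := by
    intro k h1 h2
    obtain ⟨v, hv, y, hy, rfl⟩ := hb.exists_eq_mul (mul_inv_eq_iff_eq_mul.1 h1) (mul_inv_eq_iff_eq_mul.1 h2)
    refine ⟨y, hy, fun x hx => ?_⟩
    have hzX : y * x * y⁻¹ ∈ E.X b := mul_mem (mul_mem hy hx) (inv_mem hy)
    obtain ⟨q1, q2, -⟩ := hb.mem_X.1 hzX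
    have hvz : v * (y * x * y⁻¹) = y * x * y⁻¹ * v := by
      rcases hv with rfl | rfl | rfl | rfl
      · rw [one_mul, mul_one]
      · exact q1.symm
      · exact q2.symm
      · exact ((show Commute (y * x * y⁻¹) b from q2).mul_right q1).eq.symm
    calc v * y * x * (v * y)⁻¹ = v * (y * x * y⁻¹) * v⁻¹ := by group
      _ = y * x * y⁻¹ := by rw [hvz, mul_inv_cancel_right]
  -- `σ g σ⁻¹` acts on the four-group as `g⁻¹`
  obtain ⟨y, hy, hky⟩ := inner (g * (σ * g * σ⁻¹))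
    (hcomp _ g E.t (b * E.t) E.t (by
      rw [show σ * g * σ⁻¹ * E.t * (σ * g * σ⁻¹)⁻¹ = σ * (g * (σ⁻¹ * E.t * σ) * g⁻¹) * σ⁻¹ by group,
        hσt', hgt, hσb]) hgbt)
    (hcomp _ g b E.t b (by
      rw [show σ * g * σ⁻¹ * b * (σ * g * σ⁻¹)⁻¹ = σ * (g * (σ⁻¹ * b * σ) * g⁻¹) * σ⁻¹ by group,
        hσb', hgbt, hσt]) hgt)
  obtain ⟨z, hz, hkz⟩ := inner (g * g * g)
    (hcomp g (g * g) E.t b E.t hgt (hcomp g g b (b * E.t) E.t hgb hgbt))
    (hcomp g (g * g) b (b * E.t) b hgb (hcomp g g (b * E.t) E.t b hgbt hgt))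
  refine ⟨g, hgt, hgb, z * y⁻¹, mul_mem hz (inv_mem hy), fun x hx => ?_⟩
  have hg2 : ∀ w ∈ E.X b, g * g * w * (g * g)⁻¹ = y * w * y⁻¹ := by
    intro w hw
    have hgw := hb.conj_mem_X hgt hgb hw
    rw [← hky w hw,
      show g * (σ * g * σ⁻¹) * w * (g * (σ * g * σ⁻¹))⁻¹ =
        g * (σ * (g * (σ⁻¹ * w * σ) * g⁻¹) * σ⁻¹) * g⁻¹ by group,
      hσX' w hw, hσX _ hgw]
    group
  have hw : y⁻¹ * x * y ∈ E.X b := mul_mem (mul_mem (inv_mem hy) hx) hy
  have e1 := hg2 _ hw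
  rw [show y * (y⁻¹ * x * y) * y⁻¹ = x by group] at e1
  calc g * x * g⁻¹ = g * (g * g * (y⁻¹ * x * y) * (g * g)⁻¹) * g⁻¹ := by rw [e1]
    _ = g * g * g * (y⁻¹ * x * y) * (g * g * g)⁻¹ := by group
    _ = z * y⁻¹ * x * (z * y⁻¹)⁻¹ := by rw [hkz _ hw]; group

/-- With every reflection inverting `F`, the odd core `U` is abelian. -/
theorem comm_U (hA : AllInverted E) (hLA : LinearAbelian E) :
    ∀ x ∈ E.U, ∀ y ∈ E.U, x * y = y * x := by
  classical
  let N : Subgroup E.U := (fitIn E.H).subgroupOf E.U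
  haveI hNn : N.Normal := ⟨fun x hx k =>
    mem_subgroupOf.2 (conj_mem_fit E (E.U_le_H k.2) (mem_subgroupOf.1 hx))⟩
  by_cases htop : N = ⊤
  · -- `U ≤ F(H)`; the trivial case
    exact nilpotent_case htop
  haveI : Group.IsSolvable E.U := CfsgLib.PF.oddSolvable E.U E.odd_card_U
  haveI : Nontrivial (E.U ⧸ N) := QuotientGroup.nontrivial_iff.2 htop
  obtain ⟨q, hq⟩ : ∃ q : Abelianization (E.U ⧸ N), q ≠ 1 := by
    have hlt := Group.IsSolvable.commutator_lt_top_of_nontrivial (G := E.U ⧸ N)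
    obtain ⟨x, -, hx⟩ := SetLike.exists_of_lt hlt
    exact ⟨Abelianization.of x, fun h => hx ((QuotientGroup.eq_one_iff x).1 h)⟩
  obtain ⟨φ, hφ⟩ := CommGroup.exists_apply_ne_one_of_hasEnoughRootsOfUnity _ ℂ hq
  set θ : E.U →* ℂˣ := (φ.comp Abelianization.of).comp (QuotientGroup.mk' N) with hθ
  have hθ1 : θ ≠ 1 := by
    obtain ⟨y, rfl⟩ := QuotientGroup.mk_surjective q
    obtain ⟨x, rfl⟩ := QuotientGroup.mk_surjective y
    exact fun h => hφ (DFunLike.congr_fun h x)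
  have hker : ∀ x y : E.U, (x : G)⁻¹ * y ∈ fitIn E.H → θ y = θ x := fun x y h => by
    have h1 : θ (x⁻¹ * y) = 1 := by
      have hmem : x⁻¹ * y ∈ N := mem_subgroupOf.2 h
      rw [hθ]
      show φ (Abelianization.of (QuotientGroup.mk' N (x⁻¹ * y))) = 1
      rw [(QuotientGroup.eq_one_iff _).2 hmem |> fun e : QuotientGroup.mk' N (x⁻¹ * y) = 1 => e,
        map_one, map_one]
    rwa [map_mul, map_inv, inv_mul_eq_one, eq_comm] at h1
  refine hLA θ hθ1 (fun s hs x y h => hker x y ?_) (fun hk b hb => ?_)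
    (fun b hb x hx hxF => Subtype.ext (eq_one_of_fixed E hA hb hx hxF))
  · rw [← h]
    exact sylow_commutator_mem_fit E hA hs x.2
  · obtain ⟨g, h1, h2, c, hc, hconj⟩ := exists_inner E hA hk hb
    refine ⟨g, h1, h2, fun x y hx h => ?_⟩
    have hy : y = (⟨c, hc.1⟩ : E.U) * x * (⟨c, hc.1⟩ : E.U)⁻¹ :=
      Subtype.ext (h.symm.trans (hconj _ hx))
    rw [hy, map_mul, map_mul, map_inv, mul_comm (θ _) (θ x), mul_inv_cancel_right]
where
  nilpotent_case (h : (fitIn E.H).subgroupOf E.U = ⊤) : ∀ x ∈ E.U, ∀ y ∈ E.U, x * y = y * x := by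
    have hb := E.refl_a
    have hn : ∀ w ∈ E.U, E.d.a * w * E.d.a ∈ E.U := fun w hw => by
      have := E.conj_mem_U hb.mem_H hw
      rwa [hb.inv] at this
    have hinv : ∀ w ∈ E.U, E.d.a * w * E.d.a = w⁻¹ := by
      intro w hw
      obtain ⟨c, z, hc, hcb, -, hzb, rfl⟩ :=
        CfsgLib.RankOneInvol.exists_fixed_mul_inverted E.odd_card_U hb.sq hn hw
      have hcF : c ∈ fitIn E.H := by
        have h1 : (⟨c, hc⟩ : E.U) ∈ (fitIn E.H).subgroupOf E.U := h ▸ mem_top _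
        exact mem_subgroupOf.1 h1
      have hc1 := eq_one_of_fixed E hA hb (hb.mem_X.2 ⟨(E.mem_U.1 hc).1, by
        calc c * E.d.a = E.d.a * c * E.d.a * E.d.a := by rw [hcb]
          _ = E.d.a * c := by rw [mul_assoc, hb.sq, mul_one], (E.mem_U.1 hc).2⟩) hcF
      rw [hc1, one_mul]
      exact hzb
    intro x hx y hy
    have h1 := hinv _ (mul_mem hx hy)
    rw [show E.d.a * (x * y) * E.d.a = (E.d.a * x * E.d.a) * (E.d.a * y * E.d.a) by
      simp only [mul_assoc]; rw [← mul_assoc E.d.a E.d.a (y * E.d.a), E.d.sq, one_mul],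
      hinv x hx, hinv y hy, mul_inv_rev] at h1
    exact inv_injective (by rw [mul_inv_rev, mul_inv_rev]; exact h1.symm)

include E in
/-- A simple group with dihedral Sylow 2-subgroups isomorphic to `PSL₂(q)` has `q > 3`. -/
theorem isPSLOrA7_of_equiv {F : Type} [Field F] [Fintype F] (hodd : Odd (Fintype.card F))
    (f : G ≃* Matrix.ProjectiveSpecialLinearGroup (Fin 2) F) : IsPSLOrA7 G := by
  classical
  haveI := E.simple
  refine Or.inl ⟨F, inferInstance, inferInstance, hodd, ?_, ⟨f⟩⟩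
  by_contra hcard
  have hF : Fintype.card F = 3 := by
    have h2 := Fintype.one_lt_card (α := F)
    rcases hodd with ⟨l, hl⟩
    omega
  have hG : Nat.card G = 12 := by
    obtain ⟨e⟩ := CfsgLib.ClassicalGroups.psl_two_three_alternating (K := F) hF
    rw [Nat.card_congr (f.trans e).toEquiv, nat_card_alternatingGroup, Nat.card_fin]
    rfl
  have h1 := E.H.card_mul_index
  have h4 : 4 ≤ Nat.card E.H := by
    rw [E.card_H, E.card_S, pow_add, ← mul_assoc]
    exact Nat.le_mul_of_pos_left 4 (Nat.mul_pos Nat.card_pos (Nat.two_pow_pos _))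
  have h5 : E.H.index ≤ 3 := by
    rw [hG] at h1
    nlinarith
  have hinj : Function.Injective (MulAction.toPermHom G (G ⧸ E.H)) := by
    rw [← MonoidHom.ker_eq_bot_iff, ← normalCore_eq_ker]
    refine (E.eq_bot_or_top (normalCore_normal E.H)).resolve_right fun h => E.H_ne_top ?_
    exact top_le_iff.1 (h ▸ normalCore_le E.H)
  have h6 := Nat.card_le_card_of_injective _ hinj
  rw [Nat.card_perm, ← index_eq_card, hG] at h6
  have := h6.trans (Nat.factorial_le h5)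
  norm_num [Nat.factorial] at this

/-- With `U` abelian and every reflection inverting it, the group is `PSL₂(q)`. -/
theorem isPSL_of_comm (hH : IsCoatom E.H) (hU : E.U ≠ ⊥) (hA : AllInverted E)
    (hcomm : ∀ x ∈ E.U, ∀ y ∈ E.U, x * y = y * x) : IsPSLOrA7 G := by
  classical
  haveI := E.simple
  haveI := solvable_H E
  have hUF : E.U ≤ fitIn E.H := fun x hx => by
    haveI : Group.IsNilpotent (E.U.subgroupOf E.H) := by
      letI : CommGroup (E.U.subgroupOf E.H) :=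
        { (inferInstance : Group (E.U.subgroupOf E.H)) with
          mul_comm := fun a b => Subtype.ext (Subtype.ext (hcomm _ (mem_subgroupOf.1 a.2) _ (mem_subgroupOf.1 b.2))) }
      infer_instance
    exact ⟨⟨x, E.U_le_H hx⟩, CfsgLib.Fitting.le_fitting
      ⟨fun y hy k => mem_subgroupOf.2 (E.conj_mem_U k.2 (mem_subgroupOf.1 hy))⟩ inferInstance
      (mem_subgroupOf.2 hx), rfl⟩
  have hinv : ∀ b, E.Refl b → ∀ w ∈ E.U, b * w * b⁻¹ = w⁻¹ := by
    intro b hb w hw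
    have hn : ∀ u ∈ E.U, b * u * b ∈ E.U := fun u hu => by
      have := E.conj_mem_U hb.mem_H hu
      rwa [hb.inv] at this
    obtain ⟨c, z, hc, hcb, -, hzb, rfl⟩ :=
      CfsgLib.RankOneInvol.exists_fixed_mul_inverted E.odd_card_U hb.sq hn hw
    have hc1 := eq_one_of_fixed E hA hb (hb.mem_X.2 ⟨(E.mem_U.1 hc).1, by
      calc c * b = b * c * b * b := by rw [hcb]
        _ = b * c := by rw [mul_assoc, hb.sq, mul_one], (E.mem_U.1 hc).2⟩) (hUF hc)
    rw [hc1, one_mul, hb.inv]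
    exact hzb
  have hrot : ∀ s ∈ zpowers E.d.r, ∀ w ∈ E.U, s * w * s⁻¹ = w := by
    intro s hs w hw
    have hsa : E.Refl (s * E.d.a) :=
      ⟨mul_mem (E.d.rot_le hs) E.d.a_mem, E.d.mul_refl hs E.d.a_notMem⟩
    calc s * w * s⁻¹ = s * E.d.a * (E.d.a⁻¹ * w * E.d.a) * (s * E.d.a)⁻¹ := by group
      _ = (s * E.d.a * (E.d.a * w * E.d.a⁻¹) * (s * E.d.a)⁻¹) := by rw [E.d.a_inv]
      _ = s * E.d.a * w⁻¹ * (s * E.d.a)⁻¹ := by rw [hinv _ E.refl_a w hw]
      _ = w := by rw [hinv _ hsa w⁻¹ (inv_mem hw), inv_inv]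
  set C := centralizer (E.U : Set G) with hC
  have hSC : (E.S : Subgroup G) ⊓ C = zpowers E.d.r := by
    refine le_antisymm (fun s hs => ?_) fun s hs => ⟨E.d.rot_le hs, ?_⟩
    · by_contra hsr
      apply hU
      rw [eq_bot_iff]
      intro w hw
      rw [mem_bot]
      refine CfsgLib.RankOneInvol.eq_one_of_sq_of_odd (E.mem_U.1 hw).2 ?_
      have h1 := hinv s ⟨hs.1, hsr⟩ w hw
      rw [← mem_centralizer_iff.1 hs.2 w hw, mul_inv_cancel_right] at h1
      nth_rewrite 1 [h1]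
      exact inv_mul_cancel w
    · show s ∈ centralizer (E.U : Set G)
      rw [mem_centralizer_iff]
      exact fun w hw => (mul_inv_eq_iff_eq_mul.1 (hrot s hs w hw)).symm
  obtain ⟨F, i1, i2, hodd, ⟨f⟩⟩ := Cfsg.Agent.S0508.result E.S E.m E.two_le E.eS E.t E.orderOf_t
    E.t_mem_S (fun s hs => E.d.z_central hs) E.U rfl
    (fun _ => ⟨by rw [hSC]; infer_instance, by rw [hSC]; exact E.relIndex_rot⟩)
    (fun s hs hsC w hw => hinv s ⟨hs, fun h => hsC (hSC.ge h).2⟩ w hw)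
    (fun Y hY hY1 => by
      have hle : E.H ≤ normalizer (Y : Set G) := by
        rw [le_normalizer_iff]
        intro h hh y hy
        obtain ⟨u, hu, s, hs, rfl⟩ := E.exists_mul hh
        have h1 : s * y * s⁻¹ ∈ Y := by
          by_cases hsr : s ∈ zpowers E.d.r
          · rwa [hrot s hsr y (hY hy)]
          · rw [hinv s ⟨hs, hsr⟩ y (hY hy)]; exact inv_mem hy
        rw [show u * s * y * (u * s)⁻¹ = u * (s * y * s⁻¹) * u⁻¹ by group,
          hcomm u hu _ (hY h1), mul_inv_cancel_right]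
        exact h1
      rcases hH.le_iff.1 hle with h | h
      · exfalso
        rcases E.eq_bot_or_top (normalizer_eq_top_iff.1 h) with h' | h'
        · exact hY1 h'
        · exact E.H_ne_top (top_le_iff.1 (h' ▸ hY.trans E.U_le_H))
      · exact h.le)
  exact isPSLOrA7_of_equiv E hodd f

theorem isPSL (hH : IsCoatom E.H) (hU : E.U ≠ ⊥) (hA : AllInverted E) (hLA : LinearAbelian E) :
    IsPSLOrA7 G :=
  isPSL_of_comm E hH hU hA (comm_U E hA hLA)

end CfsgLib.GW.Max33
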