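import Cfsg.Agent.Lib.GW.Max31OutPlane
import Cfsg.Agent.Lib.GW.Max31OutField
import Cfsg.Agent.Lib.Solvable.Fitting
import Cfsg.Agent.Lib.GW.Max33

/-!
Gorenstein–Walter, Step 3.1 e, third part: for odd `m ≠ r` the group `O_m(C(t))` is cyclic, inverted
by `b` and contained in `K`; criteria for lying in the Fitting subgroup of `C(t)`.
-/

set_option autoImplicit false
set_option linter.style.haveILetI false
set_option linter.unusedSectionVars false

namespace CfsgLib.GW.Max31.Out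

open Subgroup

universe u

variable {G : Type u} [Group G] [Finite G]

theorem mul_b_b {b x : G} (h : b * x * b = x) (hb2 : b * b = 1) : x * b = b * x := by
  calc x * b = b * x * b * b := by rw [h]
    _ = b * x := by rw [mul_assoc, hb2, mul_one]

variable {E : Setup G} {b : G} {r : ℕ} (O : Out E b r)

include O

/-- An element of `O(C(t))` inverted by `b` inside `O(K)` is trivial. -/
theorem eq_one_of_inv_mem_core {x : G} (hx : x ∈ E.U) (hi : b * x * b = x⁻¹)
    (hc : x ∈ coreIn O.C.K) : x = 1 := by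
  have h := O.core_fixed hc
  rw [← h, mul_assoc, O.refl.sq, mul_one] at hi
  exact CfsgLib.RankOneInvol.eq_one_of_sq_of_odd (E.mem_U.1 hx).2 (mul_eq_one_iff_eq_inv.2 hi)

/-- The image of an inverted element of `O(C(t)) ∩ K` lies in the socle. -/
theorem bar_inverted_mem {x : G} (hxK : x ∈ O.C.K) (hx : Odd (orderOf x))
    (hi : b * x * b = x⁻¹) : bar O.C.K ⟨x, hxK⟩ ∈ topL O.C.K := by
  refine mem_of_inverted O.topData.normal (b := bar O.C.K ⟨b, O.b_mem_K⟩)
    (bar_mem_topL (O.perf_K.symm ▸ O.C.b_mem)) ?_ ?_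
  · rw [← map_inv, ← map_mul, ← map_mul, ← map_inv]
    exact congrArg _ (Subtype.ext (show b * x * b⁻¹ = x⁻¹ by rw [O.refl.inv, hi]))
  · refine hx.of_dvd_nat ?_
    rw [← Subgroup.orderOf_mk x hxK]
    exact orderOf_map_dvd _ _

/-- A subgroup of `O(C(t)) ∩ K` inverted by `b` is cyclic. -/
theorem isCyclic_of_inverted {A : Subgroup G} (hAU : A ≤ E.U) (hAK : A ≤ O.C.K)
    (hinv : ∀ x ∈ A, b * x * b = x⁻¹) : IsCyclic A := by
  classical
  haveI := O.topData.normal
  set K := O.C.K with hK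
  set π := bar K
  let f : A →* K ⧸ Cfsg.oddCore K := π.comp (Subgroup.inclusion hAK)
  have hf : Function.Injective f := (injective_iff_map_eq_one f).2 fun x hx => Subtype.ext
    (O.eq_one_of_inv_mem_core (hAU x.2) (hinv _ x.2) (bar_eq_one.1 hx))
  set t' := π ⟨E.t, O.t_mem_K⟩
  have ht2 : orderOf t' = 2 := orderOf_bar E.orderOf_t
  have hodd : Odd (Nat.card f.range) := by
    rw [← Nat.card_congr (MonoidHom.ofInjective hf).toEquiv]
    exact E.odd_card_U.of_dvd_nat (card_dvd_of_le hAU)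
  have hcomm : ∀ y ∈ f.range, y * t' = t' * y := by
    rintro _ ⟨x, rfl⟩
    show π _ * π _ = π _ * π _
    rw [← map_mul, ← map_mul]
    exact congrArg π (Subtype.ext (E.mem_U.1 (hAU x.2)).1)
  haveI : IsCyclic f.range := by
    rcases O.topData.shape with ⟨F, i1, i2, hoddF, h3, ⟨g⟩⟩ | ⟨⟨ψ⟩⟩
    · have h := psl_of_topData O.topData hoddF h3 g
      haveI := h.isCyclic_torus ht2
      refine isCyclic_of_injective (Subgroup.inclusion (K := Field.torus (topL K) t') ?_)
        (Subgroup.inclusion_injective _)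
      rintro _ ⟨x, rfl⟩
      exact (h.mem_torus ht2).2 ⟨O.bar_inverted_mem (hAK x.2) (E.mem_U.1 (hAU x.2)).2 (hinv _ x.2),
        hcomm _ ⟨x, rfl⟩, CfsgLib.RankOneInvol.odd_orderOf_of_mem hodd ⟨x, rfl⟩⟩
    · have htop := eq_top_of_seven O.topData.dc O.topData.cent ψ
      let ψ' := (topEquiv.symm.trans (MulEquiv.subgroupCongr htop.symm)).trans ψ
      rcases (Nat.dvd_prime Nat.prime_three).1 (card_dvd_three ψ' ht2 hodd hcomm) with h | h
      · haveI : Subsingleton f.range := (Nat.card_eq_one_iff_unique.1 h).1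
        exact isCyclic_of_subsingleton
      · exact isCyclic_of_prime_card (p := 3) (hp := ⟨Nat.prime_three⟩) h
  exact isCyclic_of_injective (MonoidHom.ofInjective hf).toMonoidHom (MonoidHom.ofInjective hf).injective

/-- An inverted element of `O(C(t))` centralises an inverted abelian invariant subgroup. -/
theorem commute_of_inverted_both {y a : G} (hy : Odd (orderOf y)) (hyb : b * y * b = y⁻¹)
    (hab : b * a * b = a⁻¹) (hya : b * (y * a * y⁻¹) * b = (y * a * y⁻¹)⁻¹) : y * a = a * y := by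
  have h1 : b * (y * a * y⁻¹) * b = y⁻¹ * a⁻¹ * y := by
    calc b * (y * a * y⁻¹) * b = b * y * (b * b) * a * (b * b) * y⁻¹ * b := by
          rw [O.refl.sq, mul_one, mul_one]; group
      _ = (b * y * b) * (b * a * b) * (b * y⁻¹ * b) := by simp only [mul_assoc]
      _ = (b * y * b) * (b * a * b) * (b * y * b)⁻¹ := by
          rw [mul_inv_rev, mul_inv_rev, O.refl.inv, ← mul_assoc b y⁻¹ b]
      _ = y⁻¹ * a⁻¹ * y := by rw [hyb, hab, inv_inv]
  rw [hya] at h1
  have h2 : y * a * y⁻¹ = y⁻¹ * a * y := by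
    rw [← inv_inj, h1]; group
  have h3 : Commute (y * y) a := by
    show y * y * a = a * (y * y)
    calc y * y * a = y * (y * a * y⁻¹) * y := by group
      _ = y * (y⁻¹ * a * y) * y := by rw [h2]
      _ = a * (y * y) := by group
  obtain ⟨k, hk⟩ := CfsgLib.RankOneInvol.exists_pow_sq_eq hy
  have h4 := h3.pow_left k
  rw [(Commute.refl y).mul_pow, hk] at h4
  exact h4.eq

/-- An inverted element of `O(C(t)) ∩ K` commutes with the elements of `O(C(t)) ∩ O(K)`. -/
theorem commute_core_inverted {k s : G} (hk : k ∈ coreIn O.C.K) (hs : s ∈ E.U)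
    (hsK : s ∈ O.C.K) (hsb : b * s * b = s⁻¹) : k * s = s * k := by
  have h1 := O.core_fixed (conj_mem_coreIn hsK hk)
  have hkb : b * k * b = k := by rw [← O.core_fixed hk, mul_assoc, O.refl.sq, mul_one]
  have h2 : s⁻¹ * k * s = s * k * s⁻¹ := by
    calc s⁻¹ * k * s = (b * s * b) * (b * k * b) * (b * s * b)⁻¹ := by rw [hsb, hkb, inv_inv]
      _ = b * (s * (b * b) * k * s⁻¹) * b⁻¹ := by group
      _ = s * k * s⁻¹ := by rw [O.refl.sq, mul_one, ← h1, mul_inv_cancel_right]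
  have h3 : Commute (s * s) k := by
    show s * s * k = k * (s * s)
    calc s * s * k = s * (s * k * s⁻¹) * s := by group
      _ = s * (s⁻¹ * k * s) * s := by rw [h2]
      _ = k * (s * s) := by group
  obtain ⟨j, hj⟩ := CfsgLib.RankOneInvol.exists_pow_sq_eq (E.mem_U.1 hs).2
  have h4 := h3.pow_left j
  rw [(Commute.refl s).mul_pow, hj] at h4
  exact h4.symm.eq

/-- `b` fixes only `1` in `O_m(C(t))`, `m` odd, `m ≠ r`. -/
theorem part_fix_eq_one {m : ℕ} (hm : m.Prime) (hm2 : m ≠ 2) (hmr : m ≠ r) {a : G}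
    (ha : a ∈ E.R m) (hab : a * b = b * a) : a = 1 := by
  by_contra ha1
  have haX : a ∈ E.X b :=
    O.refl.mem_X.2 ⟨E.mem_H.1 (R_le_H E m ha), hab, odd_of_mem_R E hm hm2 ha⟩
  obtain ⟨τ, hτ, hτo, hτb, -, -⟩ := O.exists_tau
  have hacore : a ∈ coreIn O.C.K := CfsgLib.GW.Max31Out.mem_core_of_field O.refl O.kData
    (by rw [O.perf_K]; exact O.C.t_mem) (by rw [O.perf_K]; exact O.C.b_mem)
    ⟨τ, ⟨R_le_U E O.prime O.ne_two hτ.1, hτ.2⟩, hτb, fun h => O.prime.ne_one (by
      rw [← hτo, h, orderOf_one])⟩ hm hm2 ha (O.X_le_K haX) hab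
  have hne : zpowers a ≠ ⊥ := fun h => ha1 (zpowers_eq_bot.1 h)
  obtain ⟨M, hM, hNM⟩ := (eq_top_or_exists_le_coatom (normalizer (zpowers a : Set G))).resolve_left
    (normalizer_ne_top E hne (ne_top_of_le_R E (zpowers_le.2 ha)))
  have hcM : ∀ x : G, a * x = x * a → x ∈ M := fun x hx =>
    hNM (centralizer_le_normalizer _ (mem_centralizer_iff.2 fun _ ⟨i, hi⟩ => by
      rw [← hi]; exact ((show Commute a x from hx).zpow_left i).eq))
  have hRM : E.R r ≤ M := fun x hx => hcM x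
    (Cfsg.Tech46.Bender.commute_coreIn_of_ne hm O.prime hmr ha hx).eq
  have hPM : O.C.P ≤ M := fun p hp => hcM p (mem_centralizer_iff.1 (O.C.core_commute hp) a hacore)
  have D := Max31.kData O.coatom O.U_ne O.refl hM (hPM O.C.t_mem) (hPM O.C.b_mem)
    (leadsTo_of_le E hm hne (zpowers_le.2 ha) hNM) (Or.inr ⟨O.C.P, hPM, O.C.perfect, O.C.t_mem⟩)
  have hPp : O.C.P ≤ perf M := le_perf hPM O.C.perfect
  have T := topData_of_perfect E hM.1 hPM O.C.perfect O.C.t_mem E.orderOf_t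
  have hec : O.C.e ∈ coreIn M := O.core_of_fixed_in D T (hPp O.C.t_mem) (hPp O.C.b_mem)
    (fun z hz _ => hRM hz) O.e_mem (hRM O.e_mem.1)
  have hpK : perf M ≤ O.C.K := fun x hx =>
    O.centralizer_e_le (mem_centralizer_singleton_iff.2 (D.commute_of_mem hx hec))
  exact O.not_le (O.perf_normalizer_eq hM (le_antisymm (O.C.le_P _ hpK (perfect_perf M)) hPp) ▸ hRM)

theorem part_inverted {m : ℕ} (hm : m.Prime) (hm2 : m ≠ 2) (hmr : m ≠ r) {a : G}
    (ha : a ∈ E.R m) : b * a * b = a⁻¹ := by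
  obtain ⟨c, z, hc, hcb, -, hzb, rfl⟩ := CfsgLib.RankOneInvol.exists_fixed_mul_inverted
    (odd_card_R E hm hm2) O.refl.sq (fun w hw => by
      have := conj_mem_R E O.refl.mem_H hw
      rwa [O.refl.inv] at this) ha
  rw [O.part_fix_eq_one hm hm2 hmr hc (mul_b_b hcb O.refl.sq), one_mul]
  exact hzb

theorem part_le_K {m : ℕ} (hm : m.Prime) (hmr : m ≠ r) : E.R m ≤ O.C.K := fun _ hx =>
  O.centralizer_e_le (mem_centralizer_singleton_iff.2
    (Cfsg.Tech46.Bender.commute_coreIn_of_ne hm O.prime hmr hx O.e_mem.1).eq)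

theorem part_commute_inverted {m : ℕ} (hm : m.Prime) (hm2 : m ≠ 2) (hmr : m ≠ r) {a y : G}
    (ha : a ∈ E.R m) (hy : y ∈ E.U) (hyb : b * y * b = y⁻¹) : y * a = a * y :=
  O.commute_of_inverted_both (E.mem_U.1 hy).2 hyb (O.part_inverted hm hm2 hmr ha)
    (O.part_inverted hm hm2 hmr (conj_mem_R E (E.U_le_H hy) ha))

theorem isCyclic_part {m : ℕ} (hm : m.Prime) (hm2 : m ≠ 2) (hmr : m ≠ r) : IsCyclic (E.R m) :=
  O.isCyclic_of_inverted (R_le_U E hm hm2) (O.part_le_K hm hmr)
    fun _ hx => O.part_inverted hm hm2 hmr hx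

/-- An element of `O(C(t))` centralising every odd `O_m(C(t))` lies in the Fitting subgroup. -/
theorem mem_fit_of_centralizes {u : G} (hu : u ∈ E.U)
    (h : ∀ m : ℕ, m.Prime → m ≠ 2 → ∀ a ∈ E.R m, u * a = a * u) : u ∈ fitIn E.H := by
  haveI := Max33.solvable_H E
  refine ⟨⟨u, E.U_le_H hu⟩, CfsgLib.Fitting.centralizer_fitting_le ?_, rfl⟩
  rw [mem_centralizer_iff]
  intro f hf
  refine Subtype.ext ?_
  refine ((Cfsg.Tech46.Bender.commute_of_parts (mem_map_of_mem E.H.subtype hf)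
    fun m hm y _ hy => ?_).symm).eq
  by_cases hm2 : m = 2
  · subst hm2
    refine Cfsg.Tech46.Bender.commute_of_disjoint (A := E.U) (B := Cfsg.Agent.S1312.coreIn 2 E.H)
      ?_ hu hy (Cfsg.Tech46.Bender.coreIn_le_normalizer 2 E.H (E.U_le_H hu)) ?_
    · rw [disjoint_iff]
      haveI : Fact (Nat.Prime 2) := ⟨Nat.prime_two⟩
      refine CfsgLib.PCore.eq_bot_of_isPGroup_coprime
        ((Cfsg.Tech46.Bender.coreIn_isPGroup Nat.prime_two E.H).to_le inf_le_right) ?_
      exact Nat.Coprime.coprime_dvd_left (card_dvd_of_le inf_le_left)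
        (Nat.coprime_two_right.2 E.odd_card_U)
    · rw [mem_normalizer_iff]
      have hyH : y ∈ E.H := map_subtype_le _ hy
      refine fun w => ⟨fun hw => E.conj_mem_U hyH hw, fun hw => ?_⟩
      have := E.conj_mem_U (inv_mem hyH) hw
      simpa [mul_assoc] using this
  · exact h m hm hm2 y hy

/-- An element of order prime to `r` fixing the element of order `r` of a cyclic `r`-group
centralises it. -/
theorem commute_cyclic {A : Subgroup G} (hA : IsPGroup r A) [hc : IsCyclic A] {u : G}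
    (hn : ∀ x ∈ A, u * x * u⁻¹ ∈ A) (hcop : (orderOf u).Coprime r)
    (hfix : ∀ x ∈ A, x ^ r = 1 → u * x = x * u) : ∀ x ∈ A, u * x = x * u := by
  haveI := Fact.mk O.prime
  obtain ⟨⟨g, hg⟩, hgen⟩ := hc.exists_generator
  intro x hx
  obtain ⟨i, hi⟩ := mem_zpowers_iff.1 (hgen ⟨x, hx⟩)
  have hxe : x = g ^ i := (congrArg Subtype.val hi).symm
  suffices h : Commute u g by rw [hxe]; exact (h.zpow_right i).eq
  obtain ⟨k, hk⟩ := IsPGroup.iff_orderOf.1 hA ⟨g, hg⟩
  rw [Subgroup.orderOf_mk] at hk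
  obtain ⟨j, hj⟩ := mem_zpowers_iff.1 (hgen ⟨_, hn g hg⟩)
  have hje : g ^ j = u * g * u⁻¹ := congrArg Subtype.val hj
  rcases k with _ | k
  · rw [pow_zero, orderOf_eq_one_iff] at hk; rw [hk]; exact Commute.one_right u
  have hpow : ∀ n : ℕ, u ^ n * g * (u ^ n)⁻¹ = g ^ j ^ n := by
    intro n
    induction n with
    | zero => simp
    | succ n ih =>
      calc u ^ (n + 1) * g * (u ^ (n + 1))⁻¹ = u * (u ^ n * g * (u ^ n)⁻¹) * u⁻¹ := by
            rw [pow_succ']; group
        _ = g ^ j ^ (n + 1) := by rw [ih, ← conj_zpow, ← hje, ← zpow_mul, pow_succ']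
  -- `j ≡ 1` modulo `r`
  have h1 : (g ^ r ^ k) ^ r = 1 := by rw [← pow_mul, ← pow_succ, ← hk, pow_orderOf_eq_one]
  have h2 := hfix _ (pow_mem hg _) h1
  have h3 : g ^ ((j - 1) * (r ^ k : ℕ)) = 1 := by
    have : u * g ^ r ^ k * u⁻¹ = g ^ r ^ k := by rw [h2, mul_inv_cancel_right]
    rw [← conj_pow, ← hje] at this
    rw [sub_mul, one_mul, zpow_sub, zpow_mul, zpow_natCast, zpow_natCast, this, mul_inv_cancel]
  have h4 : (r : ℤ) ∣ j - 1 := by
    have h := orderOf_dvd_iff_zpow_eq_one.2 h3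
    rw [hk, pow_succ, mul_comm (j - 1)] at h
    push_cast at h
    exact (mul_dvd_mul_iff_left (pow_ne_zero k (Int.natCast_ne_zero.2 O.prime.ne_zero))).1 h
  have h5 : ((orderOf g : ℕ) : ℤ) ∣ j ^ r ^ k - 1 := by
    rw [hk]
    push_cast
    have := dvd_sub_pow_of_dvd_sub h4 k
    rwa [one_pow] at this
  have h6 : Commute (u ^ r ^ k) g := by
    have h := hpow (r ^ k)
    have h' : g ^ j ^ r ^ k = g := by
      have := orderOf_dvd_iff_zpow_eq_one.1 h5
      rw [zpow_sub, zpow_one, mul_inv_eq_one] at this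
      exact this
    rw [h'] at h
    exact mul_inv_eq_iff_eq_mul.1 h
  obtain ⟨n, hn'⟩ := exists_pow_eq_self_of_coprime (x := u) (n := r ^ k) (hcop.pow_right k).symm
  have := h6.pow_left n
  rwa [hn'] at this

end CfsgLib.GW.Max31.Out
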