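import Cfsg.Agent.Lib.GW.Max31OutA0
import Cfsg.Agent.Lib.GW.Max31OutParts
import Cfsg.Agent.Lib.GW.Max32Base

/-!
Gorenstein–Walter, Step 3.1 e: every reflection inverts `Z(O_r(C(t)))`, and the top of `K` is not
`A₇`.
-/

set_option autoImplicit false
set_option linter.style.haveILetI false
set_option linter.unusedSectionVars false

namespace CfsgLib.GW.Max31

open Subgroup

universe u

theorem key_seven_third : ∀ σ : Equiv.Perm (Fin 7), σ = 1 ∨ σ = Equiv.swap 4 5 * Equiv.swap 5 6 ∨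
      σ = Equiv.swap 4 5 * Equiv.swap 5 6 * (Equiv.swap 4 5 * Equiv.swap 5 6) →
    σ * (Equiv.swap 0 2 * Equiv.swap 1 3) = Equiv.swap 0 2 * Equiv.swap 1 3 * σ := by
  rintro σ (rfl | rfl | rfl) <;> decide +kernel

/-- In `A₇` some further involution commutes with an involution `v` and all its odd centraliser. -/
theorem alt_seven_third {Y : Type u} [Group Y] [Finite Y] (eY : Y ≃* alternatingGroup (Fin 7))
    {v : Y} (hv : orderOf v = 2) :
    ∃ j : Y, orderOf j = 2 ∧ j ≠ v ∧ j * v = v * j ∧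
      ∀ x : Y, x * v = v * x → Odd (orderOf x) → x * j = j * x := by
  classical
  let g : Y →* Equiv.Perm (Fin 7) := (alternatingGroup (Fin 7)).subtype.comp eY.toMonoidHom
  have hg : Function.Injective g := fun x y h => eY.injective (Subtype.ext h)
  have hv2 := CfsgLib.Involutions.orderOf_eq_two_iff_mul.1 hv
  have hct : (g v).cycleType = ({2, 2} : Multiset ℕ) :=
    cycleType_seven (eY v) (by rw [← map_mul, hv2.2, map_one])
      fun h => hv2.1 (eY.injective (h.trans (map_one eY).symm))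
  set v₀ : Equiv.Perm (Fin 7) := Equiv.swap 0 1 * Equiv.swap 2 3 with hv₀
  set j₀ : Equiv.Perm (Fin 7) := Equiv.swap 0 2 * Equiv.swap 1 3 with hj₀
  obtain ⟨d, hd⟩ := isConj_iff.1 (Equiv.Perm.isConj_iff_cycleType_eq.2
    (hct.trans (show ({2, 2} : Multiset ℕ) = v₀.cycleType by decide +kernel)))
  let h : Y →* Equiv.Perm (Fin 7) := (MulAut.conj d).toMonoidHom.comp g
  have hh : Function.Injective h := (MulAut.conj d).injective.comp hg
  have hhv : h v = v₀ := hd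
  obtain ⟨j, hj⟩ : ∃ j, h j = j₀ := by
    refine ⟨eY.symm ⟨d⁻¹ * j₀ * d, ?_⟩, ?_⟩
    · rw [Equiv.Perm.mem_alternatingGroup, map_mul, map_mul, map_inv, hj₀]
      simp
    · show d * ((eY (eY.symm _) : alternatingGroup (Fin 7)) : Equiv.Perm (Fin 7)) * d⁻¹ = _
      rw [eY.apply_symm_apply]; group
  refine ⟨j, ?_, fun e => ?_, hh ?_, fun x hx hxo => ?_⟩
  · rw [← orderOf_injective h hh, hj, hj₀]
    exact orderOf_eq_prime (hp := ⟨Nat.prime_two⟩) (by decide +kernel) (by decide +kernel)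
  · rw [e, hhv, hv₀, hj₀] at hj
    exact absurd hj (by decide +kernel)
  · rw [map_mul, map_mul, hj, hhv, hv₀, hj₀]
    decide +kernel
  · have hc1 : h x * v₀ = v₀ * h x := by rw [← hhv, ← map_mul, ← map_mul, hx]
    have h48 : Nat.card (centralizer ({v₀} : Set (Equiv.Perm (Fin 7)))) ∣ 48 := by
      rw [Equiv.Perm.nat_card_centralizer, show v₀.cycleType = ({2, 2} : Multiset ℕ) by decide +kernel]
      decide +kernel
    have h3 : h x * h x * h x = 1 := by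
      have h1 := ((centralizer ({v₀} : Set (Equiv.Perm (Fin 7)))).orderOf_dvd_natCard
        (mem_centralizer_singleton_iff.2 hc1)).trans h48
      rw [← pow_two, ← pow_succ, ← orderOf_dvd_iff_pow_eq_one]
      refine Nat.Coprime.dvd_of_dvd_mul_left ((Nat.coprime_two_left.2 ?_).pow_left 4).symm
        (show _ ∣ 2 ^ 4 * 3 from h1)
      rwa [orderOf_injective h hh]
    refine hh ?_
    rw [map_mul, map_mul, hj]
    exact key_seven_third _ (Max32.key_seven_torus _ h3 hc1)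

/-- The hypothesis supplied by Step 3.1 d. -/
def FalseOfLe {G : Type u} [Group G] [Finite G] (E : Setup G) (r : ℕ) : Prop :=
  ∀ v, E.Refl v → ¬ E.R r ≤ E.X v → ∀ C : Central E v r, ¬ E.R r ≤ C.K

/-- An involution of `C(t)` is conjugate under `O(C(t))` to an element of `S`. -/
theorem exists_conj_S {G : Type u} [Group G] [Finite G] (E : Setup G) {h : G} (hh : h ∈ E.H)
    (h2 : orderOf h = 2) :
    ∃ k ∈ E.U, ∃ s ∈ (E.S : Subgroup G), orderOf s = 2 ∧ h = k * s * k⁻¹ := by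
  obtain ⟨u, hu, s, hs, rfl⟩ := E.exists_mul hh
  have hh2 := (CfsgLib.Involutions.orderOf_eq_two_iff_mul.1 h2).2
  have e : u * (s * u * s⁻¹) * (s * s) = 1 * 1 := by rw [one_mul, ← hh2]; group
  obtain ⟨e1, e2⟩ := E.mul_inj (mul_mem hu (E.conj_mem_U (E.S_le_H hs) hu)) E.U.one_mem
    (mul_mem hs hs) (one_mem _) e
  obtain ⟨m, hm⟩ := CfsgLib.RankOneInvol.exists_pow_sq_eq (E.mem_U.1 hu).2
  refine ⟨u ^ m, pow_mem hu m, s, hs, ?_, ?_⟩
  · refine CfsgLib.Involutions.orderOf_eq_two_iff_mul.2 ⟨fun hs1 => ?_, e2⟩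
    subst hs1
    rw [mul_one] at h2
    exact absurd (h2 ▸ (E.mem_U.1 hu).2) (by decide)
  · have hs' : s * u * s⁻¹ = u⁻¹ := (inv_eq_of_mul_eq_one_right e1).symm
    have hk : s * u ^ m * s⁻¹ = (u ^ m)⁻¹ := by rw [← conj_pow, hs', inv_pow]
    calc u * s = u ^ m * ((u ^ m) * s) := by
          rw [← mul_assoc]; congr 1; exact hm.symm
      _ = u ^ m * (s * (u ^ m)⁻¹) := by
          congr 1
          calc u ^ m * s = s * (s * u ^ m * s⁻¹) := by
                rw [show s * (s * u ^ m * s⁻¹) = s * s * u ^ m * s⁻¹ by group, e2, one_mul,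
                  inv_eq_of_mul_eq_one_right e2]
            _ = _ := by rw [hk]
      _ = u ^ m * s * (u ^ m)⁻¹ := by group

namespace Out

variable {G : Type u} [Group G] [Finite G] {E : Setup G} {b : G} {r : ℕ} (O : Out E b r)

include O

theorem seven_equiv (ψ : topL O.C.K ≃* alternatingGroup (Fin 7)) :
    Nonempty ((O.C.K ⧸ Cfsg.oddCore O.C.K) ≃* alternatingGroup (Fin 7)) := by
  haveI := O.topData.normal
  exact ⟨(topEquiv.symm.trans (MulEquiv.subgroupCongr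
    (eq_top_of_seven O.topData.dc O.topData.cent ψ).symm)).trans ψ⟩

theorem bar_tau {τ : G} (hτ : IsTau E r τ) :
    let τ' := bar O.C.K ⟨τ, (O.tau_mem_K hτ).2⟩
    orderOf τ' = r ∧ τ' * bar O.C.K ⟨E.t, O.t_mem_K⟩ = bar O.C.K ⟨E.t, O.t_mem_K⟩ * τ' ∧
      Odd (orderOf τ') ∧ τ' ∈ topL O.C.K := by
  intro τ'
  haveI := Fact.mk O.prime
  have ho : orderOf τ' = r := by
    refine orderOf_eq_prime ?_ fun h => O.tau_not_core hτ (bar_eq_one.1 h)
    rw [← map_pow, show (⟨τ, (O.tau_mem_K hτ).2⟩ : O.C.K) ^ r = 1 from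
      Subtype.ext (orderOf_dvd_iff_pow_eq_one.1 (dvd_of_eq hτ.2.1)), map_one]
  refine ⟨ho, ?_, ho.symm ▸ O.prime.odd_of_ne_two O.ne_two,
    O.bar_inverted_mem _ (hτ.2.1.symm ▸ O.prime.odd_of_ne_two O.ne_two) (O.tau_inverted hτ)⟩
  rw [← map_mul, ← map_mul]
  exact congrArg _ (Subtype.ext (E.mem_H.1 (R_le_H E r hτ.1)))

/-- If the top is `A₇` then `O_m(C(t)) = 1` for odd `m ≠ r`. -/
theorem part_eq_bot_of_seven (ψ : topL O.C.K ≃* alternatingGroup (Fin 7)) {m : ℕ} (hm : m.Prime)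
    (hm2 : m ≠ 2) (hmr : m ≠ r) : E.R m = ⊥ := by
  haveI := Fact.mk O.prime
  obtain ⟨τ, hτ⟩ := O.exists_isTau
  obtain ⟨ψ'⟩ := O.seven_equiv ψ
  obtain ⟨c, -, hc, -, -, -, hall⟩ :=
    Max32.alt_seven_centralizer ψ' (orderOf_bar (x := ⟨E.t, O.t_mem_K⟩) E.orderOf_t)
  have hc3 : c ^ 3 = 1 := orderOf_dvd_iff_pow_eq_one.1 (dvd_of_eq hc)
  have hcube : ∀ x, x * bar O.C.K ⟨E.t, O.t_mem_K⟩ = bar O.C.K ⟨E.t, O.t_mem_K⟩ * x →
      Odd (orderOf x) → x ^ 3 = 1 := fun x h1 h2 => by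
    rcases hall x h1 h2 with e | e | e <;> subst e
    · exact one_pow 3
    · exact hc3
    · rw [(Commute.refl c).mul_pow, hc3, one_mul]
  have hr3 : r = 3 := by
    obtain ⟨h1, h2, h3, -⟩ := O.bar_tau hτ
    exact (Nat.prime_dvd_prime_iff_eq O.prime Nat.prime_three).1
      (h1 ▸ orderOf_dvd_of_pow_eq_one (hcube _ h2 h3))
  refine eq_bot_iff.2 fun a ha => mem_bot.2 ?_
  have haK := O.part_le_K hm hmr ha
  have ho := odd_of_mem_R E hm hm2 ha
  have h1 : bar O.C.K ⟨a, haK⟩ ^ 3 = 1 := hcube _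
    (by rw [← map_mul, ← map_mul]; exact congrArg _ (Subtype.ext (E.mem_H.1 (R_le_H E m ha))))
    (ho.of_dvd_nat (by rw [← Subgroup.orderOf_mk a haK]; exact orderOf_map_dvd _ _))
  rw [← map_pow] at h1
  have h3 : a ^ 3 = 1 := O.eq_one_of_inv_mem_core (R_le_U E hm hm2 (pow_mem ha 3))
    (O.part_inverted hm hm2 hmr (pow_mem ha 3)) (bar_eq_one.1 h1)
  haveI := Fact.mk hm
  obtain ⟨k, hk⟩ := IsPGroup.iff_orderOf.1 (R_isPGroup E hm) ⟨a, ha⟩
  rw [Subgroup.orderOf_mk] at hk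
  exact orderOf_eq_one_iff.1 (Nat.eq_one_of_dvd_coprimes
    ((Nat.coprime_primes hm Nat.prime_three).2 (hr3 ▸ hmr) |>.pow_left k) (dvd_of_eq hk)
    (orderOf_dvd_of_pow_eq_one h3))

/-- No reflection centralises `R`. -/
theorem not_le_X_all {v : G} (hv : E.Refl v) : ¬ E.R r ≤ E.X v := by
  intro hle
  obtain ⟨τ, hτ⟩ := O.exists_isTau
  have hRv : ∀ x ∈ E.R r, x * v = v * x := fun x hx => (hv.mem_X.1 (hle hx)).2.1
  have hvK : v ∈ O.C.K :=
    O.centralizer_e_le (mem_centralizer_singleton_iff.2 (hRv _ O.e_mem.1).symm)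
  obtain ⟨hτo, hτt, hτodd, hτL⟩ := O.bar_tau hτ
  rcases O.topData.shape with ⟨F, i1, i2, hoddF, h3, ⟨f⟩⟩ | ⟨⟨ψ⟩⟩
  · have h := psl_of_topData O.topData hoddF h3 f
    refine bar_ne (x := ⟨v, hvK⟩) (y := ⟨E.t, O.t_mem_K⟩) hv.orderOf_eq E.orderOf_t hv.comm hv.ne_t
      (h.eq_of_commute_torus (orderOf_bar E.orderOf_t) (orderOf_bar hv.orderOf_eq)
        ((h.mem_torus (orderOf_bar E.orderOf_t)).2 ⟨hτL, hτt, hτodd⟩) ?_ ?_)
    · intro e
      rw [e, orderOf_one] at hτo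
      exact O.prime.ne_one hτo.symm
    · rw [← map_mul, ← map_mul]
      exact congrArg _ (Subtype.ext (hRv τ hτ.1))
  obtain ⟨g, hgt, -, hgvt⟩ := hv.exists_rot
  set R' := conjBy (E.R r) g with hR'
  have hmem : ∀ {x : G}, x ∈ R' ↔ g⁻¹ * x * g ∈ E.R r := mem_conjBy
  have hR'X : ∀ x ∈ R', x * E.t = E.t * x := fun x hx => by
    have h0 := hmem.1 hx
    have h1 := hRv _ h0
    have h2 := E.mem_H.1 (R_le_H E r h0)
    have h3 : (g⁻¹ * x * g) * (v * E.t) = v * E.t * (g⁻¹ * x * g) :=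
      ((show Commute (g⁻¹ * x * g) v from h1).mul_right h2).eq
    have h4 := Setup.commute_conj (g := g) h3
    rwa [hgvt, show g * (g⁻¹ * x * g) * g⁻¹ = x by group] at h4
  have hR'H : R' ≤ E.H := fun x hx => E.mem_H.2 (hR'X x hx)
  have hRnorm : ∀ x ∈ E.R r, g⁻¹ * x * g ∈ E.H := fun x hx => E.mem_H.2 (by
    have h4 := Setup.commute_conj (g := g⁻¹) (hRv x hx)
    rwa [inv_inv, show g⁻¹ * v * g = E.t by rw [← hgt]; group] at h4)
  have hRnorm' : ∀ x ∈ E.R r, ∀ y ∈ R', x * y * x⁻¹ ∈ R' := fun x hx y hy => by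
    rw [hmem] at hy ⊢
    have := conj_mem_R E (hRnorm x hx) hy
    rwa [show g⁻¹ * x * g * (g⁻¹ * y * g) * (g⁻¹ * x * g)⁻¹ = g⁻¹ * (x * y * x⁻¹) * g by group] at this
  have hR'norm : ∀ y ∈ R', ∀ x ∈ E.R r, y * x * y⁻¹ ∈ E.R r := fun y hy x hx =>
    conj_mem_R E (hR'H hy) hx
  by_cases hD : E.R r ⊓ R' = ⊥
  · refine O.not_le ?_
    haveI := Fact.mk O.prime
    have hR'r : IsPGroup r R' := (R_isPGroup E O.prime).map _
    have hle' : R' ≤ E.R r := by
      intro y hy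
      obtain ⟨k, hk⟩ := IsPGroup.iff_orderOf.1 hR'r ⟨y, hy⟩
      rw [Subgroup.orderOf_mk] at hk
      have hyU : y ∈ E.U := E.odd_orderOf_mem_U (hR'H hy)
        (hk ▸ (O.prime.odd_of_ne_two O.ne_two).pow)
      refine Max33.mem_R_of_fit E O.prime (O.mem_fit_of_centralizes hyU fun m hm hm2 a ha => ?_) hk
      by_cases hmr : m = r
      · subst hmr
        exact (Cfsg.Tech46.Bender.commute_of_disjoint (A := R') (B := E.R m)
          (by rw [disjoint_iff, inf_comm]; exact hD) hy ha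
          (mem_normalizer_of_conj_le (hR'norm y hy)) (mem_normalizer_of_conj_le (hRnorm' a ha))).eq
      · rw [O.part_eq_bot_of_seven ψ hm hm2 hmr, mem_bot] at ha
        rw [ha, mul_one, one_mul]
    rw [inf_eq_right.2 hle', hR', conjBy, map_eq_bot_iff_of_injective _ (MulAut.conj g).injective] at hD
    rw [hD]
    exact bot_le
  · have hnorm : ∀ x ∈ E.R r, ∀ d ∈ E.R r ⊓ R', x * d * x⁻¹ ∈ E.R r ⊓ R' := fun x hx d hd =>
      ⟨conj_mem_R E (R_le_H E r hx) hd.1, hRnorm' x hx d hd.2⟩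
    set D' := conjBy (E.R r ⊓ R') g⁻¹ with hD'
    have hD'mem : ∀ {x : G}, x ∈ D' ↔ g * x * g⁻¹ ∈ E.R r ⊓ R' := by
      intro x; rw [hD', mem_conjBy, inv_inv]
    have hτD : τ ∈ D' := by
      refine O.tau_mem_of_normal hτ (fun x hx => ?_) ?_ fun x hx q hq => ?_
      · have := hmem.1 (hD'mem.1 hx).2
        rwa [show g⁻¹ * (g * x * g⁻¹) * g = x by group] at this
      · rw [hD', conjBy, Ne, map_eq_bot_iff_of_injective _ (MulAut.conj g⁻¹).injective]
        exact hD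
      · rw [hD'mem] at hq ⊢
        have hy : g * x * g⁻¹ ∈ R' := by rw [hmem]; simpa [mul_assoc] using hx
        rw [show g * (x * q * x⁻¹) * g⁻¹ = g * x * g⁻¹ * (g * q * g⁻¹) * (g * x * g⁻¹)⁻¹ by group]
        exact ⟨hR'norm _ hy _ hq.1, R'.mul_mem (R'.mul_mem hy hq.2) (R'.inv_mem hy)⟩
    have hτ' : g * τ * g⁻¹ ∈ E.R r := (hD'mem.1 hτD).1
    have hgen : ∀ x ∈ E.R r, ∀ q ∈ zpowers (g * τ * g⁻¹), x * q * x⁻¹ ∈ zpowers (g * τ * g⁻¹) := by
      intro x hx q hq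
      obtain ⟨i, rfl⟩ := mem_zpowers_iff.1 hq
      obtain ⟨j, hj⟩ := mem_zpowers_iff.1
        (O.tau_conj hτ (hRnorm x hx) (zpow_mem (mem_zpowers τ) i))
      refine mem_zpowers_iff.2 ⟨j, ?_⟩
      rw [conj_zpow, hj, conj_zpow]
      group
    have hmem2 := O.tau_mem_of_normal hτ (zpowers_le.2 hτ') (fun h => O.tau_ne_one hτ (by
      simpa using zpowers_eq_bot.1 h)) hgen
    have heq : zpowers τ = zpowers (g * τ * g⁻¹) := eq_of_le_of_card_ge (zpowers_le.2 hmem2)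
      (by rw [Nat.card_zpowers, Nat.card_zpowers, CfsgLib.Involutions.orderOf_conj_eq])
    have hgH : g ∈ E.H := O.normalizer_tau hτ ▸ mem_normalizer_of_conj_le fun x hx => by
      obtain ⟨i, rfl⟩ := mem_zpowers_iff.1 hx
      rw [← conj_zpow, heq]
      exact zpow_mem (mem_zpowers _) i
    exact hv.ne_t (by rw [← hgt, E.mem_H.1 hgH, mul_inv_cancel_right])

/-- Every reflection gives the situation of Step 3.1 e. -/
theorem exists_out (hF : FalseOfLe E r) {v : G} (hv : E.Refl v) : Nonempty (Out E v r) := by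
  have hE : E.R r ⊓ E.X v ≠ ⊥ := by
    intro h
    have hinv := Max32.inverts_of_inf E hv O.prime O.ne_two h
    exact O.not_le fun x hx => O.centralizer_e_le (mem_centralizer_singleton_iff.2
      (Max32.comm_of_inverts hinv x hx _ O.e_mem.1))
  obtain ⟨C⟩ := exists_central E O.coatom O.U_ne hv O.prime O.ne_two (O.not_le_X_all hv) hE
  exact ⟨⟨O.coatom, O.U_ne, hv, O.prime, O.ne_two, O.not_le_X_all hv, C,
    hF v hv (O.not_le_X_all hv) C⟩⟩

theorem center_inverted_all (hF : FalseOfLe E r) {v : G} (hv : E.Refl v) {z : G} (hz : z ∈ E.R r)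
    (hzc : ∀ x ∈ E.R r, x * z = z * x) : v * z * v = z⁻¹ := by
  obtain ⟨O'⟩ := O.exists_out hF hv
  exact O'.center_inverted hz hzc

theorem part_inverted_all (hF : FalseOfLe E r) {v : G} (hv : E.Refl v) {m : ℕ} (hm : m.Prime)
    (hm2 : m ≠ 2) (hmr : m ≠ r) {a : G} (ha : a ∈ E.R m) : v * a * v = a⁻¹ := by
  obtain ⟨O'⟩ := O.exists_out hF hv
  exact O'.part_inverted hm hm2 hmr ha

/-- The top of `K` is linear. -/
theorem exists_psl (hF : FalseOfLe E r) :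
    ∃ (F : Type) (_ : Field F) (_ : Fintype F), Field.Psl (topL O.C.K) F := by
  rcases O.topData.shape with ⟨F, i1, i2, hoddF, h3, ⟨f⟩⟩ | ⟨⟨ψ⟩⟩
  · exact ⟨F, i1, i2, psl_of_topData O.topData hoddF h3 f⟩
  exfalso
  haveI := Fact.mk O.prime
  obtain ⟨τ, hτ⟩ := O.exists_isTau
  obtain ⟨ψ'⟩ := O.seven_equiv ψ
  set t' := bar O.C.K ⟨E.t, O.t_mem_K⟩
  obtain ⟨j, hj, hjt, hjc, hjall⟩ := alt_seven_third ψ' (orderOf_bar (x := ⟨E.t, O.t_mem_K⟩) E.orderOf_t)
  obtain ⟨c, hc, hcj⟩ := lift_commute (K := O.C.K) (t := ⟨E.t, O.t_mem_K⟩) E.orderOf_t hjc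
  obtain ⟨hτo, hτt, hτodd, -⟩ := O.bar_tau hτ
  have hcH : (c : G) ∈ E.H := E.mem_H.2 hc
  -- `c` centralises `τ`
  have hcτ : (c : G) * τ * (c : G)⁻¹ = τ := by
    obtain ⟨i, hi⟩ := mem_zpowers_iff.1 (O.tau_conj hτ hcH (mem_zpowers τ))
    have h1 : bar O.C.K ⟨τ, (O.tau_mem_K hτ).2⟩ ^ i = bar O.C.K ⟨τ, (O.tau_mem_K hτ).2⟩ := by
      have e : (⟨τ, (O.tau_mem_K hτ).2⟩ : O.C.K) ^ i = c * ⟨τ, (O.tau_mem_K hτ).2⟩ * c⁻¹ :=
        Subtype.ext (by simpa using hi)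
      rw [← map_zpow, e, map_mul, map_mul, map_inv, hcj, ← hjall _ hτt hτodd, mul_inv_cancel_right]
    rw [← hi]
    refine orderOf_dvd_sub_iff_zpow_eq_zpow.1 ?_ |>.trans (zpow_one τ)
    rw [hτ.2.1]
    have := orderOf_dvd_sub_iff_zpow_eq_zpow.2 (h1.trans (zpow_one _).symm)
    rwa [hτo] at this
  -- its `2`-part
  obtain ⟨k, m, hm, hd⟩ := Nat.exists_eq_two_pow_mul_odd (orderOf_pos (c : G)).ne'
  obtain ⟨l, hl⟩ := hm
  set w : O.C.K := c ^ m with hw
  have hjsq : j ^ 2 = 1 := orderOf_dvd_iff_pow_eq_one.1 (dvd_of_eq hj)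
  have hwj : bar O.C.K w = j := by
    rw [hw, map_pow, hcj, hl, pow_succ, pow_mul, hjsq, one_pow, one_mul]
  have hw2 : (w : G) * w = 1 := by
    refine (show ((w * w : O.C.K) : G) = 1 from ?_)
    refine orderOf_eq_one_iff.1 (Nat.eq_one_of_dvd_coprimes
      (Nat.Coprime.pow_left k (Nat.coprime_two_left.2 (odd_card_coreIn O.C.K))) ?_
      (Subgroup.orderOf_dvd_natCard _ (bar_eq_one.1 (by rw [map_mul, hwj, ← pow_two, hjsq]))))
    refine orderOf_dvd_of_pow_eq_one ?_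
    rw [hw, ← Subgroup.coe_pow, ← pow_add, ← pow_mul, Subgroup.coe_pow, show (m + m) * 2 ^ k =
      orderOf (c : G) * 2 by rw [hd]; ring, pow_mul, pow_orderOf_eq_one, one_pow]
  have hwo : orderOf (w : G) = 2 := CfsgLib.Involutions.orderOf_eq_two_iff_mul.2 ⟨fun h => by
    rw [show w = 1 from Subtype.ext h, map_one] at hwj
    rw [← hwj, orderOf_one] at hj
    exact absurd hj (by norm_num), hw2⟩
  have hwH : (w : G) ∈ E.H := by rw [hw, Subgroup.coe_pow]; exact pow_mem hcH m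
  have hwτ : Commute (w : G) τ := by
    rw [hw, Subgroup.coe_pow]; exact (show Commute (c : G) τ from mul_inv_eq_iff_eq_mul.1 hcτ).pow_left m
  obtain ⟨k', hk', s, hs, hso, e⟩ := exists_conj_S E hwH hwo
  rcases E.eq_t_or_refl hs hso with rfl | hs'
  · refine hjt (hwj.symm.trans (congrArg (bar O.C.K) (Subtype.ext ?_)))
    rw [e, (E.mem_U.1 hk').1, mul_inv_cancel_right]
  · obtain ⟨i, hi⟩ := mem_zpowers_iff.1 (O.tau_conj hτ (inv_mem (E.U_le_H hk')) (mem_zpowers τ))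
    set τ₁ := k'⁻¹ * τ * k'⁻¹⁻¹ with hτ1
    have h1 : Commute s τ₁ := by
      have := Setup.commute_conj (g := k'⁻¹) hwτ.eq
      rwa [e, show k'⁻¹ * (k' * s * k'⁻¹) * k'⁻¹⁻¹ = s by group] at this
    have hτ1R : τ₁ ∈ E.R r := conj_mem_R E (inv_mem (E.U_le_H hk')) hτ.1
    have h2 := O.center_inverted_all hF hs' hτ1R fun x hx => by
      rw [← hi]; exact ((show Commute x τ from hτ.2.2 x hx).zpow_right i).eq
    rw [h1.eq, mul_assoc, hs'.sq, mul_one] at h2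
    have h3 : τ₁ = 1 := CfsgLib.RankOneInvol.eq_one_of_sq_of_odd
      (odd_of_mem_R E O.prime O.ne_two hτ1R) (mul_eq_one_iff_eq_inv.2 h2)
    exact O.tau_ne_one hτ (conj_eq_one_iff.1 h3)

/-- `t` is the only involution of `K^∞` commuting with `τ`. -/
theorem eq_t_of_commute_tau (hF : FalseOfLe E r) {τ : G} (hτ : IsTau E r τ) {x : G}
    (hx : x ∈ O.C.P) (hx2 : orderOf x = 2) (hc : x * τ = τ * x) : x = E.t := by
  obtain ⟨F, i1, i2, h⟩ := O.exists_psl hF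
  have hxK := O.C.P_le hx
  obtain ⟨hτo, hτt, hτodd, hτL⟩ := O.bar_tau hτ
  have e := h.eq_of_commute_torus (orderOf_bar (x := ⟨E.t, O.t_mem_K⟩) E.orderOf_t)
    (orderOf_bar (x := ⟨x, hxK⟩) hx2)
    ((h.mem_torus (orderOf_bar (x := ⟨E.t, O.t_mem_K⟩) E.orderOf_t)).2 ⟨hτL, hτt, hτodd⟩)
    (fun e => O.prime.ne_one (by rw [← hτo, e, orderOf_one]))
    (by rw [← map_mul, ← map_mul]; exact congrArg _ (Subtype.ext hc.symm))
  have hd : E.t⁻¹ * x ∈ coreIn O.C.K :=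
    bar_eq_one.1 (show bar O.C.K ((⟨E.t, O.t_mem_K⟩ : O.C.K)⁻¹ * ⟨x, hxK⟩) = 1 by
      rw [map_mul, map_inv, e, inv_mul_cancel])
  set d := E.t⁻¹ * x with hdd
  have hxd : x = E.t * d := by rw [hdd, mul_inv_cancel_left]
  have hcm : Commute E.t d := (mem_centralizer_iff.1 (O.C.core_commute O.C.t_mem) d hd).symm
  have hd2 : d * d = 1 := by
    have h2 := (CfsgLib.Involutions.orderOf_eq_two_iff_mul.1 hx2).2
    rwa [hxd, hcm.symm.mul_mul_mul_comm, E.t_sq, one_mul] at h2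
  rw [hxd, CfsgLib.RankOneInvol.eq_one_of_mem_of_sq (odd_card_coreIn _) hd hd2, mul_one]

end Out

end CfsgLib.GW.Max31
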