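import Cfsg.Agent.Lib.GW.Max31OutBase

/-!
Gorenstein–Walter, Step 3.1 e, second part: `O_r(C(t)) ∩ K` is the direct product of two cyclic
groups, the one fixed and the other inverted by `b`; the latter contains `Z(R)`.
-/

set_option autoImplicit false
set_option linter.style.haveILetI false
set_option linter.unusedSectionVars false

namespace CfsgLib.GW.Max31.Out

open Subgroup

universe u

variable {G : Type u} [Group G] [Finite G] {E : Setup G} {b : G} {r : ℕ} (O : Out E b r)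

include O in
theorem b_conj_R {x : G} (hx : x ∈ E.R r) : b * x * b ∈ E.R r := by
  have := conj_mem_R E O.refl.mem_H hx
  rwa [O.refl.inv] at this

theorem core_fixed {x : G} (hx : x ∈ coreIn O.C.K) : x * b = b * x :=
  mem_centralizer_iff.1 (O.C.core_commute O.C.b_mem) x hx

theorem mem_fix_of_core {x : G} (hxR : x ∈ E.R r) (hx : x ∈ coreIn O.C.K) : x ∈ O.fixR :=
  O.mem_fixR hxR (O.core_fixed hx)

include O in
/-- Elements fixed and inverted by `b`: only `1`. -/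
theorem eq_one_of_fix_inv {x : G} (hxR : x ∈ E.R r) (hxb : x * b = b * x) (hi : b * x * b = x⁻¹) :
    x = 1 := by
  refine CfsgLib.RankOneInvol.eq_one_of_sq_of_odd (odd_of_mem_R E O.prime O.ne_two hxR) ?_
  rw [← hxb, mul_assoc, O.refl.sq, mul_one] at hi
  exact mul_eq_one_iff_eq_inv.2 hi

theorem eq_one_of_inv_core {x : G} (hxR : x ∈ E.R r) (hi : b * x * b = x⁻¹)
    (hx : x ∈ coreIn O.C.K) : x = 1 :=
  O.eq_one_of_fix_inv hxR (O.core_fixed hx) hi

theorem decompose {x : G} (hx : x ∈ E.R r ⊓ O.C.K) :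
    ∃ c ∈ O.fixR, ∃ y ∈ E.R r ⊓ O.C.K, b * y * b = y⁻¹ ∧ x = c * y := by
  obtain ⟨c, y, hc, hcb, hy, hyb, e⟩ := CfsgLib.RankOneInvol.exists_fixed_mul_inverted
    ((odd_card_R E O.prime O.ne_two).of_dvd_nat (card_dvd_of_le inf_le_left)) O.refl.sq
    (fun z hz => ⟨O.b_conj_R hz.1, mul_mem (mul_mem O.b_mem_K hz.2) O.b_mem_K⟩) hx
  refine ⟨c, O.mem_fixR hc.1 ?_, y, hy, hyb, e⟩
  calc c * b = b * c * b * b := by rw [hcb]
    _ = b * c := by rw [mul_assoc, O.refl.sq, mul_one]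

theorem fix_commute_inverted {c y : G} (hc : c ∈ O.fixR) (hy : y ∈ E.R r ⊓ O.C.K)
    (hi : b * y * b = y⁻¹) : c * y = y * c := by
  have hd : y * c * y⁻¹ ∈ O.fixR := O.mem_fix_of_core (mul_mem (mul_mem hy.1 hc.1) (inv_mem hy.1))
    (conj_mem_coreIn hy.2 (O.fixR_le_core hc))
  have h1 := (O.fix_props hd).2.1
  have hcb : b * c * b = c := by rw [← (O.fix_props hc).2.1, mul_assoc, O.refl.sq, mul_one]
  have h2 : y⁻¹ * c * y = y * c * y⁻¹ := by
    calc y⁻¹ * c * y = (b * y * b) * (b * c * b) * (b * y * b)⁻¹ := by rw [hi, hcb, inv_inv]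
      _ = b * (y * (b * b) * c * (b * b⁻¹)⁻¹ * y⁻¹) * b⁻¹ := by group
      _ = y * c * y⁻¹ := by rw [O.refl.sq, mul_one, mul_inv_cancel, inv_one, mul_one, ← h1,
          mul_inv_cancel_right]
  have h3 : Commute (y * y) c := by
    show y * y * c = c * (y * y)
    calc y * y * c = y * (y * c * y⁻¹) * y := by group
      _ = y * (y⁻¹ * c * y) * y := by rw [h2]
      _ = c * (y * y) := by group
  obtain ⟨k, hk⟩ := CfsgLib.RankOneInvol.exists_pow_sq_eq (odd_of_mem_R E O.prime O.ne_two hy.1)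
  have h4 := h3.pow_left k
  rw [(Commute.refl y).mul_pow, hk] at h4
  exact h4.symm.eq

/-- The image of `R ∩ K` in the top is cyclic. -/
theorem isCyclic_image :
    IsCyclic ↥(((E.R r ⊓ O.C.K).subgroupOf O.C.K).map (bar O.C.K)) := by
  classical
  have hr := O.prime
  haveI := O.topData.normal
  set K := O.C.K with hK
  set π := bar K
  set B := ((E.R r ⊓ K).subgroupOf K).map π
  set t' := π ⟨E.t, O.t_mem_K⟩
  have ht2 : orderOf t' = 2 := orderOf_bar E.orderOf_t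
  have hcomm : ∀ {x y : G} (hx : x ∈ K) (hy : y ∈ K), x * y = y * x →
      π ⟨x, hx⟩ * π ⟨y, hy⟩ = π ⟨y, hy⟩ * π ⟨x, hx⟩ := fun hx hy h => by
    rw [← map_mul, ← map_mul]; exact congrArg π (Subtype.ext h)
  have hRt : ∀ y ∈ E.R r, y * E.t = E.t * y := fun y hy => E.mem_H.1 (R_le_H E r hy)
  rcases O.topData.shape with ⟨F, i1, i2, hoddF, h3, ⟨f⟩⟩ | ⟨⟨ψ⟩⟩
  · have h := psl_of_topData O.topData hoddF h3 f
    haveI := h.isCyclic_torus ht2
    refine isCyclic_of_injective (Subgroup.inclusion (K := Field.torus (topL K) t') ?_)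
      (Subgroup.inclusion_injective _)
    rintro _ ⟨x, hx, rfl⟩
    obtain ⟨c, hc, y, hy, hyb, e⟩ := O.decompose (mem_subgroupOf.1 hx)
    have hπc : π ⟨c, O.fixR_le_K hc⟩ = 1 := bar_eq_one.2 (O.fixR_le_core hc)
    have hxe : π x = π ⟨y, hy.2⟩ := by
      rw [show x = ⟨c, O.fixR_le_K hc⟩ * ⟨y, hy.2⟩ from Subtype.ext e, map_mul, hπc, one_mul]
    rw [hxe]
    have hyo : Odd (orderOf (π ⟨y, hy.2⟩)) := (odd_of_mem_R E hr O.ne_two hy.1).of_dvd_nat (by
      rw [← Subgroup.orderOf_mk y hy.2]; exact orderOf_map_dvd π _)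
    refine (h.mem_torus ht2).2 ⟨mem_of_inverted O.topData.normal (b := π ⟨b, O.b_mem_K⟩)
      (bar_mem_topL (O.perf_K.symm ▸ O.C.b_mem)) ?_ hyo, hcomm _ _ (hRt y hy.1), hyo⟩
    rw [← map_inv π ⟨b, O.b_mem_K⟩, ← map_mul, ← map_mul, ← map_inv π ⟨y, hy.2⟩]
    exact congrArg π (Subtype.ext (show b * y * b⁻¹ = y⁻¹ by rw [O.refl.inv, hyb]))
  · have htop := eq_top_of_seven O.topData.dc O.topData.cent ψ
    let ψ' := (topEquiv.symm.trans (MulEquiv.subgroupCongr htop.symm)).trans ψ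
    have hBodd : Odd (Nat.card B) := by
      refine Odd.of_dvd_nat ?_ (card_map_dvd _ π)
      rw [Nat.card_congr (subgroupOfEquivOfLe (inf_le_right : E.R r ⊓ K ≤ K)).toEquiv]
      exact (odd_card_R E hr O.ne_two).of_dvd_nat (card_dvd_of_le inf_le_left)
    have h3' := card_dvd_three ψ' ht2 (B := B) hBodd (by
      rintro _ ⟨y, hy, rfl⟩
      exact hcomm y.2 O.t_mem_K (hRt _ (mem_subgroupOf.1 hy).1))
    rcases (Nat.dvd_prime Nat.prime_three).1 h3' with h | h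
    · haveI : Subsingleton B := (Nat.card_eq_one_iff_unique.1 h).1
      exact isCyclic_of_subsingleton
    · exact isCyclic_of_prime_card (p := 3) (hp := ⟨Nat.prime_three⟩) h

/-- The inverted part of `R ∩ K` is cyclic. -/
theorem exists_inv_gen : ∃ y₀ ∈ E.R r ⊓ O.C.K, b * y₀ * b = y₀⁻¹ ∧
    ∀ y ∈ E.R r ⊓ O.C.K, b * y * b = y⁻¹ → y ∈ zpowers y₀ := by
  obtain ⟨⟨g, hg⟩, hgen⟩ := O.isCyclic_image.exists_generator
  obtain ⟨x, hx, rfl⟩ := hg
  obtain ⟨c, hc, y₀, hy₀, hy₀b, e⟩ := O.decompose (mem_subgroupOf.1 hx)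
  refine ⟨y₀, hy₀, hy₀b, fun y hy hyb => ?_⟩
  obtain ⟨i, hi⟩ := mem_zpowers_iff.1
    (hgen ⟨bar O.C.K ⟨y, hy.2⟩, ⟨y, hy.2⟩, mem_subgroupOf.2 hy, rfl⟩)
  have hi' : bar O.C.K x ^ i = bar O.C.K ⟨y, hy.2⟩ := congrArg Subtype.val hi
  have hxe : bar O.C.K x = bar O.C.K ⟨y₀, hy₀.2⟩ := by
    rw [show x = ⟨c, O.fixR_le_K hc⟩ * ⟨y₀, hy₀.2⟩ from Subtype.ext e, map_mul,
      bar_eq_one.2 (O.fixR_le_core hc : ((⟨c, O.fixR_le_K hc⟩ : O.C.K) : G) ∈ coreIn O.C.K), one_mul]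
  have hd : (y₀ ^ i)⁻¹ * y ∈ coreIn O.C.K := by
    have h := bar_eq_one.1 (show bar O.C.K ((⟨y₀, hy₀.2⟩ ^ i)⁻¹ * ⟨y, hy.2⟩) = 1 by
      rw [map_mul, map_inv, map_zpow, ← hxe, hi', inv_mul_cancel])
    simpa using h
  set d := (y₀ ^ i)⁻¹ * y with hdd
  have hp : y₀ ^ i ∈ E.R r ⊓ O.C.K := zpow_mem hy₀ i
  have hpb : b * y₀ ^ i * b = (y₀ ^ i)⁻¹ := by
    have h := conj_zpow (i := i) (a := b) (b := y₀)
    rw [O.refl.inv] at h
    rw [← h, hy₀b, inv_zpow]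
  have hdf : d ∈ O.fixR := O.mem_fix_of_core (mul_mem (inv_mem hp.1) hy.1) hd
  have hcom : Commute d (y₀ ^ i) := O.fix_commute_inverted hdf hp hpb
  have hdb : b * d * b = d := by rw [← (O.fix_props hdf).2.1, mul_assoc, O.refl.sq, mul_one]
  have hye : y = y₀ ^ i * d := by rw [hdd, mul_inv_cancel_left]
  have hd1 : d = 1 := by
    refine O.eq_one_of_fix_inv hdf.1 (O.fix_props hdf).2.1 ?_
    have h1 : b * y * b = (b * y₀ ^ i * b) * (b * d * b) := by
      rw [hye]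
      calc b * (y₀ ^ i * d) * b = b * y₀ ^ i * 1 * d * b := by group
        _ = _ := by rw [← O.refl.sq]; group
    rw [hyb, hpb, hdb, hye, mul_inv_rev, hcom.inv_left.inv_right.eq] at h1
    rw [hdb]
    exact (mul_left_cancel h1).symm
  rw [hye, hd1, mul_one]
  exact zpow_mem (mem_zpowers y₀) i

include O in
theorem center_inverted {z : G} (hz : z ∈ E.R r) (hzc : ∀ x ∈ E.R r, x * z = z * x) :
    b * z * b = z⁻¹ := by
  obtain ⟨c, hc, y, hy, hyb, e⟩ := O.decompose ⟨hz, O.center_le_K hzc⟩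
  have hcb : b * c * b = c := by rw [← (O.fix_props hc).2.1, mul_assoc, O.refl.sq, mul_one]
  have hcy := O.fix_commute_inverted hc hy hyb
  have hbzb : b * z * b = c * y⁻¹ := by
    calc b * z * b = b * c * 1 * y * b := by rw [e, mul_one, ← mul_assoc b c y]
      _ = (b * c * b) * (b * y * b) := by rw [← O.refl.sq]; group
      _ = _ := by rw [hcb, hyb]
  have hzc' : ∀ x ∈ E.R r, x * (b * z * b) = b * z * b * x := fun x hx => by
    have h := hzc _ (O.b_conj_R hx)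
    calc x * (b * z * b) = b * (b * x * b * z) * b := by simp only [← mul_assoc, O.refl.sq, one_mul]
      _ = b * (z * (b * x * b)) * b := by rw [h]
      _ = b * z * b * x := by simp only [mul_assoc, O.refl.sq, mul_one]
  have h2 : c * c = z * (b * z * b) := by
    rw [hbzb, e, ← mul_assoc, mul_assoc c y c, ← hcy]
    group
  have hcc : ∀ x ∈ E.R r, x * c = c * x := by
    intro x hx
    have h3 : Commute x (c * c) := h2 ▸ (show Commute x z from hzc x hx).mul_right (hzc' x hx)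
    obtain ⟨k, hk⟩ := CfsgLib.RankOneInvol.exists_pow_sq_eq (O.fix_props hc).2.2
    have h4 := h3.pow_right k
    rw [(Commute.refl c).mul_pow, hk] at h4
    exact h4.eq
  rw [O.eq_one_of_central hc hcc, one_mul] at e
  rw [e, hyb]

/-- The element of order `r` of `Z(R)`. -/
theorem exists_tau : ∃ τ ∈ E.R r ⊓ O.C.K, orderOf τ = r ∧ b * τ * b = τ⁻¹ ∧
    (∀ x ∈ E.R r, x * τ = τ * x) ∧
    ∀ y ∈ E.R r ⊓ O.C.K, b * y * b = y⁻¹ → y ^ r = 1 → y ∈ zpowers τ := by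
  obtain ⟨z, hz, hz1, hzc⟩ := O.exists_center
  obtain ⟨j, hj⟩ := exists_order O.prime (R_isPGroup E O.prime) hz hz1
  have hτc : ∀ x ∈ E.R r, x * z ^ j = z ^ j * x := fun x hx =>
    ((show Commute x z from hzc x hx).pow_right j).eq
  have hτb := O.center_inverted (pow_mem hz j) hτc
  have hτ : z ^ j ∈ E.R r ⊓ O.C.K := ⟨pow_mem hz j, O.center_le_K hτc⟩
  refine ⟨z ^ j, hτ, hj, hτb, hτc, fun y hy hyb hyr => ?_⟩
  obtain ⟨y₀, -, -, hgen⟩ := O.exists_inv_gen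
  exact mem_zpowers_of_cyclic (Φ := zpowers y₀) inferInstance O.prime (hgen _ hτ hτb) hj
    (hgen y hy hyb) hyr

/-- An inverted element outside `K` normalising `R ∩ K`. -/
theorem exists_w : ∃ w ∈ E.R r, w ∉ O.C.K ∧ b * w * b = w⁻¹ ∧
    ∀ x ∈ E.R r ⊓ O.C.K, w * x * w⁻¹ ∈ E.R r ⊓ O.C.K := by
  haveI := Fact.mk O.prime
  by_contra hno
  push Not at hno
  refine O.not_le ((eq_of_self_normalizing (R_isPGroup E O.prime) inf_le_left fun g hg hgn => ?_)
    ▸ inf_le_right)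
  refine ⟨hg, ?_⟩
  obtain ⟨c, w, hc, hcb, hw, hwb, e⟩ := CfsgLib.RankOneInvol.exists_fixed_mul_inverted
    (odd_card_R E O.prime O.ne_two) O.refl.sq (fun z hz => O.b_conj_R hz) hg
  have hcK : c ∈ O.C.K := O.fixR_le_K (O.mem_fixR hc (by
    calc c * b = b * c * b * b := by rw [hcb]
      _ = b * c := by rw [mul_assoc, O.refl.sq, mul_one]))
  by_contra hgK
  have hwK : w ∉ O.C.K := fun h => hgK (e ▸ mul_mem hcK h)
  obtain ⟨x, hx, hbad⟩ := hno w hw hwK hwb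
  refine hbad ?_
  have h1 := hgn x hx
  have hcc : c ∈ E.R r ⊓ O.C.K := ⟨hc, hcK⟩
  rw [show w * x * w⁻¹ = c⁻¹ * (g * x * g⁻¹) * c by rw [e]; group]
  exact mul_mem (mul_mem (inv_mem hcc) h1) hcc

theorem fix_eq_one_of_conj {w c : G} (hw : w ∈ E.R r) (hwK : w ∉ O.C.K) (hwb : b * w * b = w⁻¹)
    (hc : c ∈ O.fixR) (hc' : w * c * w⁻¹ ∈ O.fixR) : c = 1 := by
  by_contra h
  have hcb : b * c * b = c := by rw [← (O.fix_props hc).2.1, mul_assoc, O.refl.sq, mul_one]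
  have h2 : w⁻¹ * c * w = w * c * w⁻¹ := by
    calc w⁻¹ * c * w = (b * w * b) * (b * c * b) * (b * w * b)⁻¹ := by rw [hwb, hcb, inv_inv]
      _ = b * (w * (b * b) * c * w⁻¹) * b⁻¹ := by group
      _ = w * c * w⁻¹ := by rw [O.refl.sq, mul_one, ← (O.fix_props hc').2.1,
          mul_inv_cancel_right]
  have h3 : Commute (w * w) c := by
    show w * w * c = c * (w * w)
    calc w * w * c = w * (w * c * w⁻¹) * w := by group
      _ = w * (w⁻¹ * c * w) * w := by rw [h2]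
      _ = c * (w * w) := by group
  obtain ⟨k, hk⟩ := CfsgLib.RankOneInvol.exists_pow_sq_eq (odd_of_mem_R E O.prime O.ne_two hw)
  have h4 := h3.pow_left k
  rw [(Commute.refl w).mul_pow, hk] at h4
  exact hwK (O.centralizer_le hc h (mem_centralizer_singleton_iff.2 h4.eq))

theorem isCyclic_fixR : IsCyclic O.fixR := by
  obtain ⟨w, hw, hwK, hwb, hwn⟩ := O.exists_w
  let φ : O.fixR →* O.C.K :=
    { toFun := fun c => ⟨w * (c : G) * w⁻¹, (hwn c ⟨c.2.1, O.fixR_le_K c.2⟩).2⟩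
      map_one' := Subtype.ext (by simp)
      map_mul' := fun x y => Subtype.ext (by simp [mul_assoc]) }
  haveI := O.isCyclic_image
  let f : O.fixR →* ↥(((E.R r ⊓ O.C.K).subgroupOf O.C.K).map (bar O.C.K)) :=
    ((bar O.C.K).comp φ).codRestrict _ fun c =>
      ⟨φ c, mem_subgroupOf.2 (hwn c ⟨c.2.1, O.fixR_le_K c.2⟩), rfl⟩
  refine isCyclic_of_injective f ((injective_iff_map_eq_one f).2 fun c hc => Subtype.ext ?_)
  have h := bar_eq_one.1 (show bar O.C.K (φ c) = 1 from congrArg Subtype.val hc)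
  exact O.fix_eq_one_of_conj hw hwK hwb c.2
    (O.mem_fix_of_core (hwn c ⟨c.2.1, O.fixR_le_K c.2⟩).1 h)

/-- `R ∩ K` is abelian. -/
theorem commute_of_mem {x y : G} (hx : x ∈ E.R r ⊓ O.C.K) (hy : y ∈ E.R r ⊓ O.C.K) :
    x * y = y * x := by
  obtain ⟨y₀, hy₀, hy₀b, hgen⟩ := O.exists_inv_gen
  obtain ⟨c₁, hc₁, v₁, hv₁, hv₁b, rfl⟩ := O.decompose hx
  obtain ⟨c₂, hc₂, v₂, hv₂, hv₂b, rfl⟩ := O.decompose hy
  haveI := O.isCyclic_fixR
  have hcc : Commute c₁ c₂ := congrArg Subtype.val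
    (IsCyclic.commGroup.mul_comm (⟨c₁, hc₁⟩ : O.fixR) ⟨c₂, hc₂⟩)
  obtain ⟨i, rfl⟩ := hgen v₁ hv₁ hv₁b
  obtain ⟨j, rfl⟩ := hgen v₂ hv₂ hv₂b
  have h12 : Commute c₁ (y₀ ^ j) := O.fix_commute_inverted hc₁ hv₂ hv₂b
  have h21 : Commute (y₀ ^ i) c₂ := (O.fix_commute_inverted hc₂ hv₁ hv₁b).symm
  exact ((hcc.mul_right h12).mul_left (h21.mul_right ((Commute.refl y₀).zpow_zpow i j))).eq

end CfsgLib.GW.Max31.Out
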