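import Cfsg.Agent.Lib.GW.TorusData
import Cfsg.Agent.Lib.GW.Quad
import Cfsg.Agent.Lib.PF.OddOrder

/-!
Gorenstein–Walter, Step 3.1 (e) for Sylow four-groups: the odd core of a subgroup `L` with
`L ∩ O(C(t)) ≤ A` is centralised by `t`.
-/

set_option autoImplicit false
set_option linter.style.haveILetI false
set_option linter.unusedSectionVars false

namespace CfsgLib.GW.Max31.TorusData

open Subgroup CfsgLib.RankOneInvol
open scoped Pointwise

universe u

variable {G : Type u} [Group G] [Finite G] {E : Setup G} {b : G} {r : ℕ} (D : TorusData E b r)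
include D

theorem mem_U {x : G} (hx : x ∈ D.A) : x ∈ E.U := D.A_le hx

theorem commute_t {x : G} (hx : x ∈ D.A) : x * E.t = E.t * x := (E.mem_U.1 (D.A_le hx)).1

theorem odd_orderOf {x : G} (hx : x ∈ D.A) : Odd (orderOf x) := (E.mem_U.1 (D.A_le hx)).2

theorem inverted' {x : G} (hx : x ∈ D.A) : b * x * b⁻¹ = x⁻¹ := by
  rw [D.refl.inv]; exact D.inverted x hx

theorem comm {x y : G} (hx : x ∈ D.A) (hy : y ∈ D.A) : x * y = y * x := by
  refine inv_injective ?_
  rw [← D.inverted' (mul_mem hx hy), ← D.inverted' (mul_mem hy hx)]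
  calc b * (x * y) * b⁻¹ = (b * x * b⁻¹) * (b * y * b⁻¹) := by group
    _ = x⁻¹ * y⁻¹ := by rw [D.inverted' hx, D.inverted' hy]
    _ = (y * x)⁻¹ := (mul_inv_rev y x).symm
    _ = b * (y * x) * b⁻¹ := (D.inverted' (mul_mem hy hx)).symm

theorem S_cases {s : G} (hs : s ∈ (E.S : Subgroup G)) :
    s = 1 ∨ s = E.t ∨ s = b ∨ s = b * E.t :=
  D.refl.cases_of_commute hs (E.d.comm_of_four D.four hs D.refl.1)

theorem r_odd : Odd r := by
  haveI : Fact r.Prime := ⟨D.prime⟩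
  obtain ⟨x, hx⟩ := exists_prime_orderOf_dvd_card' (G := D.T) r D.dvd_T
  rw [← hx, ← Subgroup.orderOf_coe]
  exact D.odd_orderOf (D.T_le x.2)

theorem exists_tau : ∃ τ ∈ D.T, orderOf τ = r := by
  haveI : Fact r.Prime := ⟨D.prime⟩
  obtain ⟨x, hx⟩ := exists_prime_orderOf_dvd_card' (G := D.T) r D.dvd_T
  exact ⟨x, x.2, by rw [Subgroup.orderOf_coe, hx]⟩

/-- A subgroup meeting `O(C(t))` in a part of `A` of order divisible by `r`, outside `C(t)`. -/
structure Sub (L : Subgroup G) : Prop where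
  t_mem : E.t ∈ L
  b_mem : b ∈ L
  inf_U : L ⊓ E.U ≤ D.A
  tau : ∃ τ ∈ L ⊓ D.T, orderOf τ = r
  ne_top : L ≠ ⊤
  not_le : ¬ L ≤ E.H

/-- A small elementary subgroup of `O(C(t))` inverted by `b` and meeting `T` trivially. -/
theorem small {p : ℕ} [hp : Fact p.Prime] (hpr : p ≠ r) {W : Subgroup G} (hWU : W ≤ E.U)
    (hWe : ∀ w ∈ W, w ^ p = 1) (hWT : W ⊓ D.T = ⊥) :
    Nat.card W ≤ p ∧ (W ≠ ⊥ → 2 * p ≤ r + 1) := by
  haveI := D.N_normal
  obtain ⟨c, hc, hgen⟩ := D.gen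
  haveI hcyc : IsCyclic (E.U ⧸ D.N.subgroupOf E.U) := by
    refine ⟨⟨QuotientGroup.mk ⟨c, hc⟩, fun x => ?_⟩⟩
    obtain ⟨⟨v, hv⟩, rfl⟩ := QuotientGroup.mk_surjective x
    obtain ⟨i, hi⟩ := hgen v hv
    refine ⟨i, ?_⟩
    show (QuotientGroup.mk ⟨c, hc⟩ : E.U ⧸ D.N.subgroupOf E.U) ^ (i : ℤ) = _
    rw [zpow_natCast, ← QuotientGroup.mk_pow, QuotientGroup.eq, Subgroup.mem_subgroupOf]
    simpa using hi
  let φ : W →* E.U ⧸ D.N.subgroupOf E.U := (QuotientGroup.mk' _).comp (Subgroup.inclusion hWU)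
  have hinj : Function.Injective φ := by
    refine (injective_iff_map_eq_one φ).2 fun w hw => Subtype.ext ?_
    have hwN : (w : G) ∈ D.N := by
      have h := (QuotientGroup.eq_one_iff _).1 (show QuotientGroup.mk' _ (Subgroup.inclusion hWU w) = 1 from hw)
      exact Subgroup.mem_subgroupOf.1 h
    have hcop : (orderOf (w : G)).Coprime r := Nat.Coprime.of_dvd_left
      (orderOf_dvd_of_pow_eq_one (hWe _ w.2)) ((Nat.coprime_primes hp.out D.prime).2 hpr)
    have hbot : (w : G) ∈ W ⊓ D.T := ⟨w.2, D.N_primary _ hwN hcop⟩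
    rw [hWT, Subgroup.mem_bot] at hbot
    exact hbot
  haveI : IsCyclic φ.range := inferInstance
  have hcard : Nat.card φ.range = Nat.card W := (Nat.card_congr (MonoidHom.ofInjective hinj).toEquiv).symm
  obtain ⟨g, hg⟩ := IsCyclic.exists_generator (α := φ.range)
  have hord : orderOf g ∣ p := by
    refine orderOf_dvd_of_pow_eq_one ?_
    obtain ⟨w, hw⟩ := g.2
    refine Subtype.ext ?_
    rw [Subgroup.coe_pow, ← hw, ← map_pow, show w ^ p = 1 from Subtype.ext (hWe _ w.2), map_one]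
    rfl
  rw [orderOf_eq_card_of_forall_mem_zpowers hg, hcard] at hord
  refine ⟨Nat.le_of_dvd hp.out.pos hord, fun hne => ?_⟩
  have hWp : Nat.card W = p := (hp.out.eq_one_or_self_of_dvd _ hord).resolve_left
    fun h => hne (Subgroup.card_eq_one.1 h)
  have hd : Nat.card φ.range ∣ Nat.card (E.U ⧸ D.N.subgroupOf E.U) := Subgroup.card_subgroup_dvd_card _
  rw [hcard, hWp] at hd
  have hle : p ≤ D.N.relIndex E.U := Nat.le_of_dvd Nat.card_pos hd
  have := D.index_le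
  omega

/-- The index of `T` in `A` is at most that of `N` in `U`. -/
theorem relIndex_T_le : D.T.relIndex D.A ≤ D.N.relIndex E.U := by
  have h1 : D.T.relIndex D.A ≤ (D.A ⊓ D.N).relIndex D.A := by
    refine Nat.le_of_dvd ?_ (Subgroup.relIndex_dvd_of_le_left D.A D.A_inf_N)
    rw [Subgroup.relIndex]
    exact Nat.pos_of_ne_zero Subgroup.index_ne_zero_of_finite
  rw [Subgroup.inf_relIndex_left] at h1
  refine h1.trans ?_
  exact Subgroup.relIndex_le_of_le_right D.A_le (by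
    rw [Subgroup.relIndex]; exact Subgroup.index_ne_zero_of_finite)

/-- The elements of order a power of `r` in `A` lie in `T`. -/
theorem mem_T_of_pow {z : G} {k : ℕ} (hz : z ∈ D.A) (h : z ^ r ^ k = 1) :
    z ∈ D.T := by
  set m := D.T.relIndex D.A with hm
  have hmA : 0 < m := by
    rw [hm, Subgroup.relIndex]
    exact Nat.pos_of_ne_zero Subgroup.index_ne_zero_of_finite
  have hle : m ≤ D.N.relIndex E.U := D.relIndex_T_le
  haveI : (D.T.subgroupOf D.A).Normal := ⟨fun x hx y => by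
    rw [Subgroup.mem_subgroupOf, Subgroup.coe_mul, Subgroup.coe_mul, Subgroup.coe_inv,
      D.comm y.2 x.2, mul_inv_cancel_right]
    exact Subgroup.mem_subgroupOf.1 hx⟩
  have hlt : m < r := by
    have := D.index_le
    have := D.prime.two_le
    omega
  have hcop : m.Coprime (r ^ k) := Nat.Coprime.pow_right k
    ((Nat.Prime.coprime_iff_not_dvd D.prime).2 fun hd =>
      absurd (Nat.le_of_dvd hmA hd) (not_le.2 hlt)).symm
  have h1 : (QuotientGroup.mk ⟨z, hz⟩ : D.A ⧸ D.T.subgroupOf D.A) = 1 := by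
    refine orderOf_eq_one_iff.1 (Nat.eq_one_of_dvd_coprimes hcop ?_ ?_)
    · exact orderOf_dvd_natCard _
    · refine orderOf_dvd_of_pow_eq_one ?_
      rw [← QuotientGroup.mk_pow, show (⟨z, hz⟩ : D.A) ^ r ^ k = 1 from Subtype.ext (by simpa using h)]
      rfl
  exact Subgroup.mem_subgroupOf.1 ((QuotientGroup.eq_one_iff _).1 h1)

variable {D}

theorem Sub.S_le {L : Subgroup G} (hL : D.Sub L) : (E.S : Subgroup G) ≤ L := by
  intro s hs
  rcases D.S_cases hs with rfl | rfl | rfl | rfl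
  exacts [one_mem _, hL.t_mem, hL.b_mem, mul_mem hL.b_mem hL.t_mem]

theorem Sub.exists_mul {L : Subgroup G} (hL : D.Sub L) {x : G} (hx : x ∈ L) (hxH : x ∈ E.H) :
    ∃ u ∈ L ⊓ E.U, ∃ s ∈ (E.S : Subgroup G), x = u * s := by
  obtain ⟨u, hu, s, hs, rfl⟩ := E.exists_mul hxH
  refine ⟨u, ⟨?_, hu⟩, s, hs, rfl⟩
  simpa using mul_mem hx (inv_mem (hL.S_le hs))

theorem Sub.mem_A {L : Subgroup G} (hL : D.Sub L) {x : G} (hx : x ∈ L)
    (ht : x * E.t = E.t * x) (hodd : Odd (orderOf x)) : x ∈ D.A :=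
  hL.inf_U ⟨hx, E.mem_U.2 ⟨ht, hodd⟩⟩

/-- The centraliser of `⟨t, b⟩` in `L` has no odd part. -/
theorem Sub.eq_one {L : Subgroup G} (hL : D.Sub L) {x : G} (hx : x ∈ L)
    (ht : x * E.t = E.t * x) (hxb : x * b = b * x) (hodd : Odd (orderOf x)) : x = 1 := by
  refine eq_one_of_sq_of_odd hodd ?_
  have h := D.inverted' (hL.mem_A hx ht hodd)
  rw [← hxb, mul_inv_cancel_right] at h
  nth_rewrite 1 [h]
  exact inv_mul_cancel x

omit D in
/-- If `n⁻¹ τ n τ⁻¹` has order prime to that of `τ` and commutes with `τ`, then so does `n`. -/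
theorem commute_of_step {τ n c : G} (hc : τ * c = c * τ) (hn : τ * n * τ⁻¹ = n * c)
    (hcop : (orderOf c).Coprime (orderOf τ)) : τ * n = n * τ := by
  have key : ∀ i : ℕ, τ ^ i * n * (τ ^ i)⁻¹ = n * c ^ i := by
    intro i
    induction i with
    | zero => simp
    | succ i ih =>
      calc τ ^ (i + 1) * n * (τ ^ (i + 1))⁻¹ = τ * (τ ^ i * n * (τ ^ i)⁻¹) * τ⁻¹ := by
            rw [pow_succ']; group
        _ = (τ * n * τ⁻¹) * (τ * c ^ i * τ⁻¹) := by rw [ih]; group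
        _ = n * c * c ^ i := by
            rw [hn, ((show Commute τ c from hc).pow_right i).eq, mul_inv_cancel_right]
        _ = n * c ^ (i + 1) := by rw [pow_succ', mul_assoc]
  have h := key (orderOf τ)
  rw [pow_orderOf_eq_one, one_mul, inv_one, mul_one] at h
  have h1 : c ^ orderOf τ = 1 := by simpa using h.symm
  have h2 : c = 1 := orderOf_eq_one_iff.1
    (Nat.eq_one_of_dvd_coprimes hcop dvd_rfl (orderOf_dvd_of_pow_eq_one h1))
  rw [h2, mul_one, mul_inv_eq_iff_eq_mul] at hn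
  exact hn

/-- A normal subgroup of odd prime power order of `L` lies in `C(t)`. -/
theorem Sub.le_H_of_pgroup {L : Subgroup G} (hL : D.Sub L) {p : ℕ} [hp : Fact p.Prime] (hp2 : p ≠ 2)
    {P : Subgroup G} (hP : IsPGroup p P) (hPL : P ≤ L)
    (hn : ∀ g ∈ L, ∀ x ∈ P, g * x * g⁻¹ ∈ P) : P ≤ E.H := by
  classical
  have hodd : ∀ x ∈ P, Odd (orderOf x) := fun x hx => by
    obtain ⟨k, hk⟩ := IsPGroup.iff_orderOf.1 hP ⟨x, hx⟩
    rw [Subgroup.orderOf_mk] at hk
    rw [hk]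
    exact (hp.out.odd_of_ne_two hp2).pow
  obtain ⟨τ, hτm, hτo⟩ := hL.tau
  have hτL : τ ∈ L := hτm.1
  have hτT : τ ∈ D.T := hτm.2
  have hτA := D.T_le hτT
  have hτ1 : τ ≠ 1 := fun h => D.prime.ne_one (by rw [← hτo, h, orderOf_one])
  have hτt : τ * E.t = E.t * τ := D.commute_t hτA
  have hCτ : ∀ {x : G}, x * τ = τ * x → x ∈ E.H := fun h =>
    D.T_centralizer τ hτT hτ1 (mem_centralizer_singleton_iff.2 h)
  have hP0A : ∀ {x : G}, x ∈ P → x ∈ E.H → x ∈ D.A := fun hx hxH =>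
    hL.mem_A (hPL hx) (E.mem_H.1 hxH) (hodd _ hx)
  have hPn : ∀ {g : G}, g ∈ L → g ∈ normalizer (P : Set G) := fun {g} hg => by
    refine mem_normalizer_iff.2 fun x => ⟨hn g hg x, fun h => ?_⟩
    simpa [mul_assoc] using hn g⁻¹ (inv_mem hg) _ h
  rcases eq_or_ne p r with hpr | hpr
  · -- an `r`-group
    subst hpr
    rcases eq_or_ne P ⊥ with rfl | hne
    · exact bot_le
    set M := P ⊔ zpowers τ with hM
    have hτp : IsPGroup p (zpowers τ) := IsPGroup.of_card (n := 1) (by rw [Nat.card_zpowers, hτo, pow_one])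
    have hMp : IsPGroup p M := hP.to_sup_of_normal_left' hτp (zpowers_le.2 (hPn hτL))
    obtain ⟨z, hzP, hz1, hzM⟩ : ∃ z ∈ P, z ≠ 1 ∧ ∀ m ∈ M, z * m = m * z := by
      haveI : Nontrivial P := (Subgroup.nontrivial_iff_ne_bot P).2 hne
      let act : MulAction M P :=
        { smul := fun m x => ⟨(m : G) * x * (m : G)⁻¹, by
            have hmn : (m : G) ∈ normalizer (P : Set G) :=
              (sup_le le_normalizer (zpowers_le.2 (hPn hτL))) m.2
            exact (mem_normalizer_iff.1 hmn x).1 x.2⟩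
          one_smul := fun x => Subtype.ext
            (show ((1 : M) : G) * x * ((1 : M) : G)⁻¹ = x by simp)
          mul_smul := fun a c x => Subtype.ext
            (show ((a * c : M) : G) * x * ((a * c : M) : G)⁻¹ =
              (a : G) * ((c : G) * x * (c : G)⁻¹) * (a : G)⁻¹ by simp [mul_assoc]) }
      letI := act
      have h1 : (1 : P) ∈ MulAction.fixedPoints M P := fun m => Subtype.ext (by
        show (m : G) * ((1 : P) : G) * (m : G)⁻¹ = _
        simp)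
      obtain ⟨k, hk⟩ := IsPGroup.iff_card.1 hP
      have hk0 : k ≠ 0 := fun h => by
        rw [h, pow_zero] at hk
        exact hne (Subgroup.card_eq_one.1 hk)
      obtain ⟨z, hz, hz1⟩ := hMp.exists_fixed_point_of_prime_dvd_card_of_fixed_point P
        (hk ▸ dvd_pow_self p hk0) h1
      refine ⟨z, z.2, fun h => hz1 (Subtype.ext h.symm), fun m hm => ?_⟩
      have h2 : m * (z : G) * m⁻¹ = z := congrArg Subtype.val (hz ⟨m, hm⟩)
      exact (mul_inv_eq_iff_eq_mul.1 h2).symm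
    have hzH : z ∈ E.H := hCτ (hzM τ (le_sup_right (a := P) (mem_zpowers τ)))
    obtain ⟨k, hk⟩ := hP ⟨z, hzP⟩
    have hzT : z ∈ D.T := D.mem_T_of_pow (hP0A hzP hzH) (k := k) (by simpa using congrArg Subtype.val hk)
    exact fun x hx => D.T_centralizer z hzT hz1
      (mem_centralizer_singleton_iff.2 (hzM x (le_sup_left (b := zpowers τ) hx)).symm)
  -- the coprime case
  set P0 := P ⊓ E.H with hP0
  set Q := P ⊓ centralizer (P0 : Set G) with hQ
  have hP0Q : P0 ≤ Q := fun x hx => ⟨hx.1, mem_centralizer_iff.2 fun y hy =>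
    D.comm (hP0A hy.1 hy.2) (hP0A hx.1 hx.2)⟩
  have hτH : τ ∈ E.H := E.U_le_H (D.A_le hτA)
  have hτc : ∀ {x : G}, x ∈ P0 → τ * x = x * τ := fun hx => D.comm hτA (hP0A hx.1 hx.2)
  have hcop : ∀ {x : G}, x ∈ P → (orderOf x).Coprime (orderOf τ) := fun {x} hx => by
    obtain ⟨k, hk⟩ := IsPGroup.iff_orderOf.1 hP ⟨x, hx⟩
    rw [Subgroup.orderOf_mk] at hk
    rw [hk, hτo]
    exact Nat.Coprime.pow_left k ((Nat.coprime_primes hp.out D.prime).2 hpr)
  -- an element moved by `τ` into its own coset of `P0` is fixed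
  have hstep : ∀ {n : G}, n ∈ P → n⁻¹ * (τ * n * τ⁻¹) ∈ P0 → n ∈ P0 := fun {n} hn0 h => by
    have h1 := commute_of_step (hτc h) (show τ * n * τ⁻¹ = n * (n⁻¹ * (τ * n * τ⁻¹)) by group) (hcop h.1)
    exact ⟨hn0, hCτ h1.symm⟩
  by_cases hQle : Q ≤ P0
  · -- then `P0` is its own normaliser
    intro x hx
    by_contra hxH
    have hlt : P0.subgroupOf P < ⊤ := lt_top_iff_ne_top.2 fun h =>
      hxH (Subgroup.subgroupOf_eq_top.1 h hx).2
    haveI := hP.isNilpotent
    obtain ⟨n, hnN, hnP⟩ := SetLike.exists_of_lt (Group.normalizerCondition_of_isNilpotent _ hlt)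
    have hnconj : ∀ a ∈ P0, (n : G) * a * (n : G)⁻¹ ∈ P0 := fun a ha => by
      have h1 := (mem_normalizer_iff.1 hnN ⟨a, ha.1⟩).1 (Subgroup.mem_subgroupOf.2 ha)
      exact Subgroup.mem_subgroupOf.1 h1
    refine hnP (Subgroup.mem_subgroupOf.2 (hstep n.2 (hQle ⟨P.mul_mem (P.inv_mem n.2) (hn τ hτL n n.2),
      mem_centralizer_iff.2 fun a ha => ?_⟩)))
    have h2 : τ * (n : G) * τ⁻¹ * a * (τ * (n : G) * τ⁻¹)⁻¹ = (n : G) * a * (n : G)⁻¹ := by
      calc τ * (n : G) * τ⁻¹ * a * (τ * (n : G) * τ⁻¹)⁻¹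
          = τ * ((n : G) * (τ⁻¹ * (a * τ)) * (n : G)⁻¹) * τ⁻¹ := by group
        _ = τ * ((n : G) * a * (n : G)⁻¹) * τ⁻¹ := by rw [← hτc ha]; group
        _ = _ := by rw [hτc (hnconj a ha), mul_inv_cancel_right]
    calc a * ((n : G)⁻¹ * (τ * n * τ⁻¹))
        = (n : G)⁻¹ * ((n : G) * a * (n : G)⁻¹) * (τ * n * τ⁻¹) := by group
      _ = (n : G)⁻¹ * (τ * n * τ⁻¹) * a := by rw [← h2]; group
  exfalso
  have hQP : Q ≤ P := inf_le_left
  have hQc : ∀ {x q : G}, x ∈ P0 → q ∈ Q → x * q = q * x := fun hx hq =>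
    mem_centralizer_iff.1 hq.2 _ hx
  haveI hN0 : (P0.subgroupOf Q).Normal := ⟨fun x hx y => by
    rw [Subgroup.mem_subgroupOf, Subgroup.coe_mul, Subgroup.coe_mul, Subgroup.coe_inv,
      ← hQc (Subgroup.mem_subgroupOf.1 hx) y.2, mul_inv_cancel_right]
    exact Subgroup.mem_subgroupOf.1 hx⟩
  set π := QuotientGroup.mk' (P0.subgroupOf Q) with hπ
  let Ω : Subgroup (Q ⧸ P0.subgroupOf Q) :=
    { carrier := {x | x ∈ center (Q ⧸ P0.subgroupOf Q) ∧ x ^ p = 1}
      one_mem' := ⟨one_mem _, one_pow p⟩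
      mul_mem' := fun {x y} hx hy => ⟨mul_mem hx.1 hy.1, by
        rw [(show Commute x y from (mem_center_iff.1 hy.1 x)).mul_pow, hx.2, hy.2, one_mul]⟩
      inv_mem' := fun {x} hx => ⟨inv_mem hx.1, by rw [inv_pow, hx.2, inv_one]⟩ }
  set W := (Ω.comap π).map Q.subtype with hWdef
  have memW : ∀ {w : G}, w ∈ W ↔ w ∈ Q ∧ w ^ p ∈ P0 ∧ ∀ q ∈ Q, (q * w)⁻¹ * (w * q) ∈ P0 := by
    intro w
    constructor
    · rintro ⟨⟨w, hw⟩, ⟨hc, hpw⟩, rfl⟩
      refine ⟨hw, ?_, fun q hq => ?_⟩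
      · rw [← map_pow, hπ, QuotientGroup.mk'_apply, QuotientGroup.eq_one_iff, Subgroup.mem_subgroupOf] at hpw
        exact hpw
      · have h := mem_center_iff.1 hc (π ⟨q, hq⟩)
        rw [← map_mul, ← map_mul, hπ, QuotientGroup.mk'_apply, QuotientGroup.mk'_apply,
          QuotientGroup.eq, Subgroup.mem_subgroupOf] at h
        exact h
    · rintro ⟨hw, hpw, hc⟩
      refine ⟨⟨w, hw⟩, ⟨mem_center_iff.2 fun x => ?_, ?_⟩, rfl⟩
      · obtain ⟨⟨q, hq⟩, rfl⟩ := QuotientGroup.mk'_surjective (P0.subgroupOf Q) x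
        rw [← map_mul, ← map_mul, hπ, QuotientGroup.mk'_apply, QuotientGroup.mk'_apply,
          QuotientGroup.eq, Subgroup.mem_subgroupOf]
        exact hc q hq
      · rw [← map_pow, hπ, QuotientGroup.mk'_apply, QuotientGroup.eq_one_iff, Subgroup.mem_subgroupOf]
        exact hpw
  have hWQ : W ≤ Q := fun w hw => (memW.1 hw).1
  have hWP : W ≤ P := hWQ.trans hQP
  have hP0W : P0 ≤ W := fun x hx => memW.2 ⟨hP0Q hx, pow_mem hx p, fun q hq => by
    rw [hQc hx hq, inv_mul_cancel]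
    exact one_mem P0⟩
  have hg0 : ∀ {g : G}, g ∈ L → g ∈ E.H → ∀ {x : G}, x ∈ P0 → g * x * g⁻¹ ∈ P0 :=
    fun hgL hgH x hx => ⟨hn _ hgL _ hx.1, E.H.mul_mem (E.H.mul_mem hgH hx.2) (E.H.inv_mem hgH)⟩
  have hWn : ∀ {g : G}, g ∈ L → g ∈ E.H → ∀ {w : G}, w ∈ W → g * w * g⁻¹ ∈ W := by
    intro g hgL hgH w hw
    obtain ⟨h1, h2, h3⟩ := memW.1 hw
    have hgQ : ∀ {g : G}, g ∈ L → g ∈ E.H → ∀ q ∈ Q, g * q * g⁻¹ ∈ Q := fun {g} hgL hgH q hq =>
      ⟨hn g hgL q hq.1, mem_centralizer_iff.2 fun a ha => by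
        have := hQc (hg0 (inv_mem hgL) (inv_mem hgH) ha) hq
        calc a * (g * q * g⁻¹) = g * ((g⁻¹ * a * g⁻¹⁻¹) * q) * g⁻¹ := by group
          _ = g * q * g⁻¹ * a := by rw [this]; group⟩
    refine memW.2 ⟨hgQ hgL hgH w h1, ?_, fun q hq => ?_⟩
    · have e := hg0 hgL hgH h2
      rwa [← MulAut.conj_apply, map_pow, MulAut.conj_apply] at e
    · have h4 := hg0 hgL hgH (h3 _ (hgQ (inv_mem hgL) (inv_mem hgH) q hq))
      convert h4 using 1
      group
  obtain ⟨w0, hw0, hw0P⟩ : ∃ w ∈ W, w ∉ P0 := by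
    haveI : Nontrivial (Q ⧸ P0.subgroupOf Q) := by
      obtain ⟨q, hq, hqP⟩ := SetLike.not_le_iff_exists.1 hQle
      exact ⟨⟨π ⟨q, hq⟩, 1, fun h => hqP (by
        rwa [hπ, QuotientGroup.mk'_apply, QuotientGroup.eq_one_iff, Subgroup.mem_subgroupOf] at h)⟩⟩
    have hQp : IsPGroup p Q := hP.to_le hQP
    haveI := (hQp.to_quotient (P0.subgroupOf Q)).center_nontrivial
    obtain ⟨k, hk⟩ := IsPGroup.iff_card.1 ((hQp.to_quotient (P0.subgroupOf Q)).to_subgroup (center _))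
    have hk0 : k ≠ 0 := fun h => by
      have := Finite.one_lt_card (α := center (Q ⧸ P0.subgroupOf Q))
      rw [hk, h, pow_zero] at this
      exact lt_irrefl _ this
    obtain ⟨x, hx⟩ := exists_prime_orderOf_dvd_card' (G := center (Q ⧸ P0.subgroupOf Q)) p
      (hk ▸ dvd_pow_self p hk0)
    obtain ⟨⟨w, hw⟩, hwx⟩ := QuotientGroup.mk'_surjective (P0.subgroupOf Q) x.1
    have hxo : orderOf (x : Q ⧸ P0.subgroupOf Q) = p := by rw [Subgroup.orderOf_coe, hx]
    refine ⟨w, ⟨⟨w, hw⟩, ⟨?_, ?_⟩, rfl⟩, fun hwP => ?_⟩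
    · rw [hπ, hwx]; exact x.2
    · rw [hπ, hwx, ← hxo]; exact pow_orderOf_eq_one _
    · have : (x : Q ⧸ P0.subgroupOf Q) = 1 := by
        rw [← hwx, QuotientGroup.mk'_apply, QuotientGroup.eq_one_iff, Subgroup.mem_subgroupOf]
        exact hwP
      rw [this, orderOf_one] at hxo
      exact hp.out.ne_one hxo.symm
  -- the parts centralised by `b` and by `b t`
  obtain ⟨g, hg1, hg2, hg3⟩ := D.refl.exists_rot
  have htL := hL.t_mem
  have htH : E.t ∈ E.H := E.S_le_H E.t_mem_S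
  have htt : ∀ x : G, x * E.t = E.t * x ↔ E.t * x * E.t = x := fun x => by
    constructor
    · intro h; rw [← h, mul_assoc, E.t_sq, mul_one]
    · intro h
      nth_rewrite 1 [← h]
      rw [mul_assoc, E.t_sq, mul_one]
  have small_part : ∀ v h : G, (v = b ∨ v = b * E.t) → h * v * h⁻¹ = E.t →
      (h * E.t * h⁻¹ = b ∨ h * E.t * h⁻¹ = b * E.t) →
      Nat.card ↥(W ⊓ centralizer ({v} : Set G)) ≤ p ∧
        (W ⊓ centralizer ({v} : Set G) ≠ ⊥ → 2 * p ≤ r + 1) := by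
    intro v h hv hhv hht
    set Wv := W ⊓ centralizer ({v} : Set G) with hWv
    have hvL : v ∈ L := by rcases hv with rfl | rfl; exacts [hL.b_mem, mul_mem hL.b_mem hL.t_mem]
    have hvH : v ∈ E.H := by
      rcases hv with rfl | rfl; exacts [D.refl.mem_H, mul_mem D.refl.mem_H htH]
    have hvt : v * E.t = E.t * v := E.mem_H.1 hvH
    have hxb : ∀ {x : G}, x * E.t = E.t * x → x * v = v * x → x * b = b * x := fun {x} h1 h2 => by
      rcases hv with rfl | rfl
      · exact h2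
      · have := (show Commute x (b * E.t) from h2).mul_right (show Commute x E.t from h1)
        rwa [mul_assoc, E.t_sq, mul_one] at this
    have hfix : ∀ {y : G}, y ∈ Wv → y * E.t = E.t * y → y = 1 := fun {y} hy hyt =>
      hL.eq_one (hPL (hWP hy.1)) hyt (hxb hyt (mem_centralizer_singleton_iff.1 hy.2)) (hodd _ (hWP hy.1))
    have hWvodd : Odd (Nat.card Wv) := by
      obtain ⟨k, hk⟩ := IsPGroup.iff_card.1 (hP.to_le ((inf_le_left : Wv ≤ W).trans hWP))
      rw [hk]; exact (hp.out.odd_of_ne_two hp2).pow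
    have hWvt : ∀ y ∈ Wv, E.t * y * E.t ∈ Wv := fun y hy => by
      refine ⟨by simpa [E.t_inv] using hWn htL htH hy.1, mem_centralizer_singleton_iff.2 ?_⟩
      have h2 := mem_centralizer_singleton_iff.1 hy.2
      calc E.t * y * E.t * v = E.t * (y * v) * E.t := by rw [mul_assoc, ← hvt]; group
        _ = v * (E.t * y * E.t) := by rw [h2, ← mul_assoc E.t v, ← hvt]; group
    have hinv : ∀ {y : G}, y ∈ Wv → E.t * y * E.t = y⁻¹ := fun {y} hy => by
      obtain ⟨y1, z, hy1, hy1t, -, hzt, rfl⟩ := exists_fixed_mul_inverted hWvodd E.t_sq hWvt hy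
      rw [hfix hy1 ((htt y1).2 hy1t), one_mul]
      exact hzt
    have hpow : ∀ {y : G}, y ∈ Wv → y ^ p = 1 := fun {y} hy =>
      hfix (pow_mem hy p) (E.mem_H.1 ((memW.1 hy.1).2.1).2)
    set W' := Wv.map (MulAut.conj h).toMonoidHom with hW'
    have hW'U : W' ≤ E.U := by
      rintro _ ⟨y, hy, rfl⟩
      show h * y * h⁻¹ ∈ E.U
      refine E.mem_U.2 ⟨?_, odd_orderOf_conj (hodd _ (hWP hy.1)) h⟩
      have := Setup.commute_conj (g := h) (mem_centralizer_singleton_iff.1 hy.2)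
      rwa [hhv] at this
    by_cases hT : W' ⊓ D.T = ⊥
    · obtain ⟨h1, h2⟩ := D.small hpr hW'U (fun w hw => by
        obtain ⟨y, hy, rfl⟩ := hw
        show (MulAut.conj h y) ^ p = 1
        rw [← map_pow, hpow hy, map_one]) hT
      rw [hW', card_map_of_injective (MulAut.conj h).injective] at h1
      refine ⟨h1, fun hne => h2 fun e => hne ?_⟩
      rw [hW', Subgroup.map_eq_bot_iff_of_injective _ (MulAut.conj h).injective] at e
      exact e
    exfalso
    obtain ⟨_, ⟨⟨y, hy, rfl⟩, hyT⟩, hy1⟩ : ∃ x, x ∈ W' ⊓ D.T ∧ x ≠ 1 :=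
      (Subgroup.ne_bot_iff_exists_ne_one.1 hT).elim fun x hx => ⟨x, x.2, fun e => hx (Subtype.ext e)⟩
    replace hyT : h * y * h⁻¹ ∈ D.T := hyT
    replace hy1 : h * y * h⁻¹ ≠ 1 := hy1
    have hCy : ∀ {z : G}, z * y = y * z → z * v = v * z := fun {z} hz => by
      have h3 := E.mem_H.1 (D.T_centralizer _ hyT hy1
        (mem_centralizer_singleton_iff.2 (Setup.commute_conj (g := h) hz)))
      rw [← hhv] at h3
      have h4 := Setup.commute_conj (g := h⁻¹) h3
      simpa [mul_assoc] using h4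
    have hP0bot : ∀ {x : G}, x ∈ P0 → x = 1 := fun {x} hx => by
      have hxt := E.mem_H.1 hx.2
      exact hL.eq_one (hPL hx.1) hxt (hxb hxt (hCy (hQc hx (hWQ hy.1)))) (hodd _ hx.1)
    refine hw0P ⟨hWP hw0, hCτ ?_⟩
    have hWc : ∀ {w : G}, w ∈ W → w * v = v * w := fun {w} hw => hCy (by
      have h1 := hP0bot ((memW.1 hw).2.2 y (hWQ hy.1))
      rw [inv_mul_eq_one] at h1
      exact h1.symm)
    have hvτ : v * τ * v⁻¹ = τ⁻¹ := by
      rcases hv with rfl | rfl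
      · exact D.inverted' hτA
      · calc b * E.t * τ * (b * E.t)⁻¹ = b * (E.t * τ * E.t⁻¹) * b⁻¹ := by group
          _ = τ⁻¹ := by rw [← hτt, mul_inv_cancel_right, D.inverted' hτA]
    have h1 := hWc (hWn hτL hτH hw0)
    have h2 : τ⁻¹ * w0 * τ = τ * w0 * τ⁻¹ := by
      calc τ⁻¹ * w0 * τ = (v * τ * v⁻¹) * (v * w0 * v⁻¹) * (v * τ * v⁻¹)⁻¹ := by
            rw [hvτ, ← hWc hw0, mul_inv_cancel_right]; group
        _ = v * (τ * w0 * τ⁻¹) * v⁻¹ := by group
        _ = τ * w0 * τ⁻¹ := by rw [← h1, mul_inv_cancel_right]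
    have h3 : Commute (τ * τ) w0 := by
      show τ * τ * w0 = w0 * (τ * τ)
      calc τ * τ * w0 = τ * (τ * w0 * τ⁻¹) * τ := by group
        _ = w0 * (τ * τ) := by rw [← h2]; group
    obtain ⟨k, hk⟩ := exists_pow_sq_eq (D.odd_orderOf hτA)
    have h4 := h3.pow_left k
    rw [(Commute.refl τ).mul_pow, hk] at h4
    exact h4.eq.symm
  obtain ⟨hb1, hb2⟩ := small_part b g⁻¹ (Or.inl rfl)
    (by rw [← hg1]; group) (Or.inr (by
      calc g⁻¹ * E.t * g⁻¹⁻¹ = g⁻¹ * (g * (b * E.t) * g⁻¹) * g := by rw [hg3, inv_inv]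
        _ = b * E.t := by group))
  obtain ⟨hc1, hc2⟩ := small_part (b * E.t) g (Or.inr rfl) hg3 (Or.inl hg1)
  -- the quotient `W / P0` has order at most `p²`
  haveI hNW : (P0.subgroupOf W).Normal := ⟨fun x hx y => by
    rw [Subgroup.mem_subgroupOf, Subgroup.coe_mul, Subgroup.coe_mul, Subgroup.coe_inv,
      ← hQc (Subgroup.mem_subgroupOf.1 hx) (hWQ y.2), mul_inv_cancel_right]
    exact Subgroup.mem_subgroupOf.1 hx⟩
  set ψ := QuotientGroup.mk' (P0.subgroupOf W) with hψ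
  have hcomm : ∀ x y : W ⧸ P0.subgroupOf W, x * y = y * x := by
    intro x y
    obtain ⟨x, rfl⟩ := QuotientGroup.mk'_surjective _ x
    obtain ⟨y, rfl⟩ := QuotientGroup.mk'_surjective _ y
    rw [← map_mul, ← map_mul, QuotientGroup.mk'_apply, QuotientGroup.mk'_apply, QuotientGroup.eq,
      Subgroup.mem_subgroupOf]
    exact (memW.1 y.2).2.2 x (hWQ x.2)
  set Wb := W ⊓ centralizer ({b} : Set G) with hWb
  set Wc := W ⊓ centralizer ({b * E.t} : Set G) with hWc
  set A1 := (Wb.subgroupOf W).map ψ with hA1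
  set A2 := (Wc.subgroupOf W).map ψ with hA2
  haveI : A2.Normal := ⟨fun x hx y => by rwa [hcomm y x, mul_inv_cancel_right]⟩
  have htop : A1 ⊔ A2 = ⊤ := by
    refine eq_top_iff.2 fun x _ => ?_
    obtain ⟨w, rfl⟩ := QuotientGroup.mk'_surjective _ x
    have hWodd : Odd (Nat.card W) := by
      obtain ⟨k, hk⟩ := IsPGroup.iff_card.1 (hP.to_le hWP)
      rw [hk]; exact (hp.out.odd_of_ne_two hp2).pow
    have hle : W ≤ ((A1 ⊔ A2).comap ψ).map W.subtype := by
      refine D.refl.le_of_fixed hWodd (fun y hy => by simpa [E.t_inv] using hWn htL htH hy)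
        (fun y hy => by simpa [D.refl.inv] using hWn hL.b_mem D.refl.mem_H hy) (fun y hy h => ?_)
        (fun y hy h => ?_) (fun y hy h => ?_)
      · refine ⟨⟨y, hy⟩, ?_, rfl⟩
        have hy0 : ψ ⟨y, hy⟩ = 1 := by
          rw [hψ, QuotientGroup.mk'_apply, QuotientGroup.eq_one_iff, Subgroup.mem_subgroupOf]
          exact ⟨hWP hy, E.mem_H.2 h⟩
        show ψ ⟨y, hy⟩ ∈ A1 ⊔ A2
        rw [hy0]
        exact one_mem _
      · exact ⟨⟨y, hy⟩, le_sup_left (b := A2) (mem_map_of_mem _ (show (⟨y, hy⟩ : W) ∈ Wb.subgroupOf W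
          from ⟨hy, mem_centralizer_singleton_iff.2 h⟩)), rfl⟩
      · exact ⟨⟨y, hy⟩, le_sup_right (a := A1) (mem_map_of_mem _ (show (⟨y, hy⟩ : W) ∈ Wc.subgroupOf W
          from ⟨hy, mem_centralizer_singleton_iff.2 h⟩)), rfl⟩
    obtain ⟨w', hw', hww⟩ := hle w.2
    rwa [← W.subtype_injective hww]
  have hcard : Nat.card (W ⧸ P0.subgroupOf W) ≤ p * p := by
    have h1 : ((A1 : Set (W ⧸ P0.subgroupOf W)) * (A2 : Set (W ⧸ P0.subgroupOf W))) = Set.univ := by
      rw [← Subgroup.mul_normal, htop, Subgroup.coe_top]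
    have h2 : Nat.card A1 ≤ p := ((Nat.le_of_dvd Nat.card_pos (Subgroup.card_map_dvd _ _)).trans
      (Nat.card_congr (subgroupOfEquivOfLe (inf_le_left : Wb ≤ W)).toEquiv).le).trans hb1
    have h3 : Nat.card A2 ≤ p := ((Nat.le_of_dvd Nat.card_pos (Subgroup.card_map_dvd _ _)).trans
      (Nat.card_congr (subgroupOfEquivOfLe (inf_le_left : Wc ≤ W)).toEquiv).le).trans hc1
    calc Nat.card (W ⧸ P0.subgroupOf W)
        = Nat.card ↥((A1 : Set (W ⧸ P0.subgroupOf W)) * (A2 : Set (W ⧸ P0.subgroupOf W))) := by rw [h1, Nat.card_univ]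
      _ ≤ Nat.card A1 * Nat.card A2 := Set.natCard_mul_le
      _ ≤ p * p := Nat.mul_le_mul h2 h3
  have hpμ : 2 * p ≤ r + 1 := by
    by_cases hWb0 : Wb = ⊥
    · by_cases hWc0 : Wc = ⊥
      · exfalso
        have hA : A1 = ⊥ ∧ A2 = ⊥ := by
          constructor <;> simp [hA1, hA2, hWb0, hWc0]
        rw [hA.1, hA.2, bot_sup_eq] at htop
        have hx : ψ ⟨w0, hw0⟩ ∈ (⊥ : Subgroup (W ⧸ P0.subgroupOf W)) := htop ▸ mem_top _
        rw [mem_bot, hψ, QuotientGroup.mk'_apply, QuotientGroup.eq_one_iff, Subgroup.mem_subgroupOf] at hx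
        exact hw0P hx
      · exact hc2 hWc0
    · exact hb2 hWb0
  -- `τ` acts on `W / P0` without fixed points
  haveI : Fact r.Prime := ⟨D.prime⟩
  let f : Function.End (W ⧸ P0.subgroupOf W) := Quotient.map'
    (fun w => ⟨τ * w * τ⁻¹, hWn hτL hτH w.2⟩) fun x y hxy => by
      rw [QuotientGroup.leftRel_apply, Subgroup.mem_subgroupOf] at hxy ⊢
      have h := hg0 hτL hτH hxy
      simpa [mul_assoc] using h
  have hf : ∀ (w : W), f (QuotientGroup.mk w) =
      QuotientGroup.mk ⟨τ * w * τ⁻¹, hWn hτL hτH w.2⟩ := fun w => rfl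
  have hfp : f ^ r ^ 1 = 1 := by
    have key : ∀ (i : ℕ) (w : W), ∃ h : τ ^ i * w * (τ ^ i)⁻¹ ∈ W,
        (f ^ i) (QuotientGroup.mk w) = QuotientGroup.mk ⟨_, h⟩ := by
      intro i
      induction i with
      | zero => exact fun w => ⟨by simp, congrArg QuotientGroup.mk (Subtype.ext (by simp))⟩
      | succ i ih =>
        intro w
        obtain ⟨h, e⟩ := ih w
        have e2 : τ ^ (i + 1) * w * (τ ^ (i + 1))⁻¹ = τ * (τ ^ i * w * (τ ^ i)⁻¹) * τ⁻¹ := by
          rw [pow_succ']; group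
        refine ⟨e2 ▸ hWn hτL hτH h, ?_⟩
        rw [pow_succ', show (f * f ^ i) (QuotientGroup.mk w) = f ((f ^ i) (QuotientGroup.mk w)) from rfl, e,
          hf]
        exact congrArg QuotientGroup.mk (Subtype.ext e2.symm)
    funext x
    obtain ⟨w, rfl⟩ := QuotientGroup.mk_surjective x
    obtain ⟨h, e⟩ := key (r ^ 1) w
    rw [e]
    refine congrArg QuotientGroup.mk (Subtype.ext ?_)
    show τ ^ r ^ 1 * (w : G) * (τ ^ r ^ 1)⁻¹ = w
    rw [pow_one r, ← hτo, pow_orderOf_eq_one, one_mul, inv_one, mul_one]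
  letI := Fintype.ofFinite (W ⧸ P0.subgroupOf W)
  letI : DecidableEq (W ⧸ P0.subgroupOf W) := Classical.decEq _
  have hmod := Equiv.Perm.card_fixedPoints_modEq hfp
  have hfix : ∀ x : Function.fixedPoints f, (x : W ⧸ P0.subgroupOf W) = 1 := by
    rintro ⟨x, hx⟩
    obtain ⟨w, rfl⟩ := QuotientGroup.mk_surjective x
    have h1 : f (QuotientGroup.mk w) = QuotientGroup.mk w := hx
    rw [hf, QuotientGroup.eq, Subgroup.mem_subgroupOf] at h1
    have h2 := inv_mem h1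
    simp only [Subgroup.coe_mul, Subgroup.coe_inv, mul_inv_rev, inv_inv] at h2
    show (QuotientGroup.mk w : W ⧸ P0.subgroupOf W) = 1
    rw [QuotientGroup.eq_one_iff, Subgroup.mem_subgroupOf]
    exact hstep (hWP w.2) h2
  haveI : Unique (Function.fixedPoints f) :=
    { default := ⟨1, by
        show f (QuotientGroup.mk 1) = QuotientGroup.mk 1
        rw [hf]; exact congrArg QuotientGroup.mk (Subtype.ext (by simp))⟩
      uniq := fun x => Subtype.ext (hfix x) }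
  rw [← Nat.card_eq_fintype_card, ← Nat.card_eq_fintype_card, Nat.card_unique (α := Function.fixedPoints f)] at hmod
  obtain ⟨j, hj⟩ := IsPGroup.iff_card.1 ((hP.to_le hWP).to_quotient (P0.subgroupOf W))
  have hj0 : j ≠ 0 := fun h => by
    rw [h, pow_zero] at hj
    haveI := (Nat.card_eq_one_iff_unique.1 hj).1
    have : (QuotientGroup.mk ⟨w0, hw0⟩ : W ⧸ P0.subgroupOf W) = 1 := Subsingleton.elim _ _
    rw [QuotientGroup.eq_one_iff, Subgroup.mem_subgroupOf] at this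
    exact hw0P this
  have hj2 : j ≤ 2 := by
    by_contra h
    rw [hj, ← pow_two] at hcard
    exact absurd hcard (Nat.not_le.2 (Nat.pow_lt_pow_right hp.out.one_lt (by omega)))
  rw [hj] at hmod
  have hd : r ∣ p ^ j - 1 := (Nat.modEq_iff_dvd' (Nat.one_le_pow _ _ hp.out.pos)).1 hmod.symm
  have h3 : 3 ≤ p := by have := hp.out.two_le; omega
  have hr : r ∣ p - 1 ∨ r ∣ p + 1 := by
    interval_cases j
    · exact absurd rfl hj0
    · exact Or.inl (by simpa using hd)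
    · rw [show p ^ 2 - 1 = (p + 1) * (p - 1) by rw [← Nat.sq_sub_sq p 1, one_pow]] at hd
      exact (D.prime.dvd_mul.1 hd).symm
  rcases hr with h | h
  · have := Nat.le_of_dvd (by omega) h
    omega
  · have := Nat.le_of_dvd (by omega) h
    omega

/-- The odd core of `L` is centralised by `t`. -/
theorem Sub.coreIn_le_H {L : Subgroup G} (hL : D.Sub L) : coreIn L ≤ E.H := by
  set O := coreIn L with hO
  have hodd : Odd (Nat.card O) := odd_card_coreIn L
  haveI : Group.IsSolvable O := CfsgLib.PF.oddSolvable O hodd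
  have hn : ∀ g ∈ L, ∀ x ∈ O, g * x * g⁻¹ ∈ O := fun g hg x hx => conj_mem_coreIn hg hx
  have hfit : fitIn O ≤ E.H := by
    rw [fitIn, CfsgLib.Fitting.fitting_eq_iSup_pCore, Subgroup.map_iSup]
    refine iSup_le fun q => ?_
    haveI : Fact (q : ℕ).Prime := ⟨Nat.prime_of_mem_primeFactors q.2⟩
    rcases eq_or_ne (q : ℕ) 2 with h2 | h2
    · intro x hx
      obtain ⟨k, hk⟩ := IsPGroup.iff_orderOf.1 ((CfsgLib.Fitting.pCore_isPGroup (G := O) q).map O.subtype) ⟨x, hx⟩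
      have h1 : Odd (orderOf x) := odd_orderOf_of_mem hodd (map_subtype_le _ hx)
      rw [Subgroup.orderOf_mk] at hk
      rw [hk, h2] at h1
      rcases Nat.eq_zero_or_pos k with rfl | hk0
      · rw [pow_zero, orderOf_eq_one_iff] at hk
        exact hk ▸ one_mem _
      · exact absurd h1 (Nat.not_odd_iff_even.2 (Nat.even_pow.2 ⟨even_two, hk0.ne'⟩))
    refine hL.le_H_of_pgroup (p := q) h2 ((CfsgLib.Fitting.pCore_isPGroup (q : ℕ)).map O.subtype)
      ((map_subtype_le _).trans (coreIn_le L)) fun g hg x hx => ?_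
    obtain ⟨y, hy, rfl⟩ := hx
    have hgO : g ∈ normalizer (O : Set G) := by
      refine mem_normalizer_iff.2 fun z => ⟨hn g hg z, fun h => ?_⟩
      simpa [mul_assoc] using hn g⁻¹ (inv_mem hg) _ h
    let σ : O ≃* O := O.normalizerMonoidHom ⟨g, hgO⟩
    refine ⟨σ y, ?_, rfl⟩
    exact CfsgLib.Fitting.pCore_map_mulEquiv (q : ℕ) σ ▸ mem_map_of_mem _ hy
  intro x hx
  obtain ⟨y, a, hy, hyt, ha, hat, rfl⟩ := exists_fixed_mul_inverted hodd E.t_sq
    (fun w hw => by simpa [E.t_inv] using hn _ hL.t_mem w hw) hx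
  have hfix : ∀ {f : G}, f ∈ fitIn O → E.t * f * E.t = f := fun {f} hf => by
    rw [← E.mem_H.1 (hfit hf), mul_assoc, E.t_sq, mul_one]
  have haF : ∀ {f : G}, f ∈ fitIn O → a * f * a⁻¹ ∈ fitIn O ∧ a⁻¹ * f * a ∈ fitIn O := fun {f} hf => by
    obtain ⟨f, hf', rfl⟩ := hf
    refine ⟨⟨⟨a, ha⟩ * f * ⟨a, ha⟩⁻¹, CfsgLib.Fitting.fitting_normal.conj_mem f hf' _, rfl⟩,
      ⟨⟨a, ha⟩⁻¹ * f * ⟨a, ha⟩⁻¹⁻¹, CfsgLib.Fitting.fitting_normal.conj_mem f hf' _, ?_⟩⟩
    simp
  have ha2 : ∀ f ∈ fitIn O, f * (a * a) = a * a * f := fun f hf => by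
    have h1 := hfix (haF hf).1
    have h2 : E.t * (a * f * a⁻¹) * E.t = a⁻¹ * f * a := by
      calc E.t * (a * f * a⁻¹) * E.t = E.t * (a * f * a⁻¹) * E.t⁻¹ := by rw [E.t_inv]
        _ = (E.t * a * E.t⁻¹) * (E.t * f * E.t⁻¹) * (E.t * a * E.t⁻¹)⁻¹ := by group
        _ = a⁻¹ * f * a := by rw [E.t_inv, hat, hfix hf, inv_inv]
    rw [h2] at h1
    calc f * (a * a) = a * (a⁻¹ * f * a) * a := by group
      _ = a * a * f := by rw [h1]; group
  have haaF : a * a ∈ fitIn O := by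
    have h1 : (⟨a * a, mul_mem ha ha⟩ : O) ∈ centralizer (Cfsg.fittingSubgroup O : Set O) :=
      mem_centralizer_iff.2 fun f hf => Subtype.ext (ha2 f ⟨f, hf, rfl⟩)
    exact ⟨_, CfsgLib.Fitting.centralizer_fitting_le h1, rfl⟩
  have h4 : a * a = (a * a)⁻¹ := by
    calc a * a = E.t * (a * a) * E.t := (hfix haaF).symm
      _ = (E.t * a * E.t) * (E.t * a * E.t) := by
          rw [show E.t * a * E.t * (E.t * a * E.t) = E.t * a * (E.t * E.t) * a * E.t by group, E.t_sq]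
          group
      _ = (a * a)⁻¹ := by rw [hat, mul_inv_rev]
  have h5 : a = 1 := eq_one_of_mem_of_sq hodd ha (eq_one_of_mem_of_sq hodd (mul_mem ha ha)
    (by nth_rewrite 1 [h4]; exact inv_mul_cancel _))
  rw [h5, mul_one]
  refine E.mem_H.2 ?_
  nth_rewrite 1 [← hyt]
  rw [mul_assoc, E.t_sq, mul_one]

end CfsgLib.GW.Max31.TorusData
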