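import Mathlib

/-!
Gorenstein–Walter, Step 3.2: the degree equations of the corner `|O_3(C(t))| = 3` have no solution.
-/

set_option autoImplicit false
set_option linter.all false

namespace CfsgLib.GW.Max32

theorem false_of_numbers {k N f : ℕ} {δ g3 g4 : ℤ} (hδ : δ = 1 ∨ δ = -1) (hf : 5 ≤ f)
    (h4 : (4 : ℤ) ∣ (f : ℤ) - δ) (hN1 : 1 < N) (hNodd : Odd N) (hkodd : Odd k)
    (hl : ∀ l : ℕ, l.Prime → l ∣ N → ¬ l ∣ k) (h3 : g3 ≠ 0) (hg4 : g4 ≠ 0)
    (hsum : g3 + g4 = δ * ((f : ℤ) + δ))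
    (heq : (k : ℚ) * ((f : ℚ) - δ) ^ 2 = f * ((f : ℚ) + δ) * 128 * (N : ℚ) ^ 2)
    (hpair : 1 / (g3 : ℚ) + 1 / (g4 : ℚ) - 4 * (δ : ℚ) / ((f : ℚ) + δ) =
      1 / 4 * (((f : ℚ) - δ) ^ 2 / (f * ((f : ℚ) + δ)))) : False := by
  have hd : δ * δ = 1 := by rcases hδ with rfl | rfl <;> norm_num
  obtain ⟨m, hm⟩ := h4
  have hfm : (f : ℤ) = 4 * m + δ := by linarith
  have hm1 : 1 ≤ m := by rcases hδ with rfl | rfl <;> omega
  have e1 : (k : ℤ) * (m * m) = (4 * m + δ) * (2 * m + δ) * ((4 * (N : ℤ)) * (4 * N)) := by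
    have h : (k : ℤ) * ((f : ℤ) - δ) ^ 2 = (f : ℤ) * ((f : ℤ) + δ) * 128 * (N : ℤ) ^ 2 := by
      exact_mod_cast heq
    rw [hfm] at h
    exact Int.eq_of_mul_eq_mul_left (a := 16) (by norm_num) (by linear_combination h)
  have c1 : IsCoprime m (4 * m + δ) := ⟨-4 * δ, δ, by linear_combination hd⟩
  have c2 : IsCoprime m (2 * m + δ) := ⟨-2 * δ, δ, by linear_combination hd⟩
  have hmN : m ∣ 4 * (N : ℤ) := by
    have h2 : m ^ 2 ∣ (4 * (N : ℤ)) ^ 2 := by
      have hc : IsCoprime (m ^ 2) ((4 * m + δ) * (2 * m + δ)) := (c1.mul_right c2).pow_left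
      refine hc.dvd_of_dvd_mul_left ⟨k, ?_⟩
      linear_combination -e1
    exact (Int.pow_dvd_pow_iff two_ne_zero).1 h2
  obtain ⟨q, hq⟩ := hmN
  have hk : (k : ℤ) = (4 * m + δ) * (2 * m + δ) * (q * q) := by
    rw [hq] at e1
    have h := mul_right_cancel₀ (show m * m ≠ 0 from mul_ne_zero (by omega) (by omega))
      (show (k : ℤ) * (m * m) = (4 * m + δ) * (2 * m + δ) * (q * q) * (m * m) by rw [e1]; ring)
    exact h
  have hqo : Odd q := by
    have hko : Odd (k : ℤ) := by exact_mod_cast hkodd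
    rw [hk] at hko
    exact (Int.odd_mul.1 (Int.odd_mul.1 hko).2).1
  obtain ⟨i, hi⟩ : (4 : ℤ) ∣ m := by
    have hc : IsCoprime (4 : ℤ) q := by
      have h2 : IsCoprime (2 : ℤ) q := by
        obtain ⟨j, rfl⟩ := hqo
        exact ⟨-j, 1, by ring⟩
      exact (show IsCoprime ((2 : ℤ) ^ 2) q from h2.pow_left)
    exact hc.dvd_of_dvd_mul_right ⟨N, by rw [hq]⟩
  subst hi
  have hN : (N : ℤ) = i * q := by linarith
  have hio : Odd i := by
    have hNo : Odd (N : ℤ) := by exact_mod_cast hNodd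
    rw [hN] at hNo
    exact (Int.odd_mul.1 hNo).1
  have hi1 : 1 ≤ i := by omega
  -- the pair equation
  set Q := 16 * i ^ 2 + 16 * δ * i + 1 with hQ
  have hQeq : g3 * g4 * Q = δ * (16 * i + δ) * (8 * i + δ) ^ 2 := by
    have hfq : (f : ℚ) = 16 * (i : ℚ) + δ := by
      have : (f : ℤ) = 16 * i + δ := by linarith
      exact_mod_cast this
    have hsq : (g3 : ℚ) + g4 = (δ : ℚ) * ((f : ℚ) + δ) := by exact_mod_cast hsum
    have hfpos : (0 : ℚ) < f := by exact_mod_cast (show 0 < f by omega)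
    have hfd : (f : ℚ) + δ ≠ 0 := by
      have : (0 : ℤ) < (f : ℤ) + δ := by rcases hδ with rfl | rfl <;> omega
      exact_mod_cast this.ne'
    have h3' : (g3 : ℚ) ≠ 0 := by exact_mod_cast h3
    have h4' : (g4 : ℚ) ≠ 0 := by exact_mod_cast hg4
    have hdq : (δ : ℚ) * δ = 1 := by exact_mod_cast hd
    have hp := hpair
    field_simp at hp
    rw [hfq] at hp hsq
    have : (g3 : ℚ) * g4 * (16 * (i : ℚ) ^ 2 + 16 * δ * i + 1) =
        δ * (16 * i + δ) * (8 * i + δ) ^ 2 := by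
      have e4 : (g4 : ℚ) = δ * (16 * i + δ + δ) - g3 := by linarith
      rw [e4] at hp ⊢
      linear_combination (-1 / 16 : ℚ) * hp +
        ((g3 : ℚ) ^ 2 - 16 * g3 * δ * i - 2 * g3 * δ ^ 2) * hdq
    rw [hQ]
    exact_mod_cast this
  have hQ9 : Q ∣ 9 := by
    have cf : IsCoprime Q (16 * i + δ) := ⟨16, -(16 * i + δ + 14 * δ), by
      rw [hQ]; linear_combination (-15 : ℤ) * hd⟩
    have cd : IsCoprime Q δ := ⟨0, δ, by linear_combination hd⟩
    have h1 : Q ∣ (8 * i + δ) ^ 2 :=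
      (cd.mul_right cf).dvd_of_dvd_mul_left ⟨g3 * g4, by rw [← hQeq]; ring⟩
    have h2 : Q ∣ ((8 * i + δ) * (8 * i + 7 * δ)) ^ 2 := by
      rw [mul_pow]; exact h1.mul_right _
    have e : (8 * i + δ) * (8 * i + 7 * δ) = 4 * Q + 3 := by
      rw [hQ]; linear_combination (7 : ℤ) * hd
    rw [e, show (4 * Q + 3) ^ 2 = Q * (16 * Q + 24) + 9 by ring] at h2
    exact (dvd_add_right (dvd_mul_right Q _)).1 h2
  have hQle := Int.le_of_dvd (by norm_num) hQ9
  have hi' : i = 1 := by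
    by_contra hne
    obtain ⟨j, rfl⟩ := hio
    have : 1 ≤ j := by omega
    rcases hδ with rfl | rfl <;> rw [hQ] at hQle <;> nlinarith
  subst hi'
  have hδ' : δ = -1 := hδ.resolve_left fun h => by rw [hQ, h] at hQle; norm_num at hQle
  subst hδ'
  obtain ⟨l, hlp, hlN⟩ := Nat.exists_prime_and_dvd hN1.ne'
  refine hl l hlp hlN ?_
  have hq' : q = (N : ℤ) := by linarith
  have : (k : ℤ) = ((105 * N * N : ℕ) : ℤ) := by rw [hk, hq']; push_cast; ring
  rw [show k = 105 * N * N by exact_mod_cast this]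
  exact dvd_mul_of_dvd_right hlN _

end CfsgLib.GW.Max32
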