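import Cfsg.Agent.Lib.GW.Max32Three
import Cfsg.Agent.Lib.GW.Max32Arith
import Cfsg.Agent.Lib.GW.FormulaPair
import Cfsg.Agent.Lib.GW.ThetaBlock

/-!
Gorenstein–Walter, Step 3.2: the corner `|O_3(C(t))| = 3`.
-/

set_option autoImplicit false
set_option linter.all false

namespace CfsgLib.GW.Max32

open Subgroup CfsgLib.GW

universe u

variable {G : Type u} [Group G] [Finite G]

theorem inter_zero (E : Setup G) {b c : G} (hc : E.Refl c) {z : G} (hz : z ∈ Zc E) (hzc : z ∈ E.X c)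
    {A : Subgroup G} (hA : ∀ q : ℕ, q.Prime → q ≠ 2 → ∀ w ∈ E.R q, w ∈ E.X c → w ∈ A) : z ∈ A := by
  refine mem_of_primary fun q j hq w hw hwq => ?_
  have hwX : w ∈ E.X c := zpowers_le.2 hzc hw
  by_cases hq2 : q = 2
  · subst hq2
    obtain ⟨i, -, hi⟩ := (Nat.dvd_prime_pow Nat.prime_two).1 (orderOf_dvd_of_pow_eq_one hwq)
    have h1 : Odd (orderOf w) := (hc.mem_X.1 hwX).2.2
    rcases Nat.eq_zero_or_pos i with rfl | hi0
    · rw [orderOf_eq_one_iff.1 (hi.trans (pow_zero 2))]; exact one_mem A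
    · rw [hi] at h1
      exact absurd (Nat.even_pow.2 ⟨even_two, hi0.ne'⟩) (Nat.not_even_iff_odd.2 h1)
  · exact hA q hq hq2 w (mem_R_of_Zc E hq (zpowers_le.2 hz hw) hwq) hwX

/-- The rotations of a dihedral group of order eight. -/
theorem rot_cases_eight (E : Setup G) (hk : E.d.k = 1) {x : G} (hx : x ∈ zpowers E.d.r) :
    x = 1 ∨ x = E.d.t ∨ x = E.t ∨ x = E.d.t * E.t := by
  have ht : E.d.t = E.d.r := by rw [DihProduct.Dih.t, hk]; simp
  have hz : E.t = E.d.r ^ 2 := by rw [Setup.t, DihProduct.Dih.z, hk]; rfl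
  obtain ⟨i, rfl⟩ := mem_zpowers_iff.1 hx
  have ho : orderOf E.d.r = 4 := by rw [E.d.order, hk]; rfl
  rw [← zpow_mod_orderOf, ho]
  rw [ht, hz]
  have h1 := Int.emod_nonneg i (show ((4 : ℕ) : ℤ) ≠ 0 by norm_num)
  have h2 := Int.emod_lt_of_pos i (show (0 : ℤ) < ((4 : ℕ) : ℤ) by norm_num)
  rcases (show i % ((4 : ℕ) : ℤ) = 0 ∨ i % ((4 : ℕ) : ℤ) = 1 ∨ i % ((4 : ℕ) : ℤ) = 2 ∨
      i % ((4 : ℕ) : ℤ) = 3 by omega) with h | h | h | h <;> rw [h]
  · exact Or.inl (zpow_zero _)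
  · exact Or.inr (Or.inl (zpow_one _))
  · exact Or.inr (Or.inr (Or.inl (zpow_natCast E.d.r 2)))
  · refine Or.inr (Or.inr (Or.inr ?_))
    rw [← pow_succ']
    exact zpow_natCast E.d.r 3

/-- A rotation fixing a character on `X` serves both reflections of the four-group. -/
theorem rot_both (E : Setup G) {θ : E.U →* ℂˣ} {c g : G} (hc : E.Refl c)
    (hgt : g * E.t * g⁻¹ = c) (hgb : g * c * g⁻¹ = c * E.t)
    (h : ∀ x y : E.U, (x : G) ∈ E.X c → (y : G) = g * x * g⁻¹ → θ y = θ x) (c' : G)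
    (hc' : c' = c ∨ c' = c * E.t) :
    ∃ g', g' * E.t * g'⁻¹ = c' ∧ g' * c' * g'⁻¹ = c' * E.t ∧
      ∀ x y : E.U, (x : G) ∈ E.X c' → (y : G) = g' * x * g'⁻¹ → θ y = θ x := by
  rcases hc' with rfl | rfl
  · exact ⟨g, hgt, hgb, h⟩
  · refine ⟨g * g, rot_two hgt hgb, ?_, fun x y hx hy => ?_⟩
    · rw [show g * g * (c * E.t) * (g * g)⁻¹ = g * (g * (c * E.t) * g⁻¹) * g⁻¹ by group,
        rot_bt hc hgt hgb, hgt, mul_assoc, E.t_sq, mul_one]
    · rw [hc.X_mul_t] at hx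
      have hmid : g * (x : G) * g⁻¹ ∈ E.X c := hc.conj_mem_X hgt hgb hx
      rw [h ⟨_, hmid.1⟩ y hmid (by rw [hy]; group), h x ⟨_, hmid.1⟩ hx rfl]

namespace Ctx

variable {E : Setup G} {b g : G} (C : Ctx E b g 3)

include C

theorem inverted_other {q : ℕ} (hq : q.Prime) (hq2 : q ≠ 2) (hq3 : q ≠ 3) {c : G} (hc : E.Refl c) :
    E.R q ⊓ E.X c = ⊥ := by
  by_contra h
  obtain ⟨g', h1, h2, -⟩ := hc.exists_rot
  exact hq3 (Ctx.card_eq_three ⟨C.hH, C.hU, hc, h1, h2, hq, hq2, C.hD,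
    fun e => h (le_bot_iff.1 (e ▸ inf_le_left)), (C.hD q hq hq2 c hc).resolve_right h⟩).1

theorem R_central {u a : G} (hu : u ∈ E.U) (ha : a ∈ E.R 3) : u * a = a * u := by
  haveI : Fact (Nat.Prime 3) := ⟨Nat.prime_three⟩
  by_cases ha1 : a = 1
  · rw [ha1, mul_one, one_mul]
  have hao : orderOf a = 3 := by
    refine orderOf_eq_prime ?_ ha1
    rw [← orderOf_dvd_iff_pow_eq_one, ← C.card_eq_three.2]
    exact Subgroup.orderOf_dvd_natCard _ ha
  have hz : zpowers a = E.R 3 := eq_of_le_of_card_ge (zpowers_le.2 ha)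
    (by rw [Nat.card_zpowers, hao, C.card_eq_three.2])
  have hmem : u * a * u⁻¹ ∈ zpowers a := hz ▸ conj_mem_R E (E.U_le_H hu) ha
  obtain ⟨j, hj⟩ := mem_zpowers_iff.1 hmem
  rw [← zpow_mod_orderOf, hao] at hj
  have h1 := Int.emod_nonneg j (show ((3 : ℕ) : ℤ) ≠ 0 by norm_num)
  have h2 := Int.emod_lt_of_pos j (show (0 : ℤ) < ((3 : ℕ) : ℤ) by norm_num)
  rcases (show j % ((3 : ℕ) : ℤ) = 0 ∨ j % ((3 : ℕ) : ℤ) = 1 ∨ j % ((3 : ℕ) : ℤ) = 2 by omega)
    with h | h | h <;> rw [h] at hj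
  · rw [zpow_zero] at hj
    exact absurd (conj_eq_one_iff.1 hj.symm) ha1
  · rw [zpow_one] at hj
    exact mul_inv_eq_iff_eq_mul.1 hj.symm
  · exfalso
    refine ha1 (CfsgLib.RankOneInvol.eq_one_of_conj_eq_inv (E.mem_U.1 hu).2
      (CfsgLib.RankOneInvol.odd_orderOf_of_mem (odd_card_R E C.hr C.hr2) ha) ?_)
    rw [← hj, eq_inv_iff_mul_eq_one, ← zpow_add_one, show (2 : ℤ) + 1 = ((3 : ℕ) : ℤ) by norm_num,
      zpow_natCast, ← hao, pow_orderOf_eq_one]

theorem R_le_Zc : E.R 3 ≤ Zc E := fun a ha =>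
  mem_Zc E (R_le_U E C.hr C.hr2 ha) fun m hm hm2 y hy =>
    (C.R_central (R_le_U E hm hm2 hy) ha).symm

theorem Zc_X_le {z : G} (hz : z ∈ Zc E) (hzb : z ∈ E.X b) : z ∈ E.R 3 :=
  inter_zero E (b := b) C.hb hz hzb fun q hq hq2 w hw hwX => by
    by_cases hq3 : q = 3
    · subst hq3; exact hw
    · have : w ∈ E.R q ⊓ E.X b := mem_inf.2 ⟨hw, hwX⟩
      rw [C.inverted_other hq hq2 hq3 C.hb, mem_bot] at this
      rw [this]; exact one_mem _

theorem Zc_X2_bot {z : G} (hz : z ∈ Zc E) (hz2 : z ∈ E.X (E.d.t * b)) : z = 1 := by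
  refine mem_bot.1 (inter_zero E (b := b) C.refl_two hz hz2 fun q hq hq2 w hw hwX => ?_)
  have hmem : w ∈ E.R q ⊓ E.X (E.d.t * b) := mem_inf.2 ⟨hw, hwX⟩
  by_cases hq3 : q = 3
  · subst hq3; rwa [C.R_X2_bot] at hmem
  · rwa [C.inverted_other hq hq2 hq3 C.refl_two] at hmem

theorem X2_le_X : E.X (E.d.t * b) ≤ E.X b := by
  intro x hx
  obtain ⟨y, hy2, hy, hyx⟩ := exists_X_mul E C.hD C.hb (A := E.X (E.d.t * b)) inf_le_left
    (fun w hw => by have := C.conj_b_X2 hw; rwa [C.hb.inv] at this) hx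
  have h1 := C.Zc_X2_bot hyx (mul_mem (inv_mem hy2) hx)
  rw [inv_mul_eq_one] at h1
  exact h1 ▸ hy

theorem cover : ∀ u ∈ E.U, ∃ y ∈ E.X (E.d.t * b), y⁻¹ * u ∈ Zc E := by
  intro u hu
  obtain ⟨y, -, hy, hyu⟩ := exists_X_mul E C.hD C.refl_two le_rfl (fun w hw => by
    have := E.conj_mem_U C.refl_two.mem_H hw
    rwa [C.refl_two.inv] at this) hu
  exact ⟨y, hy, hyu⟩

theorem false_of_three : False := by
  classical
  haveI : Fact (Nat.Prime 3) := ⟨Nat.prime_three⟩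
  set X2 := E.X (E.d.t * b) with hX2
  have hk := C.k_eq_one
  have hkle := C.one_le_k
  have hdisj : X2 ⊓ Zc E = ⊥ := eq_bot_iff.2 fun x hx =>
    mem_bot.2 (C.Zc_X2_bot (mem_inf.1 hx).2 (mem_inf.1 hx).1)
  obtain ⟨p, hp⟩ := exists_proj (U := E.U) (C := X2) (N := Zc E) inf_le_left
    (fun u hu n hn => conj_mem_Zc E (E.U_le_H hu) hn) hdisj C.cover
  have hLX2 : C.L ≤ X2 := inf_le_right
  have hcases : ∀ c, E.Refl c → (c = b ∨ c = b * E.t) ∨ (c = E.d.t * b ∨ c = E.d.t * b * E.t) := by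
    intro c hc
    have h1 := E.d.refl_mul_refl hc.1 hc.2 C.hb.1 C.hb.2
    have e : c = (c * b) * b := by rw [mul_assoc, C.hb.sq, mul_one]
    rcases rot_cases_eight E hk h1 with h | h | h | h <;> rw [h] at e
    · exact Or.inl (Or.inl (by rw [e, one_mul]))
    · exact Or.inr (Or.inl e)
    · exact Or.inl (Or.inr (by rw [e, C.hb.comm]))
    · exact Or.inr (Or.inr (by rw [e, mul_assoc, ← C.hb.comm, ← mul_assoc]))
  have hσX : ∀ x ∈ E.X b, E.d.t * x * E.d.t⁻¹ ∈ E.X b := fun x hx =>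
    conj_mem_X_of (E.S_le_H E.d.t_mem) C.hb (Or.inr C.sigma_b) hx
  -- a character forces `X2 = L`
  have hXL : X2 ≤ C.L := by
    by_contra hXL
    set N : Subgroup X2 := C.L.subgroupOf X2 with hN
    haveI : N.Normal := ⟨fun x hx k => mem_subgroupOf.2 (C.X2_normalizes_L k.2 (mem_subgroupOf.1 hx))⟩
    haveI : Nontrivial (X2 ⧸ N) :=
      QuotientGroup.nontrivial_iff.2 fun h => hXL (subgroupOf_eq_top.1 h)
    haveI : Group.IsSolvable X2 :=
      CfsgLib.PF.oddSolvable _ (E.odd_card_U.of_dvd_nat (card_dvd_of_le inf_le_left))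
    obtain ⟨ψ, hψ⟩ := exists_linear (X2 ⧸ N)
    set θ : E.U →* ℂˣ := (ψ.comp (QuotientGroup.mk' N)).comp p with hθ
    have hθ1 : θ ≠ 1 := by
      intro h
      refine hψ (MonoidHom.ext fun q => ?_)
      obtain ⟨x, rfl⟩ := QuotientGroup.mk'_surjective N q
      have h1 := DFunLike.congr_fun h (⟨(x : G), x.2.1⟩ : E.U)
      rw [hθ, MonoidHom.comp_apply, hp ⟨(x : G), x.2.1⟩ x (by
        show (x : G)⁻¹ * (x : G) ∈ Zc E
        rw [inv_mul_cancel]; exact one_mem _)] at h1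
      simpa using h1
    have hZ : ∀ u : E.U, (u : G) ∈ Zc E → θ u = 1 := fun u hu => by
      rw [hθ, MonoidHom.comp_apply, hp u 1 (by simpa using hu), map_one]
    have hW : ∀ u : E.U, (u : G) ∈ C.W → θ u = 1 := by
      intro u hu
      obtain ⟨y, hy, a, ha, e⟩ := C.exists_mul_of_W hu
      obtain ⟨a', ha', -, hya⟩ := C.exists_L hy
      have hz : (y * a')⁻¹ * (u : G) ∈ Zc E := by
        rw [e, show (y * a')⁻¹ * (y * a) = a'⁻¹ * a by group]
        exact mul_mem (inv_mem (C.R_le_Zc ha')) (C.R_le_Zc ha)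
      rw [hθ, MonoidHom.comp_apply, hp u ⟨y * a', hLX2 hya⟩ hz, MonoidHom.comp_apply,
        show QuotientGroup.mk' N (⟨y * a', hLX2 hya⟩ : X2) = 1 from
          (QuotientGroup.eq_one_iff _).2 (mem_subgroupOf.2 hya), map_one]
    refine false_of_comm E C.hH C.hb C.hr C.hr2 C.hne C.hle
      (ThetaBlock.isMulCommutative_U E θ hθ1 ?_ ?_)
    · intro s hs x
      obtain ⟨y, hy, hyx⟩ := C.cover x x.2
      rw [hθ, MonoidHom.comp_apply, MonoidHom.comp_apply (f := p), hp x ⟨y, hy⟩ hyx, hp _ ⟨y, hy⟩ ?_]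
      show y⁻¹ * (s * x * s⁻¹) ∈ Zc E
      have := mul_mem hyx (sylow_commutator_mem_Zc E C.hD hs x.2)
      rwa [show y⁻¹ * (x : G) * ((x : G)⁻¹ * (s * x * s⁻¹)) = y⁻¹ * (s * x * s⁻¹) by group] at this
    · -- invariance on the centralisers of the four-groups
      have main : ∀ c gc, E.Refl c → gc * E.t * gc⁻¹ = c → gc * c * gc⁻¹ = c * E.t →
          ∀ M : Subgroup G, (∀ n ∈ M, gc * n * gc⁻¹ ∈ M) → (∀ n ∈ M, E.d.t * n * E.d.t⁻¹ ∈ M) →
          (∀ x ∈ E.X c, x⁻¹ * (E.d.t * x * E.d.t⁻¹) ∈ M) → (∀ u : E.U, (u : G) ∈ M → θ u = 1) →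
          ∀ x y : E.U, (x : G) ∈ E.X c → (y : G) = gc * x * gc⁻¹ → θ y = θ x := by
        intro c gc hc h1 h2 M hgM hσM hσ hθM x y hx hy
        obtain ⟨z, hz, hzi⟩ := exists_inner_mod E hkle hc h1 h2 hgM hσM hσ
        have h3 := hzi _ hx
        rw [← hy] at h3
        set z' : E.U := ⟨z, hz.1⟩
        have h4 := hθM ((z' * x * z'⁻¹)⁻¹ * y) (by simpa [z', mul_assoc] using h3)
        rw [map_mul, map_inv, inv_mul_eq_one, map_mul, map_mul, map_inv, mul_comm (θ z') (θ x),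
          mul_inv_cancel_right] at h4
        exact h4.symm
      intro c hc
      obtain ⟨g2, h2t, h2b, -⟩ := C.refl_two.exists_rot
      rcases hcases c hc with h | h
      · refine rot_both E C.hb C.hgt C.hgb (main b g C.hb C.hgt C.hgb C.W C.conj_g_W C.conj_t_W
          (fun x hx => ?_) hW) c h
        exact mem_sup_left (C.Zc_X_le (sylow_commutator_mem_Zc E C.hD E.d.t_mem hx.1)
          (mul_mem (inv_mem hx) (hσX x hx)))
      · refine rot_both E C.refl_two h2t h2b (main (E.d.t * b) g2 C.refl_two h2t h2b ⊥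
          (fun n hn => ?_) (fun n hn => ?_) (fun x hx => ?_) (fun u hu => ?_)) c h
        · rw [mem_bot] at hn ⊢; rw [hn]; group
        · rw [mem_bot] at hn ⊢; rw [hn]; group
        · exact mem_bot.2 (C.Zc_X2_bot (sylow_commutator_mem_Zc E C.hD E.d.t_mem hx.1)
            (mul_mem (inv_mem hx) (C.conj_t_X2 hx)))
        · rw [mem_bot] at hu
          rw [show u = 1 from Subtype.ext hu, map_one]
  -- the orders
  have h3R : Nat.card (E.R 3) = 3 := C.card_eq_three.2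
  have hX2eq : X2 = C.L := le_antisymm hXL hLX2
  have hX2card : Nat.card X2 = 3 := by rw [hX2eq, C.card_L, h3R]
  have hXbcard : Nat.card (E.X b) = 9 := by
    rw [show (9 : ℕ) = 3 * 3 from rfl]
    conv_rhs => arg 1; rw [← hX2card]
    conv_rhs => arg 2; rw [← h3R]
    rw [← Nat.card_prod]
    refine (Nat.card_congr (Equiv.ofBijective (fun q : X2 × E.R 3 =>
      (⟨q.1 * q.2, mul_mem (C.X2_le_X q.1.2) (C.hle q.2.2)⟩ : E.X b)) ⟨fun a c h => ?_, fun x => ?_⟩)).symm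
    · have h' : (a.1 : G) * a.2 = c.1 * c.2 := congrArg Subtype.val h
      have h2 : (c.1 : G)⁻¹ * a.1 = 1 := by
        refine C.Zc_X2_bot ?_ (mul_mem (inv_mem c.1.2) a.1.2)
        rw [show (c.1 : G)⁻¹ * a.1 = (c.2 : G) * (a.2 : G)⁻¹ by
          calc (c.1 : G)⁻¹ * a.1 = (c.1 : G)⁻¹ * ((a.1 : G) * a.2) * (a.2 : G)⁻¹ := by group
            _ = _ := by rw [h']; group]
        exact C.R_le_Zc (mul_mem c.2.2 (inv_mem a.2.2))
      rw [inv_mul_eq_one] at h2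
      rw [h2] at h'
      exact Prod.ext (Subtype.ext h2.symm) (Subtype.ext (mul_left_cancel h'))
    · obtain ⟨y, hy, hyx⟩ := C.cover x x.2.1
      exact ⟨⟨⟨y, hy⟩, ⟨y⁻¹ * x, C.Zc_X_le hyx (mul_mem (inv_mem (C.X2_le_X hy)) x.2)⟩⟩,
        Subtype.ext (by simp)⟩
  have hUcard : Nat.card E.U = 3 * Nat.card (Zc E) := by
    conv_rhs => arg 1; rw [← hX2card]
    rw [← Nat.card_prod]
    refine (Nat.card_congr (Equiv.ofBijective (fun q : X2 × Zc E =>
      (⟨q.1 * q.2, mul_mem q.1.2.1 (Zc_le_U E q.2.2)⟩ : E.U)) ⟨fun a c h => ?_, fun u => ?_⟩)).symm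
    · have h' : (a.1 : G) * a.2 = c.1 * c.2 := congrArg Subtype.val h
      have h2 : (c.1 : G)⁻¹ * a.1 = 1 := by
        refine C.Zc_X2_bot ?_ (mul_mem (inv_mem c.1.2) a.1.2)
        rw [show (c.1 : G)⁻¹ * a.1 = (c.2 : G) * (a.2 : G)⁻¹ by
          calc (c.1 : G)⁻¹ * a.1 = (c.1 : G)⁻¹ * ((a.1 : G) * a.2) * (a.2 : G)⁻¹ := by group
            _ = _ := by rw [h']; group]
        exact mul_mem c.2.2 (inv_mem a.2.2)
      rw [inv_mul_eq_one] at h2
      rw [h2] at h'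
      exact Prod.ext (Subtype.ext h2.symm) (Subtype.ext (mul_left_cancel h'))
    · obtain ⟨y, hy, hyx⟩ := C.cover u u.2
      exact ⟨⟨⟨y, hy⟩, ⟨y⁻¹ * u, hyx⟩⟩, Subtype.ext (by simp)⟩
  obtain ⟨N, hN⟩ : 3 ∣ Nat.card (Zc E) := h3R ▸ card_dvd_of_le C.R_le_Zc
  have hN3 : ¬ 3 ∣ N := by
    rintro ⟨j, rfl⟩
    obtain ⟨K, hK⟩ := Sylow.exists_subgroup_card_pow_prime 3 (n := 2) (G := Zc E)
      ⟨j, by rw [hN]; ring⟩
    have hle : K.map (Zc E).subtype ≤ E.R 3 := fun x hx =>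
      mem_R_of_Zc' E Nat.prime_three ((IsPGroup.of_card hK).map _) (map_subtype_le K hx) hx
    have h9 := card_le_of_le hle
    rw [card_map_of_injective (Zc E).subtype_injective, hK, h3R] at h9
    norm_num at h9
  have hU9 : Nat.card E.U = 9 * N := by rw [hUcard, hN]; ring
  have hNodd : Odd N := by
    have h := E.odd_card_U
    rw [hU9] at h
    exact (Nat.odd_mul.1 h).2
  have hN1 : 1 < N := by
    by_contra h
    have hN' : N = 1 := by
      rcases hNodd with ⟨j, hj⟩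
      omega
    refine false_of_comm E C.hH C.hb C.hr C.hr2 C.hne C.hle fun x hx y hy => ?_
    have := IsPGroup.commutative_of_card_eq_prime_sq (p := 3) (G := E.U)
      (by rw [hU9, hN']; rfl) ⟨x, hx⟩ ⟨y, hy⟩
    exact congrArg Subtype.val this
  -- no prime of `N` divides the index
  have hl : ∀ l : ℕ, l.Prime → l ∣ N → ¬ l ∣ E.H.index := by
    intro l hl hlN hlk
    haveI := Fact.mk hl
    have hl3 : l ≠ 3 := fun e => hN3 (e ▸ hlN)
    have hl2 : l ≠ 2 := fun e => Nat.not_even_iff_odd.2 hNodd (even_iff_two_dvd.2 (e ▸ hlN))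
    have hlel : ∀ x ∈ E.U, ∀ j : ℕ, x ^ l ^ j = 1 → x ∈ E.R l := by
      intro x hx j hj
      obtain ⟨y, hy, hyx⟩ := C.cover x hx
      have h1 : p ⟨x, hx⟩ = ⟨y, hy⟩ := hp _ _ hyx
      have h2 : (⟨y, hy⟩ : X2) ^ l ^ j = 1 := by
        rw [← h1, ← map_pow, show (⟨x, hx⟩ : E.U) ^ l ^ j = 1 from Subtype.ext (by simpa using hj),
          map_one]
      have h3 : (⟨y, hy⟩ : X2) = 1 := by
        rw [← orderOf_eq_one_iff]
        refine Nat.eq_one_of_dvd_coprimes (((Nat.coprime_primes hl Nat.prime_three).2 hl3).pow_left j)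
          (orderOf_dvd_of_pow_eq_one h2) ?_
        rw [← hX2card]
        exact orderOf_dvd_natCard _
      have hy1 : y = 1 := congrArg Subtype.val h3
      rw [hy1, inv_one, one_mul] at hyx
      exact mem_R_of_Zc E hl hyx hj
    have hne : E.R l ≠ ⊥ := by
      intro h
      obtain ⟨⟨x, hx⟩, hxo⟩ := exists_prime_orderOf_dvd_card' (G := Zc E) l
        (hlN.trans (hN ▸ Dvd.intro_left 3 rfl))
      rw [Subgroup.orderOf_mk] at hxo
      have h1 := mem_R_of_Zc E hl hx (k := 1) (by rw [pow_one, ← hxo, pow_orderOf_eq_one])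
      rw [h, mem_bot] at h1
      rw [h1, orderOf_one] at hxo
      exact hl.one_lt.ne hxo
    obtain ⟨P, hP⟩ := (isPGroup_R E hl).exists_le_sylow
    have hPeq : (P : Subgroup G) = E.R l := by
      refine (eq_or_lt_of_le hP).elim Eq.symm fun hlt => ?_
      haveI := P.2.isNilpotent
      have hlt' : (E.R l).subgroupOf P < ⊤ := lt_top_iff_ne_top.2 fun h =>
        not_le_of_gt hlt (subgroupOf_eq_top.1 h)
      obtain ⟨x, hx, hx'⟩ := SetLike.exists_of_lt
        (Group.normalizerCondition_of_isNilpotent ((E.R l).subgroupOf P) hlt')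
      refine absurd ?_ hx'
      have hxN : (x : G) ∈ normalizer (E.R l : Set G) := by
        rw [mem_normalizer_iff]
        intro z
        constructor
        · intro hz
          have := (mem_normalizer_iff.1 hx ⟨z, hP hz⟩).1 (mem_subgroupOf.2 hz)
          exact mem_subgroupOf.1 this
        · intro hz
          have hzP : z ∈ (P : Subgroup G) := by
            have := mul_mem (mul_mem (inv_mem x.2) (hP hz)) x.2
            simpa [mul_assoc] using this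
          exact mem_subgroupOf.1 ((mem_normalizer_iff.1 hx ⟨z, hzP⟩).2 (mem_subgroupOf.2 hz))
      rw [normalizer_R E C.hH hne] at hxN
      obtain ⟨j, hj⟩ := P.2 x
      have hj' : (x : G) ^ l ^ j = 1 := congrArg Subtype.val hj
      have hodd : Odd (orderOf (x : G)) := by
        obtain ⟨i, -, hi⟩ := (Nat.dvd_prime_pow hl).1 (orderOf_dvd_of_pow_eq_one hj')
        rw [hi]; exact (hl.odd_of_ne_two hl2).pow
      exact mem_subgroupOf.2 (hlel _ (E.odd_orderOf_mem_U hxN hodd) j hj')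
    refine P.not_dvd_index (hlk.trans (index_dvd_of_le ?_))
    rw [hPeq]
    exact R_le_H E l
  have hkodd : Odd E.H.index := by
    rw [← Nat.not_even_iff_odd, even_iff_two_dvd]
    haveI : Fact (Nat.Prime 2) := ⟨Nat.prime_two⟩
    exact fun h => E.S.not_dvd_index (h.trans (index_dvd_of_le E.S_le_H))
  obtain ⟨f, δ, g3, g4, hδ, hf, -, h4, h3, hg4, heq, hsum, hpair⟩ :=
    CfsgLib.GW.Formula.exists_pair E.S E.d hk fun x hx => E.exists_conj hx
  refine false_of_numbers hδ hf h4 hN1 hNodd hkodd hl h3 hg4 hsum ?_ ?_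
  all_goals
    have hXa : (Nat.card (E.X E.d.a) = 9 ∧ Nat.card (E.X (E.d.r * E.d.a)) = 3) ∨
        (Nat.card (E.X E.d.a) = 3 ∧ Nat.card (E.X (E.d.r * E.d.a)) = 9) := by
      have hr : E.d.t = E.d.r := by rw [DihProduct.Dih.t, hk]; simp
      have hσσb : E.d.r * (E.d.t * b) = b * E.t := by
        rw [← hr, ← mul_assoc, E.d.t_sq hkle]
        exact C.hb.comm.symm
      have hσbt : E.d.r * (b * E.t) = E.d.t * b * E.t := by rw [hr, mul_assoc]
      rcases hcases E.d.a E.refl_a with (h | h) | (h | h)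
      · left; rw [h]; exact ⟨hXbcard, by rw [← hr]; exact hX2card⟩
      · left; rw [h, hσbt, C.hb.X_mul_t, C.refl_two.X_mul_t]; exact ⟨hXbcard, hX2card⟩
      · right; rw [h, hσσb, C.hb.X_mul_t]; exact ⟨hX2card, hXbcard⟩
      · right
        rw [h, show E.d.r * (E.d.t * b * E.t) = E.d.r * (E.d.t * b) * E.t by group, hσσb,
          C.refl_two.X_mul_t, C.hb.mul_t.X_mul_t, C.hb.X_mul_t]
        exact ⟨hX2card, hXbcard⟩
  · have hG : (Nat.card G : ℚ) = E.H.index * (8 * (9 * N)) := by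
      have h := E.H.card_mul_index
      rw [E.card_H, E.card_S, hk, hU9] at h
      rw [← h]; push_cast; ring
    have hcoreq : (Nat.card (CfsgLib.GW.core E.d.z) : ℚ) = 9 * N := by
      exact_mod_cast hU9
    have hU0 : (N : ℚ) ≠ 0 := by exact_mod_cast (show N ≠ 0 by omega)
    change (Nat.card G : ℚ) * ((f : ℚ) - δ) ^ 2 = f * ((f : ℚ) + δ) * 2 ^ (3 * E.d.k + 3) *
      (Nat.card (CfsgLib.GW.core E.d.z) : ℚ) ^ 3 *
        (1 / (Nat.card (E.X E.d.a) : ℚ) + 1 / (Nat.card (E.X (E.d.r * E.d.a)) : ℚ)) ^ 2 at heq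
    rw [hG, hcoreq, hk] at heq
    rcases hXa with ⟨e1, e2⟩ | ⟨e1, e2⟩ <;> rw [e1, e2] at heq <;> norm_num at heq <;>
      refine mul_left_cancel₀ (mul_ne_zero (by norm_num : (72 : ℚ) ≠ 0) hU0) ?_ <;>
      linear_combination heq
  · change _ = (((Nat.card (E.X E.d.a) : ℚ) - Nat.card (E.X (E.d.r * E.d.a))) /
        ((Nat.card (E.X E.d.a) : ℚ) + Nat.card (E.X (E.d.r * E.d.a)))) ^ 2 *
      (((f : ℚ) - δ) ^ 2 / (f * ((f : ℚ) + δ))) at hpair
    rw [hpair]
    rcases hXa with ⟨e1, e2⟩ | ⟨e1, e2⟩ <;> rw [e1, e2] <;> norm_num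

end Ctx

end CfsgLib.GW.Max32
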