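import Cfsg.Agent.Lib.GW.Max32Meet
import Cfsg.Agent.Lib.GW.ThetaMoved

/-!
Gorenstein–Walter, Step 3.2: linear characters of `U` from a complement, and the case of a Sylow
four-group.
-/

set_option autoImplicit false
set_option linter.all false

namespace CfsgLib.GW.Max32

open Subgroup CfsgLib.GW

universe u

theorem exists_linear (A : Type u) [Group A] [Finite A] [Nontrivial A] [Group.IsSolvable A] :
    ∃ ψ : A →* ℂˣ, ψ ≠ 1 := by
  obtain ⟨q, hq⟩ : ∃ q : Abelianization A, q ≠ 1 := by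
    have hlt := Group.IsSolvable.commutator_lt_top_of_nontrivial (G := A)
    obtain ⟨x, -, hx⟩ := SetLike.exists_of_lt hlt
    exact ⟨Abelianization.of x, fun h => hx ((QuotientGroup.eq_one_iff x).1 h)⟩
  obtain ⟨φ, hφ⟩ := CommGroup.exists_apply_ne_one_of_hasEnoughRootsOfUnity _ ℂ hq
  obtain ⟨x, rfl⟩ := QuotientGroup.mk_surjective q
  exact ⟨φ.comp Abelianization.of, fun h => hφ (DFunLike.congr_fun h x)⟩

variable {G : Type u} [Group G]

/-- The projection of `U` on a complement of a normal subgroup. -/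
theorem exists_proj {U N C : Subgroup G} (hC : C ≤ U) (hn : ∀ u ∈ U, ∀ n ∈ N, u * n * u⁻¹ ∈ N)
    (hdisj : C ⊓ N = ⊥) (hcov : ∀ u ∈ U, ∃ y ∈ C, y⁻¹ * u ∈ N) :
    ∃ p : U →* C, ∀ (u : U) (y : C), (y : G)⁻¹ * u ∈ N → p u = y := by
  classical
  have huniq : ∀ u : G, ∀ y ∈ C, ∀ y' ∈ C, y⁻¹ * u ∈ N → y'⁻¹ * u ∈ N → y = y' := by
    intro u y hy y' hy' h h'
    have h1 : y'⁻¹ * y ∈ C ⊓ N := mem_inf.2 ⟨mul_mem (inv_mem hy') hy, by
      have := mul_mem h' (inv_mem h)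
      rwa [show y'⁻¹ * u * (y⁻¹ * u)⁻¹ = y'⁻¹ * y by group] at this⟩
    rw [hdisj, mem_bot, inv_mul_eq_one] at h1
    exact h1.symm
  choose f hfC hfN using hcov
  refine ⟨MonoidHom.mk' (fun u => ⟨f u u.2, hfC u u.2⟩) fun u v => Subtype.ext ?_, fun u y hy => Subtype.ext ?_⟩
  · refine huniq _ _ (hfC _ _) _ (mul_mem (hfC u u.2) (hfC v v.2)) (hfN _ _) ?_
    have h1 := hfN u u.2
    have h2 := hfN v v.2
    have h3 := hn _ (inv_mem (hC (hfC v v.2))) _ h1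
    rw [inv_inv] at h3
    have := mul_mem h3 h2
    rwa [show (f v v.2)⁻¹ * ((f u u.2)⁻¹ * (u : G)) * f v v.2 * ((f v v.2)⁻¹ * (v : G)) =
      (f u u.2 * f v v.2)⁻¹ * ((u * v : U) : G) by push_cast; group] at this
  · exact huniq _ _ (hfC _ _) _ y.2 (hfN _ _) hy

variable [Finite G] (E : Setup G)

/-- With a Sylow four-group, `O_r(C(t))` does not lie in the centraliser of a reflection. -/
theorem comm_of_four (hk : E.d.k = 0) (hD : E.Dichotomy) {b : G} (hb : E.Refl b) (hX : E.X b ≠ ⊥) :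
    ∀ x ∈ E.U, ∀ y ∈ E.U, x * y = y * x := by
  classical
  -- the part of `Zc` inverted by `b`
  have hbb : ∀ x y : G, b * (x * y) * b = (b * x * b) * (b * y * b) := fun x y => by
    simp only [mul_assoc]; rw [← mul_assoc b b, hb.sq, one_mul]
  let N0 : Subgroup G :=
    { carrier := {z | z ∈ Zc E ∧ b * z * b = z⁻¹}
      one_mem' := ⟨one_mem _, by simp [hb.sq]⟩
      mul_mem' := fun {x y} hx hy => ⟨mul_mem hx.1 hy.1, by
        rw [hbb, hx.2, hy.2, mul_inv_rev,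
          Zc_comm E _ (inv_mem hx.1) _ (inv_mem hy.1)]⟩
      inv_mem' := fun {x} hx => ⟨inv_mem hx.1, by
        have := congrArg (·⁻¹) hx.2
        simpa [mul_inv_rev, hb.inv, mul_assoc] using this⟩ }
  have hmN : ∀ z, z ∈ N0 ↔ z ∈ Zc E ∧ b * z * b = z⁻¹ := fun z => Iff.rfl
  have hXfix : ∀ x ∈ E.X b, ∀ s ∈ (E.S : Subgroup G), s * x * s⁻¹ = x := by
    intro x hx s hs
    obtain ⟨h1, h2, -⟩ := hb.mem_X.1 hx
    refine conj_eq_self ?_
    rcases hb.cases_of_commute hs (E.d.comm_of_four hk hs hb.1) with rfl | rfl | rfl | rfl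
    · rw [one_mul, mul_one]
    · exact h1.symm
    · exact h2.symm
    · exact ((show Commute x b from h2).mul_right h1).eq.symm
  have hnb : ∀ x ∈ E.U, b * x * b ∈ E.U := fun x hx => by
    have := E.conj_mem_U hb.mem_H hx
    rwa [hb.inv] at this
  have hZb : ∀ x ∈ Zc E, b * x * b ∈ Zc E := fun x hx => by
    have := conj_mem_Zc E hb.mem_H hx
    rwa [hb.inv] at this
  have hcov : ∀ u ∈ E.U, ∃ y ∈ E.X b, y⁻¹ * u ∈ N0 := by
    intro u hu
    obtain ⟨y, hyU, hy, hyu⟩ := exists_X_mul E hD hb le_rfl hnb hu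
    obtain ⟨c, z, hc, hcb, hz, hzb, e⟩ := CfsgLib.RankOneInvol.exists_fixed_mul_inverted
      (E.odd_card_U.of_dvd_nat (card_dvd_of_le (Zc_le_U E))) hb.sq hZb hyu
    have hcX : c ∈ E.X b := hb.mem_X.2 ⟨(E.mem_U.1 (Zc_le_U E hc)).1, by
      calc c * b = b * c * b * b := by rw [hcb]
        _ = b * c := by rw [mul_assoc, hb.sq, mul_one], (E.mem_U.1 (Zc_le_U E hc)).2⟩
    refine ⟨y * c, mul_mem hy hcX, ?_⟩
    rw [show (y * c)⁻¹ * u = z by rw [mul_inv_rev, mul_assoc, e]; group]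
    exact ⟨hz, hzb⟩
  have hnC : ∀ x ∈ E.X b, ∀ n ∈ N0, x * n * x⁻¹ ∈ N0 := by
    intro x hx n hn
    refine (hmN _).2 ⟨conj_mem_Zc E (E.U_le_H hx.1) hn.1, ?_⟩
    have hxb : b * x * b = x := by
      rw [← (hb.mem_X.1 hx).2.1, mul_assoc, hb.sq, mul_one]
    have hxi : b * x⁻¹ * b = x⁻¹ := by
      have := congrArg (·⁻¹) hxb
      simpa [mul_inv_rev, hb.inv, mul_assoc] using this
    rw [hbb, hbb, hxb, hn.2, hxi]
    group
  have hnU : ∀ u ∈ E.U, ∀ n ∈ N0, u * n * u⁻¹ ∈ N0 := by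
    intro u hu n hn
    obtain ⟨y, hy, hyu⟩ := hcov u hu
    have h1 : (y⁻¹ * u) * n * (y⁻¹ * u)⁻¹ = n := conj_eq_self (Zc_comm E _ hyu.1 _ hn.1)
    rw [show u * n * u⁻¹ = y * ((y⁻¹ * u) * n * (y⁻¹ * u)⁻¹) * y⁻¹ by group, h1]
    exact hnC y hy n hn
  have hdisj : E.X b ⊓ N0 = ⊥ := by
    refine eq_bot_iff.2 fun x hx => mem_bot.2 ?_
    refine CfsgLib.RankOneInvol.eq_one_of_sq_of_odd (hb.mem_X.1 hx.1).2.2 ?_
    have h1 := hx.2.2
    rw [← (hb.mem_X.1 hx.1).2.1, mul_assoc, hb.sq, mul_one] at h1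
    nth_rw 1 [h1]
    exact inv_mul_cancel x
  obtain ⟨p, hp⟩ := exists_proj (U := E.U) (C := E.X b) (N := N0) (fun x hx => hx.1) hnU hdisj hcov
  haveI : Nontrivial (E.X b) := (Subgroup.nontrivial_iff_ne_bot _).2 hX
  haveI : Group.IsSolvable (E.X b) :=
    CfsgLib.PF.oddSolvable _ (E.odd_card_U.of_dvd_nat (card_dvd_of_le inf_le_left))
  refine ThetaMoved.comm_of_extend E hk hb (exists_linear _) fun ψ =>
    ⟨ψ.comp p, fun s hs u => ?_, fun x => ?_⟩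
  · obtain ⟨y, hy, hyu⟩ := hcov u u.2
    rw [MonoidHom.comp_apply, MonoidHom.comp_apply, hp u ⟨y, hy⟩ hyu,
      hp _ ⟨y, hy⟩ ?_]
    show y⁻¹ * (s * u * s⁻¹) ∈ N0
    have hsy := hXfix y hy s hs
    have hsn : s * (y⁻¹ * u) * s⁻¹ ∈ N0 := by
      refine (hmN _).2 ⟨conj_mem_Zc E (E.S_le_H hs) hyu.1, ?_⟩
      have hc : s * b = b * s := E.d.comm_of_four hk hs hb.1
      have hci : s⁻¹ * b = b * s⁻¹ := ((show Commute s b from hc).inv_left).eq
      calc b * (s * (y⁻¹ * (u : G)) * s⁻¹) * b = b * s * (y⁻¹ * u) * (s⁻¹ * b) := by group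
        _ = s * (b * (y⁻¹ * u) * b) * s⁻¹ := by rw [← hc, hci]; group
        _ = (s * (y⁻¹ * u) * s⁻¹)⁻¹ := by rw [hyu.2]; group
    rwa [show s * (y⁻¹ * u) * s⁻¹ = (s * y * s⁻¹)⁻¹ * (s * u * s⁻¹) by group, hsy] at hsn
  · rw [MonoidHom.comp_apply, hp ⟨x, x.2.1⟩ x (by
      show (x : G)⁻¹ * (x : G) ∈ N0
      rw [inv_mul_cancel]; exact one_mem _)]

end CfsgLib.GW.Max32
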