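import Cfsg.Agent.Lib.GW.Max32Base

/-!
Gorenstein–Walter, Step 3.2: the element cycling a four-group, and its action on the odd centraliser
of the four-group modulo an invariant subgroup.
-/

set_option autoImplicit false
set_option linter.all false

namespace CfsgLib.GW.Max32

open Subgroup CfsgLib.GW

universe u

variable {G : Type u} [Group G] [Finite G] (E : Setup G)

variable {E}

theorem rot_bt {b g : G} (hb : E.Refl b) (hgt : g * E.t * g⁻¹ = b) (hgb : g * b * g⁻¹ = b * E.t) :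
    g * (b * E.t) * g⁻¹ = E.t := by
  rw [show g * (b * E.t) * g⁻¹ = (g * b * g⁻¹) * (g * E.t * g⁻¹) by group, hgt, hgb, mul_assoc,
    ← hb.comm, ← mul_assoc, hb.sq, one_mul]

theorem rot_two {b g : G} (hgt : g * E.t * g⁻¹ = b) (hgb : g * b * g⁻¹ = b * E.t) :
    g * g * E.t * (g * g)⁻¹ = b * E.t := by
  rw [show g * g * E.t * (g * g)⁻¹ = g * (g * E.t * g⁻¹) * g⁻¹ by group, hgt, hgb]

theorem rot_three_mem_H {b g : G} (hb : E.Refl b) (hgt : g * E.t * g⁻¹ = b)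
    (hgb : g * b * g⁻¹ = b * E.t) : g * g * g ∈ E.H := by
  rw [E.mem_H, ← mul_inv_eq_iff_eq_mul,
    show g * g * g * E.t * (g * g * g)⁻¹ = g * (g * g * E.t * (g * g)⁻¹) * g⁻¹ by group,
    rot_two hgt hgb, rot_bt hb hgt hgb]

/-- `g` normalises `X`. -/
theorem conjBy_X {b g : G} (hb : E.Refl b) (hgt : g * E.t * g⁻¹ = b)
    (hgb : g * b * g⁻¹ = b * E.t) : conjBy (E.X b) g = E.X b :=
  eq_of_le_of_card_ge (by rintro _ ⟨x, hx, rfl⟩; exact hb.conj_mem_X hgt hgb hx)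
    (by rw [conjBy, card_map_of_injective (MulAut.conj g).injective])

theorem inv_conj_mem_X {b g x : G} (hb : E.Refl b) (hgt : g * E.t * g⁻¹ = b)
    (hgb : g * b * g⁻¹ = b * E.t) (hx : x ∈ E.X b) : g⁻¹ * x * g ∈ E.X b := by
  rw [← conjBy_X hb hgt hgb, mem_conjBy] at hx
  exact hx

variable (E)

theorem conjBy_R {r : ℕ} {h : G} (hh : h ∈ E.H) : conjBy (E.R r) h = E.R r := by
  ext x
  rw [mem_conjBy]
  constructor
  · intro hx
    have := conj_mem_R E hh hx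
    simpa [mul_assoc] using this
  · intro hx
    have := conj_mem_R E (inv_mem hh) hx
    simpa [mul_assoc] using this

/-- The conjugate of `O_r(C(t))` depends on the involution only. -/
theorem conjBy_R_eq {r : ℕ} {g g' : G} (h : g * E.t * g⁻¹ = g' * E.t * g'⁻¹) :
    conjBy (E.R r) g = conjBy (E.R r) g' := by
  have h1 : g⁻¹ * g' ∈ E.H := E.mem_H.2 (by
    calc g⁻¹ * g' * E.t = g⁻¹ * (g' * E.t * g'⁻¹) * g' := by group
      _ = E.t * (g⁻¹ * g') := by rw [← h]; group)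
  rw [show g' = g * (g⁻¹ * g') by group, ← conjBy_mul, conjBy_R E h1]

/-- The centraliser of `a t a⁻¹` normalises the conjugate of `O_r(C(t))`. -/
theorem conj_mem_conjR {r : ℕ} {a c y : G} (hc : c * (a * E.t * a⁻¹) = a * E.t * a⁻¹ * c)
    (hy : y ∈ conjBy (E.R r) a) : c * y * c⁻¹ ∈ conjBy (E.R r) a := by
  rw [mem_conjBy] at hy ⊢
  have hH : a⁻¹ * c * a ∈ E.H := E.mem_H.2 (by
    calc a⁻¹ * c * a * E.t = a⁻¹ * (c * (a * E.t * a⁻¹)) * a := by group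
      _ = E.t * (a⁻¹ * c * a) := by rw [hc]; group)
  have := conj_mem_R E hH hy
  rwa [show a⁻¹ * c * a * (a⁻¹ * y * a) * (a⁻¹ * c * a)⁻¹ = a⁻¹ * (c * y * c⁻¹) * a by group] at this

omit [Finite G] in
theorem isPGroup_conjBy {r : ℕ} {A : Subgroup G} (hA : IsPGroup r A) (g : G) :
    IsPGroup r (conjBy A g) := hA.map _

omit [Finite G] in
theorem conjBy_le_iff {A B : Subgroup G} {g : G} :
    conjBy A g ≤ B ↔ ∀ x ∈ A, g * x * g⁻¹ ∈ B := by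
  constructor
  · exact fun h x hx => h ⟨x, hx, rfl⟩
  · rintro h _ ⟨x, hx, rfl⟩
    exact h x hx

/-- For `|S| ≥ 8`, modulo an invariant subgroup on which the rotation of order 4 acts trivially, the
element cycling the four-group acts on `X` as an inner automorphism. -/
theorem exists_inner_mod (hk : 1 ≤ E.d.k) {b g : G} (hb : E.Refl b) (hgt : g * E.t * g⁻¹ = b)
    (hgb : g * b * g⁻¹ = b * E.t) {N : Subgroup G}
    (hgN : ∀ n ∈ N, g * n * g⁻¹ ∈ N) (hσN : ∀ n ∈ N, E.d.t * n * E.d.t⁻¹ ∈ N)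
    (hσ : ∀ x ∈ E.X b, x⁻¹ * (E.d.t * x * E.d.t⁻¹) ∈ N) :
    ∃ z ∈ E.X b, ∀ x ∈ E.X b, (z * x * z⁻¹)⁻¹ * (g * x * g⁻¹) ∈ N := by
  obtain ⟨hσt, hσb⟩ := hb.swap hk
  have hgbt := rot_bt hb hgt hgb
  set σ := E.d.t with hσdef
  have hσt' : σ⁻¹ * E.t * σ = E.t := by
    calc σ⁻¹ * E.t * σ = σ⁻¹ * (σ * E.t * σ⁻¹) * σ := by rw [hσt]
      _ = E.t := by group
  have hσbt : σ * (b * E.t) * σ⁻¹ = b := by
    calc σ * (b * E.t) * σ⁻¹ = σ * b * σ⁻¹ * (σ * E.t * σ⁻¹) := by group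
      _ = b := by rw [hσb, hσt, mul_assoc, E.t_sq, mul_one]
  have hσb' : σ⁻¹ * b * σ = b * E.t := by
    calc σ⁻¹ * b * σ = σ⁻¹ * (σ * (b * E.t) * σ⁻¹) * σ := by rw [hσbt]
      _ = b * E.t := by group
  have hcomp : ∀ u w : G, ∀ a a' a'' : G, u * a * u⁻¹ = a' → w * a' * w⁻¹ = a'' →
      w * u * a * (w * u)⁻¹ = a'' := fun u w a a' a'' h1 h2 => by rw [← h2, ← h1]; group
  -- congruences survive conjugation
  have cg : ∀ u w : G, u⁻¹ * w ∈ N → (g * u * g⁻¹)⁻¹ * (g * w * g⁻¹) ∈ N := fun u w h => by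
    have := hgN _ h
    rwa [show g * (u⁻¹ * w) * g⁻¹ = (g * u * g⁻¹)⁻¹ * (g * w * g⁻¹) by group] at this
  have cs : ∀ u w : G, u⁻¹ * w ∈ N → (σ * u * σ⁻¹)⁻¹ * (σ * w * σ⁻¹) ∈ N := fun u w h => by
    have := hσN _ h
    rwa [show σ * (u⁻¹ * w) * σ⁻¹ = (σ * u * σ⁻¹)⁻¹ * (σ * w * σ⁻¹) by group] at this
  have trans : ∀ u v w : G, u⁻¹ * v ∈ N → v⁻¹ * w ∈ N → u⁻¹ * w ∈ N := fun u v w h1 h2 => by
    have := mul_mem h1 h2
    rwa [show u⁻¹ * v * (v⁻¹ * w) = u⁻¹ * w by group] at this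
  have symm : ∀ u w : G, u⁻¹ * w ∈ N → w⁻¹ * u ∈ N := fun u w h => by
    have := inv_mem h
    rwa [show (u⁻¹ * w)⁻¹ = w⁻¹ * u by group] at this
  have inner : ∀ k : G, k * E.t * k⁻¹ = E.t → k * b * k⁻¹ = b →
      ∃ y ∈ E.X b, ∀ x ∈ E.X b, k * x * k⁻¹ = y * x * y⁻¹ := by
    intro k h1 h2
    obtain ⟨v, hv, y, hy, rfl⟩ :=
      hb.exists_eq_mul (mul_inv_eq_iff_eq_mul.1 h1) (mul_inv_eq_iff_eq_mul.1 h2)
    refine ⟨y, hy, fun x hx => ?_⟩
    obtain ⟨q1, q2, -⟩ := hb.mem_X.1 (mul_mem (mul_mem hy hx) (inv_mem hy))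
    have hvz : v * (y * x * y⁻¹) = y * x * y⁻¹ * v := by
      rcases hv with rfl | rfl | rfl | rfl
      · rw [one_mul, mul_one]
      · exact q1.symm
      · exact q2.symm
      · exact ((show Commute (y * x * y⁻¹) b from q2).mul_right q1).eq.symm
    calc v * y * x * (v * y)⁻¹ = v * (y * x * y⁻¹) * v⁻¹ := by group
      _ = y * x * y⁻¹ := by rw [hvz, mul_inv_cancel_right]
  obtain ⟨y, hy, hky⟩ := inner (g * (σ * g * σ⁻¹))
    (hcomp _ g E.t (b * E.t) E.t (by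
      rw [show σ * g * σ⁻¹ * E.t * (σ * g * σ⁻¹)⁻¹ = σ * (g * (σ⁻¹ * E.t * σ) * g⁻¹) * σ⁻¹ by group,
        hσt', hgt, hσb]) hgbt)
    (hcomp _ g b E.t b (by
      rw [show σ * g * σ⁻¹ * b * (σ * g * σ⁻¹)⁻¹ = σ * (g * (σ⁻¹ * b * σ) * g⁻¹) * σ⁻¹ by group,
        hσb', hgbt, hσt]) hgt)
  obtain ⟨z, hz, hkz⟩ := inner (g * g * g)
    (hcomp g (g * g) E.t b E.t hgt (hcomp g g b (b * E.t) E.t hgb hgbt))
    (hcomp g (g * g) b (b * E.t) b hgb (hcomp g g (b * E.t) E.t b hgbt hgt))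
  refine ⟨z * y⁻¹, mul_mem hz (inv_mem hy), fun x hx => ?_⟩
  have hg2 : ∀ w ∈ E.X b, (y * w * y⁻¹)⁻¹ * (g * g * w * (g * g)⁻¹) ∈ N := by
    intro w hw
    have hσw : σ⁻¹ * w * σ ∈ E.X b := by
      obtain ⟨h1, h2, h3⟩ := hb.mem_X.1 hw
      have e1 := Setup.commute_conj (g := σ⁻¹) h1
      have e2 := Setup.commute_conj (g := σ⁻¹) h2
      rw [inv_inv] at e1 e2
      rw [hσt'] at e1
      rw [hσb'] at e2
      rw [← hb.X_mul_t]
      refine hb.mul_t.mem_X.2 ⟨e1, e2, ?_⟩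
      have := CfsgLib.RankOneInvol.odd_orderOf_conj h3 σ⁻¹
      rwa [inv_inv] at this
    have h1 : (σ⁻¹ * w * σ)⁻¹ * w ∈ N := by
      have := hσ _ hσw
      rwa [show σ * (σ⁻¹ * w * σ) * σ⁻¹ = w by group] at this
    have h4 : (σ * (g * (σ⁻¹ * w * σ) * g⁻¹) * σ⁻¹)⁻¹ * (g * w * g⁻¹) ∈ N :=
      trans _ _ _ (cs _ _ (cg _ _ h1)) (symm _ _ (hσ _ (hb.conj_mem_X hgt hgb hw)))
    have h5 := cg _ _ h4
    rwa [show g * (σ * (g * (σ⁻¹ * w * σ) * g⁻¹) * σ⁻¹) * g⁻¹ =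
      g * (σ * g * σ⁻¹) * w * (g * (σ * g * σ⁻¹))⁻¹ by group, hky w hw,
      show g * (g * w * g⁻¹) * g⁻¹ = g * g * w * (g * g)⁻¹ by group] at h5
  have hw : y⁻¹ * x * y ∈ E.X b := mul_mem (mul_mem (inv_mem hy) hx) hy
  have e1 := hg2 _ hw
  rw [show y * (y⁻¹ * x * y) * y⁻¹ = x by group] at e1
  have e2 := symm _ _ (cg _ _ e1)
  rw [show g * (g * g * (y⁻¹ * x * y) * (g * g)⁻¹) * g⁻¹ =
    g * g * g * (y⁻¹ * x * y) * (g * g * g)⁻¹ by group, hkz _ hw,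
    show z * (y⁻¹ * x * y) * z⁻¹ = z * y⁻¹ * x * (z * y⁻¹)⁻¹ by group] at e2
  exact e2

/-- The `r'`-core of a subgroup, inside `G`. -/
def primeCoreIn (r : ℕ) (K : Subgroup G) : Subgroup G := (Cfsg.pPrimeCore r K).map K.subtype

omit [Finite G] in
theorem primeCoreIn_le (r : ℕ) (K : Subgroup G) : primeCoreIn r K ≤ K := map_subtype_le _

theorem not_dvd_primeCoreIn (r : ℕ) [Fact r.Prime] (K : Subgroup G) :
    ¬ r ∣ Nat.card (primeCoreIn r K) := by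
  rw [primeCoreIn, card_map_of_injective K.subtype_injective]
  exact CfsgLib.PCore.not_dvd_card_pPrimeCore

theorem le_primeCoreIn {r : ℕ} [Fact r.Prime] {K N : Subgroup G} (hNK : N ≤ K)
    (hn : ∀ k ∈ K, ∀ x ∈ N, k * x * k⁻¹ ∈ N) (hr : ¬ r ∣ Nat.card N) : N ≤ primeCoreIn r K := by
  have h1 : N.subgroupOf K ≤ Cfsg.pPrimeCore r K := by
    refine CfsgLib.PCore.le_pPrimeCore_of_not_dvd
      ⟨fun x hx k => mem_subgroupOf.2 (hn _ k.2 _ (mem_subgroupOf.1 hx))⟩ ?_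
    rwa [Nat.card_congr (subgroupOfEquivOfLe hNK).toEquiv]
  exact fun x hx => ⟨⟨x, hNK hx⟩, h1 (mem_subgroupOf.2 hx), rfl⟩

theorem conj_mem_primeCoreIn {r : ℕ} [Fact r.Prime] {K : Subgroup G} {k x : G} (hk : k ∈ K)
    (hx : x ∈ primeCoreIn r K) : k * x * k⁻¹ ∈ primeCoreIn r K := by
  obtain ⟨y, hy, rfl⟩ := hx
  exact ⟨⟨k, hk⟩ * y * ⟨k, hk⟩⁻¹,
    (inferInstance : (Cfsg.pPrimeCore r K).Normal).conj_mem y hy _, rfl⟩

/-- An element normalising `K` normalises its `r'`-core. -/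
theorem normalize_primeCoreIn {r : ℕ} [Fact r.Prime] {K : Subgroup G} {n : G}
    (hn : ∀ x ∈ K, n * x * n⁻¹ ∈ K) : ∀ x ∈ primeCoreIn r K, n * x * n⁻¹ ∈ primeCoreIn r K := by
  have hK : conjBy K n = K := eq_of_le_of_card_ge ((conjBy_le_iff).2 hn)
    (by rw [conjBy, card_map_of_injective (MulAut.conj n).injective])
  have hle : conjBy (primeCoreIn r K) n ≤ primeCoreIn r K := by
    refine le_primeCoreIn (((map_mono (primeCoreIn_le r K)).trans hK.le)) ?_ ?_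
    · intro k hk x hx
      rw [← hK, mem_conjBy] at hk
      rw [mem_conjBy] at hx ⊢
      have := conj_mem_primeCoreIn hk hx
      rwa [show n⁻¹ * k * n * (n⁻¹ * x * n) * (n⁻¹ * k * n)⁻¹ = n⁻¹ * (k * x * k⁻¹) * n by group] at this
    · rw [conjBy, card_map_of_injective (MulAut.conj n).injective]
      exact not_dvd_primeCoreIn r K
  exact conjBy_le_iff.1 hle

end CfsgLib.GW.Max32
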