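import Cfsg.Agent.Lib.GW.Max32Top
import Cfsg.Agent.Lib.GW.Max32Rot

/-!
Gorenstein–Walter, Step 3.2: `O_r(C(t))` meets its conjugate trivially, and `U` is not abelian.
-/

set_option autoImplicit false
set_option linter.all false

namespace CfsgLib.GW.Max32

open Subgroup CfsgLib.GW CfsgLib.GW.Main

universe u

/-- Two simple normal subgroups with trivial centraliser coincide. -/
theorem socle_unique {Y : Type u} [Group Y] [Finite Y] {L L' : Subgroup Y} (hLn : L.Normal)
    (hC : centralizer (L : Set Y) = ⊥) (hL : IsPSLOrA7 L) (hLn' : L'.Normal)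
    (hC' : centralizer (L' : Set Y) = ⊥) (hL' : IsPSLOrA7 L') : L = L' := by
  haveI := (isSimple_and_perfect hL).1
  haveI := (isSimple_and_perfect hL').1
  have key : ∀ A B : Subgroup Y, A.Normal → B.Normal → IsSimpleGroup A →
      centralizer (A : Set Y) = ⊥ → B ≠ ⊥ → A ≤ B := by
    intro A B hA hB hs hCA hB1
    haveI := hs
    rcases IsSimpleGroup.eq_bot_or_eq_top_of_normal (B.subgroupOf A) (hB.subgroupOf A) with h | h
    · exfalso
      refine hB1 (le_bot_iff.1 ?_)
      rw [← hCA]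
      exact fun x hx => mem_centralizer_iff.2 fun a ha =>
        (commute_of_normal_of_disjoint _ _ hA hB (subgroupOf_eq_bot.1 h).symm a x ha hx).eq
    · exact subgroupOf_eq_top.1 h
  have ne : ∀ A : Subgroup Y, IsSimpleGroup A → A ≠ ⊥ := fun A hs h => by
    haveI := hs
    exact not_subsingleton A (by subst h; infer_instance)
  exact le_antisymm (key L L' hLn hLn' inferInstance hC (ne L' inferInstance))
    (key L' L hLn' hLn inferInstance hC' (ne L inferInstance))

theorem eq_top_of_alt_seven {Y : Type u} [Group Y] (eY : Y ≃* alternatingGroup (Fin 7))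
    {L : Subgroup Y} (hLn : L.Normal) (hC : centralizer (L : Set Y) = ⊥) : L = ⊤ := by
  haveI : IsSimpleGroup (alternatingGroup (Fin 7)) := alternatingGroup.isSimpleGroup (by simp)
  haveI : IsSimpleGroup Y := eY.isSimpleGroup
  refine hLn.eq_bot_or_eq_top.resolve_left fun h => ?_
  subst h
  have h1 : centralizer ((⊥ : Subgroup Y) : Set Y) = ⊤ :=
    eq_top_iff.2 fun x _ => mem_centralizer_iff.2 fun y hy => by
      rw [mem_bot.1 hy, one_mul, mul_one]
  rw [h1] at hC
  exact top_ne_bot hC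

/-- An element commuting with an involution modulo an odd normal subgroup can be corrected to
commute with it. -/
theorem exists_lift_commute {K : Type u} [Group K] [Finite K] {N : Subgroup K} [N.Normal]
    (hodd : Odd (Nat.card N)) {v y : K} (hv : v * v = 1)
    (h : QuotientGroup.mk' N (y * v) = QuotientGroup.mk' N (v * y)) :
    ∃ y' : K, QuotientGroup.mk' N y' = QuotientGroup.mk' N y ∧ y' * v = v * y' := by
  have hvi : v⁻¹ = v := inv_eq_of_mul_eq_one_right hv
  set o := y * v * y⁻¹ * v with ho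
  have hoN : o ∈ N := by
    rw [← QuotientGroup.eq_one_iff]
    show QuotientGroup.mk' N o = 1
    rw [ho, map_mul, map_mul, h, ← map_mul, ← map_mul,
      show v * y * y⁻¹ * v = v * v by group, hv, map_one]
  have hoo : Odd (orderOf o) := CfsgLib.RankOneInvol.odd_orderOf_of_mem hodd hoN
  have e : o * v = y * v * y⁻¹ := by rw [ho, mul_assoc, hv, mul_one]
  have hinv : v * o * v = o⁻¹ := by
    rw [eq_inv_iff_mul_eq_one]
    calc v * o * v * o = v * (o * v) * (o * v) * v⁻¹ := by group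
      _ = v * ((o * v) * (o * v)) * v⁻¹ := by group
      _ = 1 := by rw [e, show y * v * y⁻¹ * (y * v * y⁻¹) = y * (v * v) * y⁻¹ by group, hv]; group
  obtain ⟨k, hk⟩ := CfsgLib.RankOneInvol.exists_pow_sq_eq hoo
  set w := o ^ k with hw
  have hww : w * w = o := hk
  have hwv : v * w * v = w⁻¹ := by
    have h1 : v * w * v⁻¹ = (v * o * v⁻¹) ^ k := conj_pow.symm
    rw [hvi] at h1
    rw [h1, hinv, hw, inv_pow]
  refine ⟨w⁻¹ * y, ?_, ?_⟩
  · rw [map_mul, show QuotientGroup.mk' N w⁻¹ = 1 from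
      (QuotientGroup.eq_one_iff _).2 (inv_mem (pow_mem hoN k)), one_mul]
  · have h2 : w * v * w⁻¹ = y * v * y⁻¹ := by
      rw [← e, ← hww, mul_assoc w v, ← hwv]
      simp only [← mul_assoc]
      rw [mul_assoc w v v, hv, mul_one]
    calc w⁻¹ * y * v = w⁻¹ * (y * v * y⁻¹) * y := by group
      _ = v * (w⁻¹ * y) := by rw [← h2]; group

variable {G : Type u} [Group G] [Finite G] (E : Setup G)

include E in
theorem dc_G : DC G := dc_of_sylow E.S (n := E.m) (Or.inl E.eS)

include E in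
theorem not_comm : ¬ IsMulCommutative G := fun h => E.H_ne_top (eq_top_iff.2 fun x _ =>
  E.mem_H.2 (h.is_comm.comm x E.t))

/-- A conjugator of `t` to a different involution fixes no `O_r(C(t))`. -/
theorem false_of_conjBy_eq (hH : IsCoatom E.H) {b g : G} (hb : E.Refl b) (hgt : g * E.t * g⁻¹ = b)
    {r : ℕ} (hne : E.R r ≠ ⊥) (h : conjBy (E.R r) g = E.R r) : False := by
  have hg : g ∈ E.H := by
    rw [← normalizer_R E hH hne]
    exact mem_normalizer_iff_map_conj_eq.2 h
  refine hb.ne_t ?_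
  rw [← hgt, E.mem_H.1 hg, mul_inv_cancel_right]

/-- `U` is not abelian. -/
theorem false_of_comm (hH : IsCoatom E.H) {b : G} (hb : E.Refl b) {r : ℕ} (hr : r.Prime)
    (hr2 : r ≠ 2) (hne : E.R r ≠ ⊥) (hle : E.R r ≤ E.X b)
    (hcomm : ∀ x ∈ E.U, ∀ y ∈ E.U, x * y = y * x) : False := by
  obtain ⟨g, hgt, hgb, -⟩ := hb.exists_rot
  haveI := Max33.solvable_H E
  haveI := Fact.mk hr
  have hUF : E.U ≤ fitIn E.H := fun x hx => by
    haveI : Group.IsNilpotent (E.U.subgroupOf E.H) := by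
      letI : CommGroup (E.U.subgroupOf E.H) :=
        { (inferInstance : Group (E.U.subgroupOf E.H)) with
          mul_comm := fun a b => Subtype.ext (Subtype.ext
            (hcomm _ (mem_subgroupOf.1 a.2) _ (mem_subgroupOf.1 b.2))) }
      infer_instance
    exact ⟨⟨x, E.U_le_H hx⟩, CfsgLib.Fitting.le_fitting
      ⟨fun y hy k => mem_subgroupOf.2 (E.conj_mem_U k.2 (mem_subgroupOf.1 hy))⟩ inferInstance
      (mem_subgroupOf.2 hx), rfl⟩
  refine false_of_conjBy_eq E hH hb hgt hne (eq_of_le_of_card_ge ?_ ?_)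
  · intro x hx
    obtain ⟨k, hk⟩ := IsPGroup.iff_orderOf.1 (isPGroup_conjBy (isPGroup_R E hr) g) ⟨x, hx⟩
    rw [Subgroup.orderOf_mk] at hk
    refine Max33.mem_R_of_fit E hr (hUF ?_) hk
    obtain ⟨y, hy, rfl⟩ := hx
    exact (hb.conj_mem_X hgt hgb (hle hy)).1
  · rw [conjBy, card_map_of_injective (MulAut.conj g).injective]

/-- The local facts at a maximal subgroup over the normaliser of a subgroup of `O_r(C(t))`. -/
theorem local_facts (hH : IsCoatom E.H) (hU : E.U ≠ ⊥) {b : G} (hb : E.Refl b) {r : ℕ} (hr : r.Prime)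
    {Q K : Subgroup G} (hQ : Q ≠ ⊥) (hQR : Q ≤ E.R r) (hK : IsCoatom K) (hNK : normalizer (Q : Set G) ≤ K)
    (htK : E.t ∈ K) (hbK : b ∈ K) (hXK : E.X b ≤ K) :
    (Cfsg.fittingSubgroup K).map K.subtype ≤ E.H ∧ ∀ x ∈ GW.coreIn K, x * E.t = E.t * x := by
  have hlead : Cfsg.leadsTo E.H K :=
    ⟨Q, hQ, hQR.trans (pCoreIn_le_fitIn hr E.H), inf_le_right.trans hNK⟩
  exact ⟨Local.fitting_le E hH hU hb hK htK hbK hlead (Or.inl hXK),
    Local.commute_coreIn E hH hU hb hK htK hbK hlead (Or.inl hXK)⟩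

/-- A solvable maximal subgroup towards which `C(t)` leads, with Fitting subgroup in `C(t)`, is
`C(t)`. -/
theorem eq_H_of_solvable (hH : IsCoatom E.H) (hU : E.U ≠ ⊥) {Q K : Subgroup G} {r : ℕ}
    (hr : r.Prime) (hQ : Q ≠ ⊥) (hQR : Q ≤ E.R r) (hK : IsCoatom K)
    (hNK : normalizer (Q : Set G) ≤ K) (hs : Group.IsSolvable K) (ht : E.t ∈ K)
    (hF : (Cfsg.fittingSubgroup K).map K.subtype ≤ E.H) : K = E.H := by
  haveI := E.simple
  haveI := hs
  have hlead : Cfsg.leadsTo E.H K :=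
    ⟨Q, hQ, hQR.trans (pCoreIn_le_fitIn hr E.H), inf_le_right.trans hNK⟩
  haveI : Nontrivial K := ⟨⟨E.t, ht⟩, 1, fun h => E.t_ne_one (congrArg Subtype.val h)⟩
  have hlayer : Cfsg.layer K = ⊥ := by
    rw [Cfsg.layer]
    refine sSup_eq_bot.2 fun L hL => absurd ?_ (CfsgLib.Components.component_not_isSolvable hL)
    infer_instance
  have hlead' : Cfsg.leadsTo K E.H := by
    refine ⟨(Cfsg.fittingSubgroup K).map K.subtype, ?_, le_rfl, inf_le_left.trans ?_⟩
    · rw [Ne, map_eq_bot_iff_of_injective _ K.subtype_injective]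
      exact CfsgLib.Fitting.fitting_ne_bot
    · rwa [Cfsg.generalizedFittingSubgroup, hlayer, bot_sup_eq]
  refine (Cfsg.Tech46.Bender.eq_or_pgroup (not_comm E) hH hK hlead hlead').elim Eq.symm ?_
  rintro ⟨p, hp, h1, -⟩
  exfalso
  obtain ⟨q, hq, hq2, hqd⟩ := Local.exists_odd_dvd_fitting E hU
  haveI := Fact.mk hp
  obtain ⟨n, hn⟩ := IsPGroup.iff_card.1 h1
  have hsub : Nat.card (Cfsg.fittingSubgroup E.H) ∣ p ^ n := by
    rw [← hn]
    exact card_dvd_of_le le_sup_right
  have e1 := (Nat.prime_dvd_prime_iff_eq Nat.prime_two hp).1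
    (Nat.prime_two.dvd_of_dvd_pow ((Local.two_dvd_fitting E).trans hsub))
  have e2 := (Nat.prime_dvd_prime_iff_eq hq hp).1 (hq.dvd_of_dvd_pow (hqd.trans hsub))
  exact hq2 (e2.trans e1.symm)

/-- `O_r(C(t))` meets its conjugate under the element cycling the four-group trivially. -/
theorem false_of_meet (hH : IsCoatom E.H) (hU : E.U ≠ ⊥) {b g : G} (hb : E.Refl b)
    (hgt : g * E.t * g⁻¹ = b) (hgb : g * b * g⁻¹ = b * E.t) {r : ℕ} (hr : r.Prime) (hr2 : r ≠ 2)
    (hD : E.Dichotomy) (hne : E.R r ≠ ⊥) (hle : E.R r ≤ E.X b)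
    (hmeet : E.R r ⊓ conjBy (E.R r) g ≠ ⊥) : False := by
  classical
  haveI := E.simple
  haveI : Fact (Nat.Prime 2) := ⟨Nat.prime_two⟩
  haveI := Fact.mk hr
  set R := E.R r with hR
  set D := R ⊓ conjBy R g with hDdef
  have hgbt := rot_bt hb hgt hgb
  have hR'X : conjBy R g ≤ E.X b := (conjBy_X hb hgt hgb) ▸ map_mono hle
  have hR''X : conjBy R (g * g) ≤ E.X b := by
    rw [← conjBy_mul, ← conjBy_X hb hgt hgb]; exact map_mono hR'X
  -- `X`, `t` and `b` normalise `D`
  have hXD : ∀ x, (x ∈ E.X b ∨ x = E.t ∨ x = b) → x ∈ normalizer (D : Set G) := by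
    intro x hx
    have hc : x * E.t = E.t * x ∧ x * b = b * x := by
      rcases hx with h | rfl | rfl
      · exact ⟨(hb.mem_X.1 h).1, (hb.mem_X.1 h).2.1⟩
      · exact ⟨rfl, hb.comm.symm⟩
      · exact ⟨hb.comm, rfl⟩
    refine inf_normalizer_le_normalizer_inf
      ⟨Cfsg.Tech46.Bender.coreIn_le_normalizer r E.H (E.mem_H.2 hc.1), ?_⟩
    show x ∈ normalizer (conjBy R g : Set G)
    rw [mem_normalizer_iff]
    have hci : x⁻¹ * b = b * x⁻¹ := ((show Commute x b from hc.2).inv_left).eq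
    refine fun y => ⟨fun hy => conj_mem_conjR E (a := g) (by rw [hgt]; exact hc.2) hy, fun hy => ?_⟩
    have := conj_mem_conjR E (a := g) (c := x⁻¹) (by rw [hgt]; exact hci) hy
    simpa [mul_assoc] using this
  have hNtop : normalizer (D : Set G) ≠ ⊤ := by
    intro h
    rcases E.eq_bot_or_top (normalizer_eq_top_iff.1 h) with h' | h'
    · exact hmeet h'
    · exact E.H_ne_top (top_le_iff.1 (h' ▸ inf_le_left.trans (R_le_H E r)))
  obtain ⟨K, hK, hNK⟩ := (eq_top_or_exists_le_coatom (normalizer (D : Set G))).resolve_left hNtop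
  have hXK : E.X b ≤ K := fun x hx => hNK (hXD x (Or.inl hx))
  have htK : E.t ∈ K := hNK (hXD _ (Or.inr (Or.inl rfl)))
  have hbK : b ∈ K := hNK (hXD _ (Or.inr (Or.inr rfl)))
  have hQ1 : D ≤ E.R r := inf_le_left
  obtain ⟨hF, hcO⟩ := local_facts E hH hU hb hr hmeet hQ1 hK hNK htK hbK hXK
  -- the conjugate maximal subgroup
  set K1 := conjBy K g⁻¹ with hK1def
  have hK1 : IsCoatom K1 := (MulEquiv.mapSubgroup (MulAut.conj g⁻¹)).isCoatom_iff K |>.2 hK
  have hm1 : ∀ x, x ∈ K1 ↔ g * x * g⁻¹ ∈ K := fun x => by rw [hK1def, mem_conjBy, inv_inv]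
  have htK1 : E.t ∈ K1 := (hm1 _).2 (hgt.symm ▸ hbK)
  have hbK1 : b ∈ K1 := (hm1 _).2 (hgb.symm ▸ mul_mem hbK htK)
  have hXK1 : E.X b ≤ K1 := fun x hx => (hm1 _).2 (hXK (hb.conj_mem_X hgt hgb hx))
  set Q1 := conjBy D g⁻¹ with hQ1def
  have hQ1ne : Q1 ≠ ⊥ := by
    rw [hQ1def, conjBy, Ne, map_eq_bot_iff_of_injective _ (MulAut.conj g⁻¹).injective]
    exact hmeet
  have hQ1R : Q1 ≤ E.R r := fun x hx => by
    rw [hQ1def, mem_conjBy, inv_inv] at hx
    have := mem_conjBy.1 hx.2
    rwa [show g⁻¹ * (g * x * g⁻¹) * g = x by group] at this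
  have hNK1 : normalizer (Q1 : Set G) ≤ K1 := by
    intro x hx
    refine (hm1 x).2 (hNK ?_)
    rw [mem_normalizer_iff]
    intro y
    have h2 := mem_normalizer_iff.1 hx (g⁻¹ * y * g)
    rw [hQ1def, mem_conjBy, mem_conjBy, inv_inv] at h2
    rw [show g * (g⁻¹ * y * g) * g⁻¹ = y by group] at h2
    rw [h2, show g * (x * (g⁻¹ * y * g) * x⁻¹) * g⁻¹ = g * x * g⁻¹ * y * (g * x * g⁻¹)⁻¹ by group]
  obtain ⟨hF1, hcO1⟩ := local_facts E hH hU hb hr hQ1ne hQ1R hK1 hNK1 htK1 hbK1 hXK1
  have hbO : ∀ x ∈ GW.coreIn K, x * b = b * x := by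
    intro x hx
    have hx1 : g⁻¹ * x * g ∈ GW.coreIn K1 := by
      refine le_coreIn (N := conjBy (GW.coreIn K) g⁻¹) (map_mono (coreIn_le K)) ?_ ?_ ?_
      · intro k hk y hy
        rw [mem_conjBy, inv_inv] at hy ⊢
        have := conj_mem_coreIn ((hm1 k).1 hk) hy
        rwa [show g * k * g⁻¹ * (g * y * g⁻¹) * (g * k * g⁻¹)⁻¹ = g * (k * y * k⁻¹) * g⁻¹ by group] at this
      · rw [conjBy, card_map_of_injective (MulAut.conj g⁻¹).injective]
        exact odd_card_coreIn K
      · rw [mem_conjBy, inv_inv, show g * (g⁻¹ * x * g) * g⁻¹ = x by group]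
        exact hx
    have := Setup.commute_conj (g := g) (hcO1 _ hx1)
    rwa [hgt, show g * (g⁻¹ * x * g) * g⁻¹ = x by group] at this
  -- a solvable `K` is `C(t)`
  by_cases hsolv : Group.IsSolvable K
  · have hKH := eq_H_of_solvable E hH hU hr hmeet hQ1 hK hNK hsolv htK hF
    have hsolv1 : Group.IsSolvable K1 :=
      haveI := hsolv
      Group.isSolvable_of_surjective
        (K.equivMapOfInjective _ (MulAut.conj g⁻¹).injective).surjective
        (f := (K.equivMapOfInjective _ (MulAut.conj g⁻¹).injective).toMonoidHom)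
    have hKH1 := eq_H_of_solvable E hH hU hr hQ1ne hQ1R hK1 hNK1 hsolv1 htK1 hF1
    have hgH : g ∈ E.H := by
      have hnH : normalizer (E.H : Set G) = E.H := by
        refine Cfsg.Tech46.Bender.normalizer_eq_of_isCoatom hH E.H (fun h => E.t_ne_one ?_) le_rfl
          le_normalizer
        rw [← mem_bot (G := G), ← h]
        exact E.mem_H.2 rfl
      have h1 : conjBy E.H g⁻¹ = E.H := by rw [← hKH] at *; exact hKH1
      have h2 : g⁻¹ ∈ normalizer (E.H : Set G) := mem_normalizer_iff_map_conj_eq.2 h1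
      rw [hnH] at h2
      exact inv_mem_iff.1 h2
    exact hb.ne_t (by rw [← hgt, E.mem_H.1 hgH, mul_inv_cancel_right])
  -- the top of `K`
  set N := Cfsg.oddCore K with hN
  set π := QuotientGroup.mk' N with hπ
  have hNodd : Odd (Nat.card N) := by
    have := odd_card_coreIn (G := G) K
    rwa [GW.coreIn, card_map_of_injective K.subtype_injective] at this
  have hTop : Top (K ⧸ N) := E.good K hK.1
  have hDC : DC (K ⧸ N) := dc_quotient ((dc_G E).subgroup K)
  obtain ⟨L, hLn, hLC, hL⟩ : ∃ L : Subgroup (K ⧸ N), L.Normal ∧ centralizer (L : Set (K ⧸ N)) = ⊥ ∧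
      IsPSLOrA7 L := by
    haveI : Group.IsSolvable N := Local.isSolvable_of_odd hNodd
    have solv : Group.IsSolvable (K ⧸ N) → False := fun h => hsolv (by
      haveI := h
      exact Group.isSolvable_of_ker_le_range N.subtype π
        (by rw [hπ, QuotientGroup.ker_mk', range_subtype]))
    rcases hTop with h | ⟨⟨e⟩⟩ | ⟨⟨e⟩⟩ | h
    · exact (solv (Local.isSolvable_of_two h)).elim
    · refine (solv ?_).elim
      haveI := CfsgLib.InvCharSmall.isSolvable_perm_four
      exact Group.isSolvable_of_isSolvable_injective (f := e.toMonoidHom) e.injective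
    · refine (solv ?_).elim
      haveI := CfsgLib.InvCharSmall.isSolvable_perm_four
      exact Group.isSolvable_of_isSolvable_injective (f := e.toMonoidHom) e.injective
    · exact h
  haveI := hLn
  haveI hLs := (isSimple_and_perfect hL).1
  have hord : ∀ (v : G) (hv : v ∈ K), orderOf v = 2 → orderOf (π ⟨v, hv⟩) = 2 := by
    intro v hv h2
    refine orderOf_eq_prime (hp := ⟨Nat.prime_two⟩) ?_ fun h => ?_
    · rw [← map_pow, show (⟨v, hv⟩ : K) ^ 2 = 1 from Subtype.ext (by
        push_cast; rw [← h2, pow_orderOf_eq_one]), map_one]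
    · have h1 := CfsgLib.RankOneInvol.odd_orderOf_of_mem hNodd ((QuotientGroup.eq_one_iff _).1 h)
      rw [Subgroup.orderOf_mk, h2] at h1
      exact absurd h1 (by decide)
  -- an element commuting modulo `O(K)` with one centralising it commutes
  have hlift : ∀ (v : G) (hv : v ∈ K), v * v = 1 → (∀ x ∈ GW.coreIn K, x * v = v * x) → ∀ y : K,
      π y * π ⟨v, hv⟩ = π ⟨v, hv⟩ * π y → (y : G) * v = v * y := by
    intro v hv hvv hvO y hy
    obtain ⟨y', hy', hc⟩ := exists_lift_commute hNodd (v := (⟨v, hv⟩ : K)) (y := y)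
      (Subtype.ext hvv) (by rw [map_mul, map_mul]; exact hy)
    have ho : y'⁻¹ * y ∈ N := QuotientGroup.eq.1 hy'
    have h1 := hvO _ (mem_map_of_mem K.subtype ho)
    have h2 : (y' : G) * v = v * y' := congrArg Subtype.val hc
    have h3 := ((show Commute (y' : G) v from h2).mul_left
      (show Commute (((y'⁻¹ * y : K) : G)) v from h1)).eq
    simpa [← mul_assoc] using h3
  set C0 : Subgroup K := centralizer (N : Set K) with hC0
  have hC0n : (C0.map π).Normal := (inferInstance : C0.Normal).map π (QuotientGroup.mk'_surjective N)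
  have hC0v : ∀ (v : G) (hv : v ∈ K), (∀ x ∈ GW.coreIn K, x * v = v * x) → (⟨v, hv⟩ : K) ∈ C0 :=
    fun v hv hvO => mem_centralizer_iff.2 fun x hx => Subtype.ext (hvO _ (mem_map_of_mem K.subtype hx))
  -- one corner of the four-group
  have step : ∀ (v w a : G) (hvK : v ∈ K) (hwK : w ∈ K), a * E.t * a⁻¹ = v → orderOf v = 2 →
      orderOf w = 2 → orderOf (v * w) = 2 → v * w = w * v →
      (∀ x ∈ GW.coreIn K, x * v = v * x) → conjBy R a ≤ E.X b →
      (∀ x ∈ E.X b, x * v = v * x) → (∀ x ∈ E.X b, x * w = w * x) → π ⟨v, hvK⟩ ∈ L →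
      ((conjBy R a).subgroupOf K).map π ≠ ⊥ ∧
        Nonempty ((K ⧸ N) ≃* alternatingGroup (Fin 7)) := by
    intro v w a hvK hwK hav hv hw hvw2 hvw hvO hRX hXv hXw hvL
    have hR0 : conjBy R a ≠ ⊥ := by
      rw [conjBy, Ne, map_eq_bot_iff_of_injective _ (MulAut.conj a).injective]; exact hne
    set B := ((conjBy R a).subgroupOf K).map π with hBdef
    have hB : B ≠ ⊥ := by
      intro hB
      rw [hBdef, Subgroup.map_eq_bot_iff, hπ, QuotientGroup.ker_mk'] at hB
      haveI : Group.IsSolvable C0 := by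
        haveI := Max33.solvable_H E
        refine Group.isSolvable_of_isSolvable_injective (f := ((((MulAut.conj a⁻¹).toMonoidHom.comp
          K.subtype).comp C0.subtype).codRestrict E.H fun x => ?_))
          fun x y h => Subtype.ext (Subtype.ext ((MulAut.conj a⁻¹).injective (congrArg Subtype.val h)))
        show a⁻¹ * ((x : K) : G) * a⁻¹⁻¹ ∈ E.H
        rw [inv_inv, ← normalizer_R E hH hne]
        refine centralizer_le_normalizer _ (mem_centralizer_iff.2 fun z hz => ?_)
        have hz' : a * z * a⁻¹ ∈ conjBy R a := ⟨z, hz, rfl⟩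
        have h1 := congrArg Subtype.val (mem_centralizer_iff.1 x.2 _
          (hB (x := ⟨a * z * a⁻¹, hXK (hRX hz')⟩) (mem_subgroupOf.2 hz')))
        calc z * (a⁻¹ * ((x : K) : G) * a) = a⁻¹ * (a * z * a⁻¹ * ((x : K) : G)) * a := by group
          _ = a⁻¹ * (((x : K) : G) * (a * z * a⁻¹)) * a := by
              rw [show a * z * a⁻¹ * ((x : K) : G) = ((x : K) : G) * (a * z * a⁻¹) from h1]
          _ = a⁻¹ * ((x : K) : G) * a * z := by group
      haveI : Group.IsSolvable (C0.map π) :=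
        Group.isSolvable_of_surjective (π.subgroupMap_surjective C0)
      refine Local.not_isSolvable_of_top hL ?_
      have hLle : L ≤ C0.map π := by
        rcases IsSimpleGroup.eq_bot_or_eq_top_of_normal ((C0.map π).subgroupOf L)
          (hC0n.subgroupOf L) with h | h
        · exfalso
          have h1 : π ⟨v, hvK⟩ = 1 := Subgroup.disjoint_def.1 (subgroupOf_eq_bot.1 h)
            (mem_map_of_mem π (hC0v v hvK hvO)) hvL
          have h2 := hord v hvK hv
          rw [h1, orderOf_one] at h2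
          exact absurd h2 (by norm_num)
        · exact subgroupOf_eq_top.1 h
      exact Group.isSolvable_of_isSolvable_injective (inclusion_injective hLle)
    refine ⟨hB, (eq_bot_or_alt_seven (B := B) hTop hDC ?_ (hord v hvK hv) (hord w hwK hw) ?_ ?_ ?_ ?_ ?_
      ?_).resolve_left hB⟩
    · refine Odd.of_dvd_nat ?_ (card_map_dvd _ _)
      rw [Nat.card_congr (subgroupOfEquivOfLe (hRX.trans hXK)).toEquiv, conjBy,
        card_map_of_injective (MulAut.conj a).injective]
      exact odd_card_R E hr hr2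
    · intro h
      have h2 := hord (v * w) (mul_mem hvK hwK) hvw2
      rw [show (⟨v * w, mul_mem hvK hwK⟩ : K) = ⟨v, hvK⟩ * ⟨w, hwK⟩ from rfl, map_mul, h,
        ← map_mul, show (⟨w, hwK⟩ * ⟨w, hwK⟩ : K) = 1 from Subtype.ext
          (CfsgLib.Involutions.orderOf_eq_two_iff_mul.1 hw).2, map_one, orderOf_one] at h2
      exact absurd h2 (by norm_num)
    · rw [← map_mul, ← map_mul]; exact congrArg π (Subtype.ext hvw)
    · rintro _ ⟨x, hx, rfl⟩
      rw [← map_mul, ← map_mul]
      exact congrArg π (Subtype.ext (hXv _ (hRX (mem_subgroupOf.1 hx))))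
    · rintro _ ⟨x, hx, rfl⟩
      rw [← map_mul, ← map_mul]
      exact congrArg π (Subtype.ext (hXw _ (hRX (mem_subgroupOf.1 hx))))
    · intro c hc
      obtain ⟨y, rfl⟩ := QuotientGroup.mk'_surjective N c
      rintro _ ⟨x, hx, rfl⟩
      refine ⟨y * x * y⁻¹, mem_subgroupOf.2 ?_, by rw [map_mul, map_mul, map_inv]⟩
      exact conj_mem_conjR E (by
        rw [hav]
        exact hlift v hvK (CfsgLib.Involutions.orderOf_eq_two_iff_mul.1 hv).2 hvO y hc)
        (mem_subgroupOf.1 hx)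
    · intro L' h1 h2 h3
      rwa [← socle_unique hLn hLC hL h1 h2 h3]
  have hXt : ∀ x ∈ E.X b, x * E.t = E.t * x := fun x hx => (hb.mem_X.1 hx).1
  have hXb : ∀ x ∈ E.X b, x * b = b * x := fun x hx => (hb.mem_X.1 hx).2.1
  have hbtO : ∀ x ∈ GW.coreIn K, x * (b * E.t) = b * E.t * x := fun x hx =>
    ((show Commute x b from hbO x hx).mul_right (hcO x hx)).eq
  have hXbt : ∀ x ∈ E.X b, x * (b * E.t) = b * E.t * x := fun x hx =>
    ((show Commute x b from hXb x hx).mul_right (hXt x hx)).eq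
  have hbbt : b * (b * E.t) = E.t := by rw [← mul_assoc, hb.sq, one_mul]
  have hR1 : conjBy R 1 = R := by rw [hR]; exact conjBy_R E (one_mem _)
  have htb2 : orderOf (E.t * b) = 2 := by rw [← hb.comm]; exact hb.mul_t.orderOf_eq
  have hA7 : Nonempty ((K ⧸ N) ≃* alternatingGroup (Fin 7)) := by
    rcases exists_inner hDC hLn hL (hord _ htK E.orderOf_t) (hord _ hbK hb.orderOf_eq) (by
        intro h
        have h2 := hord _ (mul_mem htK hbK) htb2
        rw [show (⟨E.t * b, mul_mem htK hbK⟩ : K) = ⟨E.t, htK⟩ * ⟨b, hbK⟩ from rfl, map_mul, h,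
          ← map_mul, show (⟨b, hbK⟩ * ⟨b, hbK⟩ : K) = 1 from Subtype.ext hb.sq, map_one,
          orderOf_one] at h2
        exact absurd h2 (by norm_num))
      (by rw [← map_mul, ← map_mul]; exact congrArg π (Subtype.ext hb.comm.symm)) with h | h | h
    · exact (step E.t b 1 htK hbK (by group) E.orderOf_t hb.orderOf_eq htb2 hb.comm.symm hcO
        (hR1.le.trans hle) hXt hXb h).2
    · exact (step b E.t g hbK htK hgt hb.orderOf_eq E.orderOf_t hb.mul_t.orderOf_eq hb.comm hbO
        hR'X hXb hXt h).2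
    · refine (step (b * E.t) b (g * g) (mul_mem hbK htK) hbK (rot_two hgt hgb) hb.mul_t.orderOf_eq
        hb.orderOf_eq ?_ ?_ hbtO hR''X hXbt hXb ?_).2
      · rw [hb.comm, mul_assoc, hb.sq, mul_one]; exact E.orderOf_t
      · rw [hbbt, hb.comm, mul_assoc, hb.sq, mul_one]
      · rw [← map_mul] at h
        convert h using 2
        exact Subtype.ext hb.comm
  -- the corner `A₇`
  obtain ⟨eY⟩ := hA7
  have hLtop : L = ⊤ := eq_top_of_alt_seven eY hLn hLC
  obtain ⟨hB, -⟩ := step E.t b 1 htK hbK (by group) E.orderOf_t hb.orderOf_eq htb2 hb.comm.symm hcO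
    (hR1.le.trans hle) hXt hXb (hLtop ▸ mem_top _)
  rw [hR1] at hB
  obtain ⟨c, i, hc, hi, hiv, hic, hcodd⟩ := alt_seven_centralizer eY (hord _ htK E.orderOf_t)
  have himg : ∀ x (hx : x ∈ R), π ⟨x, hXK (hle hx)⟩ = 1 ∨ π ⟨x, hXK (hle hx)⟩ = c ∨
      π ⟨x, hXK (hle hx)⟩ = c * c := fun x hx => hcodd _
    (by rw [← map_mul, ← map_mul]; exact congrArg π (Subtype.ext (hXt x (hle hx))))
    (by
      refine Odd.of_dvd_nat ?_ (orderOf_map_dvd π _)
      rw [Subgroup.orderOf_mk]
      exact CfsgLib.RankOneInvol.odd_orderOf_of_mem (odd_card_R E hr hr2) hx)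
  obtain ⟨x0, hx0, hx01⟩ : ∃ x, ∃ hx : x ∈ R, π ⟨x, hXK (hle hx)⟩ ≠ 1 := by
    by_contra hno
    push Not at hno
    refine hB (eq_bot_iff.2 ?_)
    rintro _ ⟨x, hx, rfl⟩
    exact mem_bot.2 (hno _ (mem_subgroupOf.1 hx))
  have hcc : c⁻¹ ≠ c := fun h => by
    have h2 : c ^ 2 = 1 := by rw [pow_two]; nth_rw 1 [← h]; exact inv_mul_cancel c
    have := orderOf_dvd_of_pow_eq_one h2
    rw [hc] at this; norm_num at this
  -- an involution of `C_K(O(K))` over `i`
  obtain ⟨z, hz2, hzt, hzO, hzi⟩ : ∃ z : K, z * z = 1 ∧ (z : G) * E.t = E.t * z ∧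
      z ∈ C0 ∧ π z = i := by
    have hC0top : C0.map π = ⊤ := by
      haveI : IsSimpleGroup (alternatingGroup (Fin 7)) := alternatingGroup.isSimpleGroup (by simp)
      haveI : IsSimpleGroup (K ⧸ N) := eY.isSimpleGroup
      refine hC0n.eq_bot_or_eq_top.resolve_left fun h => ?_
      have h1 := mem_map_of_mem π (hC0v _ htK hcO)
      rw [h, mem_bot] at h1
      have h2 := hord _ htK E.orderOf_t
      rw [h1, orderOf_one] at h2
      exact absurd h2 (by norm_num)
    obtain ⟨z0, hz0, hz0i⟩ : i ∈ C0.map π := hC0top ▸ mem_top i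
    have hz0N : z0 * z0 ∈ N := by
      rw [← QuotientGroup.eq_one_iff]
      show π (z0 * z0) = 1
      rw [map_mul, hz0i]
      exact (CfsgLib.Involutions.orderOf_eq_two_iff_mul.1 hi).2
    obtain ⟨j, hj⟩ := CfsgLib.RankOneInvol.odd_orderOf_of_mem hNodd hz0N
    have hzi : π (z0 ^ (2 * j + 1)) = i := by
      rw [map_pow, hz0i, pow_succ, pow_mul, pow_two,
        (CfsgLib.Involutions.orderOf_eq_two_iff_mul.1 hi).2, one_pow, one_mul]
    refine ⟨z0 ^ (2 * j + 1), ?_, ?_, pow_mem hz0 _, hzi⟩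
    · rw [← (Commute.refl z0).mul_pow, ← hj, pow_orderOf_eq_one]
    · exact hlift E.t htK E.t_sq hcO _ (by rw [hzi]; exact hiv)
  have hzH : (z : G) ∈ E.H := E.mem_H.2 hzt
  have hzne : (z : G) ≠ 1 := by
    intro h
    rw [show z = 1 from Subtype.ext h, map_one] at hzi
    rw [← hzi, orderOf_one] at hi
    exact absurd hi (by norm_num)
  have hzo : orderOf (z : G) = 2 :=
    CfsgLib.Involutions.orderOf_eq_two_iff_mul.2 ⟨hzne, congrArg Subtype.val hz2⟩
  have hcom : ∀ x (hx : x ∈ R), (z : G) * x = x * z → π ⟨x, hXK (hle hx)⟩ = 1 := by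
    intro x hx hzx
    have h1 : i * π ⟨x, hXK (hle hx)⟩ = π ⟨x, hXK (hle hx)⟩ * i := by
      rw [← hzi, ← map_mul, ← map_mul]; exact congrArg π (Subtype.ext hzx)
    rcases himg x hx with h | h | h
    · exact h
    · exfalso
      refine hcc ?_
      rw [← hic]
      rw [h] at h1
      rw [h1, mul_inv_cancel_right]
    · exfalso
      refine hcc ?_
      rw [← hic]
      rw [h] at h1
      have h3 : Commute i (c * c) := h1
      have h4 := h3.pow_right 2
      have hc3 : c ^ 3 = 1 := hc ▸ pow_orderOf_eq_one c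
      rw [show (c * c) ^ 2 = c by
        rw [← pow_two, ← pow_mul, show 2 * 2 = 3 + 1 from rfl, pow_succ, hc3, one_mul]] at h4
      rw [h4.eq, mul_inv_cancel_right]
  have hzinv : ∀ x ∈ R, (z : G) * x * (z : G)⁻¹ = x⁻¹ := by
    -- conjugate `z` into the Sylow subgroup
    haveI : Fact (Nat.Prime 2) := ⟨Nat.prime_two⟩
    set T : Sylow 2 E.H := E.S.subtype E.S_le_H with hT
    obtain ⟨h, hh⟩ := CfsgLib.Involutions.exists_conj_le_sylow
      (CfsgLib.Involutions.isPGroup_two_zpowers (x := (⟨(z : G), hzH⟩ : E.H))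
        (by rw [Subgroup.orderOf_mk, hzo])) T
    have hs : (h : G) * z * (h : G)⁻¹ ∈ (E.S : Subgroup G) := mem_subgroupOf.1 (hh _ (mem_zpowers _))
    rcases E.eq_t_or_refl hs (by rw [CfsgLib.Involutions.orderOf_conj_eq, hzo]) with e | e
    · exfalso
      have hz' : (z : G) = E.t := by
        calc (z : G) = (h : G)⁻¹ * ((h : G) * z * (h : G)⁻¹) * h := by group
          _ = (h : G)⁻¹ * (E.t * h) := by rw [e, mul_assoc]
          _ = E.t := by rw [← E.mem_H.1 h.2]; group
      exact hx01 (hcom x0 hx0 (by rw [hz']; exact (hXt x0 (hle hx0)).symm))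
    · have conv : ∀ x, (h : G) * (z * x * (z : G)⁻¹) * (h : G)⁻¹ =
          ((h : G) * z * (h : G)⁻¹) * (h * x * (h : G)⁻¹) * ((h : G) * z * (h : G)⁻¹)⁻¹ :=
        fun x => by group
      rcases sign_refl E hD e hr hr2 with h1 | h1
      · exfalso
        refine hx01 (hcom x0 hx0 ?_)
        have h2 := h1 _ (conj_mem_R E h.2 hx0)
        rw [← conv] at h2
        exact mul_inv_eq_iff_eq_mul.1 ((MulAut.conj (h : G)).injective h2)
      · intro x hx
        have h2 := h1 _ (conj_mem_R E h.2 hx)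
        rw [← conv, show ((h : G) * x * (h : G)⁻¹)⁻¹ = (h : G) * x⁻¹ * (h : G)⁻¹ by group] at h2
        exact (MulAut.conj (h : G)).injective h2
  -- `R` embeds in `⟨c⟩`
  have hker : ∀ x (hx : x ∈ R), π ⟨x, hXK (hle hx)⟩ = 1 → x = 1 := by
    intro x hx h
    have h1 : ((z : K) : G) * x = x * z := by
      have := mem_centralizer_iff.1 hzO _ ((QuotientGroup.eq_one_iff _).1 h)
      exact (congrArg Subtype.val this).symm
    refine CfsgLib.RankOneInvol.eq_one_of_mem_of_sq (odd_card_R E hr hr2) hx ?_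
    have h2 := hzinv x hx
    rw [h1, mul_inv_cancel_right] at h2
    nth_rw 1 [h2]
    exact inv_mul_cancel x
  have hcard : Nat.card R ≤ 3 := by
    let f : R → ({1, c, c * c} : Finset (K ⧸ N)) := fun x => ⟨π ⟨x, hXK (hle x.2)⟩, by
      simp only [Finset.mem_insert, Finset.mem_singleton]
      exact himg x x.2⟩
    have hf : Function.Injective f := fun x y h => by
      have h' : π ⟨x, hXK (hle x.2)⟩ = π ⟨y, hXK (hle y.2)⟩ := congrArg Subtype.val h
      have h1 := hker ((x : G)⁻¹ * y) (mul_mem (inv_mem x.2) y.2) (by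
        rw [show (⟨(x : G)⁻¹ * y, _⟩ : K) = (⟨x, hXK (hle x.2)⟩ : K)⁻¹ * ⟨y, hXK (hle y.2)⟩ from rfl,
          map_mul, map_inv, h', inv_mul_cancel])
      exact Subtype.ext (inv_mul_eq_one.1 h1)
    refine (Nat.card_le_card_of_injective f hf).trans ?_
    rw [Nat.card_eq_fintype_card, Fintype.card_coe]
    exact Finset.card_le_three
  have hDeq : D = R := by
    refine eq_of_le_of_card_ge inf_le_left ?_
    obtain ⟨n, hn⟩ := (isPGroup_R E hr).to_le hQ1 |>.exists_card_eq
    have hn0 : n ≠ 0 := by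
      rintro rfl
      rw [pow_zero, card_eq_one] at hn
      exact hmeet hn
    have : r ≤ Nat.card D := hn ▸ Nat.le_self_pow hn0 r
    have h3 : 3 ≤ r := by have := hr.two_le; omega
    omega
  refine false_of_conjBy_eq E hH hb hgt hne (eq_of_le_of_card_ge ?_ ?_).symm
  · exact hDeq.symm.le.trans inf_le_right
  · rw [conjBy, card_map_of_injective (MulAut.conj g).injective]

end CfsgLib.GW.Max32
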