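import Cfsg.Agent.Lib.GW.Max32Pair

/-!
Gorenstein–Walter, Step 3.2: `L` is normalised by the odd centraliser of the four-group through the
inverting reflection and by the element cycling that four-group.
-/

set_option autoImplicit false
set_option linter.all false

namespace CfsgLib.GW.Max32

open Subgroup CfsgLib.GW

universe u

variable {G : Type u} [Group G] [Finite G]

/-- Conjugation fixing a reflection up to the central involution preserves its `X`. -/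
theorem conj_mem_X_of {E : Setup G} {s c x : G} (hs : s ∈ E.H) (hc : E.Refl c)
    (h : s * c * s⁻¹ = c ∨ s * c * s⁻¹ = c * E.t) (hx : x ∈ E.X c) : s * x * s⁻¹ ∈ E.X c := by
  obtain ⟨h1, h2, h3⟩ := hc.mem_X.1 hx
  have e1 := Setup.commute_conj (g := s) h1
  have e2 := Setup.commute_conj (g := s) h2
  rw [conj_eq_self (E.mem_H.1 hs)] at e1
  rcases h with h | h
  · rw [h] at e2
    exact hc.mem_X.2 ⟨e1, e2, CfsgLib.RankOneInvol.odd_orderOf_conj h3 s⟩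
  · rw [h] at e2
    rw [← hc.X_mul_t]
    exact hc.mul_t.mem_X.2 ⟨e1, e2, CfsgLib.RankOneInvol.odd_orderOf_conj h3 s⟩

namespace Ctx

variable {E : Setup G} {b g : G} {r : ℕ} (C : Ctx E b g r)

include C

theorem X_two_two : E.X (E.d.t * (E.d.t * b)) = E.X b := by
  rw [← mul_assoc, E.d.t_sq C.one_le_k, show E.d.z * b = b * E.t from C.hb.comm.symm, C.hb.X_mul_t]

theorem b_conj_two : b * (E.d.t * b) * b⁻¹ = E.d.t * b * E.t := by
  have h := C.sigma_b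
  have hbt := C.hb.comm
  calc b * (E.d.t * b) * b⁻¹ = b * E.d.t := by group
    _ = (E.d.t * b * E.d.t⁻¹) * E.t * E.d.t := by
        rw [h, show b * E.t * E.t = b by rw [mul_assoc, E.t_sq, mul_one]]
    _ = E.d.t * b * (E.d.t⁻¹ * (E.t * E.d.t)) := by group
    _ = E.d.t * b * E.t := by
        rw [show E.t * E.d.t = E.d.t * E.t from (E.d.z_central E.d.t_mem).symm]; group

theorem conj_b_X2 {x : G} (hx : x ∈ E.X (E.d.t * b)) : b * x * b⁻¹ ∈ E.X (E.d.t * b) :=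
  conj_mem_X_of C.hb.mem_H C.refl_two (Or.inr C.b_conj_two) hx

theorem conj_t_X2 {x : G} (hx : x ∈ E.X (E.d.t * b)) : E.d.t * x * E.d.t⁻¹ ∈ E.X (E.d.t * b) :=
  conj_mem_X_of (E.S_le_H E.d.t_mem) C.refl_two (Or.inr (C.refl_two.swap C.one_le_k).2) hx

theorem R_X2_bot : E.R r ⊓ E.X (E.d.t * b) = ⊥ := by
  refine eq_bot_iff.2 fun a ha => mem_bot.2 ?_
  obtain ⟨h1, h2⟩ := mem_inf.1 ha
  refine CfsgLib.RankOneInvol.eq_one_of_mem_of_sq (odd_card_R E C.hr C.hr2) h1 ?_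
  have h3 := C.two_inverts a h1
  rw [← (C.refl_two.mem_X.1 h2).2.1, mul_inv_cancel_right] at h3
  nth_rw 1 [h3]
  exact inv_mul_cancel a

theorem isPGroup_L : IsPGroup r C.L := C.isPGroup_W.to_le inf_le_left

theorem conj_mem_L {x l : G} (hx : x ∈ E.X b) (hx2 : x ∈ E.X (E.d.t * b)) (hl : l ∈ C.L) :
    x * l * x⁻¹ ∈ C.L := by
  obtain ⟨h1, h2⟩ := mem_inf.1 hl
  exact mem_inf.2 ⟨C.X_normalizes_W hx h1, mul_mem (mul_mem hx2 h2) (inv_mem hx2)⟩

/-- `L` centralises every other `O_m(C(t))` centralised by the inverting reflection. -/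
theorem L_comm_R {m : ℕ} (hm : m.Prime) (hm2 : m ≠ 2) (hmr : m ≠ r) (hmne : E.R m ≠ ⊥)
    (hmle : E.R m ≤ E.X (E.d.t * b)) {l a : G} (hl : l ∈ C.L) (ha : a ∈ E.R m) : l * a = a * l := by
  obtain ⟨g2, h2t, h2b, -⟩ := C.refl_two.exists_rot
  have C2 : Ctx E (E.d.t * b) g2 m := ⟨C.hH, C.hU, C.refl_two, h2t, h2b, hm, hm2, C.hD, hmne, hmle⟩
  obtain ⟨y, hy, hya⟩ := C2.exists_L' ha
  have hlb : l ∈ E.X b := C.L_le_X hl
  have hl2 : l ∈ E.X (E.d.t * b) := (mem_inf.1 hl).2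
  set q := y * a with hq
  have hq2 : q ∈ E.X (E.d.t * b) := C2.L_le_X hya
  have hqb : q ∈ E.X b := C.X_two_two ▸ (mem_inf.1 hya).2
  have hc : l * q = q * l := by
    have h1 : l * q * l⁻¹ * q⁻¹ ∈ C.L ⊓ C2.L := by
      refine mem_inf.2 ⟨?_, ?_⟩
      · rw [show l * q * l⁻¹ * q⁻¹ = l * (q * l⁻¹ * q⁻¹) by group]
        exact mul_mem hl (C.conj_mem_L hqb hq2 (inv_mem hl))
      · refine mul_mem (C2.conj_mem_L hl2 ?_ hya) (inv_mem hya)
        rw [C.X_two_two]; exact hlb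
    haveI := Fact.mk C.hr
    haveI := Fact.mk hm
    rw [disjoint_iff.1 (IsPGroup.disjoint_of_ne r m (Ne.symm hmr) _ _ C.isPGroup_L C2.isPGroup_L),
      mem_bot, mul_inv_eq_one, mul_inv_eq_iff_eq_mul] at h1
    exact h1
  have h1 : (l * y * l⁻¹) * (l * a * l⁻¹) = y * a := by
    rw [show l * y * l⁻¹ * (l * a * l⁻¹) = l * (y * a) * l⁻¹ by group]
    exact conj_eq_self hc
  exact mul_inv_eq_iff_eq_mul.1
    (C2.eq_of_decomp (C2.X_normalizes_R' hl2 hy) hy (C2.X_normalizes_R hl2 ha) ha h1).2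

theorem Zc_comm_L {z l : G} (hz : z ∈ Zc E) (hz2 : z ∈ E.X (E.d.t * b)) (hl : l ∈ C.L) :
    z * l = l * z := by
  suffices h : z ∈ centralizer (C.L : Set G) from (mem_centralizer_iff.1 h l hl).symm
  refine mem_of_primary fun q j hq w hw hwq => ?_
  by_cases hw1 : w = 1
  · rw [hw1]; exact one_mem _
  have hwZ : w ∈ Zc E := zpowers_le.2 hz hw
  have hw2 : w ∈ E.X (E.d.t * b) := zpowers_le.2 hz2 hw
  have hwR : w ∈ E.R q := mem_R_of_Zc E hq hwZ hwq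
  have hne : E.R q ⊓ E.X (E.d.t * b) ≠ ⊥ := fun h => hw1 (by
    have : w ∈ E.R q ⊓ E.X (E.d.t * b) := mem_inf.2 ⟨hwR, hw2⟩
    rwa [h, mem_bot] at this)
  have hqr : q ≠ r := fun e => hne (by rw [e]; exact C.R_X2_bot)
  have hq2 : q ≠ 2 := by
    rintro rfl
    have h1 : Odd (orderOf w) := (E.mem_U.1 hw2.1).2
    obtain ⟨i, -, hi⟩ := (Nat.dvd_prime_pow Nat.prime_two).1 (orderOf_dvd_of_pow_eq_one hwq)
    rw [hi] at h1
    rcases Nat.eq_zero_or_pos i with rfl | hi0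
    · exact hw1 (orderOf_eq_one_iff.1 (hi.trans (pow_zero 2)))
    · exact absurd (Nat.even_pow.2 ⟨even_two, hi0.ne'⟩) (Nat.not_even_iff_odd.2 h1)
  have hle := (C.hD q hq hq2 _ C.refl_two).resolve_right hne
  refine mem_centralizer_iff.2 fun l' hl' => ?_
  exact C.L_comm_R hq hq2 hqr (fun h => hw1 (mem_bot.1 (h ▸ hwR))) hle hl' hwR

/-- The odd centraliser of the inverting four-group normalises `L`. -/
theorem X2_normalizes_L {x l : G} (hx : x ∈ E.X (E.d.t * b)) (hl : l ∈ C.L) :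
    x * l * x⁻¹ ∈ C.L := by
  obtain ⟨y, hy2, hy, hyx⟩ := exists_X_mul E C.hD C.hb (A := E.X (E.d.t * b)) inf_le_left
    (fun w hw => by have := C.conj_b_X2 hw; rwa [C.hb.inv] at this) hx
  have h1 : (y⁻¹ * x) * l * (y⁻¹ * x)⁻¹ = l :=
    conj_eq_self (C.Zc_comm_L hyx (mul_mem (inv_mem hy2) hx) hl)
  rw [show x * l * x⁻¹ = y * ((y⁻¹ * x) * l * (y⁻¹ * x)⁻¹) * y⁻¹ by group, h1]
  exact C.conj_mem_L hy hy2 hl

theorem b_normalizes_L {l : G} (hl : l ∈ C.L) : b * l * b⁻¹ ∈ C.L := by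
  rw [conj_eq_self (C.hb.mem_X.1 (C.L_le_X hl)).2.1.symm]; exact hl

theorem t_normalizes_L {l : G} (hl : l ∈ C.L) : E.d.t * l * E.d.t⁻¹ ∈ C.L :=
  mem_inf.2 ⟨C.conj_t_W _ (mem_inf.1 hl).1, C.conj_t_X2 (mem_inf.1 hl).2⟩

/-- The element cycling the inverting four-group normalises `L`. -/
theorem rot_normalizes_L {g2 : G} (h2t : g2 * E.t * g2⁻¹ = E.d.t * b)
    (h2b : g2 * (E.d.t * b) * g2⁻¹ = E.d.t * b * E.t) {l : G} (hl : l ∈ C.L) :
    g2 * l * g2⁻¹ ∈ C.L := by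
  haveI := Fact.mk C.hr
  set X2 := E.X (E.d.t * b) with hX2
  set N := primeCoreIn r X2 with hN
  have hZN : Zc E ⊓ X2 ≤ N := by
    refine le_primeCoreIn inf_le_right (fun k hk x hx => ?_) fun hd => ?_
    · obtain ⟨h1, h2⟩ := mem_inf.1 hx
      exact mem_inf.2 ⟨conj_mem_Zc E (E.U_le_H hk.1) h1, mul_mem (mul_mem hk h2) (inv_mem hk)⟩
    · obtain ⟨⟨x, hx⟩, hxo⟩ := exists_prime_orderOf_dvd_card' r hd
      rw [Subgroup.orderOf_mk] at hxo
      obtain ⟨h1, h2⟩ := mem_inf.1 hx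
      have h3 : x ∈ E.R r ⊓ X2 := mem_inf.2
        ⟨mem_R_of_Zc E C.hr h1 (k := 1) (by rw [pow_one, ← hxo, pow_orderOf_eq_one]), h2⟩
      rw [hX2, C.R_X2_bot, mem_bot] at h3
      rw [h3, orderOf_one] at hxo
      exact C.hr.one_lt.ne hxo
  obtain ⟨z, hz, hzi⟩ := exists_inner_mod E C.one_le_k C.refl_two h2t h2b (N := N)
    (normalize_primeCoreIn fun x hx => C.refl_two.conj_mem_X h2t h2b hx)
    (normalize_primeCoreIn fun x hx => C.conj_t_X2 hx)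
    (fun x hx => hZN (mem_inf.2
      ⟨sylow_commutator_mem_Zc E C.hD E.d.t_mem hx.1, mul_mem (inv_mem hx) (C.conj_t_X2 hx)⟩))
  have hl2 : l ∈ X2 := (mem_inf.1 hl).2
  have hw := hzi l hl2
  have hl' : z * l * z⁻¹ ∈ C.L := C.X2_normalizes_L hz hl
  set l' := z * l * z⁻¹ with hl'def
  set w := l'⁻¹ * (g2 * l * g2⁻¹) with hwdef
  have hwX : w ∈ X2 := primeCoreIn_le r X2 hw
  have hl'X : l' ∈ X2 := (mem_inf.1 hl').2
  have hcomm : Commute l' w := by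
    have h1 : l' * w * l'⁻¹ * w⁻¹ ∈ C.L ⊓ N := by
      refine mem_inf.2 ⟨?_, mul_mem (conj_mem_primeCoreIn hl'X hw) (inv_mem hw)⟩
      rw [show l' * w * l'⁻¹ * w⁻¹ = l' * (w * l'⁻¹ * w⁻¹) by group]
      exact mul_mem hl' (C.X2_normalizes_L hwX (inv_mem hl'))
    have hd : C.L ⊓ N = ⊥ := by
      refine CfsgLib.PCore.eq_bot_of_isPGroup_coprime (C.isPGroup_L.to_le inf_le_left) ?_
      exact Nat.Coprime.coprime_dvd_left (card_dvd_of_le inf_le_right)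
        (C.hr.coprime_iff_not_dvd.2 (not_dvd_primeCoreIn r X2)).symm
    rw [hd, mem_bot, mul_inv_eq_one, mul_inv_eq_iff_eq_mul] at h1
    exact h1
  have hxeq : g2 * l * g2⁻¹ = l' * w := by rw [hwdef]; group
  obtain ⟨i, hi⟩ := IsPGroup.iff_orderOf.1 C.isPGroup_L ⟨l, hl⟩
  rw [Subgroup.orderOf_mk] at hi
  have hl'o : orderOf l' = r ^ i := by rw [hl'def, CfsgLib.Involutions.orderOf_conj_eq, hi]
  have hwi : w ^ r ^ i = 1 := by
    have h1 : (g2 * l * g2⁻¹) ^ r ^ i = 1 := by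
      rw [← hi, conj_pow, pow_orderOf_eq_one]; group
    rwa [hxeq, hcomm.mul_pow, ← hl'o, pow_orderOf_eq_one, one_mul, hl'o] at h1
  have hw1 : w = 1 := by
    rw [← orderOf_eq_one_iff]
    refine Nat.eq_one_of_dvd_coprimes ((C.hr.coprime_iff_not_dvd.2 (not_dvd_primeCoreIn r X2)).pow_left i)
      (orderOf_dvd_of_pow_eq_one hwi) ?_
    exact Subgroup.orderOf_dvd_natCard _ hw
  rw [hxeq, hw1, mul_one]
  exact hl'

end Ctx

end CfsgLib.GW.Max32
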