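import Cfsg.Agent.Lib.GW.Max32Four

/-!
Gorenstein–Walter, Step 3.2: the product `W = O_r(C(t)) O_r(C(b))` and its part `L` centralised by
the reflection inverting `O_r(C(t))`.
-/

set_option autoImplicit false
set_option linter.all false

namespace CfsgLib.GW.Max32

open Subgroup CfsgLib.GW

universe u

variable {G : Type u} [Group G] [Finite G]

omit [Finite G] in
theorem card_conjBy (A : Subgroup G) (a : G) : Nat.card (conjBy A a) = Nat.card A :=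
  card_map_of_injective (MulAut.conj a).injective

/-- The standing hypotheses of Step 3.2. -/
structure Ctx (E : Setup G) (b g : G) (r : ℕ) : Prop where
  hH : IsCoatom E.H
  hU : E.U ≠ ⊥
  hb : E.Refl b
  hgt : g * E.t * g⁻¹ = b
  hgb : g * b * g⁻¹ = b * E.t
  hr : r.Prime
  hr2 : r ≠ 2
  hD : E.Dichotomy
  hne : E.R r ≠ ⊥
  hle : E.R r ≤ E.X b

variable {E : Setup G} {b g : G} {r : ℕ}

namespace Ctx

/-- `O_r(C(b))`. -/
def R' (_ : Ctx E b g r) : Subgroup G := conjBy (E.R r) g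

/-- `W`. -/
def W (C : Ctx E b g r) : Subgroup G := E.R r ⊔ C.R'

/-- `L`. -/
def L (C : Ctx E b g r) : Subgroup G := C.W ⊓ E.X (E.d.t * b)

variable (C : Ctx E b g r)

include C

theorem meet : E.R r ⊓ conjBy (E.R r) g = ⊥ := by
  by_contra h
  exact false_of_meet E C.hH C.hU C.hb C.hgt C.hgb C.hr C.hr2 C.hD C.hne C.hle h

theorem R'_le_X : C.R' ≤ E.X b := (conjBy_X C.hb C.hgt C.hgb) ▸ map_mono C.hle

theorem R''_le_X : conjBy (E.R r) (g * g) ≤ E.X b := by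
  rw [← conjBy_mul, ← conjBy_X C.hb C.hgt C.hgb]; exact map_mono C.R'_le_X

theorem X_normalizes_R {x y : G} (hx : x ∈ E.X b) (hy : y ∈ E.R r) : x * y * x⁻¹ ∈ E.R r :=
  conj_mem_R E (E.U_le_H hx.1) hy

theorem X_normalizes_R' {x y : G} (hx : x ∈ E.X b) (hy : y ∈ C.R') : x * y * x⁻¹ ∈ C.R' :=
  conj_mem_conjR E (by rw [C.hgt]; exact (C.hb.mem_X.1 hx).2.1) hy

theorem commute_R' {a y : G} (ha : a ∈ E.R r) (hy : y ∈ C.R') : a * y = y * a := by
  refine (Cfsg.Tech46.Bender.commute_of_disjoint (A := E.R r) (B := C.R')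
    (disjoint_iff.2 C.meet) ha hy ?_ ?_).eq
  · rw [mem_normalizer_iff]
    refine fun w => ⟨fun hw => C.X_normalizes_R' (C.hle ha) hw, fun hw => ?_⟩
    have := C.X_normalizes_R' (inv_mem (C.hle ha)) hw
    simpa [mul_assoc] using this
  · rw [mem_normalizer_iff]
    refine fun w => ⟨fun hw => C.X_normalizes_R (C.R'_le_X hy) hw, fun hw => ?_⟩
    have := C.X_normalizes_R (inv_mem (C.R'_le_X hy)) hw
    simpa [mul_assoc] using this

theorem one_le_k : 1 ≤ E.d.k := by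
  by_contra h
  refine false_of_comm E C.hH C.hb C.hr C.hr2 C.hne C.hle (comm_of_four E (by omega) C.hD C.hb
    fun hX => C.hne (le_bot_iff.1 (hX ▸ C.hle)))

theorem sigma_t : E.d.t * E.t * E.d.t⁻¹ = E.t := (C.hb.swap C.one_le_k).1

theorem sigma_b : E.d.t * b * E.d.t⁻¹ = b * E.t := (C.hb.swap C.one_le_k).2

theorem sigma_R' {y : G} (hy : y ∈ C.R') : E.d.t * y * E.d.t⁻¹ ∈ conjBy (E.R r) (g * g) := by
  have e : conjBy (E.R r) (E.d.t * g) = conjBy (E.R r) (g * g) := conjBy_R_eq E (by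
    rw [rot_two C.hgt C.hgb, show E.d.t * g * E.t * (E.d.t * g)⁻¹ = E.d.t * (g * E.t * g⁻¹) * E.d.t⁻¹ by
      group, C.hgt, C.sigma_b])
  rw [← e, ← conjBy_mul]
  exact ⟨y, hy, rfl⟩

theorem meet' : C.R' ⊓ conjBy (E.R r) (g * g) = ⊥ := by
  refine eq_bot_iff.2 fun x hx => mem_bot.2 ?_
  obtain ⟨h1, h2⟩ := mem_inf.1 hx
  rw [R', mem_conjBy] at h1
  rw [← conjBy_mul, mem_conjBy] at h2
  have h3 : g⁻¹ * x * g ∈ E.R r ⊓ conjBy (E.R r) g := ⟨h1, h2⟩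
  rw [C.meet, mem_bot] at h3
  calc x = g * (g⁻¹ * x * g) * g⁻¹ := by group
    _ = 1 := by rw [h3]; group

theorem rho_mem {y : G} (hy : y ∈ C.R') : y⁻¹ * (E.d.t * y * E.d.t⁻¹) ∈ E.R r := by
  haveI := Fact.mk C.hr
  have hz := C.sigma_R' hy
  have hyU : y ∈ E.U := (C.R'_le_X hy).1
  have hpR' : IsPGroup r C.R' := isPGroup_conjBy (isPGroup_R E C.hr) g
  have hp : IsPGroup r ↥(C.R' ⊔ conjBy (E.R r) (g * g)) := by
    refine hpR'.to_sup_of_normal_left' (isPGroup_conjBy (isPGroup_R E C.hr) _) ?_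
    rw [le_normalizer_iff]
    exact fun x hx w hw => C.X_normalizes_R' (C.R''_le_X hx) hw
  exact mem_R_of_Zc' E C.hr hp (sylow_commutator_mem_Zc E C.hD E.d.t_mem hyU)
    (mul_mem (mem_sup_left (inv_mem hy)) (mem_sup_right hz))

theorem sigma_ne : ¬ ∀ a ∈ E.R r, E.d.t * a * E.d.t⁻¹ = a := by
  intro hcen
  have hR' : C.R' ≠ ⊥ := by
    rw [R', conjBy, Ne, map_eq_bot_iff_of_injective _ (MulAut.conj g).injective]; exact C.hne
  obtain ⟨y, hy, hy1⟩ := (bot_or_exists_ne_one C.R').resolve_left hR'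
  set ρ := y⁻¹ * (E.d.t * y * E.d.t⁻¹) with hρ
  have hρR : ρ ∈ E.R r := C.rho_mem hy
  have e1 : E.d.t * y * E.d.t⁻¹ = y * ρ := by rw [hρ]; group
  -- apply the rotation once more
  have e2 : E.d.t * (E.d.t * y * E.d.t⁻¹) * E.d.t⁻¹ = y := by
    rw [show E.d.t * (E.d.t * y * E.d.t⁻¹) * E.d.t⁻¹ = (E.d.t * E.d.t) * y * (E.d.t * E.d.t)⁻¹ by group,
      E.d.t_sq C.one_le_k]
    exact conj_eq_self (C.hb.mem_X.1 (C.R'_le_X hy)).1.symm
  rw [e1, show E.d.t * (y * ρ) * E.d.t⁻¹ = (E.d.t * y * E.d.t⁻¹) * (E.d.t * ρ * E.d.t⁻¹) by group,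
    hcen ρ hρR, e1, mul_assoc, mul_eq_left] at e2
  have hρ1 : ρ = 1 :=
    CfsgLib.RankOneInvol.eq_one_of_mem_of_sq (odd_card_R E C.hr C.hr2) hρR e2
  have h3 : y ∈ C.R' ⊓ conjBy (E.R r) (g * g) := by
    refine ⟨hy, ?_⟩
    have := C.sigma_R' hy
    rwa [e1, hρ1, mul_one] at this
  rw [C.meet', mem_bot] at h3
  exact hy1 h3

/-- The rotation of order four inverts `O_r(C(t))`. -/
theorem rot_inverts : ∀ a ∈ E.R r, E.d.t * a * E.d.t⁻¹ = a⁻¹ :=
  (sign E C.hD E.d.t_mem C.hr C.hr2).resolve_left C.sigma_ne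

theorem k_eq_one : E.d.k = 1 := by
  by_contra h
  have hk := C.one_le_k
  have e : E.d.t = E.d.r ^ (2 ^ (E.d.k - 2)) * E.d.r ^ (2 ^ (E.d.k - 2)) := by
    rw [← pow_add, ← two_mul, ← pow_succ', show E.d.k - 2 + 1 = E.d.k - 1 by omega]
    rfl
  refine C.sigma_ne fun a ha => ?_
  set p := E.d.r ^ (2 ^ (E.d.k - 2))
  have hp : p ∈ (E.S : Subgroup G) := pow_mem E.d.r_mem _
  rw [e, show p * p * a * (p * p)⁻¹ = p * (p * a * p⁻¹) * p⁻¹ by group]
  rcases sign E C.hD hp C.hr C.hr2 with h1 | h1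
  · rw [h1 a ha, h1 a ha]
  · rw [h1 a ha, h1 _ (inv_mem ha), inv_inv]

/-- The reflection inverting `O_r(C(t))`. -/
theorem refl_two : E.Refl (E.d.t * b) :=
  ⟨mul_mem E.d.t_mem C.hb.1, E.d.mul_refl E.d.t_rot C.hb.2⟩

theorem two_inverts : ∀ a ∈ E.R r, (E.d.t * b) * a * (E.d.t * b)⁻¹ = a⁻¹ := fun a ha => by
  rw [show (E.d.t * b) * a * (E.d.t * b)⁻¹ = E.d.t * (b * a * b⁻¹) * E.d.t⁻¹ by group,
    commute_of_le E C.hb C.hle a ha, C.rot_inverts a ha]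

theorem comm_R : ∀ x ∈ E.R r, ∀ y ∈ E.R r, x * y = y * x := comm_of_inverts C.rot_inverts

theorem exists_mul_of_W {w : G} (hw : w ∈ C.W) : ∃ y ∈ C.R', ∃ a ∈ E.R r, w = y * a := by
  have hn : C.R' ≤ normalizer (E.R r : Set G) := fun y hy =>
    Cfsg.Tech46.Bender.coreIn_le_normalizer r E.H (E.U_le_H (C.R'_le_X hy).1)
  rw [W, ← SetLike.mem_coe, coe_mul_of_right_le_normalizer_left _ _ hn] at hw
  obtain ⟨a, ha, y, hy, rfl⟩ := Set.mem_mul.1 hw
  exact ⟨y, hy, a, ha, C.commute_R' ha hy⟩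

theorem W_le_X : C.W ≤ E.X b := sup_le C.hle C.R'_le_X

theorem W_comm : ∀ x ∈ C.W, ∀ y ∈ C.W, x * y = y * x := by
  intro x hx w hw
  obtain ⟨y, hy, a, ha, rfl⟩ := C.exists_mul_of_W hx
  obtain ⟨y', hy', a', ha', rfl⟩ := C.exists_mul_of_W hw
  have h1 : Commute y y' := by
    rw [R', mem_conjBy] at hy hy'
    show y * y' = y' * y
    calc y * y' = g * ((g⁻¹ * y * g) * (g⁻¹ * y' * g)) * g⁻¹ := by group
      _ = g * ((g⁻¹ * y' * g) * (g⁻¹ * y * g)) * g⁻¹ := by rw [C.comm_R _ hy _ hy']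
      _ = y' * y := by group
  have h2 : Commute y a' := (C.commute_R' ha' hy).symm
  have h3 : Commute a y' := C.commute_R' ha hy'
  have h4 : Commute a a' := C.comm_R a ha a' ha'
  exact ((h1.mul_right h2).mul_left (h3.mul_right h4)).eq

theorem isPGroup_W : IsPGroup r C.W :=
  haveI := Fact.mk C.hr
  (isPGroup_R E C.hr).to_sup_of_normal_left' (isPGroup_conjBy (isPGroup_R E C.hr) g)
    fun _ hy => Cfsg.Tech46.Bender.coreIn_le_normalizer r E.H (E.U_le_H (C.R'_le_X hy).1)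

theorem odd_card_W : Odd (Nat.card C.W) :=
  E.odd_card_U.of_dvd_nat (card_dvd_of_le (C.W_le_X.trans inf_le_left))

theorem eq_of_decomp {y y' a a' : G} (hy : y ∈ C.R') (hy' : y' ∈ C.R') (ha : a ∈ E.R r)
    (ha' : a' ∈ E.R r) (h : y * a = y' * a') : y = y' ∧ a = a' := by
  have e : y'⁻¹ * y = a' * a⁻¹ := by
    calc y'⁻¹ * y = y'⁻¹ * (y * a) * a⁻¹ := by group
      _ = a' * a⁻¹ := by rw [h]; group
  have h1 : a' * a⁻¹ ∈ E.R r ⊓ conjBy (E.R r) g :=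
    mem_inf.2 ⟨mul_mem ha' (inv_mem ha), e ▸ mul_mem (inv_mem hy') hy⟩
  rw [C.meet, mem_bot] at h1
  rw [h1] at e
  exact ⟨(inv_mul_eq_one.1 e).symm, (mul_inv_eq_one.1 h1).symm⟩

/-- Each element of `O_r(C(b))` has a unique translate in `L`. -/
theorem exists_L {y : G} (hy : y ∈ C.R') :
    ∃ a ∈ E.R r, a * a = y⁻¹ * (E.d.t * y * E.d.t⁻¹) ∧ y * a ∈ C.L := by
  have hρ := C.rho_mem hy
  obtain ⟨i, hi⟩ := CfsgLib.RankOneInvol.exists_pow_sq_eq
    (CfsgLib.RankOneInvol.odd_orderOf_of_mem (odd_card_R E C.hr C.hr2) hρ)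
  set ρ := y⁻¹ * (E.d.t * y * E.d.t⁻¹) with hρdef
  have hh : ρ ^ i * ρ ^ i = ρ := hi
  refine ⟨ρ ^ i, pow_mem hρ i, hh, mem_inf.2 ⟨mul_mem (mem_sup_right hy) (mem_sup_left (pow_mem hρ i)), ?_⟩⟩
  set a := ρ ^ i with ha
  set c := E.d.t * b with hc
  have hX := C.W_le_X (mul_mem (mem_sup_right hy) (mem_sup_left (pow_mem hρ i)) : y * a ∈ C.W)
  obtain ⟨h1, -, h3⟩ := C.hb.mem_X.1 hX
  refine C.refl_two.mem_X.2 ⟨h1, ?_, h3⟩
  have hcy : c * y * c⁻¹ = y * ρ := by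
    rw [hc, show E.d.t * b * y * (E.d.t * b)⁻¹ = E.d.t * (b * y * b⁻¹) * E.d.t⁻¹ by group,
      conj_eq_self (C.hb.mem_X.1 (C.R'_le_X hy)).2.1.symm, hρdef]
    group
  have : c * (y * a) * c⁻¹ = y * a := by
    rw [show c * (y * a) * c⁻¹ = (c * y * c⁻¹) * (c * a * c⁻¹) by group, hcy,
      C.two_inverts a (pow_mem hρ i)]
    nth_rw 1 [← hh]
    group
  exact (mul_inv_eq_iff_eq_mul.1 this).symm

theorem L_le_X : C.L ≤ E.X b := inf_le_left.trans C.W_le_X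

theorem L_inf_R {a : G} (ha : a ∈ E.R r) (haL : a ∈ C.L) : a = 1 := by
  obtain ⟨-, h2⟩ := mem_inf.1 haL
  refine CfsgLib.RankOneInvol.eq_one_of_mem_of_sq (odd_card_R E C.hr C.hr2) ha ?_
  have h1 := C.two_inverts a ha
  rw [← (C.refl_two.mem_X.1 h2).2.1, mul_inv_cancel_right] at h1
  nth_rw 1 [h1]
  exact inv_mul_cancel a

/-- The translate in `L` is unique. -/
theorem unique_L {y a a' : G} (ha : a ∈ E.R r) (ha' : a' ∈ E.R r) (h : y * a ∈ C.L)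
    (h' : y * a' ∈ C.L) : a = a' := by
  refine inv_mul_eq_one.1 (C.L_inf_R (mul_mem (inv_mem ha) ha') ?_)
  rw [show a⁻¹ * a' = (y * a)⁻¹ * (y * a') by group]
  exact mul_mem (inv_mem h) h'

/-- The translation map is bijective. -/
theorem exists_L' {a : G} (ha : a ∈ E.R r) : ∃ y ∈ C.R', y * a ∈ C.L := by
  classical
  let f : C.R' → E.R r := fun y => ⟨(C.exists_L y.2).choose, (C.exists_L y.2).choose_spec.1⟩
  have hf : Function.Injective f := fun y y' h => by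
    have h1 := (C.exists_L y.2).choose_spec
    have h2 := (C.exists_L y'.2).choose_spec
    have e : (C.exists_L y.2).choose = (C.exists_L y'.2).choose := congrArg Subtype.val h
    rw [e] at h1
    have h3 := mul_mem h1.2.2 (inv_mem h2.2.2)
    have h4 : (y : G) * (y' : G)⁻¹ ∈ C.R' ⊓ conjBy (E.R r) (g * g) := by
      have e1 : (y : G)⁻¹ * (E.d.t * y * E.d.t⁻¹) = (y' : G)⁻¹ * (E.d.t * y' * E.d.t⁻¹) :=
        h1.2.1.symm.trans h2.2.1
      refine mem_inf.2 ⟨mul_mem y.2 (inv_mem y'.2), ?_⟩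
      have hmem := C.sigma_R' (mul_mem y.2 (inv_mem y'.2))
      rwa [show E.d.t * ((y : G) * (y' : G)⁻¹) * E.d.t⁻¹ =
        y * ((y : G)⁻¹ * (E.d.t * y * E.d.t⁻¹)) * ((y' : G)⁻¹ * (E.d.t * y' * E.d.t⁻¹))⁻¹ * (y' : G)⁻¹ by
          group, e1, mul_inv_cancel_right] at hmem
    rw [C.meet', mem_bot, mul_inv_eq_one] at h4
    exact Subtype.ext h4
  have hbij := (Nat.bijective_iff_injective_and_card f).2
    ⟨hf, by rw [R', conjBy, card_map_of_injective (MulAut.conj g).injective]⟩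
  obtain ⟨y, hy⟩ := hbij.2 ⟨a, ha⟩
  refine ⟨y, y.2, ?_⟩
  have e : (C.exists_L y.2).choose = a := congrArg Subtype.val hy
  exact e ▸ (C.exists_L y.2).choose_spec.2.2

theorem R''_le_W : conjBy (E.R r) (g * g) ≤ C.W := by
  intro z hz
  have e : conjBy (E.R r) (g * g) = conjBy C.R' E.d.t := by
    refine (eq_of_le_of_card_ge (conjBy_le_iff.2 fun y hy => C.sigma_R' hy) ?_).symm
    rw [R', card_conjBy, card_conjBy, card_conjBy]
  rw [e] at hz
  obtain ⟨y, hy, rfl⟩ := hz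
  show E.d.t * y * E.d.t⁻¹ ∈ C.W
  rw [show E.d.t * y * E.d.t⁻¹ = y * (y⁻¹ * (E.d.t * y * E.d.t⁻¹)) by group]
  exact mul_mem (mem_sup_right hy) (mem_sup_left (C.rho_mem hy))

theorem conj_g_W : ∀ w ∈ C.W, g * w * g⁻¹ ∈ C.W := by
  refine conjBy_le_iff.1 ?_
  rw [W, conjBy, Subgroup.map_sup]
  refine sup_le (le_sup_right) ?_
  show conjBy C.R' g ≤ _
  rw [R', conjBy_mul]
  exact C.R''_le_W

theorem conj_t_W : ∀ w ∈ C.W, E.d.t * w * E.d.t⁻¹ ∈ C.W := by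
  intro w hw
  obtain ⟨y, hy, a, ha, rfl⟩ := C.exists_mul_of_W hw
  rw [show E.d.t * (y * a) * E.d.t⁻¹ = (E.d.t * y * E.d.t⁻¹) * (E.d.t * a * E.d.t⁻¹) by group]
  exact mul_mem (C.R''_le_W (C.sigma_R' hy)) (mem_sup_left (conj_mem_R E (E.S_le_H E.d.t_mem) ha))

theorem X_normalizes_W {x w : G} (hx : x ∈ E.X b) (hw : w ∈ C.W) : x * w * x⁻¹ ∈ C.W := by
  obtain ⟨y, hy, a, ha, rfl⟩ := C.exists_mul_of_W hw
  rw [show x * (y * a) * x⁻¹ = (x * y * x⁻¹) * (x * a * x⁻¹) by group]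
  exact mul_mem (mem_sup_right (C.X_normalizes_R' hx hy)) (mem_sup_left (C.X_normalizes_R hx ha))

theorem card_L : Nat.card C.L = Nat.card (E.R r) := by
  classical
  have h1 : Nat.card C.R' = Nat.card C.L := by
    refine Nat.card_congr (Equiv.ofBijective (fun y : C.R' =>
      (⟨y * (C.exists_L y.2).choose, (C.exists_L y.2).choose_spec.2.2⟩ : C.L)) ⟨fun y y' h => ?_, fun l => ?_⟩)
    · exact Subtype.ext (C.eq_of_decomp y.2 y'.2 (C.exists_L y.2).choose_spec.1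
        (C.exists_L y'.2).choose_spec.1 (congrArg Subtype.val h)).1
    · obtain ⟨y, hy, a, ha, e⟩ := C.exists_mul_of_W (mem_inf.1 l.2).1
      refine ⟨⟨y, hy⟩, Subtype.ext ?_⟩
      show y * _ = (l : G)
      rw [e, C.unique_L (C.exists_L hy).choose_spec.1 ha (C.exists_L hy).choose_spec.2.2 (e ▸ l.2)]
  rw [← h1, R', conjBy, card_map_of_injective (MulAut.conj g).injective]

theorem L_ne_bot : C.L ≠ ⊥ := fun h => C.hne (by
  rw [← card_eq_one, ← C.card_L, h, card_bot])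

end Ctx

end CfsgLib.GW.Max32
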