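import Cfsg.Agent.Lib.GW.Max32Norm

/-!
Gorenstein–Walter, Step 3.2: the normaliser of `L` has top `A₇` and `O_r(C(t))` has order 3.
-/

set_option autoImplicit false
set_option linter.all false

namespace CfsgLib.GW.Max32

open Subgroup CfsgLib.GW CfsgLib.GW.Main
open scoped Pointwise

universe u

variable {G : Type u} [Group G] [Finite G]

namespace Ctx

variable {E : Setup G} {b g : G} {r : ℕ} (C : Ctx E b g r)

include C

theorem R_le_J : E.R r ≤ normalizer (C.L : Set G) := fun a ha => by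
  rw [mem_normalizer_iff]
  refine fun x => ⟨fun hx => ?_, fun hx => ?_⟩
  · rwa [conj_eq_self (C.W_comm a (mem_sup_left ha) x (mem_inf.1 hx).1)]
  · have h := conj_eq_self (C.W_comm a⁻¹ (mem_sup_left (inv_mem ha)) _ (mem_inf.1 hx).1)
    rw [show a⁻¹ * (a * x * a⁻¹) * a⁻¹⁻¹ = x by group] at h
    rwa [h]

theorem mem_J {s : G} (h : ∀ l ∈ C.L, s * l * s⁻¹ ∈ C.L) : s ∈ normalizer (C.L : Set G) := by
  have hK : conjBy C.L s = C.L :=
    eq_of_le_of_card_ge (conjBy_le_iff.2 h) (card_conjBy C.L s).ge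
  exact mem_normalizer_iff_map_conj_eq.2 hK

theorem t_normalizes {l : G} (hl : l ∈ C.L) : E.t * l * E.t⁻¹ ∈ C.L := by
  rw [conj_eq_self (C.hb.mem_X.1 (C.L_le_X hl)).1.symm]; exact hl

/-- `O_r(C(t))` meets the odd core of `N(L)` trivially. -/
theorem R_inf_core : E.R r ⊓ coreIn (normalizer (C.L : Set G)) = ⊥ := by
  classical
  haveI := Fact.mk C.hr
  set J := normalizer (C.L : Set G) with hJ
  set O := coreIn J with hO
  set b2 := E.d.t * b with hb2def
  obtain ⟨g2, h2t, h2b, -⟩ := C.refl_two.exists_rot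
  have hb2J : b2 ∈ J := mul_mem (C.mem_J fun l hl => C.t_normalizes_L hl)
    (C.mem_J fun l hl => C.b_normalizes_L hl)
  have htJ : E.t ∈ J := C.mem_J fun l hl => C.t_normalizes hl
  have hgJ : g2 ∈ J := C.mem_J fun l hl => C.rot_normalizes_L h2t h2b hl
  have hOn : ∀ k ∈ J, ∀ x ∈ O, k * x * k⁻¹ ∈ O := fun k hk x hx => conj_mem_coreIn hk hx
  have hJN : J ≤ normalizer (O : Set G) := le_normalizer_iff.2 hOn
  set M := O ⊔ E.R r with hM
  have hMJ : M ≤ J := sup_le (coreIn_le J) C.R_le_J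
  have hMmul : (M : Set G) = (O : Set G) * (E.R r : Set G) :=
    coe_mul_of_right_le_normalizer_left _ _ (C.R_le_J.trans hJN)
  have hModd : Odd (Nat.card M) := by
    rw [← Nat.not_even_iff_odd]
    intro hev
    obtain ⟨⟨x, hx⟩, hxo⟩ := exists_prime_orderOf_dvd_card' (hp := ⟨Nat.prime_two⟩) 2 hev.two_dvd
    rw [Subgroup.orderOf_mk] at hxo
    have hx' : x ∈ (M : Set G) := hx
    rw [hMmul] at hx'
    obtain ⟨o, ho, a, ha, rfl⟩ := Set.mem_mul.1 hx'
    have hsq : (o * a) * (o * a) = 1 :=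
      (CfsgLib.Involutions.orderOf_eq_two_iff_mul.1 hxo).2
    have h1 : a * a ∈ O := by
      have h2 : (o * (a * o * a⁻¹)) * (a * a) = 1 := by rw [← hsq]; group
      rw [eq_inv_of_mul_eq_one_right h2]
      exact inv_mem (mul_mem ho (hOn a (C.R_le_J ha) o ho))
    obtain ⟨i, hi⟩ := CfsgLib.RankOneInvol.exists_pow_sq_eq
      (CfsgLib.RankOneInvol.odd_orderOf_of_mem (odd_card_R E C.hr C.hr2) ha)
    have haO : a ∈ O := by have := pow_mem h1 i; rwa [(Commute.refl a).mul_pow, hi] at this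
    have h3 : Odd (orderOf (o * a)) :=
      CfsgLib.RankOneInvol.odd_orderOf_of_mem (odd_card_coreIn J) (mul_mem ho haO)
    rw [hxo] at h3
    exact absurd h3 (by decide)
  haveI hMs : Group.IsSolvable M := Local.isSolvable_of_odd hModd
  -- an invariant Sylow subgroup over `O_r(C(t))`
  set A := zpowers E.t ⊔ zpowers b2 with hA
  have hAS : A ≤ (E.S : Subgroup G) := sup_le (zpowers_le.2 E.t_mem_S) (zpowers_le.2 C.refl_two.1)
  have hA2 : IsPGroup 2 A := E.S.2.to_le hAS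
  have hAJ : A ≤ J := sup_le (zpowers_le.2 htJ) (zpowers_le.2 hb2J)
  have hAR : A ≤ normalizer (E.R r : Set G) :=
    (hAS.trans E.S_le_H).trans (Cfsg.Tech46.Bender.coreIn_le_normalizer r E.H)
  have hAM : A ≤ normalizer (M : Set G) := le_normalizer_iff.2 fun k hk x hx => by
    have hx' : x ∈ (M : Set G) := hx
    rw [hMmul] at hx'
    obtain ⟨o, ho, a, ha, rfl⟩ := Set.mem_mul.1 hx'
    rw [show k * (o * a) * k⁻¹ = (k * o * k⁻¹) * (k * a * k⁻¹) by group]
    exact mul_mem (mem_sup_left (hOn k (hAJ hk) o ho))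
      (mem_sup_right (conj_mem_R E (E.S_le_H (hAS hk)) ha))
  obtain ⟨n, hn⟩ := (IsPGroup.iff_card (p := 2)).1 hA2
  obtain ⟨P, hRP, hPA⟩ := CfsgLib.Coprime.exists_invariant_sylow_ge A M hAM
    (by rw [hn]; exact (Nat.coprime_two_left.2 hModd).pow_left n) (Or.inr hMs) r (E.R r)
    le_sup_right (isPGroup_R E C.hr) hAR
  set Qh := (P : Subgroup M).map M.subtype with hQh
  have hQhp : IsPGroup r Qh := P.2.map _
  have hQhM : Qh ≤ M := map_subtype_le _
  -- `t` centralises it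
  have htQ : ∀ x ∈ Qh, E.t * x = x * E.t := by
    have h1 : E.t ∈ centralizer (Qh : Set G) := by
      refine CfsgLib.Components.mem_centralizer_of_AxB (p := r) hQhp (isPGroup_R E C.hr)
        (hRP.trans le_normalizer) (hPA (mem_sup_left (mem_zpowers _))) ?_ ?_ ?_
      · exact mem_centralizer_iff.2 fun a ha => (C.hb.mem_X.1 (C.hle ha)).1
      · rw [E.orderOf_t]; exact (Nat.coprime_primes Nat.prime_two C.hr).2 (Ne.symm C.hr2)
      · intro x _ hxc
        have h2 := centralizer_le_normalizer _ hxc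
        rw [normalizer_R E C.hH C.hne] at h2
        exact (E.mem_H.1 h2).symm
    exact fun x hx => (mem_centralizer_iff.1 h1 x hx).symm
  set Q := Qh ⊓ O with hQ
  have hQp : IsPGroup r Q := hQhp.to_le inf_le_left
  -- it is Sylow in the odd core
  obtain ⟨Q0, hQ0⟩ : ∃ Q0 : Sylow r O, (Q0 : Subgroup O).map O.subtype = Q := by
    obtain ⟨Q0, hQ0⟩ := (hQp.comap_subtype (K := O)).exists_le_sylow
    refine ⟨Q0, (eq_of_le_of_card_ge ?_ ?_).symm⟩
    · exact (map_subgroupOf_eq_of_le (inf_le_right : Q ≤ O)).ge.trans (map_mono hQ0)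
    · have hle : (Q0 : Subgroup O).map O.subtype ≤ O := map_subtype_le _
      obtain ⟨m, hm⟩ := CfsgLib.Involutions.exists_conj_le_sylow
        ((Q0.2.map O.subtype).comap_subtype (K := M)) P
      rw [← card_conjBy ((Q0 : Subgroup O).map O.subtype) (m : G)]
      refine card_le_of_le (conjBy_le_iff.2 fun x hx => mem_inf.2 ⟨?_, hOn _ (hMJ m.2) x (hle hx)⟩)
      exact ⟨_, hm ⟨x, mem_sup_left (hle hx)⟩ (mem_subgroupOf.2 hx), rfl⟩
  have hQ1le : conjBy Q g2 ≤ O := conjBy_le_iff.2 fun x hx => hOn g2 hgJ x (mem_inf.1 hx).2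
  obtain ⟨Q1, hQ1⟩ : ∃ Q1 : Sylow r O, (Q1 : Subgroup O).map O.subtype = conjBy Q g2 := by
    obtain ⟨Q1, hQ1⟩ := ((isPGroup_conjBy hQp g2).comap_subtype (K := O)).exists_le_sylow
    refine ⟨Q1, (eq_of_le_of_card_ge ?_ ?_).symm⟩
    · exact (map_subgroupOf_eq_of_le hQ1le).ge.trans (map_mono hQ1)
    · rw [card_conjBy, ← hQ0, card_map_of_injective O.subtype_injective,
        card_map_of_injective O.subtype_injective, Sylow.card_eq_multiplicity,
        Sylow.card_eq_multiplicity]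
  have hQ1c : ∀ x ∈ conjBy Q g2, x * b2 = b2 * x := by
    rintro _ ⟨x, hx, rfl⟩
    have := Setup.commute_conj (g := g2) (htQ x (mem_inf.1 hx).1).symm
    rwa [h2t] at this
  have hb2O : zpowers b2 ≤ normalizer (O : Set G) := zpowers_le.2 (hJN hb2J)
  have hcop : (Nat.card (zpowers b2)).Coprime (Nat.card O) := by
    rw [Nat.card_zpowers, C.refl_two.orderOf_eq]
    exact Nat.coprime_two_left.2 (odd_card_coreIn J)
  obtain ⟨c, hc, hcQ⟩ := CfsgLib.Coprime.invariant_sylow_conj (zpowers b2) O hb2O hcop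
    (Or.inr (Local.isSolvable_of_odd (odd_card_coreIn J))) r Q1 Q0
    (zpowers_le.2 (by
      rw [hQ1]
      exact centralizer_le_normalizer _ (mem_centralizer_iff.2 fun x hx => hQ1c x hx)))
    (zpowers_le.2 (by
      rw [hQ0]
      exact inf_normalizer_le_normalizer_inf ⟨hPA (mem_sup_right (mem_zpowers _)), hJN hb2J⟩))
  refine eq_bot_iff.2 fun a ha => mem_bot.2 ?_
  obtain ⟨haR, haO⟩ := mem_inf.1 ha
  have h1 : a ∈ ((c • Q1 : Sylow r O) : Subgroup O).map O.subtype := by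
    rw [hcQ, hQ0]
    exact mem_inf.2 ⟨hRP haR, haO⟩
  rw [CfsgLib.Coprime.mem_map_subtype_smul, hQ1] at h1
  have hcb : Commute (c : G) b2 := (mem_centralizer_iff.1 hc b2 (mem_zpowers _)).symm
  have h2 := (hcb.mul_left (show Commute ((c : G)⁻¹ * a * c) b2 from hQ1c _ h1)).mul_left hcb.inv_left
  rw [show (c : G) * ((c : G)⁻¹ * a * c) * (c : G)⁻¹ = a by group] at h2
  refine CfsgLib.RankOneInvol.eq_one_of_mem_of_sq (odd_card_R E C.hr C.hr2) haR ?_
  have h3 := C.two_inverts a haR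
  rw [← hb2def, ← h2.eq, mul_inv_cancel_right] at h3
  nth_rw 1 [h3]
  exact inv_mul_cancel a

/-- `O_r(C(t))` has order three. -/
theorem card_eq_three : r = 3 ∧ Nat.card (E.R r) = 3 := by
  classical
  haveI := E.simple
  haveI := Fact.mk C.hr
  set J := normalizer (C.L : Set G) with hJ
  set b2 := E.d.t * b with hb2def
  obtain ⟨g2, h2t, h2b, -⟩ := C.refl_two.exists_rot
  have hJtop : J ≠ ⊤ := by
    intro h
    rcases E.eq_bot_or_top (normalizer_eq_top_iff.1 h) with h' | h'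
    · exact C.L_ne_bot h'
    · exact E.H_ne_top (top_le_iff.1 (h' ▸ C.L_le_X.trans (inf_le_left.trans E.U_le_H)))
  have hbJ : b ∈ J := C.mem_J fun l hl => C.b_normalizes_L hl
  have hb2J : b2 ∈ J := mul_mem (C.mem_J fun l hl => C.t_normalizes_L hl) hbJ
  have htJ : E.t ∈ J := C.mem_J fun l hl => C.t_normalizes hl
  have hgJ : g2 ∈ J := C.mem_J fun l hl => C.rot_normalizes_L h2t h2b hl
  set N := Cfsg.oddCore J with hN
  set π := QuotientGroup.mk' N with hπ
  have hNodd : Odd (Nat.card N) := by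
    have := odd_card_coreIn (G := G) J
    rwa [GW.coreIn, card_map_of_injective J.subtype_injective] at this
  have hker : ∀ a (ha : a ∈ E.R r), π ⟨a, C.R_le_J ha⟩ = 1 → a = 1 := fun a ha h => by
    have h1 : a ∈ E.R r ⊓ coreIn J :=
      mem_inf.2 ⟨ha, ⟨⟨a, C.R_le_J ha⟩, (QuotientGroup.eq_one_iff _).1 h, rfl⟩⟩
    rwa [C.R_inf_core, mem_bot] at h1
  have hord : ∀ (v : G) (hv : v ∈ J), orderOf v = 2 → orderOf (π ⟨v, hv⟩) = 2 := by
    intro v hv h2
    refine orderOf_eq_prime (hp := ⟨Nat.prime_two⟩) ?_ fun h => ?_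
    · rw [← map_pow, show (⟨v, hv⟩ : J) ^ 2 = 1 from Subtype.ext (by
        push_cast; rw [← h2, pow_orderOf_eq_one]), map_one]
    · have h1 := CfsgLib.RankOneInvol.odd_orderOf_of_mem hNodd ((QuotientGroup.eq_one_iff _).1 h)
      rw [Subgroup.orderOf_mk, h2] at h1
      exact absurd h1 (by decide)
  have hne2 : ∀ (v w : G) (hv : v ∈ J) (hw : w ∈ J), orderOf (v * w) = 2 → w * w = 1 →
      π ⟨v, hv⟩ ≠ π ⟨w, hw⟩ := by
    intro v w hv hw h2 hww h
    have h3 := hord (v * w) (mul_mem hv hw) h2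
    rw [show (⟨v * w, mul_mem hv hw⟩ : J) = ⟨v, hv⟩ * ⟨w, hw⟩ from rfl, map_mul, h,
      ← map_mul, show (⟨w, hw⟩ * ⟨w, hw⟩ : J) = 1 from Subtype.ext hww, map_one, orderOf_one] at h3
    exact absurd h3 (by norm_num)
  have hTop : Top (J ⧸ N) := E.good J hJtop
  have hDC : DC (J ⧸ N) := dc_quotient ((dc_G E).subgroup J)
  set B := ((E.R r).subgroupOf J).map π with hBdef
  have hB : B ≠ ⊥ := by
    intro hB
    obtain ⟨a, ha, ha1⟩ := (bot_or_exists_ne_one (E.R r)).resolve_left C.hne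
    refine ha1 (hker a ha (mem_bot.1 ?_))
    rw [← hB]
    exact mem_map_of_mem π (mem_subgroupOf.2 ha)
  have htb : orderOf (E.t * b) = 2 := by rw [← C.hb.comm]; exact C.hb.mul_t.orderOf_eq
  have htb2 : orderOf (E.t * b2) = 2 := by
    rw [← C.refl_two.comm]; exact C.refl_two.mul_t.orderOf_eq
  have hA7 : Nonempty ((J ⧸ N) ≃* alternatingGroup (Fin 7)) := by
    refine (eq_bot_or_alt_seven (B := B) hTop hDC ?_ (hord _ htJ E.orderOf_t)
      (hord _ hbJ C.hb.orderOf_eq) (hne2 _ _ htJ hbJ htb C.hb.sq) ?_ ?_ ?_ ?_ ?_).resolve_left hB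
    · refine Odd.of_dvd_nat ?_ (card_map_dvd _ _)
      rw [Nat.card_congr (subgroupOfEquivOfLe C.R_le_J).toEquiv]
      exact odd_card_R E C.hr C.hr2
    · rw [← map_mul, ← map_mul]; exact congrArg π (Subtype.ext C.hb.comm.symm)
    · rintro _ ⟨x, hx, rfl⟩
      rw [← map_mul, ← map_mul]
      exact congrArg π (Subtype.ext (C.hb.mem_X.1 (C.hle (mem_subgroupOf.1 hx))).1)
    · rintro _ ⟨x, hx, rfl⟩
      rw [← map_mul, ← map_mul]
      exact congrArg π (Subtype.ext (C.hb.mem_X.1 (C.hle (mem_subgroupOf.1 hx))).2.1)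
    · intro c hc
      obtain ⟨y, rfl⟩ := QuotientGroup.mk'_surjective N c
      obtain ⟨y', hy', hy't⟩ := exists_lift_commute hNodd (v := (⟨E.t, htJ⟩ : J)) (y := y)
        (Subtype.ext E.t_sq) (by rw [map_mul, map_mul]; exact hc)
      rintro _ ⟨x, hx, rfl⟩
      refine ⟨y' * x * y'⁻¹, mem_subgroupOf.2 ?_, by rw [map_mul, map_mul, map_inv, hy']⟩
      exact conj_mem_R E (E.mem_H.2 (congrArg Subtype.val hy't)) (mem_subgroupOf.1 hx)
    · intro L' hL'n hL'C hL'
      -- `t` is inner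
      have htb2' : π ⟨E.t, htJ⟩ * π ⟨b2, hb2J⟩ = π ⟨b2, hb2J⟩ * π ⟨E.t, htJ⟩ := by
        rw [← map_mul, ← map_mul]; exact congrArg π (Subtype.ext C.refl_two.comm.symm)
      have hconj : ∀ v w : G, g2 * v * g2⁻¹ = w → ∀ (hv : v ∈ J) (hw : w ∈ J),
          π ⟨w, hw⟩ ∈ L' → π ⟨v, hv⟩ ∈ L' := by
        intro v w h hv hw hwL
        have h1 := hL'n.conj_mem _ hwL (π ⟨g2, hgJ⟩)⁻¹
        rw [← map_inv, ← map_inv, ← map_mul, ← map_mul] at h1
        have e : (⟨g2, hgJ⟩⁻¹ * ⟨w, hw⟩ * ⟨g2, hgJ⟩⁻¹⁻¹ : J) = ⟨v, hv⟩ := Subtype.ext (by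
          show g2⁻¹ * w * g2⁻¹⁻¹ = v
          rw [← h]; group)
        rwa [e] at h1
      rcases exists_inner hDC hL'n hL' (hord _ htJ E.orderOf_t) (hord _ hb2J C.refl_two.orderOf_eq)
        (hne2 _ _ htJ hb2J htb2 C.refl_two.sq) htb2' with h | h | h
      · exact h
      · exact hconj E.t b2 h2t htJ hb2J h
      · refine hconj E.t b2 h2t htJ hb2J (hconj b2 (b2 * E.t) h2b hb2J (mul_mem hb2J htJ) ?_)
        rw [← map_mul] at h
        convert h using 2
        exact Subtype.ext C.refl_two.comm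
  obtain ⟨eY⟩ := hA7
  obtain ⟨c, i, hc, hi, hiv, hic, hcodd⟩ := alt_seven_centralizer eY (hord _ htJ E.orderOf_t)
  have himg : ∀ x (hx : x ∈ E.R r), π ⟨x, C.R_le_J hx⟩ = 1 ∨ π ⟨x, C.R_le_J hx⟩ = c ∨
      π ⟨x, C.R_le_J hx⟩ = c * c := fun x hx => hcodd _
    (by rw [← map_mul, ← map_mul]; exact congrArg π (Subtype.ext (C.hb.mem_X.1 (C.hle hx)).1))
    (by
      refine Odd.of_dvd_nat ?_ (orderOf_map_dvd π _)
      rw [Subgroup.orderOf_mk]
      exact CfsgLib.RankOneInvol.odd_orderOf_of_mem (odd_card_R E C.hr C.hr2) hx)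
  have hcard : Nat.card (E.R r) ≤ 3 := by
    let f : E.R r → ({1, c, c * c} : Finset (J ⧸ N)) := fun x => ⟨π ⟨x, C.R_le_J x.2⟩, by
      simp only [Finset.mem_insert, Finset.mem_singleton]
      exact himg x x.2⟩
    have hf : Function.Injective f := fun x y h => by
      have h' : π ⟨x, C.R_le_J x.2⟩ = π ⟨y, C.R_le_J y.2⟩ := congrArg Subtype.val h
      have h1 := hker ((x : G)⁻¹ * y) (mul_mem (inv_mem x.2) y.2) (by
        rw [show (⟨(x : G)⁻¹ * y, _⟩ : J) = (⟨x, C.R_le_J x.2⟩ : J)⁻¹ * ⟨y, C.R_le_J y.2⟩ from rfl,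
          map_mul, map_inv, h', inv_mul_cancel])
      exact Subtype.ext (inv_mul_eq_one.1 h1)
    refine (Nat.card_le_card_of_injective f hf).trans ?_
    rw [Nat.card_eq_fintype_card, Fintype.card_coe]
    exact Finset.card_le_three
  obtain ⟨n, hn⟩ := (isPGroup_R E C.hr).exists_card_eq
  have hn0 : n ≠ 0 := by
    rintro rfl
    rw [pow_zero, card_eq_one] at hn
    exact C.hne hn
  have hrn : r ≤ r ^ n := Nat.le_self_pow hn0 r
  have h3 : 3 ≤ r := by have := C.hr.two_le; have := C.hr2; omega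
  exact ⟨by omega, by omega⟩

end Ctx

end CfsgLib.GW.Max32
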