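import Cfsg.Agent.Lib.CharCorr.PGroup
import Cfsg.Agent.Lib.Involutions.Fusion
import Mathlib.GroupTheory.Nilpotent

/-!
Gorenstein–Walter, characters: tools for sums modulo two over an odd subgroup normalised by a
`2`-group.
-/

set_option autoImplicit false
set_option linter.style.haveILetI false
set_option linter.unusedSectionVars false

namespace CfsgLib.GW.ThetaBase

open Subgroup Cfsg CfsgLib.Characters CfsgLib.CharCorr
open scoped Classical

universe u

variable {G : Type u} [Group G]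

section Act

variable {N A : Subgroup G} (h : ∀ n ∈ N, ∀ x ∈ A, n * x * n⁻¹ ∈ A)

/-- The operation of `N` by conjugation on `A`. -/
def conjHom : N →* MulAut A where
  toFun n :=
    { toFun := fun x => ⟨n * x * (n : G)⁻¹, h n n.2 x x.2⟩
      invFun := fun x => ⟨(n : G)⁻¹ * x * n, by simpa using h _ (inv_mem n.2) x x.2⟩
      left_inv := fun x => Subtype.ext (by simp [mul_assoc])
      right_inv := fun x => Subtype.ext (by simp [mul_assoc])
      map_mul' := fun x y => Subtype.ext (by simp [mul_assoc]) }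
  map_one' := MulEquiv.ext fun x => Subtype.ext (by simp)
  map_mul' m n := MulEquiv.ext fun x => Subtype.ext (by simp [mul_assoc])

@[simp] theorem coe_conjHom (n : N) (x : A) : ((conjHom h n x : A) : G) = n * x * (n : G)⁻¹ := rfl

/-- The operation of `N` on the irreducible characters of `A`. -/
noncomputable def irrPerm : N →* Equiv.Perm (IrrCharacter A) where
  toFun n :=
    { toFun := twistIrr (conjHom h n⁻¹)
      invFun := twistIrr (conjHom h n)
      left_inv := fun η => Subtype.ext (funext fun x => congrArg (η : A → ℂ)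
        (Subtype.ext (by simp [mul_assoc])))
      right_inv := fun η => Subtype.ext (funext fun x => congrArg (η : A → ℂ)
        (Subtype.ext (by simp [mul_assoc]))) }
  map_one' := Equiv.ext fun η => Subtype.ext (funext fun x => congrArg (η : A → ℂ)
    (Subtype.ext (by simp)))
  map_mul' m n := Equiv.ext fun η => Subtype.ext (funext fun x => congrArg (η : A → ℂ)
    (Subtype.ext (by simp [mul_assoc])))

theorem irrPerm_apply (n : N) (η : IrrCharacter A) (x : A) :
    (irrPerm h n η : A → ℂ) x = (η : A → ℂ) (conjHom h n⁻¹ x) := rfl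

theorem inv_irrPerm_eq_self_iff (n : N) (η : IrrCharacter A) :
    irrPerm h n⁻¹ η = η ↔ ∀ x : A, (η : A → ℂ) (conjHom h n x) = (η : A → ℂ) x := by
  constructor
  · intro e x
    conv_rhs => rw [← e, irrPerm_apply, inv_inv]
  · intro e
    refine Subtype.ext (funext fun x => ?_)
    rw [irrPerm_apply, inv_inv, e]

end Act

variable [Fintype G] {M : Ideal AlgInt}

/-- A character value in the residue field. -/
noncomputable def mkv {A : Subgroup G} (M : Ideal AlgInt) (η : IrrCharacter A) (x : A) :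
    AlgInt ⧸ M :=
  Ideal.Quotient.mk M (iv η x)

theorem natCast_odd (hM : IsPModular 2 M) {n : ℕ} (hn : Odd n) : (n : AlgInt ⧸ M) = 1 := by
  obtain ⟨j, rfl⟩ := hn
  have h2 : ((2 : ℕ) : AlgInt ⧸ M) = 0 := by
    rw [← map_natCast (Ideal.Quotient.mk M), Ideal.Quotient.eq_zero_iff_mem]
    exact hM.2.2
  push_cast at h2 ⊢
  rw [h2, zero_mul, zero_add]

theorem two_nsmul_eq_zero (hM : IsPModular 2 M) (a : AlgInt ⧸ M) : 2 • a = 0 := by
  rw [nsmul_eq_mul, show ((2 : ℕ) : AlgInt ⧸ M) = 0 by
    rw [← map_natCast (Ideal.Quotient.mk M), Ideal.Quotient.eq_zero_iff_mem]; exact hM.2.2,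
    zero_mul]

theorem one_ne_zero' (hM : IsPModular 2 M) : (1 : AlgInt ⧸ M) ≠ 0 := by
  rw [← map_one (Ideal.Quotient.mk M), Ne, Ideal.Quotient.eq_zero_iff_mem]
  exact fun h => hM.2.1.ne_top (Ideal.eq_top_iff_one _ |>.2 h)

/-- The map from the algebraic integers modulo two. -/
noncomputable def modTwoMap (hM : IsPModular 2 M) : ModP 2 →+* AlgInt ⧸ M :=
  Ideal.Quotient.factor ((Ideal.span_singleton_le_iff_mem M).2 hM.2.2)

theorem modTwoMap_modP (hM : IsPModular 2 M) (z : AlgInt) :
    modTwoMap hM (modP 2 z) = Ideal.Quotient.mk M z :=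
  Ideal.Quotient.factor_mk _ z

/-- A fixed-point-free sum vanishes. -/
theorem sum_eq_zero_of_no_fixed (hM : IsPModular 2 M) {P : Subgroup G} (hP : IsPGroup 2 P)
    {X : Type*} (act : P →* Equiv.Perm X) (s : Finset X) (hs : ∀ n : P, ∀ x ∈ s, act n x ∈ s)
    (f : X → AlgInt ⧸ M) (hf : ∀ n : P, ∀ x ∈ s, f (act n x) = f x)
    (hfix : ∀ x ∈ s, ¬ ∀ n : P, act n x = x) : ∑ x ∈ s, f x = 0 := by
  haveI : Fact (Nat.Prime 2) := ⟨Nat.prime_two⟩
  letI : MulAction P s :=
    { smul := fun n x => ⟨act n x, hs n x x.2⟩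
      one_smul := fun x => Subtype.ext (by change act 1 x.1 = x.1; rw [map_one]; rfl)
      mul_smul := fun m n x => Subtype.ext (by
        change act (m * n) x.1 = act m (act n x.1); rw [map_mul]; rfl) }
  rw [← Finset.sum_coe_sort, CfsgLib.BlockAlg.sum_eq_sum_fixed (two_nsmul_eq_zero hM) hP
    (fun x : s => f x) (fun n x => hf n x x.2)]
  refine Finset.sum_eq_zero fun x hx => absurd (fun n => ?_) (hfix x x.2)
  exact congrArg Subtype.val ((Finset.mem_filter.1 hx).2 n)

/-- An invariant sum over `A` only sees the centraliser of the operating `2`-group. -/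
theorem sum_reduce_two (hM : IsPModular 2 M) {Q A : Subgroup G} (hQ : IsPGroup 2 Q)
    (h : ∀ n ∈ Q, ∀ x ∈ A, n * x * n⁻¹ ∈ A) (f : A → AlgInt ⧸ M)
    (hf : ∀ n : Q, ∀ x : A, f (conjHom h n x) = f x) :
    ∑ x : A, f x = ∑ x : (A ⊓ centralizer (Q : Set G) : Subgroup G),
      f ⟨x, x.2.1⟩ := by
  haveI : Fact (Nat.Prime 2) := ⟨Nat.prime_two⟩
  letI : MulAction Q A := MulAction.compHom A (conjHom h)
  rw [CfsgLib.BlockAlg.sum_eq_sum_fixed (two_nsmul_eq_zero hM) hQ f hf]
  refine Finset.sum_bij' (fun x hx => ⟨(x : G), x.2, ?_⟩) (fun c _ => ⟨c, c.2.1⟩)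
    (fun x hx => Finset.mem_univ _) (fun c _ => ?_) (fun x _ => rfl) (fun c _ => rfl)
    (fun x _ => rfl)
  · refine mem_centralizer_iff.2 fun n hn => ?_
    have := congrArg Subtype.val ((Finset.mem_filter.1 hx).2 ⟨n, hn⟩)
    exact mul_inv_eq_iff_eq_mul.1 this
  · refine Finset.mem_filter.2 ⟨Finset.mem_univ _, fun n => Subtype.ext ?_⟩
    exact mul_inv_eq_iff_eq_mul.2 (mem_centralizer_iff.1 c.2.2 n n.2)

/-- Orthogonality in the residue field. -/
theorem sum_mkv (hM : IsPModular 2 M) {A : Subgroup G} (hA : Odd (Nat.card A))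
    (η ζ : IrrCharacter A) :
    ∑ x : A, mkv M ζ x⁻¹ * mkv M η x = if η = ζ then 1 else 0 := by
  simp only [mkv, ← map_mul, ← map_sum, mul_comm (iv ζ _)]
  rw [sum_iv_mul_iv_inv]
  split_ifs
  · rw [map_natCast, natCast_odd hM hA]
  · rw [map_zero]

/-- All two-subgroups containing `Q` and centralising `v` have at most the order of `Q`. -/
def Max (Q : Subgroup G) (v : G) : Prop :=
  ∀ P : Subgroup G, IsPGroup 2 P → P ≤ centralizer ({v} : Set G) → Nat.card P ≤ Nat.card Q

omit [Fintype G] in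
theorem map_conj_le_centralizer {P : Subgroup G} {v g : G} (h : P ≤ centralizer ({v} : Set G)) :
    P.map (MulAut.conj g).toMonoidHom ≤ centralizer ({g * v * g⁻¹} : Set G) := by
  rintro x ⟨y, hy, rfl⟩
  have h1 : y * v = v * y := mem_centralizer_singleton_iff.1 (h hy)
  rw [mem_centralizer_singleton_iff]
  simp only [MulEquiv.coe_toMonoidHom, MulAut.conj_apply]
  rw [show g * y * g⁻¹ * (g * v * g⁻¹) = g * (y * v) * g⁻¹ by group, h1]
  group

theorem Max.conj {Q : Subgroup G} {v : G} (h : Max Q v) (g : G) : Max Q (g * v * g⁻¹) := by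
  intro P hP hPc
  have h1 := map_conj_le_centralizer (g := g⁻¹) hPc
  rw [show g⁻¹ * (g * v * g⁻¹) * g⁻¹⁻¹ = v by group] at h1
  have := h _ (hP.map _) h1
  rwa [card_map_of_injective (MulAut.conj g⁻¹).injective] at this

/-- If `Q` is no maximal two-subgroup of the centraliser, it grows inside its normaliser. -/
theorem exists_grow {Q : Subgroup G} (hQ : IsPGroup 2 Q) {v : G}
    (hv : Q ≤ centralizer ({v} : Set G)) (h : ¬ Max Q v) :
    ∃ P : Subgroup G, IsPGroup 2 P ∧ Q < P ∧ P ≤ centralizer ({v} : Set G) ∧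
      P ≤ normalizer (Q : Set G) := by
  haveI : Fact (Nat.Prime 2) := ⟨Nat.prime_two⟩
  simp only [Max, not_forall, not_le] at h
  obtain ⟨P₀, hP₀, hP₀c, hlt⟩ := h
  obtain ⟨T, hT⟩ := (hQ.comap_subtype : IsPGroup 2 (Q.subgroupOf (centralizer ({v} : Set G))))
    |>.exists_le_sylow
  set W : Subgroup G := (T : Subgroup (centralizer ({v} : Set G))).map (centralizer ({v} : Set G)).subtype
  have hWc : W ≤ centralizer ({v} : Set G) := map_subtype_le _
  have hW : IsPGroup 2 W := T.2.map _
  have hQW : Q ≤ W := fun x hx => ⟨⟨x, hv hx⟩, hT hx, rfl⟩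
  have hcard : Nat.card P₀ ≤ Nat.card W := by
    obtain ⟨c, hc⟩ := CfsgLib.Involutions.exists_conj_le_sylow
      (hP₀.comap_subtype : IsPGroup 2 (P₀.subgroupOf (centralizer ({v} : Set G)))) T
    have hle : (P₀.subgroupOf (centralizer ({v} : Set G))).map (MulAut.conj c).toMonoidHom ≤
        (T : Subgroup (centralizer ({v} : Set G))) := by
      rintro x ⟨a, ha, rfl⟩
      exact hc a ha
    have h1 := Nat.le_of_dvd Nat.card_pos (card_dvd_of_le hle)
    rw [card_map_of_injective (MulAut.conj c).injective,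
      Nat.card_congr (subgroupOfEquivOfLe hP₀c).toEquiv] at h1
    rwa [show Nat.card W = Nat.card (T : Subgroup (centralizer ({v} : Set G))) from
      card_map_of_injective (Subgroup.subtype_injective _)]
  have hlt' : Q.subgroupOf W < ⊤ := lt_top_iff_ne_top.2 fun e => by
    rw [subgroupOf_eq_top] at e
    have := le_antisymm hQW e
    rw [← this] at hcard
    omega
  haveI : Group.IsNilpotent W := hW.isNilpotent
  obtain ⟨x, hxN, hxQ⟩ := SetLike.exists_of_lt
    (Group.normalizerCondition_of_isNilpotent (G := W) _ hlt')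
  refine ⟨W ⊓ normalizer (Q : Set G), hW.to_le inf_le_left,
    lt_of_le_of_ne (le_inf hQW le_normalizer) fun e => hxQ ?_, inf_le_left.trans hWc, inf_le_right⟩
  rw [mem_subgroupOf, e]
  refine ⟨x.2, mem_normalizer_iff.2 fun a => ?_⟩
  rw [mem_normalizer_iff] at hxN
  by_cases ha : a ∈ W
  · simpa [mem_subgroupOf] using hxN ⟨a, ha⟩
  · constructor
    · exact fun h' => absurd (hQW h') ha
    · intro h'
      refine absurd ?_ ha
      have := mul_mem (mul_mem (inv_mem x.2) (hQW h')) x.2
      simpa [mul_assoc] using this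

/-- Conjugation between two points at which `Q` is maximal is done by the normaliser of `Q`. -/
theorem exists_normalizer_conj {Q : Subgroup G} (hQ : IsPGroup 2 Q) {v v' g : G}
    (hv : Q ≤ centralizer ({v} : Set G)) (hv' : Q ≤ centralizer ({v'} : Set G))
    (hmax : Max Q v) (hg : g * v * g⁻¹ = v') :
    ∃ n ∈ normalizer (Q : Set G), n * v * n⁻¹ = v' := by
  haveI : Fact (Nat.Prime 2) := ⟨Nat.prime_two⟩
  have hmax' : Max Q v' := hg ▸ hmax.conj g
  let T : Sylow 2 (centralizer ({v'} : Set G)) :=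
    { toSubgroup := Q.subgroupOf (centralizer ({v'} : Set G))
      isPGroup' := hQ.comap_subtype
      is_maximal' := fun {P} hP hle => by
        refine (eq_of_le_of_card_ge hle ?_).symm
        rw [Nat.card_congr (subgroupOfEquivOfLe hv').toEquiv,
          ← card_map_of_injective (Subgroup.subtype_injective (centralizer ({v'} : Set G))) (K := P)]
        exact hmax' _ (hP.map _) (map_subtype_le _) }
  have hgQ : Q.map (MulAut.conj g).toMonoidHom ≤ centralizer ({v'} : Set G) :=
    hg ▸ map_conj_le_centralizer hv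
  obtain ⟨c, hc⟩ := CfsgLib.Involutions.exists_conj_le_sylow
    ((hQ.map _).comap_subtype :
      IsPGroup 2 ((Q.map (MulAut.conj g).toMonoidHom).subgroupOf (centralizer ({v'} : Set G)))) T
  refine ⟨(c : G) * g, ?_, ?_⟩
  · have hle : Q.map (MulAut.conj ((c : G) * g)).toMonoidHom ≤ Q := by
      rintro x ⟨a, ha, rfl⟩
      have h1 := hc ⟨_, hgQ ⟨a, ha, rfl⟩⟩ ⟨a, ha, rfl⟩
      have h2 : ((c * ⟨_, hgQ ⟨a, ha, rfl⟩⟩ * c⁻¹ : centralizer ({v'} : Set G)) : G) ∈ Q := h1
      simpa [mul_assoc] using h2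
    have heq := eq_of_le_of_card_ge hle
      (le_of_eq (card_map_of_injective (MulAut.conj ((c : G) * g)).injective).symm)
    refine mem_normalizer_iff.2 fun a => ?_
    have h2 : (MulAut.conj ((c : G) * g)).toMonoidHom a ∈ Q.map (MulAut.conj ((c : G) * g)).toMonoidHom ↔
        a ∈ Q := mem_map_iff_mem (MulAut.conj ((c : G) * g)).injective
    rw [heq] at h2
    exact h2.symm
  · rw [show (c : G) * g * v * ((c : G) * g)⁻¹ = c * (g * v * g⁻¹) * (c : G)⁻¹ by group, hg,
      show (c : G) * v' = v' * c from mem_centralizer_singleton_iff.1 c.2]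
    group

/-- A function on the centraliser of `Q` invariant under the normaliser and vanishing where `Q` is
not maximal extends to a class function. -/
theorem exists_class_fun {Q : Subgroup G} (hQ : IsPGroup 2 Q) (C : Set G)
    (hC : ∀ v ∈ C, Q ≤ centralizer ({v} : Set G)) (c : G → AlgInt ⧸ M)
    (hinv : ∀ n ∈ normalizer (Q : Set G), ∀ v ∈ C, n * v * n⁻¹ ∈ C → c (n * v * n⁻¹) = c v)
    (h0 : ∀ v ∈ C, ∀ P : Subgroup G, IsPGroup 2 P → Q < P → P ≤ centralizer ({v} : Set G) →
      P ≤ normalizer (Q : Set G) → c v = 0) :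
    ∃ F : G → AlgInt ⧸ M, (∀ a b, F (b * a * b⁻¹) = F a) ∧ ∀ v ∈ C, F v = c v := by
  let good : G → G → Prop := fun x v => v ∈ C ∧ Max Q v ∧ IsConj v x
  have key : ∀ {v v'}, v ∈ C → v' ∈ C → Max Q v → IsConj v v' → c v' = c v := by
    intro v v' hv hv' hmax hconj
    obtain ⟨g, hg⟩ := isConj_iff.1 hconj
    obtain ⟨n, hn, hnv⟩ := exists_normalizer_conj hQ (hC v hv) (hC v' hv') hmax hg
    rw [← hnv]
    exact hinv n hn v hv (hnv ▸ hv')
  refine ⟨fun x => if h : ∃ v, good x v then c h.choose else 0, fun a b => ?_, fun v hv => ?_⟩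
  · have hab : IsConj a (b * a * b⁻¹) := isConj_iff.2 ⟨b, rfl⟩
    by_cases h : ∃ v, good a v
    · have h' : ∃ v, good (b * a * b⁻¹) v :=
        ⟨h.choose, h.choose_spec.1, h.choose_spec.2.1, h.choose_spec.2.2.trans hab⟩
      simp only [dif_pos h, dif_pos h']
      exact key h.choose_spec.1 h'.choose_spec.1 h.choose_spec.2.1
        ((h.choose_spec.2.2.trans hab).trans h'.choose_spec.2.2.symm)
    · have h' : ¬ ∃ v, good (b * a * b⁻¹) v :=
        fun ⟨v, h1, h2, h3⟩ => h ⟨v, h1, h2, h3.trans hab.symm⟩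
      simp only [dif_neg h, dif_neg h']
  · by_cases h : ∃ w, good v w
    · simp only [dif_pos h]
      exact (key h.choose_spec.1 hv h.choose_spec.2.1 h.choose_spec.2.2).symm
    · simp only [dif_neg h]
      obtain ⟨P, hP, hQP, hPc, hPn⟩ := exists_grow hQ (hC v hv) fun hmax =>
        h ⟨v, hv, hmax, IsConj.refl v⟩
      exact (h0 v hv P hP hQP hPc hPn).symm

end CfsgLib.GW.ThetaBase
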