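import Cfsg.Agent.Lib.GW.ThetaRot
import Cfsg.Agent.Lib.Characters.Decomp

/-!
Gorenstein–Walter, characters: the generalised characters induced from `θ ⊗ (1 - ζ^j)` on `UR`,
through the multiplicities `N_l(χ) = ⟨χ|UR, θ ⊗ ζ^l⟩`.
-/

set_option autoImplicit false
set_option linter.style.haveILetI false
set_option linter.unusedSectionVars false

namespace CfsgLib.GW.ThetaCore

open Subgroup Cfsg CfsgLib.Characters CfsgLib.GW.ThetaRot
open scoped Classical ComplexConjugate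

universe u

variable {G : Type u} [Group G] [Fintype G] (E : Setup G)

/-- The average of `conj θ · χ` on a coset of `U`. -/
noncomputable def Phi (θ : E.U →* ℂˣ) (χ : G → ℂ) (s : G) : ℂ :=
  (Nat.card E.U : ℂ)⁻¹ * ∑ v : E.U, conj ((θ v : ℂˣ) : ℂ) * χ ((v : G) * s)

/-- The standard additive character. -/
noncomputable abbrev ψ : AddChar (ZMod (q E)) ℂ := ZMod.stdAddChar

theorem conj_theta_mul_self {θ : E.U →* ℂˣ} (v : E.U) :
    conj ((θ v : ℂˣ) : ℂ) * ((θ v : ℂˣ) : ℂ) = 1 := by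
  have h : ‖((θ v : ℂˣ) : ℂ)‖ = 1 := by
    refine Complex.norm_eq_one_of_pow_eq_one ?_ (Nat.card_pos (α := E.U)).ne'
    rw [← Units.val_pow_eq_pow_val, ← map_pow, pow_card_eq_one', map_one, Units.val_one]
  rw [Complex.conj_mul', h, Complex.ofReal_one, one_pow]

variable {θ : E.U →* ℂˣ}
  (hS : ∀ s (hs : s ∈ (E.S : Subgroup G)) (x : E.U),
    θ ⟨s * x * s⁻¹, E.conj_mem_U (E.S_le_H hs) x.2⟩ = θ x)

include hS

/-- Conjugation in `H` preserves the weight `θ` on a coset. -/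
theorem theta_conj_coset {g : G} (hg : g ∈ E.H) {v v' : E.U} {s s' : G}
    (hs : s ∈ (E.S : Subgroup G)) (hs' : s' ∈ (E.S : Subgroup G))
    (h : g * ((v : G) * s) * g⁻¹ = (v' : G) * s') : θ v' = θ v := by
  obtain ⟨y, hy, c, hc, rfl⟩ := E.exists_mul hg
  obtain ⟨v₁, hv₁, e, hv₁'⟩ := conj_coset E hy v.2 hc hs
  rw [e] at h
  have h1 := (E.mul_inj hv₁ v'.2 (mul_mem (mul_mem hc hs) (inv_mem hc)) hs' h).1
  have hs'' : c * s * c⁻¹ ∈ (E.S : Subgroup G) := mul_mem (mul_mem hc hs) (inv_mem hc)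
  have e2 : v' = ⟨y, hy⟩ * ⟨c * v * c⁻¹, E.conj_mem_U (E.S_le_H hc) v.2⟩ *
      ⟨c * s * c⁻¹ * y⁻¹ * (c * s * c⁻¹)⁻¹, E.conj_mem_U (E.S_le_H hs'') (inv_mem hy)⟩ :=
    Subtype.ext (h1.symm.trans hv₁')
  rw [e2, map_mul, map_mul, hS c hc v, show (⟨c * s * c⁻¹ * y⁻¹ * (c * s * c⁻¹)⁻¹,
    E.conj_mem_U (E.S_le_H hs'') (inv_mem hy)⟩ : E.U) = ⟨c * s * c⁻¹ *
      ((⟨y, hy⟩⁻¹ : E.U) : G) * (c * s * c⁻¹)⁻¹, E.conj_mem_U (E.S_le_H hs'') (inv_mem hy)⟩
    from rfl, hS _ hs'' (⟨y, hy⟩⁻¹ : E.U), map_inv, mul_right_comm, mul_inv_cancel, one_mul]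

theorem theta_of_invs {i : ZMod (q E)} {v : E.U}
    (h : (v : G) * refl E i ∈ invs E i) : θ v = 1 := by
  obtain ⟨w, -, hw⟩ := Finset.mem_image.1 h
  have hb := refl_isRefl E i
  have e : v = w * ⟨refl E i * ((w⁻¹ : E.U) : G) * (refl E i)⁻¹,
      E.conj_mem_U hb.mem_H (w⁻¹).2⟩ := by
    refine Subtype.ext (mul_right_cancel (b := refl E i) (hw.symm.trans ?_))
    simp only [Subgroup.coe_mul, Subgroup.coe_inv]
    group
  rw [e, map_mul, hS _ hb.1 w⁻¹, map_inv, mul_inv_cancel]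

theorem Phi_neg (χ : IrrCharacter G) (a : ZMod (q E)) :
    Phi E θ χ (rz E (-a)) = Phi E θ χ (rz E a) := by
  rw [Phi, Phi]
  congr 1
  refine Fintype.sum_equiv
    { toFun := fun v : E.U => (⟨E.d.a * v * E.d.a⁻¹, E.conj_mem_U E.refl_a.mem_H v.2⟩ : E.U)
      invFun := fun v : E.U => (⟨E.d.a * v * E.d.a⁻¹, E.conj_mem_U E.refl_a.mem_H v.2⟩ : E.U)
      left_inv := fun v => Subtype.ext (by
        show E.d.a * (E.d.a * v * E.d.a⁻¹) * E.d.a⁻¹ = v
        rw [E.d.a_inv, show E.d.a * (E.d.a * (v : G) * E.d.a) * E.d.a =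
          E.d.a * E.d.a * v * (E.d.a * E.d.a) by group, E.d.sq, one_mul, mul_one])
      right_inv := fun v => Subtype.ext (by
        show E.d.a * (E.d.a * v * E.d.a⁻¹) * E.d.a⁻¹ = v
        rw [E.d.a_inv, show E.d.a * (E.d.a * (v : G) * E.d.a) * E.d.a =
          E.d.a * E.d.a * v * (E.d.a * E.d.a) by group, E.d.sq, one_mul, mul_one]) }
    _ _ fun v => ?_
  show _ = conj ((θ ⟨E.d.a * v * E.d.a⁻¹, _⟩ : ℂˣ) : ℂ) * _
  rw [hS _ E.d.a_mem v]
  congr 1
  refine classFunction_eq_of_isConj (irr_isClassFunction χ) (isConj_iff.2 ⟨E.d.a, ?_⟩)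
  show E.d.a * ((v : G) * rz E (-a)) * E.d.a⁻¹ = E.d.a * v * E.d.a⁻¹ * rz E a
  have h := E.d.refl_inv E.d.a_mem E.d.a_notMem (rz_mem_rot E (-a))
  rw [← rz_neg, neg_neg] at h
  conv_rhs => rw [← h]
  group

/-- Orthogonality of the columns on `U(R - 1)`. -/
theorem sum_Phi_mul (a b : ZMod (q E)) (ha : a ≠ 0) (hb : b ≠ 0) :
    ∑ χ : IrrCharacter G, Phi E θ χ (rz E a) * conj (Phi E θ χ (rz E b)) =
      q E * ((if a = b then 1 else 0) + (if a = -b then 1 else 0)) := by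
  set C : ℂ := (q E : ℂ) * ((if a = b then 1 else 0) + (if a = -b then 1 else 0))
  have hcol : ∀ v w : G, ∑ χ : IrrCharacter G, (χ : G → ℂ) v * conj ((χ : G → ℂ) w) =
      (((Finset.univ : Finset G).filter fun g => g * v * g⁻¹ = w).card : ℂ) := by
    intro v w
    rw [column_orth]
    split_ifs with h
    · obtain ⟨g₀, hg₀⟩ := isConj_iff.1 h
      rw [← Fintype.card_subtype, ← Nat.card_eq_fintype_card]
      refine congrArg _ (Nat.card_congr
        { toFun := fun c => ⟨g₀ * c.1, ?_⟩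
          invFun := fun g => ⟨g₀⁻¹ * g.1, mem_centralizer_singleton_iff.2 ?_⟩
          left_inv := fun c => Subtype.ext (by simp)
          right_inv := fun g => Subtype.ext (by simp) })
      · have h1 : (c : G) * v = v * c := mem_centralizer_singleton_iff.1 c.2
        rw [← hg₀, mul_assoc g₀, h1]
        group
      · have h1 : g.1 * v * g.1⁻¹ = g₀ * v * g₀⁻¹ := g.2.trans hg₀.symm
        rw [mul_inv_eq_iff_eq_mul] at h1
        rw [mul_assoc, h1]
        group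
    · rw [Finset.filter_eq_empty_iff.2 fun g _ hg => h (isConj_iff.2 ⟨g, hg⟩), Finset.card_empty,
        Nat.cast_zero]
  have hcount : ∀ v : E.U,
      (((Finset.univ : Finset G).filter
        fun g => ∃ v' : E.U, g * ((v : G) * rz E a) * g⁻¹ = (v' : G) * rz E b).card : ℂ) =
      Nat.card E.U * C := by
    intro v
    show _ = (Nat.card E.U : ℂ) * ((q E : ℂ) * _)
    rw [← card_conj_eq, Nat.card_eq_fintype_card, ← Finset.card_univ, ← Nat.cast_mul,
      ← Finset.card_product]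
    refine congrArg _ (Finset.card_nbij (fun g : E.U × G => (g.1 : G) * g.2) ?_ ?_ ?_).symm
    · rintro ⟨y, c⟩ hp
      obtain ⟨hc, hcs⟩ := (Finset.mem_filter.1 (Finset.mem_product.1 hp).2).2
      obtain ⟨v', hv', e, -⟩ := conj_coset E y.2 v.2 hc (rz_mem E a)
      exact Finset.mem_filter.2 ⟨Finset.mem_univ _, ⟨v', hv'⟩, by rw [e, hcs]⟩
    · rintro ⟨y, c⟩ hp ⟨y', c'⟩ hp' e
      have hc := (Finset.mem_filter.1 (Finset.mem_product.1 hp).2).2.1
      have hc' := (Finset.mem_filter.1 (Finset.mem_product.1 hp').2).2.1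
      obtain ⟨h1, h2⟩ := E.mul_inj y.2 y'.2 hc hc' e
      exact Prod.ext (Subtype.ext h1) h2
    · intro g hg
      obtain ⟨v', hg⟩ := (Finset.mem_filter.1 hg).2
      obtain ⟨y, hy, c, hc, rfl⟩ := E.exists_mul (mem_H_of_conj E v.2 v'.2 ha hb hg)
      obtain ⟨v₁, hv₁, e, -⟩ := conj_coset E hy v.2 hc (rz_mem E a)
      rw [e] at hg
      refine ⟨(⟨y, hy⟩, c), Finset.mem_product.2 ⟨Finset.mem_univ _, Finset.mem_filter.2
        ⟨Finset.mem_univ _, hc, ?_⟩⟩, rfl⟩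
      exact (E.mul_inj hv₁ v'.2 (mul_mem (mul_mem hc (rz_mem E a)) (inv_mem hc)) (rz_mem E b) hg).2
  have hinner : ∀ v : E.U,
      ∑ v' : E.U, ((θ v' : ℂˣ) : ℂ) *
        (((Finset.univ : Finset G).filter
          fun g => g * ((v : G) * rz E a) * g⁻¹ = (v' : G) * rz E b).card : ℂ) =
      ((θ v : ℂˣ) : ℂ) * (Nat.card E.U * C) := by
    intro v
    have hdisj : ∀ v' ∈ (Finset.univ : Finset E.U), ∀ v'' ∈ (Finset.univ : Finset E.U),
        v' ≠ v'' → Disjoint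
          ((Finset.univ : Finset G).filter
            fun g => g * ((v : G) * rz E a) * g⁻¹ = (v' : G) * rz E b)
          ((Finset.univ : Finset G).filter
            fun g => g * ((v : G) * rz E a) * g⁻¹ = (v'' : G) * rz E b) := by
      intro v' _ v'' _ hne
      refine Finset.disjoint_left.2 fun g h1 h2 => hne (Subtype.ext ?_)
      exact mul_right_cancel ((Finset.mem_filter.1 h1).2.symm.trans (Finset.mem_filter.1 h2).2)
    rw [← hcount v, Finset.sum_congr rfl (g := fun v' : E.U => ((θ v : ℂˣ) : ℂ) *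
        (((Finset.univ : Finset G).filter
          fun g => g * ((v : G) * rz E a) * g⁻¹ = (v' : G) * rz E b).card : ℂ)) ?_,
      ← Finset.mul_sum, ← Nat.cast_sum, ← Finset.card_biUnion hdisj]
    · congr 3
      ext g
      simp
    intro v' _
    rcases ((Finset.univ : Finset G).filter
      fun g => g * ((v : G) * rz E a) * g⁻¹ = (v' : G) * rz E b).eq_empty_or_nonempty with he | ⟨g, hg⟩
    · simp [he]
    · rw [theta_conj_coset E hS (mem_H_of_conj E v.2 v'.2 ha hb (Finset.mem_filter.1 hg).2)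
        (rz_mem E a) (rz_mem E b) (Finset.mem_filter.1 hg).2]
  have hu : (Nat.card E.U : ℂ) ≠ 0 := Nat.cast_ne_zero.2 Nat.card_pos.ne'
  calc ∑ χ : IrrCharacter G, Phi E θ χ (rz E a) * conj (Phi E θ χ (rz E b))
      = (Nat.card E.U : ℂ)⁻¹ ^ 2 * ∑ v : E.U, conj ((θ v : ℂˣ) : ℂ) * ∑ v' : E.U,
          ((θ v' : ℂˣ) : ℂ) * ∑ χ : IrrCharacter G,
            (χ : G → ℂ) ((v : G) * rz E a) * conj ((χ : G → ℂ) ((v' : G) * rz E b)) := by
        simp only [Phi, map_mul, map_inv₀, map_natCast, map_sum, Complex.conj_conj, Finset.mul_sum,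
          Finset.sum_mul]
        rw [Finset.sum_comm]
        conv_rhs => rw [Finset.sum_comm]
        refine Finset.sum_congr rfl fun v' _ => ?_
        rw [Finset.sum_comm]
        exact Finset.sum_congr rfl fun v _ => Finset.sum_congr rfl fun χ _ => by ring
    _ = (Nat.card E.U : ℂ)⁻¹ ^ 2 * ∑ v : E.U, (Nat.card E.U : ℂ) * C := by
        refine congrArg _ (Finset.sum_congr rfl fun v _ => ?_)
        simp only [hcol]
        rw [hinner v, ← mul_assoc, conj_theta_mul_self, one_mul]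
    _ = C := by
        rw [Finset.sum_const, Finset.card_univ, ← Nat.card_eq_fintype_card, nsmul_eq_mul]
        field_simp

theorem sum_Phi_degree (a : ZMod (q E)) (ha : a ≠ 0) :
    ∑ χ : IrrCharacter G, Phi E θ χ (rz E a) * (χ : G → ℂ) 1 = 0 := by
  simp only [Phi, Finset.mul_sum, Finset.sum_mul]
  rw [Finset.sum_comm]
  refine Finset.sum_eq_zero fun v _ => ?_
  have h := column_orth ((v : G) * rz E a) 1
  rw [if_neg fun h => mul_rz_ne_one E v.2 ha (by
    obtain ⟨c, hc⟩ := isConj_iff.1 h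
    exact conj_eq_one_iff.1 hc)] at h
  rw [← mul_zero ((Nat.card E.U : ℂ)⁻¹ * conj ((θ v : ℂˣ) : ℂ)), ← h, Finset.mul_sum]
  refine Finset.sum_congr rfl fun χ _ => ?_
  obtain ⟨n, -, hn⟩ := irr_exists_degree χ.2
  rw [hn, map_natCast]
  ring

/-! ### The integral multiplicities -/

/-- `U R`. -/
def UR : Subgroup G where
  carrier := {x | ∃ v ∈ E.U, ∃ a : ZMod (q E), x = v * rz E a}
  one_mem' := ⟨1, one_mem _, 0, by rw [rz_zero, mul_one]⟩
  mul_mem' := by
    rintro _ _ ⟨v, hv, a, rfl⟩ ⟨w, hw, b, rfl⟩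
    exact ⟨v * (rz E a * w * (rz E a)⁻¹), mul_mem hv (E.conj_mem_U (E.S_le_H (rz_mem E a)) hw),
      a + b, by rw [rz_add]; group⟩
  inv_mem' := by
    rintro _ ⟨v, hv, a, rfl⟩
    exact ⟨rz E (-a) * v⁻¹ * (rz E (-a))⁻¹,
      E.conj_mem_U (E.S_le_H (rz_mem E (-a))) (inv_mem hv), -a, by rw [rz_neg]; group⟩

theorem exists_mult (χ : IrrCharacter G) (l : ZMod (q E)) :
    ∃ N : ℕ, (q E : ℂ) * N = ∑ a, ψ E (-(a * l)) * Phi E θ χ (rz E a) := by
  let e : E.U × ZMod (q E) → UR E := fun p => ⟨p.1 * rz E p.2, p.1, p.1.2, p.2, rfl⟩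
  have he : Function.Bijective e := by
    refine ⟨fun p p' h => ?_, fun x => ?_⟩
    · obtain ⟨h1, h2⟩ := E.mul_inj p.1.2 p'.1.2 (rz_mem E p.2) (rz_mem E p'.2)
        (congrArg Subtype.val h)
      exact Prod.ext (Subtype.ext h1) (rz_injective E h2)
    · obtain ⟨v, hv, a, hva⟩ := x.2
      exact ⟨(⟨v, hv⟩, a), Subtype.ext hva.symm⟩
  let π := (Equiv.ofBijective e he).symm
  let ζ : ZMod (q E) → ℂˣ := fun a =>
    ⟨ψ E (a * l), ψ E (-(a * l)), by rw [← AddChar.map_add_eq_mul, add_neg_cancel,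
      AddChar.map_zero_eq_one], by rw [← AddChar.map_add_eq_mul, neg_add_cancel,
      AddChar.map_zero_eq_one]⟩
  let lam : UR E →* ℂˣ := MonoidHom.mk' (fun x => θ (π x).1 * ζ (π x).2) fun x y => by
    obtain ⟨⟨v, a⟩, rfl⟩ := he.2 x
    obtain ⟨⟨w, b⟩, rfl⟩ := he.2 y
    have hπ : ∀ p, π (e p) = p := fun p => (Equiv.ofBijective e he).symm_apply_apply p
    have hm : e (v, a) * e (w, b) = e (v * ⟨rz E a * w * (rz E a)⁻¹,
        E.conj_mem_U (E.S_le_H (rz_mem E a)) w.2⟩, a + b) := Subtype.ext (by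
      show (v : G) * rz E a * ((w : G) * rz E b) =
        (v : G) * (rz E a * w * (rz E a)⁻¹) * rz E (a + b)
      rw [rz_add]; group)
    simp only [hm, hπ, map_mul, hS _ (rz_mem E a) w]
    have hζ : ζ (a + b) = ζ a * ζ b := Units.ext (by
      show ψ E ((a + b) * l) = ψ E (a * l) * ψ E (b * l)
      rw [← AddChar.map_add_eq_mul, add_mul])
    rw [hζ]
    exact mul_mul_mul_comm _ _ _ _
  obtain ⟨N, hN⟩ := classInner_char_nat
    (CfsgLib.Characters.isCharacter_of_irr (isIrrCharacter_of_hom lam))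
    (show IsCharacter (UR E) ((χ : G → ℂ) ∘ (UR E).subtype) by
      obtain ⟨n, ρ, hρ⟩ := irr_isCharacter χ
      exact ⟨n, ρ.comp (UR E).subtype, by rw [← hρ]; rfl⟩)
  refine ⟨N, ?_⟩
  have hc : classInner ((χ : G → ℂ) ∘ (UR E).subtype) (fun x => ((lam x : ℂˣ) : ℂ)) = (N : ℂ) := by
    rw [classInner_conj_symm, hN, map_natCast]
  rw [← hc, classInner, ← Nat.card_congr (Equiv.ofBijective e he), Nat.card_prod,
    Nat.card_zmod, ← (Equiv.ofBijective e he).sum_comp, Fintype.sum_prod_type_right]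
  simp only [Phi, Finset.mul_sum]
  refine Finset.sum_congr rfl fun a _ => Finset.sum_congr rfl fun v _ => ?_
  have hπ : π (e (v, a)) = (v, a) := (Equiv.ofBijective e he).symm_apply_apply _
  show _ * ((_ : ℂ) * ((χ : G → ℂ) ((v : G) * rz E a) *
    conj (((θ (π (e (v, a))).1 * ζ (π (e (v, a))).2 : ℂˣ)) : ℂ))) = _
  rw [hπ, Units.val_mul, map_mul, AddChar.map_neg_eq_conj]
  show _ * ((_ : ℂ) * ((χ : G → ℂ) _ * (conj ((θ v : ℂˣ) : ℂ) * conj (ψ E (a * l))))) = _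
  push_cast
  field_simp

end CfsgLib.GW.ThetaCore
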