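import Cfsg.Agent.Lib.GW.Max33
import Cfsg.Agent.Lib.GW.ThetaFour

/-!
Gorenstein–Walter, characters, Sylow four-groups: an invariant linear character of `U` is
determined on `X = C_U(S)`, where a normaliser of `S` moves them; when every reflection fixes only
`1` in `F(H)`, every linear character of `X` extends through the projection along `F(H)`.
-/

set_option autoImplicit false
set_option linter.style.haveILetI false
set_option linter.unusedSectionVars false

namespace CfsgLib.GW.ThetaMoved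

open Subgroup Cfsg CfsgLib.Characters CfsgLib.CharCorr CfsgLib.GW.ThetaBase CfsgLib.GW.ThetaRoot
open scoped Classical

universe u

variable {G : Type u} [Group G] [Fintype G] {E : Setup G}

theorem allInverted_of
    (hX : ∀ b, E.Refl b → ∀ x : E.U, (x : G) ∈ E.X b → (x : G) ∈ fitIn E.H → x = 1) :
    Max33.AllInverted E := by
  intro r hr _ b hb
  rw [Subgroup.eq_bot_iff_forall]
  rintro y ⟨hyR, hyX⟩
  exact congrArg Subtype.val (hX b hb ⟨y, hyX.1⟩ hyX
    (Subgroup.map_mono (CfsgLib.Fitting.pCore_le_fitting (G := E.H) hr) hyR))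

theorem exists_fit_mul (hA : Max33.AllInverted E) (x : E.U) :
    ∃ c : CX E E.d.a, ((c : G))⁻¹ * (x : G) ∈ fitIn E.H := by
  have hb := E.refl_a
  have hn : ∀ w ∈ E.U, E.d.a * w * E.d.a ∈ E.U := fun w hw => by
    have := E.conj_mem_U hb.mem_H hw
    rwa [hb.inv] at this
  obtain ⟨c, z, hc, hcb, hz, hzb, e⟩ :=
    CfsgLib.RankOneInvol.exists_fixed_mul_inverted E.odd_card_U hb.sq hn x.2
  have hcX : c ∈ E.X E.d.a := hb.mem_X.2 ⟨(E.mem_U.1 hc).1, by
    calc c * E.d.a = E.d.a * c * E.d.a * E.d.a := by rw [hcb]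
      _ = E.d.a * c := by rw [mul_assoc, hb.sq, mul_one], (E.mem_U.1 hc).2⟩
  refine ⟨⟨c, (CX_eq_X hb).symm ▸ hcX⟩, ?_⟩
  show c⁻¹ * (x : G) ∈ fitIn E.H
  rw [e, inv_mul_cancel_left]
  have h2 := Max33.commutator_mem_fit E hA hb hz
  rw [hzb, show z⁻¹ * z⁻¹ = (z ^ 2)⁻¹ by group, inv_mem_iff] at h2
  obtain ⟨j, hj⟩ := (E.mem_U.1 hz).2
  have e2 : z = (z ^ 2) ^ (j + 1) := by
    rw [← pow_mul, show 2 * (j + 1) = orderOf z + 1 by omega, pow_succ, pow_orderOf_eq_one, one_mul]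
  rw [e2]
  exact pow_mem h2 _

theorem eq_of_fit_mul (hA : Max33.AllInverted E) {x : G} {c c' : CX E E.d.a}
    (h : (c : G)⁻¹ * x ∈ fitIn E.H) (h' : (c' : G)⁻¹ * x ∈ fitIn E.H) : c = c' := by
  have h1 : (c : G)⁻¹ * c' ∈ fitIn E.H := by
    have := mul_mem h (inv_mem h')
    rwa [show (c : G)⁻¹ * x * ((c' : G)⁻¹ * x)⁻¹ = (c : G)⁻¹ * c' by group] at this
  refine Subtype.ext (inv_mul_eq_one.1 ?_)
  exact Max33.eq_one_of_fixed E hA E.refl_a
    ((CX_eq_X E.refl_a).le (mul_mem (inv_mem c.2) c'.2)) h1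

/-- The projection of `U` on `X` along `F(H)`. -/
noncomputable def proj (hA : Max33.AllInverted E) : E.U →* CX E E.d.a :=
  MonoidHom.mk' (fun x => (exists_fit_mul hA x).choose) fun x y => by
    refine eq_of_fit_mul hA (exists_fit_mul hA (x * y)).choose_spec ?_
    have hx := (exists_fit_mul hA x).choose_spec
    have hy := (exists_fit_mul hA y).choose_spec
    set c := (exists_fit_mul hA x).choose
    set c' := (exists_fit_mul hA y).choose
    show ((c : G) * c')⁻¹ * ((x : G) * y) ∈ _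
    rw [show ((c : G) * c')⁻¹ * ((x : G) * y) =
      (c' : G)⁻¹ * ((c : G)⁻¹ * x) * ((c' : G)⁻¹)⁻¹ * ((c' : G)⁻¹ * y) by group]
    exact mul_mem (Max33.conj_mem_fit E (E.U_le_H (inv_mem c'.2.1)) hx) hy

theorem proj_spec (hA : Max33.AllInverted E) (x : E.U) :
    (proj hA x : G)⁻¹ * (x : G) ∈ fitIn E.H :=
  (exists_fit_mul hA x).choose_spec

theorem proj_inclX (hA : Max33.AllInverted E) (c : CX E E.d.a) : proj hA (inclX E.d.a c) = c :=
  eq_of_fit_mul hA (proj_spec hA _) (x := (c : G)) (c' := c) (by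
    rw [inv_mul_cancel]; exact one_mem _)

theorem proj_of_mem_fit (hA : Max33.AllInverted E) {x : E.U} (hx : (x : G) ∈ fitIn E.H) :
    proj hA x = 1 :=
  eq_of_fit_mul hA (proj_spec hA x) (x := (x : G)) (by simpa using hx)

theorem proj_conj (hA : Max33.AllInverted E) {s : G} (hs : s ∈ (E.S : Subgroup G)) (x : E.U) :
    proj hA ⟨s * x * s⁻¹, E.conj_mem_U (E.S_le_H hs) x.2⟩ = proj hA x := by
  refine eq_of_fit_mul hA (x := s * (x : G) * s⁻¹) (proj_spec hA _) ?_
  have h := mul_mem (proj_spec hA x) (Max33.sylow_commutator_mem_fit E hA hs x.2)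
  rwa [mul_assoc, mul_inv_cancel_left] at h

variable {θ : E.U →* ℂˣ}
  (hS : ∀ s (hs : s ∈ (E.S : Subgroup G)) (x : E.U),
    θ ⟨s * x * s⁻¹, E.conj_mem_U (E.S_le_H hs) x.2⟩ = θ x)

include hS in
theorem theta_fit (hA : Max33.AllInverted E) {w : E.U} (hw : (w : G) ∈ fitIn E.H) : θ w = 1 := by
  have hb := E.refl_a
  have hn : ∀ v ∈ E.U ⊓ fitIn E.H, E.d.a * v * E.d.a ∈ E.U ⊓ fitIn E.H := fun v hv => by
    have h1 := E.conj_mem_U hb.mem_H hv.1
    have h2 := Max33.conj_mem_fit E hb.mem_H hv.2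
    rw [hb.inv] at h1 h2
    exact ⟨h1, h2⟩
  obtain ⟨c, z, hc, hcb, -, hzb, e⟩ := CfsgLib.RankOneInvol.exists_fixed_mul_inverted
    (E.odd_card_U.of_dvd_nat (card_dvd_of_le inf_le_left)) hb.sq hn ⟨w.2, hw⟩
  have hc1 := Max33.eq_one_of_fixed E hA hb (hb.mem_X.2 ⟨(E.mem_U.1 hc.1).1, by
    calc c * E.d.a = E.d.a * c * E.d.a * E.d.a := by rw [hcb]
      _ = E.d.a * c := by rw [mul_assoc, hb.sq, mul_one], (E.mem_U.1 hc.1).2⟩) hc.2
  rw [hc1, one_mul] at e
  have e2 : (⟨E.d.a * (w : G) * E.d.a⁻¹, E.conj_mem_U (E.S_le_H E.d.a_mem) w.2⟩ : E.U) = w⁻¹ :=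
    Subtype.ext (by
      show E.d.a * (w : G) * E.d.a⁻¹ = (w : G)⁻¹
      rw [hb.inv, e, hzb])
  have h1 := hS _ E.d.a_mem w
  rw [e2, map_inv] at h1
  refine CfsgLib.RankOneInvol.eq_one_of_sq_of_odd ?_ ?_
  · exact E.odd_card_U.of_dvd_nat ((orderOf_map_dvd θ w).trans (orderOf_dvd_natCard _))
  · nth_rewrite 1 [← h1]
    exact inv_mul_cancel _

include hS in
theorem theta_proj (hA : Max33.AllInverted E) (x : E.U) : θ (inclX E.d.a (proj hA x)) = θ x := by
  have h := theta_fit hS hA (w := (inclX E.d.a (proj hA x))⁻¹ * x) (proj_spec hA x)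
  rwa [map_mul, map_inv, inv_mul_eq_one] at h

include hS in
/-- Two invariant linear characters agreeing on `X` are equal. -/
theorem eq_of_res {θ' : E.U →* ℂˣ}
    (hS' : ∀ s (hs : s ∈ (E.S : Subgroup G)) (x : E.U),
      θ' ⟨s * x * s⁻¹, E.conj_mem_U (E.S_le_H hs) x.2⟩ = θ' x)
    (h : ∀ c : CX E E.d.a, θ (inclX E.d.a c) = θ' (inclX E.d.a c)) : θ = θ' := by
  haveI : Fact (Nat.Prime 2) := ⟨Nat.prime_two⟩
  have e : thX θ E.d.a = thX θ' E.d.a := Subtype.ext (funext fun c => congrArg Units.val (h c))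
  have h1 : thI θ = thI θ' := mult_injective Nat.prime_two (isPGroup_four E.d.a) isFixedHom
    not_two_dvd_U (inv_thI hS E.d.a) (inv_thI hS' E.d.a)
    (by rw [mult_thI]; norm_num : ¬ 2 ∣ mult (inclX E.d.a) (thI θ) (thX θ E.d.a))
    (by rw [e, mult_thI]; norm_num)
  exact MonoidHom.ext fun v => Units.ext (congrFun (congrArg Subtype.val h1) v)

/-- The normaliser of the four-group. -/
abbrev NV (E : Setup G) : Subgroup G := normalizer (four E E.d.a : Set G)

/-- Its operation on `X`. -/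
def actX : NV E →* MulAut (CX E E.d.a) := conjHom fun _ hn _ hx => conj_mem_CX E.refl_a hn hx

section Family

variable (T : NV E → E.U →* ℂˣ)
  (hT : ∀ n, ∀ s (hs : s ∈ (E.S : Subgroup G)) (x : E.U),
    T n ⟨s * x * s⁻¹, E.conj_mem_U (E.S_le_H hs) x.2⟩ = T n x)
  (hres : ∀ n c, T n (inclX E.d.a c) = T 1 (inclX E.d.a (actX n c)))

include hT hres in
theorem translate_mul_of_mem_H {h : NV E} (hh : (h : G) ∈ E.H) (n : NV E) : T (h * n) = T n :=
  eq_of_res (hT _) (hT _) fun c => by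
    rw [hres, hres n, map_mul, MulAut.mul_apply]
    exact (congrArg (T 1) (Subtype.ext rfl)).trans
      (theta_conj (hT 1) hh (inclX E.d.a (actX n c)))

variable (g : NV E) (hgt : (g : G) * E.t * (g : G)⁻¹ = E.d.a)
  (hgbt : (g : G) * (E.d.a * E.t) * (g : G)⁻¹ = E.t)

include hT hres hgt hgbt in
/-- There are at most three translates. -/
theorem translate_cases (n : NV E) : T n = T 1 ∨ T n = T g ∨ T n = T g⁻¹ := by
  have key : ∀ k : NV E, (n : G) * ((k : G)⁻¹ * E.t * k) * (n : G)⁻¹ = E.t → T n = T k :=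
    fun k hk => by
    rw [show n = n * k⁻¹ * k by group]
    refine translate_mul_of_mem_H T hT hres ?_ k
    rw [E.mem_H, ← mul_inv_eq_iff_eq_mul]
    simp only [Subgroup.coe_mul, Subgroup.coe_inv]
    calc (n : G) * (k : G)⁻¹ * E.t * ((n : G) * (k : G)⁻¹)⁻¹
        = (n : G) * ((k : G)⁻¹ * E.t * k) * (n : G)⁻¹ := by group
      _ = E.t := hk
  have hv : (n : G)⁻¹ * E.t * n ∈ four E E.d.a := by
    simpa using (Subgroup.mem_normalizer_iff''.1 n.2 _).1 (t_mem_four E.refl_a)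
  have hn : (n : G) * ((n : G)⁻¹ * E.t * n) * (n : G)⁻¹ = E.t := by group
  rcases cases_four E.refl_a hv with h | h | h | h <;> rw [h] at hn
  · exact absurd (by simpa using hn.symm) E.t_ne_one
  · exact Or.inl (key 1 (by simpa using hn))
  · refine Or.inr (Or.inr (key g⁻¹ ?_))
    simp only [Subgroup.coe_inv, inv_inv]
    rw [hgt, hn]
  · refine Or.inr (Or.inl (key g ?_))
    rw [show (g : G)⁻¹ * E.t * g = E.d.a * E.t by
      calc (g : G)⁻¹ * E.t * g = (g : G)⁻¹ * (g * (E.d.a * E.t) * (g : G)⁻¹) * g := by rw [hgbt]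
        _ = E.d.a * E.t := by group]
    exact hn

include hT hres hgt hgbt in
/-- If two of the three agree, all do. -/
theorem translate_eq_one_of_eq
    (h : T g = T 1 ∨ T g⁻¹ = T 1 ∨ T g = T g⁻¹) : T g = T 1 := by
  have step : ∀ k l : NV E, T k = T l → ∀ m, T (k * m) = T (l * m) := fun k l e m =>
    eq_of_res (hT _) (hT _) fun c => by
      have h1 := DFunLike.congr_fun e (inclX E.d.a (actX m c))
      rw [hres k, hres l] at h1
      rw [hres (k * m), hres (l * m), map_mul, map_mul]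
      exact h1
  rcases h with h | h | h
  · exact h
  · have h1 := step _ _ h g
    rwa [inv_mul_cancel, one_mul, eq_comm] at h1
  · have h1 := step _ _ h g
    rw [inv_mul_cancel] at h1
    have h2 : T (g * g) = T g⁻¹ := by
      rw [show g * g = g * g * g * g⁻¹ by group]
      refine translate_mul_of_mem_H T hT hres ?_ _
      rw [E.mem_H, ← mul_inv_eq_iff_eq_mul]
      have hgb : (g : G) * E.d.a * (g : G)⁻¹ = E.d.a * E.t := by
        have e : (g : G) * E.d.a * (g : G)⁻¹ =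
            (g * (E.d.a * E.t) * (g : G)⁻¹) * (g * E.t * (g : G)⁻¹)⁻¹ := by group
        rw [e, hgbt, hgt, E.refl_a.inv, E.refl_a.comm]
      simp only [Subgroup.coe_mul]
      calc (g : G) * g * g * E.t * ((g : G) * g * g)⁻¹
          = g * (g * (g * E.t * (g : G)⁻¹) * (g : G)⁻¹) * (g : G)⁻¹ := by group
        _ = E.t := by rw [hgt, hgb, hgbt]
    exact h.trans (h2.symm.trans h1)

end Family

end CfsgLib.GW.ThetaMoved
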