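import Cfsg.Agent.Lib.GW.Setup
import Cfsg.Agent.Lib.GW.ThetaBase
import Cfsg.Agent.Lib.Blocks.BlockParts
import Cfsg.Agent.Lib.Blocks.Knorr

/-!
Gorenstein–Walter, characters: the characters of `U` occurring in `χ(t v)` for a fixed irreducible
`χ`. By the Second Main Theorem any two of them agree modulo two against class functions of the
whole group, and this determines an invariant linear one.
-/

set_option autoImplicit false
set_option linter.style.haveILetI false
set_option linter.unusedSectionVars false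

namespace CfsgLib.GW.ThetaRoot

open Subgroup Cfsg CfsgLib.Characters CfsgLib.CharCorr CfsgLib.Blocks CfsgLib.GW.ThetaBase
open scoped Classical ComplexConjugate

universe u

variable {G : Type u} [Group G] [Fintype G] (E : Setup G) {M : Ideal AlgInt}

/-- `η` occurs in `v ↦ χ(t v)` on `U`. -/
def Root (χ : IrrCharacter G) (η : IrrCharacter E.U) : Prop :=
  ∑ v : E.U, conj ((η : E.U → ℂ) v) * (χ : G → ℂ) (E.t * v) ≠ 0

/-- `η` and `ζ` agree modulo two against class functions of `G`. -/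
def Like (M : Ideal AlgInt) (η ζ : IrrCharacter E.U) : Prop :=
  ∀ F : G → AlgInt ⧸ M, (∀ a b, F (b * a * b⁻¹) = F a) →
    ∑ v : E.U, F (v : G) * mkv M η v = ∑ v : E.U, F (v : G) * mkv M ζ v

theorem exists_over (hM : IsPModular 2 M) {χ : IrrCharacter G} {η : IrrCharacter E.U}
    (hroot : Root E χ η) :
    ∃ ξ : IrrCharacter (centralizer ({E.t} : Set G)),
      IsInducedBlock M (centralizer ({E.t} : Set G))
        (blockOf M (ξ : centralizer ({E.t} : Set G) → ℂ)) (blockOf M (χ : G → ℂ)) ∧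
      ∑ v : E.U, conj ((η : E.U → ℂ) v) *
        (ξ : centralizer ({E.t} : Set G) → ℂ) ⟨v, E.U_le_H v.2⟩ ≠ 0 := by
  haveI : Fact (Nat.Prime 2) := ⟨Nat.prime_two⟩
  let T : Set (IrrCharacter (centralizer ({E.t} : Set G))) := {ξ |
    IsInducedBlock M (centralizer ({E.t} : Set G))
      (blockOf M (ξ : centralizer ({E.t} : Set G) → ℂ)) (blockOf M (χ : G → ℂ))}
  have hTc : ∀ ξ η : IrrCharacter (centralizer ({E.t} : Set G)), ξ ∈ Tᶜ →
      SameBlock M (ξ : centralizer ({E.t} : Set G) → ℂ)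
        (η : centralizer ({E.t} : Set G) → ℂ) → η ∈ Tᶜ := fun ξ η hξ hs hη => hξ (by
    show IsInducedBlock M _ (blockOf M (ξ : centralizer ({E.t} : Set G) → ℂ)) _
    rw [blockOf_eq_of_sameBlock hM hs]
    exact hη)
  have hz : ∃ k : ℕ, orderOf E.t = 2 ^ k := ⟨1, by rw [E.orderOf_t, pow_one]⟩
  by_contra hno
  push Not at hno
  refine hroot ?_
  have hval : ∀ v : E.U, (χ : G → ℂ) (E.t * v) = blockPart T (sectionFun E.t (χ : G → ℂ))
      (⟨v, E.U_le_H v.2⟩ : centralizer ({E.t} : Set G)) := by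
    intro v
    have hv : ¬ 2 ∣ orderOf (⟨v, E.U_le_H v.2⟩ : centralizer ({E.t} : Set G)) := by
      rw [← Subgroup.orderOf_coe, ← even_iff_two_dvd, Nat.not_even_iff_odd]
      exact (E.mem_U.1 v.2).2
    have h0 : blockPart Tᶜ (sectionFun E.t (χ : G → ℂ))
        (⟨v, E.U_le_H v.2⟩ : centralizer ({E.t} : Set G)) = 0 :=
      blockPart_union_eq_zero hM hTc fun ξ hξ =>
        blockPart_sectionFun_eq_zero hM hz (isPBlock_blockOf ξ) (fun h => hξ h) hv
    show sectionFun E.t (χ : G → ℂ) (⟨v, E.U_le_H v.2⟩ : centralizer ({E.t} : Set G)) = _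
    rw [← add_zero (blockPart T _ _), ← h0]
    conv_lhs => rw [classFunction_eq_sum (isClassFunction_sectionFun (irr_isClassFunction χ))]
    simp only [blockPart_eq_sum, Finset.sum_apply, Pi.smul_apply, smul_eq_mul, Set.mem_compl_iff]
    exact (Finset.sum_filter_add_sum_filter_not _ _ _).symm
  simp only [hval, blockPart_eq_sum, Finset.mul_sum]
  rw [Finset.sum_comm]
  refine Finset.sum_eq_zero fun ξ hξ => ?_
  simp only [mul_left_comm (conj _), ← Finset.mul_sum]
  rw [hno ξ (Finset.mem_filter.1 hξ).2, mul_zero]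

theorem centralChar_over (ξ : IrrCharacter (centralizer ({E.t} : Set G))) (η : IrrCharacter E.U)
    (h : ∑ v : E.U, conj ((η : E.U → ℂ) v) *
      (ξ : centralizer ({E.t} : Set G) → ℂ) ⟨v, E.U_le_H v.2⟩ ≠ 0)
    {v₀ : G} (hodd : Odd (orderOf v₀)) :
    inducedCentralChar (centralizer ({E.t} : Set G)) (ξ : centralizer ({E.t} : Set G) → ℂ) v₀ =
      (∑ v ∈ Finset.univ.filter (fun v : E.U => IsConj v₀ (v : G)), (η : E.U → ℂ) v) /
        (η : E.U → ℂ) 1 := by
  haveI hN : (E.U.subgroupOf (centralizer ({E.t} : Set G))).Normal :=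
    ⟨fun n hn g => E.conj_mem_U g.2 hn⟩
  set e : E.U.subgroupOf (centralizer ({E.t} : Set G)) ≃* E.U := subgroupOfEquivOfLe E.U_le_H
  have h' : classInner (fun n : E.U.subgroupOf (centralizer ({E.t} : Set G)) =>
      (ξ : centralizer ({E.t} : Set G) → ℂ) n) (twistIrr e η : E.U.subgroupOf (centralizer ({E.t} : Set G)) → ℂ) ≠ 0 := by
    rw [classInner]
    refine mul_ne_zero (by simp) ?_
    convert h using 1
    refine Fintype.sum_equiv e.toEquiv _ _ fun n => ?_
    rw [twistIrr_apply, mul_comm]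
    rfl
  let φ : centralizer ({E.t} : Set G) → ℂ := fun x => if IsConj v₀ (x : G) then 1 else 0
  have hφ : IsClassFunction (centralizer ({E.t} : Set G)) φ := fun a b => by
    have hab : IsConj (a : G) ((b * a * b⁻¹ : centralizer ({E.t} : Set G)) : G) :=
      isConj_iff.2 ⟨(b : G), rfl⟩
    simp only [φ]
    by_cases hc : IsConj v₀ (a : G)
    · rw [if_pos hc, if_pos (hc.trans hab)]
    · rw [if_neg hc, if_neg fun h2 => hc (h2.trans hab.symm)]
  have key := classFn_scalar_eq _ ξ (twistIrr e η) h' hφ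
  have h1 : (twistIrr e η : E.U.subgroupOf (centralizer ({E.t} : Set G)) → ℂ) 1 = (η : E.U → ℂ) 1 := by rw [twistIrr_apply, map_one]
  have h2 : ∑ y : E.U.subgroupOf (centralizer ({E.t} : Set G)), φ y * (twistIrr e η : E.U.subgroupOf (centralizer ({E.t} : Set G)) → ℂ) y =
      ∑ v ∈ Finset.univ.filter (fun v : E.U => IsConj v₀ (v : G)), (η : E.U → ℂ) v := by
    rw [Finset.sum_filter]
    refine Fintype.sum_equiv e.toEquiv _ _ fun n => ?_
    simp only [twistIrr_apply, φ, ite_mul, one_mul, zero_mul]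
    rfl
  rw [h1, h2] at key
  rw [key, inducedCentralChar]
  have hs : ({h : centralizer ({E.t} : Set G) | IsConj v₀ (h : G)} : Set _) =
      ↑(Finset.univ.filter fun h : centralizer ({E.t} : Set G) => IsConj v₀ (h : G)) := by
    ext; simp
  rw [hs, finsum_mem_coe_finset, ← Finset.sum_div]
  congr 1
  simp only [φ, ite_mul, one_mul, zero_mul]
  rw [← Finset.sum_filter]
  refine Finset.sum_bij' (fun h hh => ⟨h, ?_⟩) (fun n _ => (n : centralizer ({E.t} : Set G)))
    (fun h hh => ?_) (fun n hn => ?_) (fun _ _ => rfl) (fun _ _ => rfl) (fun _ _ => rfl)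
  · rw [mem_subgroupOf]
    refine E.odd_orderOf_mem_U h.2 ?_
    obtain ⟨c, hc⟩ := isConj_iff.1 (Finset.mem_filter.1 hh).2
    rw [← hc]
    exact CfsgLib.RankOneInvol.odd_orderOf_conj hodd c
  · simpa using hh
  · simpa using hn

/-- Two roots of the same character agree modulo two. -/
theorem like_of_root (hM : IsPModular 2 M) {χ : IrrCharacter G} {η ζ : IrrCharacter E.U}
    (hη : Root E χ η) (hζ : Root E χ ζ) : Like E M η ζ := by
  intro F hF
  obtain ⟨ξ, hξ, hξη⟩ := exists_over E hM hη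
  obtain ⟨ξ', hξ', hξ'ζ⟩ := exists_over E hM hζ
  rw [← Finset.sum_fiberwise Finset.univ (fun v : E.U => ConjClasses.mk (v : G))
      (fun v => F (v : G) * mkv M η v),
    ← Finset.sum_fiberwise Finset.univ (fun v : E.U => ConjClasses.mk (v : G))
      (fun v => F (v : G) * mkv M ζ v)]
  refine Finset.sum_congr rfl fun c _ => ?_
  rcases (Finset.univ.filter fun v : E.U => ConjClasses.mk (v : G) = c).eq_empty_or_nonempty with
    he | ⟨v₀, hv₀⟩
  · simp [he]
  have hset : (Finset.univ.filter fun v : E.U => ConjClasses.mk (v : G) = c) =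
      Finset.univ.filter fun v : E.U => IsConj (v₀ : G) (v : G) := by
    refine Finset.filter_congr fun v _ => ?_
    rw [← (Finset.mem_filter.1 hv₀).2, ConjClasses.mk_eq_mk_iff_isConj]
    exact ⟨IsConj.symm, IsConj.symm⟩
  rw [hset]
  have hconst : ∀ (ρ : IrrCharacter E.U),
      ∑ v ∈ Finset.univ.filter (fun v : E.U => IsConj (v₀ : G) (v : G)), F (v : G) * mkv M ρ v =
      F (v₀ : G) * Ideal.Quotient.mk M
        (∑ v ∈ Finset.univ.filter (fun v : E.U => IsConj (v₀ : G) (v : G)), iv ρ v) := by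
    intro ρ
    rw [map_sum, Finset.mul_sum]
    refine Finset.sum_congr rfl fun v hv => ?_
    obtain ⟨d, hd⟩ := isConj_iff.1 (Finset.mem_filter.1 hv).2
    rw [← hd, hF]
    rfl
  rw [hconst, hconst]
  congr 1
  have hodd := (E.mem_U.1 v₀.2).2
  have hd := MemLocalIdeal.sub hM
    (hξ.2.2 ξ (mem_blockOf_self hM ξ) χ (mem_blockOf_self hM χ) (v₀ : G))
    (hξ'.2.2 ξ' (mem_blockOf_self hM ξ') χ (mem_blockOf_self hM χ) (v₀ : G))
  rw [centralChar_over E ξ η hξη hodd, centralChar_over E ξ' ζ hξ'ζ hodd, sub_sub_sub_cancel_right,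
    irr_one_eq_charDegree η, irr_one_eq_charDegree ζ] at hd
  set Sη := ∑ v ∈ Finset.univ.filter (fun v : E.U => IsConj (v₀ : G) (v : G)), iv η v with hSη
  set Sζ := ∑ v ∈ Finset.univ.filter (fun v : E.U => IsConj (v₀ : G) (v : G)), iv ζ v with hSζ
  have hη' : (∑ v ∈ Finset.univ.filter (fun v : E.U => IsConj (v₀ : G) (v : G)),
      (η : E.U → ℂ) v) = (Sη : ℂ) := by simp [hSη, AddSubmonoidClass.coe_finsetSum]
  have hζ' : (∑ v ∈ Finset.univ.filter (fun v : E.U => IsConj (v₀ : G) (v : G)),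
      (ζ : E.U → ℂ) v) = (Sζ : ℂ) := by simp [hSζ, AddSubmonoidClass.coe_finsetSum]
  rw [hη', hζ'] at hd
  set a := charDegree (η : E.U → ℂ)
  set b := charDegree (ζ : E.U → ℂ)
  have ha : (a : ℂ) ≠ 0 := Nat.cast_ne_zero.2 (charDegree_irr_pos η).ne'
  have hb : (b : ℂ) ≠ 0 := Nat.cast_ne_zero.2 (charDegree_irr_pos ζ).ne'
  have hd2 := MemLocalIdeal.mul_left hM (memLocalRing_coe hM ((a * b : ℕ) : AlgInt)) hd
  have e : (((a * b : ℕ) : AlgInt) : ℂ) * ((Sη : ℂ) / a - (Sζ : ℂ) / b) =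
      (((b : AlgInt) * Sη - (a : AlgInt) * Sζ : AlgInt) : ℂ) := by
    push_cast
    field_simp
  rw [e, memLocalIdeal_coe_iff hM, ← Ideal.Quotient.eq_zero_iff_mem, map_sub, map_mul, map_mul,
    map_natCast, map_natCast,
    natCast_odd hM (E.odd_card_U.of_dvd_nat (charDegree_irr_dvd_card η)),
    natCast_odd hM (E.odd_card_U.of_dvd_nat (charDegree_irr_dvd_card ζ)), one_mul, one_mul,
    sub_eq_zero] at hd2
  exact hd2

/-! ### Stabilisers -/

/-- The operation of `H` on the characters of `U`. -/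
noncomputable def irrH : E.H →* Equiv.Perm (IrrCharacter E.U) :=
  irrPerm fun _ hn _ hx => E.conj_mem_U hn hx

theorem irrH_apply (h : E.H) (η : IrrCharacter E.U) (v : E.U) :
    (irrH E h η : E.U → ℂ) v =
      (η : E.U → ℂ) ⟨(h : G)⁻¹ * v * h, by simpa using E.conj_mem_U (inv_mem h.2) v.2⟩ := by
  rw [irrH, irrPerm_apply]
  exact congrArg _ (Subtype.ext ((coe_conjHom _ _ _).trans
    (show (h : G)⁻¹ * (v : G) * (h : G)⁻¹⁻¹ = (h : G)⁻¹ * v * h by simp only [inv_inv])))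

theorem irrH_of_mem_U {h : E.H} (hh : (h : G) ∈ E.U) (η : IrrCharacter E.U) :
    irrH E h η = η := by
  refine Subtype.ext (funext fun v => ?_)
  rw [irrH_apply]
  have := irr_isClassFunction η v (⟨h, hh⟩ : E.U)⁻¹
  rw [← this]
  exact congrArg _ (Subtype.ext (by simp))

theorem apply_conj_of_fixed {h : E.H} {η : IrrCharacter E.U} (hfix : irrH E h η = η) (v : E.U) :
    (η : E.U → ℂ) (conjHom (fun _ hn _ hx => E.conj_mem_U hn hx) h v) = (η : E.U → ℂ) v := by
  conv_rhs => rw [← show irrH E h⁻¹ η = η by rw [map_inv]; exact (Equiv.symm_apply_eq _).2 hfix.symm]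
  rw [irrH, irrPerm_apply, inv_inv]

/-- The stabiliser of `η` in the Sylow subgroup. -/
def stab (η : IrrCharacter E.U) : Subgroup G where
  carrier := {s | ∃ hs : s ∈ (E.S : Subgroup G), irrH E ⟨s, E.S_le_H hs⟩ η = η}
  one_mem' := ⟨one_mem _, by
    rw [show (⟨1, E.S_le_H (one_mem _)⟩ : E.H) = 1 from rfl, map_one]; rfl⟩
  mul_mem' := by
    rintro a b ⟨ha, ea⟩ ⟨hb, eb⟩
    refine ⟨mul_mem ha hb, ?_⟩
    rw [show (⟨a * b, E.S_le_H (mul_mem ha hb)⟩ : E.H) = ⟨a, E.S_le_H ha⟩ * ⟨b, E.S_le_H hb⟩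
      from rfl, map_mul, Equiv.Perm.mul_apply, eb, ea]
  inv_mem' := by
    rintro a ⟨ha, ea⟩
    refine ⟨inv_mem ha, ?_⟩
    rw [show (⟨a⁻¹, E.S_le_H (inv_mem ha)⟩ : E.H) = ⟨a, E.S_le_H ha⟩⁻¹ from rfl, map_inv]
    exact (Equiv.symm_apply_eq _).2 ea.symm

theorem mem_stab {η : IrrCharacter E.U} {s : G} :
    s ∈ stab E η ↔ ∃ hs : s ∈ (E.S : Subgroup G), irrH E ⟨s, E.S_le_H hs⟩ η = η := Iff.rfl

theorem stab_le (η : IrrCharacter E.U) : stab E η ≤ E.S := fun _ h => h.1

theorem isPGroup_stab (η : IrrCharacter E.U) : IsPGroup 2 (stab E η) := E.S.2.to_le (stab_le E η)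

theorem t_mem_stab (η : IrrCharacter E.U) : E.t ∈ stab E η := by
  refine ⟨E.t_mem_S, Subtype.ext (funext fun v => ?_)⟩
  rw [irrH_apply]
  refine congrArg _ (Subtype.ext ?_)
  show E.t⁻¹ * v * E.t = v
  rw [mul_assoc, (E.mem_U.1 v.2).1, inv_mul_cancel_left]

theorem eq_one_of_odd {P : Subgroup G} (hP : IsPGroup 2 P) {x : G} (hx : x ∈ P)
    (hodd : Odd (orderOf x)) : x = 1 := by
  haveI : Fact (Nat.Prime 2) := ⟨Nat.prime_two⟩
  obtain ⟨k, hk⟩ := IsPGroup.iff_orderOf.1 hP ⟨x, hx⟩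
  rw [Subgroup.orderOf_mk] at hk
  rcases Nat.eq_zero_or_pos k with rfl | hk0
  · rwa [pow_zero, orderOf_eq_one_iff] at hk
  · rw [hk, ← Nat.not_even_iff_odd] at hodd
    exact absurd (Nat.even_pow.2 ⟨even_two, hk0.ne'⟩) hodd

/-- A two-subgroup of `H` fixing a conjugate of `η` is no larger than the stabiliser. -/
theorem card_le_stab {η : IrrCharacter E.U} {P : Subgroup G} (hP : IsPGroup 2 P) (hPH : P ≤ E.H)
    (h : E.H) (hfix : ∀ x (hx : x ∈ P), irrH E ⟨x, hPH hx⟩ (irrH E h η) = irrH E h η) :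
    Nat.card P ≤ Nat.card (stab E η) := by
  have key : ∀ x : P, ∃ s : stab E η, ∃ y ∈ E.U, (h : G)⁻¹ * x * h = y * s := by
    intro x
    obtain ⟨y, hy, s, hs, e⟩ := E.exists_mul (mul_mem (mul_mem (inv_mem h.2) (hPH x.2)) h.2)
    refine ⟨⟨s, hs, ?_⟩, y, hy, e⟩
    have h1 : irrH E (h⁻¹ * ⟨x, hPH x.2⟩ * h) η = η := by
      rw [map_mul, map_mul, Equiv.Perm.mul_apply, Equiv.Perm.mul_apply, hfix x x.2, map_inv]
      exact Equiv.symm_apply_apply _ _
    rw [show (h⁻¹ * ⟨x, hPH x.2⟩ * h : E.H) = ⟨y, E.U_le_H hy⟩ * ⟨s, E.S_le_H hs⟩ from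
      Subtype.ext e, map_mul, Equiv.Perm.mul_apply, irrH_of_mem_U E (h := ⟨y, E.U_le_H hy⟩) hy] at h1
    exact h1
  choose f y hy hf using key
  refine Nat.card_le_card_of_injective f fun x x' e => ?_
  have h1 : (h : G)⁻¹ * ((x : G) * (x' : G)⁻¹) * h = y x * (y x')⁻¹ := by
    calc (h : G)⁻¹ * ((x : G) * (x' : G)⁻¹) * h =
        ((h : G)⁻¹ * x * h) * ((h : G)⁻¹ * x' * h)⁻¹ := by group
      _ = _ := by rw [hf, hf, e]; group
  have h2 : Odd (orderOf ((x : G) * (x' : G)⁻¹)) := by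
    have h3 : Odd (orderOf ((h : G)⁻¹ * ((x : G) * (x' : G)⁻¹) * h)) :=
      (h1.symm ▸ E.mem_U.1 (mul_mem (hy x) (inv_mem (hy x')))).2
    have h4 := CfsgLib.RankOneInvol.odd_orderOf_conj h3 (h : G)
    rwa [show (h : G) * ((h : G)⁻¹ * ((x : G) * (x' : G)⁻¹) * h) * (h : G)⁻¹ =
      (x : G) * (x' : G)⁻¹ by group] at h4
  exact Subtype.ext (mul_inv_eq_one.1 (eq_one_of_odd hP (mul_mem x.2 (inv_mem x'.2)) h2))

/-- If the normaliser of the stabiliser of `η` lies in `H`, nothing else agrees with `η`. -/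
theorem eq_of_like_of_normalizer (hM : IsPModular 2 M) {η ζ : IrrCharacter E.U}
    (hζ : ∀ h : E.H, irrH E h ζ = ζ) (hN : normalizer (stab E η : Set G) ≤ E.H)
    (hlike : Like E M η ζ) : η = ζ := by
  set Q := stab E η with hQdef
  have hQ := isPGroup_stab E η
  have hQH : Q ≤ E.H := (stab_le E η).trans E.S_le_H
  let O : Finset (IrrCharacter E.U) := Finset.univ.filter fun ρ => ∃ h : E.H, irrH E h η = ρ
  have hmemO : ∀ (h : E.H), ∀ ρ ∈ O, irrH E h ρ ∈ O := fun h ρ hρ => by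
    obtain ⟨h', rfl⟩ := (Finset.mem_filter.1 hρ).2
    exact Finset.mem_filter.2 ⟨Finset.mem_univ _, h * h', by rw [map_mul]; rfl⟩
  let cU : E.U → AlgInt ⧸ M := fun v => ∑ ρ ∈ O, mkv M ρ v⁻¹
  let c : G → AlgInt ⧸ M := fun x => if hx : x ∈ E.U then cU ⟨x, hx⟩ else 0
  have hcU : ∀ (h : E.H) (v : E.U),
      cU (conjHom (fun _ hn _ hx => E.conj_mem_U hn hx) h v) = cU v := by
    intro h v
    refine Finset.sum_equiv (irrH E h⁻¹) (fun ρ => ⟨fun hρ => hmemO _ _ hρ, fun hρ => ?_⟩)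
      fun ρ _ => ?_
    · simpa [map_inv] using hmemO h _ hρ
    · simp only [mkv]
      congr 1
      apply Subtype.ext
      rw [coe_iv, coe_iv, irrH, irrPerm_apply, inv_inv, ← map_inv]
  let C : Set G := {v | v ∈ E.U ∧ v ∈ centralizer (Q : Set G)}
  obtain ⟨F, hF, hFc⟩ := exists_class_fun (M := M) hQ C
    (fun v hv x hx => mem_centralizer_singleton_iff.2 (mem_centralizer_iff.1 hv.2 x hx)) c
    (fun n hn v hv _ => by
      simp only [c, dif_pos hv.1, dif_pos (E.conj_mem_U (hN hn) hv.1)]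
      exact hcU ⟨n, hN hn⟩ ⟨v, hv.1⟩)
    (fun v hv P hP hQP hPc hPn => by
      simp only [c, dif_pos hv.1]
      have hPH : P ≤ E.H := hPn.trans hN
      refine sum_eq_zero_of_no_fixed hM hP ((irrH E).comp (Subgroup.inclusion hPH)) O
        (fun n ρ hρ => hmemO _ ρ hρ) _ (fun n ρ _ => ?_) fun ρ hρ hfix => ?_
      · simp only [mkv]
        congr 1
        apply Subtype.ext
        simp only [coe_iv, MonoidHom.comp_apply, irrH, irrPerm_apply]
        refine congrArg _ (Subtype.ext ?_)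
        have hc : (n : G) * v = v * n := mem_centralizer_singleton_iff.1 (hPc n.2)
        simp only [coe_conjHom, Subgroup.coe_inv, inv_inv, Subgroup.coe_inclusion]
        rw [show ((n : G)⁻¹ * v⁻¹ * n) = (v * n)⁻¹ * n by group, ← hc]
        group
      · obtain ⟨h, rfl⟩ := (Finset.mem_filter.1 hρ).2
        have h1 := card_le_stab E hP hPH h fun x hx => hfix ⟨x, hx⟩
        exact absurd h1 (not_le.2 (Set.Finite.card_lt_card (Set.toFinite _) hQP)))
  have key : ∀ ρ : IrrCharacter E.U, (∀ s : G, (hs : s ∈ Q) → irrH E ⟨s, hQH hs⟩ ρ = ρ) →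
      ∑ v : E.U, F (v : G) * mkv M ρ v = if ρ ∈ O then 1 else 0 := by
    intro ρ hρ
    have hinv : ∀ (n : Q) (x : E.U),
        mkv M ρ (conjHom (fun m hm y hy => E.conj_mem_U (hQH hm) hy) n x) = mkv M ρ x := by
      intro n x
      simp only [mkv]
      congr 1
      apply Subtype.ext
      rw [coe_iv, coe_iv]
      exact apply_conj_of_fixed E (hρ n n.2) x
    have h1 := sum_reduce_two hM hQ (fun m hm y hy => E.conj_mem_U (hQH hm) hy)
      (fun v : E.U => F (v : G) * mkv M ρ v) fun n x => by rw [hinv, coe_conjHom, hF]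
    have h2 := sum_reduce_two hM hQ (fun m hm y hy => E.conj_mem_U (hQH hm) hy)
      (fun v : E.U => cU v * mkv M ρ v) fun n x => by
        rw [hinv]
        exact congrArg (· * _) (hcU ⟨n, hQH n.2⟩ x)
    rw [h1]
    have h3 : ∀ x : (E.U ⊓ centralizer (Q : Set G) : Subgroup G),
        F (x : G) * mkv M ρ ⟨x, x.2.1⟩ = cU ⟨x, x.2.1⟩ * mkv M ρ ⟨x, x.2.1⟩ := fun x => by
      rw [hFc x x.2]
      show (if hx : (x : G) ∈ E.U then cU ⟨x, hx⟩ else 0) * _ = _
      rw [dif_pos (show (x : G) ∈ E.U from x.2.1)]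
    rw [Finset.sum_congr rfl fun x _ => h3 x, ← h2]
    simp only [cU, Finset.sum_mul]
    rw [Finset.sum_comm]
    simp only [sum_mkv hM E.odd_card_U]
    rw [Finset.sum_ite_eq]
  have h1 := hlike F hF
  rw [key η (fun s hs => hs.2), key ζ (fun s hs => hζ _),
    if_pos (Finset.mem_filter.2 ⟨Finset.mem_univ _, 1, by rw [map_one]; rfl⟩)] at h1
  by_contra hne
  refine one_ne_zero' hM (h1.trans (if_neg fun hm => ?_))
  obtain ⟨h, hh⟩ := (Finset.mem_filter.1 hm).2
  exact hne ((irrH E h).injective (hh.trans (hζ h).symm))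

end CfsgLib.GW.ThetaRoot
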