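import Cfsg.Agent.Lib.GW.Setup
import Cfsg.Agent.Lib.Blocks.ClassCount
import Mathlib.Analysis.SpecialFunctions.Complex.CircleAddChar

/-!
Gorenstein–Walter, characters: the coset `U(R - 1)` is a trivial intersection set in `G`, and the
counts of pairs of involutions with product there.
-/

set_option autoImplicit false
set_option linter.style.haveILetI false
set_option linter.unusedSectionVars false

namespace CfsgLib.GW.ThetaRot

open Subgroup
open scoped Classical

universe u

variable {G : Type u} [Group G] (E : Setup G)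

/-- The order of a rotation generating the rotations. -/
abbrev q : ℕ := 2 ^ (E.d.k + 1)

instance : NeZero (q E) := ⟨(Nat.two_pow_pos _).ne'⟩

/-- The rotations, indexed by residues. -/
noncomputable def rz (a : ZMod (q E)) : G := E.d.r ^ a.val

/-- The residue of the central involution. -/
def hz : ZMod (q E) := ((2 ^ E.d.k : ℕ) : ZMod (q E))

theorem rz_mem_rot (a : ZMod (q E)) : rz E a ∈ zpowers E.d.r := pow_mem (mem_zpowers _) _

theorem rz_mem (a : ZMod (q E)) : rz E a ∈ (E.S : Subgroup G) := E.d.rot_le (rz_mem_rot E a)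

theorem rz_natCast (n : ℕ) : rz E (n : ZMod (q E)) = E.d.r ^ n := by
  rw [rz, ZMod.val_natCast, pow_eq_pow_iff_modEq, E.d.order]
  exact Nat.mod_modEq _ _

theorem rz_zero : rz E 0 = 1 := by rw [rz, ZMod.val_zero, pow_zero]

theorem rz_add (a b : ZMod (q E)) : rz E (a + b) = rz E a * rz E b := by
  conv_lhs => rw [← ZMod.natCast_zmod_val a, ← ZMod.natCast_zmod_val b, ← Nat.cast_add, rz_natCast]
  rw [rz, rz, pow_add]

theorem rz_neg (a : ZMod (q E)) : rz E (-a) = (rz E a)⁻¹ := by
  rw [eq_inv_iff_mul_eq_one, ← rz_add, neg_add_cancel, rz_zero]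

theorem rz_sub (a b : ZMod (q E)) : rz E (a - b) = rz E a * (rz E b)⁻¹ := by
  rw [sub_eq_add_neg, rz_add, rz_neg]

theorem rz_injective : Function.Injective (rz E) := fun a b h => by
  rw [rz, rz] at h
  refine ZMod.val_injective _ (pow_injOn_Iio_orderOf ?_ ?_ h) <;>
    simp [E.d.order, ZMod.val_lt]

theorem rz_eq_one {a : ZMod (q E)} : rz E a = 1 ↔ a = 0 := by
  rw [← rz_zero E, (rz_injective E).eq_iff]

theorem rz_hz : rz E (hz E) = E.t := by rw [hz, rz_natCast]; rfl

theorem hz_ne_zero : hz E ≠ 0 := fun h => E.t_ne_one (by rw [← rz_hz, h, rz_zero])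

theorem exists_rz {x : G} (hx : x ∈ zpowers E.d.r) [Finite G] : ∃ a, rz E a = x := by
  obtain ⟨n, rfl⟩ := (mem_powers_iff_mem_zpowers.2 hx : x ∈ Submonoid.powers E.d.r)
  exact ⟨(n : ZMod (q E)), rz_natCast E n⟩

variable [Finite G]

/-- Conjugation by an element of `S` on a rotation. -/
theorem conj_rz {c : G} (hc : c ∈ (E.S : Subgroup G)) (a : ZMod (q E)) :
    c * rz E a * c⁻¹ = if c ∈ zpowers E.d.r then rz E a else rz E (-a) := by
  split_ifs with h
  · rw [E.d.rot_comm h (rz_mem_rot E a), mul_inv_cancel_right]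
  · rw [E.d.refl_inv hc h (rz_mem_rot E a), rz_neg]

theorem card_rot : Nat.card (zpowers E.d.r) = q E := by rw [Nat.card_zpowers, E.d.order]

/-- The number of elements of `S` carrying one rotation to another. -/
theorem card_conj_eq [Fintype G] (a b : ZMod (q E)) :
    (((Finset.univ : Finset G).filter
      (fun c => c ∈ (E.S : Subgroup G) ∧ c * rz E a * c⁻¹ = rz E b)).card : ℂ) =
      q E * ((if a = b then 1 else 0) + (if a = -b then 1 else 0)) := by
  set A := (Finset.univ : Finset G).filter (fun c => c ∈ zpowers E.d.r)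
  set B := (Finset.univ : Finset G).filter
    (fun c => c ∈ (E.S : Subgroup G) ∧ c ∉ zpowers E.d.r)
  have hA : A.card = q E := by
    rw [← card_rot E, Nat.card_eq_fintype_card, Fintype.card_subtype]
  have hB : B.card = q E := by
    rw [← hA]
    refine Finset.card_bij' (fun c _ => c * E.d.a) (fun c _ => c * E.d.a) (fun c hc => ?_)
      (fun c hc => ?_) (fun c _ => ?_) (fun c _ => ?_)
    · obtain ⟨hc1, hc2⟩ := (Finset.mem_filter.1 hc).2
      exact Finset.mem_filter.2 ⟨Finset.mem_univ _,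
        E.d.refl_mul_refl hc1 hc2 E.d.a_mem E.d.a_notMem⟩
    · have hc1 := (Finset.mem_filter.1 hc).2
      exact Finset.mem_filter.2 ⟨Finset.mem_univ _, mul_mem (E.d.rot_le hc1) E.d.a_mem,
        E.d.mul_refl hc1 E.d.a_notMem⟩
    · rw [mul_assoc, E.d.sq, mul_one]
    · rw [mul_assoc, E.d.sq, mul_one]
  have hsplit : ((Finset.univ : Finset G).filter
      (fun c => c ∈ (E.S : Subgroup G) ∧ c * rz E a * c⁻¹ = rz E b)) =
      (if a = b then A else ∅) ∪ (if a = -b then B else ∅) := by
    ext c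
    simp only [Finset.mem_filter, Finset.mem_univ, true_and, Finset.mem_union]
    constructor
    · rintro ⟨hc, h⟩
      rw [conj_rz E hc] at h
      by_cases hr : c ∈ zpowers E.d.r
      · rw [if_pos hr] at h
        exact Or.inl (by rw [if_pos (rz_injective E h)]; simp [A, hr])
      · rw [if_neg hr] at h
        exact Or.inr (by
          rw [if_pos (neg_eq_iff_eq_neg.1 (rz_injective E h))]; simp [B, hr, hc])
    · rintro (h | h)
      · split_ifs at h with hab
        · have hr := (Finset.mem_filter.1 h).2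
          exact ⟨E.d.rot_le hr, by rw [conj_rz E (E.d.rot_le hr), if_pos hr, hab]⟩
        · simp at h
      · split_ifs at h with hab
        · obtain ⟨hc, hr⟩ := (Finset.mem_filter.1 h).2
          exact ⟨hc, by rw [conj_rz E hc, if_neg hr, hab, neg_neg]⟩
        · simp at h
  rw [hsplit, Finset.card_union_of_disjoint ?_]
  · split_ifs <;> simp [hA, hB, mul_add]
  · refine Finset.disjoint_left.2 fun c hc hc' => ?_
    split_ifs at hc hc' <;> simp_all [A, B]

/-- Powers of an element of a coset of `U` in `H`. -/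
theorem exists_pow_eq {v : G} (hv : v ∈ E.U) {s : G} (hs : s ∈ (E.S : Subgroup G)) (n : ℕ) :
    ∃ v' ∈ E.U, (v * s) ^ n = v' * s ^ n := by
  induction n with
  | zero => exact ⟨1, one_mem _, by simp⟩
  | succ n ih =>
    obtain ⟨v', hv', e⟩ := ih
    refine ⟨v' * (s ^ n * v * (s ^ n)⁻¹),
      mul_mem hv' (E.conj_mem_U (pow_mem (E.S_le_H hs) n) hv), ?_⟩
    rw [pow_succ, e, pow_succ]
    group

theorem orderOf_coset {v : G} (hv : v ∈ E.U) {a : ZMod (q E)} (ha : a ≠ 0) :
    (v * rz E a) ^ (orderOf (v * rz E a) / 2) = E.t := by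
  set y := v * rz E a with hy
  have hyH : y ∈ E.H := mul_mem (E.U_le_H hv) (E.S_le_H (rz_mem E a))
  have heven : 2 ∣ orderOf y := by
    by_contra h
    rw [← even_iff_two_dvd, Nat.not_even_iff_odd] at h
    have h1 := E.odd_orderOf_mem_U hyH h
    have h2 := E.eq_one_of_mem_U_S (by simpa [hy] using mul_mem (inv_mem hv) h1) (rz_mem E a)
    exact ha ((rz_eq_one E).1 h2)
  obtain ⟨o, ho⟩ := heven
  have ho0 : 0 < o := by have := orderOf_pos y; omega
  rw [ho, Nat.mul_div_cancel_left _ two_pos]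
  have hz1 : y ^ o ≠ 1 := pow_ne_one_of_lt_orderOf ho0.ne' (by omega)
  have hz2 : y ^ o * y ^ o = 1 := by rw [← pow_add, ← two_mul, ← ho, pow_orderOf_eq_one]
  obtain ⟨v', hv', e⟩ := exists_pow_eq E hv (rz_mem E a) o
  rw [← hy] at e
  set s := rz E a ^ o
  have hs : s ∈ (E.S : Subgroup G) := pow_mem (rz_mem E a) o
  have h2 : v' * (s * v' * s⁻¹) * (s * s) = 1 * 1 := by rw [one_mul, ← hz2, e]; group
  obtain ⟨h3, h4⟩ := E.mul_inj (mul_mem hv' (E.conj_mem_U (E.S_le_H hs) hv')) (one_mem _)
    (mul_mem hs hs) (one_mem _) h2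
  rcases E.d.rot_sq_eq_one (pow_mem (rz_mem_rot E a) o) h4 with h | h
  · rw [show s = 1 from h, mul_one] at e
    refine absurd ?_ hz1
    rw [e] at hz2 ⊢
    have h5 : orderOf v' ∣ 2 := orderOf_dvd_of_pow_eq_one (by rw [pow_two, hz2])
    rw [← orderOf_eq_one_iff]
    exact Nat.eq_one_of_dvd_coprimes (Nat.coprime_two_left.2 (E.mem_U.1 hv').2) h5 dvd_rfl
  · have hc : Commute v' E.d.z := (E.mem_U.1 hv').1
    rw [show s = E.d.z from h, hc.eq.symm, mul_inv_cancel_right] at h3
    have h5 : orderOf v' ∣ 2 := orderOf_dvd_of_pow_eq_one (by rw [pow_two, h3])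
    have h6 : v' = 1 := by
      rw [← orderOf_eq_one_iff]
      exact Nat.eq_one_of_dvd_coprimes (Nat.coprime_two_left.2 (E.mem_U.1 hv').2) h5 dvd_rfl
    rw [e, h6, one_mul]
    exact h

/-- `U(R - 1)` is a trivial intersection set with normaliser in `H`. -/
theorem mem_H_of_conj {v v' g : G} (hv : v ∈ E.U) (hv' : v' ∈ E.U) {a b : ZMod (q E)}
    (ha : a ≠ 0) (hb : b ≠ 0) (h : g * (v * rz E a) * g⁻¹ = v' * rz E b) : g ∈ E.H := by
  have h1 := orderOf_coset E hv' hb
  rw [← h, CfsgLib.Involutions.orderOf_conj_eq, conj_pow, orderOf_coset E hv ha] at h1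
  exact E.mem_H.2 (mul_inv_eq_iff_eq_mul.1 h1)

theorem conj_coset {v y c s : G} (hy : y ∈ E.U) (hv : v ∈ E.U) (hc : c ∈ (E.S : Subgroup G))
    (hs : s ∈ (E.S : Subgroup G)) :
    ∃ v' ∈ E.U, (y * c) * (v * s) * (y * c)⁻¹ = v' * (c * s * c⁻¹) ∧
      v' = y * (c * v * c⁻¹) * ((c * s * c⁻¹) * y⁻¹ * (c * s * c⁻¹)⁻¹) := by
  refine ⟨_, mul_mem (mul_mem hy (E.conj_mem_U (E.S_le_H hc) hv))
    (E.conj_mem_U (E.S_le_H (mul_mem (mul_mem hc hs) (inv_mem hc))) (inv_mem hy)), ?_, rfl⟩
  group

theorem mul_rz_ne_one {v : G} (hv : v ∈ E.U) {a : ZMod (q E)} (ha : a ≠ 0) : v * rz E a ≠ 1 := by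
  intro h
  exact ha ((rz_eq_one E).1 (E.eq_one_of_mem_U_S
    (by rw [eq_inv_of_mul_eq_one_right h]; exact inv_mem hv) (rz_mem E a)))

/-! ### Involutions in the cosets of reflections -/

variable [Fintype G]

/-- The reflection of index `i`. -/
noncomputable def refl (i : ZMod (q E)) : G := rz E i * E.d.a

theorem refl_isRefl (i : ZMod (q E)) : E.Refl (refl E i) :=
  ⟨mul_mem (rz_mem E i) E.d.a_mem, E.d.mul_refl (rz_mem_rot E i) E.d.a_notMem⟩

theorem refl_mul_refl' (i j : ZMod (q E)) : refl E i * refl E j = rz E (i - j) := by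
  have h := E.d.refl_inv E.d.a_mem E.d.a_notMem (rz_mem_rot E j)
  rw [rz_sub, refl, refl, ← h, E.d.a_inv]
  group

theorem refl_injective : Function.Injective (refl E) := fun _ _ h =>
  rz_injective E (mul_right_cancel h)

/-- The involutions in the coset `U · refl i`. -/
noncomputable def invs (i : ZMod (q E)) : Finset G :=
  (Finset.univ : Finset E.U).image fun w : E.U => (w : G) * refl E i * (w : G)⁻¹

theorem mem_invs {i : ZMod (q E)} {x : G} :
    x ∈ invs E i ↔ orderOf x = 2 ∧ ∃ v ∈ E.U, x = v * refl E i := by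
  have hb := refl_isRefl E i
  constructor
  · intro h
    obtain ⟨w, -, rfl⟩ := Finset.mem_image.1 h
    refine ⟨(CfsgLib.Involutions.orderOf_conj_eq _ _).trans hb.orderOf_eq,
      (w : G) * (refl E i * (w : G)⁻¹ * (refl E i)⁻¹),
      mul_mem w.2 (E.conj_mem_U hb.mem_H (inv_mem w.2)), by group⟩
  · rintro ⟨h2, v, hv, rfl⟩
    have h3 := (CfsgLib.Involutions.orderOf_eq_two_iff_mul.1 h2).2
    obtain ⟨m, hm⟩ := (E.mem_U.1 hv).2
    set b := refl E i
    have hinv : b * v * b⁻¹ = v⁻¹ := by
      rw [eq_inv_iff_mul_eq_one]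
      have := congrArg (fun z => b * z * b⁻¹) h3
      simp only [mul_one, mul_inv_cancel] at this
      rw [hb.inv] at this ⊢
      have e : b * (v * b * (v * b)) * b = b * v * b * (v * (b * b)) := by group
      rw [e, hb.sq, mul_one] at this
      exact this
    refine Finset.mem_image.2 ⟨⟨v ^ (m + 1), pow_mem hv _⟩, Finset.mem_univ _, ?_⟩
    show v ^ (m + 1) * b * (v ^ (m + 1))⁻¹ = v * b
    have e : b * (v ^ (m + 1))⁻¹ = v ^ (m + 1) * b := by
      rw [← mul_inv_eq_iff_eq_mul.1 (show b * (v ^ (m + 1))⁻¹ * b⁻¹ = v ^ (m + 1) by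
        rw [← inv_pow, ← conj_pow]
        rw [show b * v⁻¹ * b⁻¹ = (b * v * b⁻¹)⁻¹ by group, hinv, inv_inv])]
    rw [mul_assoc, e, ← mul_assoc, ← pow_add]
    congr 1
    rw [show m + 1 + (m + 1) = orderOf v + 1 by omega, pow_succ, pow_orderOf_eq_one, one_mul]

theorem card_invs (i : ZMod (q E)) :
    (invs E i).card * Nat.card (E.X (refl E i)) = Nat.card E.U := by
  have h := Finset.card_eq_sum_card_image (fun w : E.U => (w : G) * refl E i * (w : G)⁻¹)
    (Finset.univ : Finset E.U)
  rw [Finset.card_univ, ← Nat.card_eq_fintype_card] at h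
  rw [h, Finset.sum_congr rfl (g := fun _ => Nat.card (E.X (refl E i))), Finset.sum_const,
    smul_eq_mul]
  · rfl
  intro x hx
  obtain ⟨w₀, -, rfl⟩ := Finset.mem_image.1 hx
  rw [← Fintype.card_subtype, ← Nat.card_eq_fintype_card]
  refine Nat.card_congr
    { toFun := fun w => ⟨(w₀ : G)⁻¹ * w.1, Subgroup.mem_inf.2
        ⟨E.U.mul_mem (E.U.inv_mem w₀.2) w.1.2, mem_centralizer_singleton_iff.2 ?_⟩⟩
      invFun := fun z => ⟨⟨w₀ * z.1, E.U.mul_mem w₀.2 z.2.1⟩, ?_⟩
      left_inv := fun w => Subtype.ext (Subtype.ext (by simp))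
      right_inv := fun z => Subtype.ext (by simp) }
  · have h1 := w.2
    calc (w₀ : G)⁻¹ * w.1 * refl E i =
        (w₀ : G)⁻¹ * ((w.1 : G) * refl E i * (w.1 : G)⁻¹) * w.1 := by group
      _ = _ := by rw [h1]; group
  · have h1 : (z : G) * refl E i = refl E i * z := mem_centralizer_singleton_iff.1 z.2.2
    show (w₀ : G) * z * refl E i * ((w₀ : G) * z)⁻¹ = _
    rw [mul_assoc (w₀ : G), h1]
    group

theorem card_X_conj {b : G} (hb : E.Refl b) {s : G} (hs : s ∈ (E.S : Subgroup G)) :
    Nat.card (E.X (s * b * s⁻¹)) = Nat.card (E.X b) := by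
  refine Nat.card_congr
    { toFun := fun z => ⟨s⁻¹ * z * s, by
        simpa using E.conj_mem_U (inv_mem (E.S_le_H hs)) z.2.1, mem_centralizer_singleton_iff.2 ?_⟩
      invFun := fun z => ⟨s * z * s⁻¹, E.conj_mem_U (E.S_le_H hs) z.2.1,
        mem_centralizer_singleton_iff.2 ?_⟩
      left_inv := fun z => Subtype.ext (by simp [mul_assoc])
      right_inv := fun z => Subtype.ext (by simp [mul_assoc]) }
  · have h1 : (z : G) * (s * b * s⁻¹) = (s * b * s⁻¹) * z := mem_centralizer_singleton_iff.1 z.2.2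
    calc s⁻¹ * (z : G) * s * b = s⁻¹ * ((z : G) * (s * b * s⁻¹)) * s := by group
      _ = _ := by rw [h1]; group
  · have h1 : (z : G) * b = b * z := mem_centralizer_singleton_iff.1 z.2.2
    calc s * (z : G) * s⁻¹ * (s * b * s⁻¹) = s * ((z : G) * b) * s⁻¹ := by group
      _ = _ := by rw [h1]; group

/-- The orders of the two centralisers of four-groups, by parity. -/
theorem card_X_refl (i : ZMod (q E)) :
    Nat.card (E.X (refl E i)) =
      if Even i.val then Nat.card (E.X E.d.a) else Nat.card (E.X (E.d.r * E.d.a)) := by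
  have key : ∀ (j : ℕ) (b : G), E.Refl b → Nat.card (E.X (E.d.r ^ (j + j) * b)) =
      Nat.card (E.X b) := by
    intro j b hb
    have h := E.d.refl_inv hb.1 hb.2 (pow_mem (mem_zpowers E.d.r) j)
    rw [show E.d.r ^ (j + j) * b = E.d.r ^ j * b * (E.d.r ^ j)⁻¹ by
      rw [← h, pow_add, hb.inv]
      calc E.d.r ^ j * E.d.r ^ j * b = E.d.r ^ j * (1 * E.d.r ^ j * b) := by group
        _ = _ := by rw [← hb.sq]; group]
    exact card_X_conj E hb (pow_mem E.d.r_mem j)
  split_ifs with h
  · obtain ⟨j, hj⟩ := h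
    rw [refl, rz, hj]
    exact key j _ E.refl_a
  · obtain ⟨j, hj⟩ := Nat.not_even_iff_odd.1 h
    rw [refl, rz, hj, show 2 * j + 1 = j + j + 1 by ring, pow_succ, mul_assoc]
    exact key j _ ⟨mul_mem E.d.r_mem E.d.a_mem, E.d.mul_refl (mem_zpowers _) E.d.a_notMem⟩

/-- The set of products. -/
noncomputable def target (a : ZMod (q E)) : Finset G :=
  (Finset.univ : Finset E.U).image fun v : E.U => ((v : G) * rz E a)⁻¹

/-- Every involution of `H` other than `t` with product with another one in `U(R-1)` lies in a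
coset of reflections. -/
theorem card_pairs (a : ZMod (q E)) (ha : a ≠ 0) :
    (CfsgLib.ClassCount.pairs E.t E.t (target E a)).card =
      ∑ i : ZMod (q E), (invs E i).card * (invs E (i + a)).card := by
  have hset : CfsgLib.ClassCount.pairs E.t E.t (target E a) =
      Finset.univ.biUnion fun i => invs E i ×ˢ invs E (i + a) := by
    ext ⟨x, w⟩
    simp only [CfsgLib.ClassCount.pairs, Finset.mem_filter, Finset.mem_product, Finset.mem_biUnion,
      Finset.mem_univ, true_and, CfsgLib.ClassCount.mem_cls, target, Finset.mem_image]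
    constructor
    · rintro ⟨⟨hx, hw⟩, v, hv⟩
      have horder : ∀ z, IsConj E.t z → orderOf z = 2 := fun z hz => by
        obtain ⟨c, rfl⟩ := isConj_iff.1 hz
        rw [CfsgLib.Involutions.orderOf_conj_eq, E.orderOf_t]
      have hx2 := horder x hx
      have hw2 := horder w hw
      have hxx := (CfsgLib.Involutions.orderOf_eq_two_iff_mul.1 hx2).2
      have hww := (CfsgLib.Involutions.orderOf_eq_two_iff_mul.1 hw2).2
      have hwx : w * x = (v : G) * rz E a := by
        have := congrArg (·⁻¹) hv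
        simp only [inv_inv, mul_inv_rev, inv_eq_of_mul_eq_one_right hxx,
          inv_eq_of_mul_eq_one_right hww] at this
        exact this.symm
      -- `x` inverts the product, so it lies in `H`
      have hxH : x ∈ E.H := by
        refine mem_H_of_conj E v.2
          (v' := (rz E a)⁻¹ * (v : G)⁻¹ * rz E a)
          (by simpa using E.conj_mem_U (inv_mem (E.S_le_H (rz_mem E a))) (inv_mem v.2))
          (g := x) ha (neg_ne_zero.2 ha) ?_
        rw [← hwx, rz_neg, inv_eq_of_mul_eq_one_right hxx]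
        rw [show (rz E a)⁻¹ * (v : G)⁻¹ * rz E a * (rz E a)⁻¹ = ((v : G) * rz E a)⁻¹ by group,
          ← hwx, mul_inv_rev, inv_eq_of_mul_eq_one_right hxx, inv_eq_of_mul_eq_one_right hww]
        rw [show x * (w * x) * x = x * w * (x * x) by group, hxx, mul_one]
      have hwH : w ∈ E.H := by
        rw [show w = (v : G) * rz E a * x by rw [← hwx, mul_assoc, hxx, mul_one]]
        exact mul_mem (mul_mem (E.U_le_H v.2) (E.S_le_H (rz_mem E a))) hxH
      obtain ⟨y, hy, s, hs, rfl⟩ := E.exists_mul hxH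
      obtain ⟨y', hy', s', hs', rfl⟩ := E.exists_mul hwH
      have hmul : (y' * (s' * y * s'⁻¹)) * (s' * s) = (v : G) * rz E a := by
        rw [← hwx]; group
      obtain ⟨-, hss⟩ := E.mul_inj (mul_mem hy' (E.conj_mem_U (E.S_le_H hs') hy)) v.2
        (mul_mem hs' hs) (rz_mem E a) hmul
      have hrot : ∀ z y, y ∈ E.U → z ∈ zpowers E.d.r → orderOf (y * z) = 2 →
          z = E.t := by
        intro z y hy hz h2
        obtain ⟨c, rfl⟩ := exists_rz E hz
        by_cases hc : c = 0
        · exfalso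
          rw [hc, rz_zero, mul_one] at h2
          have := (E.mem_U.1 hy).2
          rw [h2] at this
          exact absurd this (by decide)
        · have := orderOf_coset E hy hc
          rw [h2, show (2 : ℕ) / 2 = 1 from rfl, pow_one] at this
          exact (E.mul_inj hy (one_mem _) (rz_mem E c) E.t_mem_S (by rw [this, one_mul])).2
      have hsr : s ∉ zpowers E.d.r := by
        intro hr
        have hst := hrot s y hy hr hx2
        have hs'r : s' ∈ zpowers E.d.r := by
          rw [show s' = rz E a * s⁻¹ by rw [← hss, mul_inv_cancel_right]]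
          exact mul_mem (rz_mem_rot E a) (inv_mem hr)
        have hs't := hrot s' y' hy' hs'r hw2
        rw [hst, hs't, E.t_sq] at hss
        exact ha ((rz_eq_one E).1 hss.symm)
      have hs'r : s' ∉ zpowers E.d.r := fun hr => hsr (by
        rw [show s = s'⁻¹ * rz E a by rw [← hss, inv_mul_cancel_left]]
        exact mul_mem (inv_mem hr) (rz_mem_rot E a))
      obtain ⟨i, hi⟩ := exists_rz E ((E.d.cases s hs).resolve_left hsr)
      obtain ⟨j, hj⟩ := exists_rz E ((E.d.cases s' hs').resolve_left hs'r)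
      have hsi : s = refl E i := by rw [refl, hi, mul_assoc, E.d.sq, mul_one]
      have hsj : s' = refl E j := by rw [refl, hj, mul_assoc, E.d.sq, mul_one]
      have hij : j = i + a := by
        rw [hsi, hsj, refl_mul_refl'] at hss
        rw [← rz_injective E hss]; ring
      exact ⟨i, (mem_invs E).2 ⟨hx2, y, hy, by rw [← hsi]⟩,
        (mem_invs E).2 ⟨hw2, y', hy', by rw [← hij, ← hsj]⟩⟩
    · rintro ⟨i, hx, hw⟩
      obtain ⟨hx2, y, hy, rfl⟩ := (mem_invs E).1 hx
      obtain ⟨hw2, y', hy', rfl⟩ := (mem_invs E).1 hw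
      have hcl : ∀ z, orderOf z = 2 → IsConj E.t z := fun z hz =>
        isConj_iff.2 (E.exists_conj hz)
      refine ⟨⟨hcl _ hx2, hcl _ hw2⟩,
        ⟨y' * (refl E (i + a) * y * (refl E (i + a))⁻¹),
          mul_mem hy' (E.conj_mem_U (refl_isRefl E _).mem_H hy)⟩, ?_⟩
      have hxi := inv_eq_of_mul_eq_one_right (CfsgLib.Involutions.orderOf_eq_two_iff_mul.1 hx2).2
      have hwi := inv_eq_of_mul_eq_one_right (CfsgLib.Involutions.orderOf_eq_two_iff_mul.1 hw2).2
      show (y' * (refl E (i + a) * y * (refl E (i + a))⁻¹) * rz E a)⁻¹ =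
        y * refl E i * (y' * refl E (i + a))
      rw [inv_eq_iff_eq_inv, mul_inv_rev, hxi, hwi,
        show rz E a = refl E (i + a) * refl E i by rw [refl_mul_refl', add_sub_cancel_left]]
      group
  rw [hset, Finset.card_biUnion ?_]
  · simp [Finset.card_product]
  · intro i _ j _ hij
    refine Finset.disjoint_left.2 fun ⟨x, w⟩ h h' => hij ?_
    obtain ⟨-, y, hy, e⟩ := (mem_invs E).1 (Finset.mem_product.1 h).1
    obtain ⟨-, y', hy', e'⟩ := (mem_invs E).1 (Finset.mem_product.1 h').1
    exact refl_injective E (E.mul_inj hy hy' (refl_isRefl E i).1 (refl_isRefl E j).1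
      (e.symm.trans e')).2

end CfsgLib.GW.ThetaRot
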