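import Cfsg.Agent.Lib.GWCons.OuterTorus
import Cfsg.Agent.Lib.SL2Tori.Basic

/-!
Centralisers of involutions of `PGL₂(q)`, `q` odd, as traceless matrices: the torus, the inverting
coset, uniqueness of tori.
-/

set_option autoImplicit false
set_option linter.unusedSectionVars false

open Matrix

namespace CfsgLib.GW.TopModel

open CfsgLib.PSL2 CfsgLib.GWCons.OuterTorus

variable {F : Type*} [Field F] [Fintype F]

local notation "M2" => Matrix (Fin 2) (Fin 2) F
local notation "PGL" => ProjGenLinGroup (Fin 2) F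

theorem pmk_mul_self {M : M2} (hM : M.trace = 0) (hd : M.det ≠ 0) : pmk M hd * pmk M hd = 1 := by
  rw [pmk_mul, pmk_eq_one_iff]
  exact ⟨-M.det, sq_eq_of_trace M hM⟩

theorem pmk_ne_one (h2 : (2 : F) ≠ 0) {M : M2} (hM : M.trace = 0) (hd : M.det ≠ 0) :
    pmk M hd ≠ 1 := fun e => by
  obtain ⟨c, hc⟩ := pmk_eq_one_iff.1 e
  exact ne_scalar_of_trace h2 hM hd c hc

theorem trace_eq_zero_of_involution {A : M2} {hA : A.det ≠ 0} (hsq : pmk A hA * pmk A hA = 1)
    (hne : pmk A hA ≠ 1) : A.trace = 0 := by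
  by_contra ht
  rw [pmk_mul, pmk_eq_one_iff] at hsq
  obtain ⟨c, hc⟩ := hsq
  refine hne (pmk_eq_one_iff.2 ⟨(A.trace)⁻¹ * (c + A.det), ?_⟩)
  have h1 : A.trace • A = (c + A.det) • 1 := by
    rw [add_smul, ← hc, trace_mul_self A, sub_add_cancel]
  rw [← smul_smul, ← h1, smul_smul, inv_mul_cancel₀ ht, one_smul]

/-- Elements of the torus through a matrix. -/
def InTorus (M : M2) (g : PGL) : Prop :=
  ∃ (x y : F) (h : (x • 1 + y • M).det ≠ 0), g = pmk (x • 1 + y • M) h

theorem InTorus.one (M : M2) : InTorus M (1 : PGL) := by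
  have e : (1 : F) • (1 : M2) + (0 : F) • M = 1 := by simp
  refine ⟨1, 0, by rw [e]; simp, ?_⟩
  symm
  rw [pmk_eq_one_iff]
  exact ⟨1, by simp⟩

theorem InTorus.self (M : M2) (hd : M.det ≠ 0) : InTorus M (pmk M hd) := by
  refine ⟨0, 1, by simpa using hd, ?_⟩
  rw [pmk_eq_iff]
  exact ⟨1, by simp⟩

theorem InTorus.mul {M : M2} (hM : M.trace = 0) {a b : PGL} (ha : InTorus M a) (hb : InTorus M b) :
    InTorus M (a * b) := by
  obtain ⟨x, y, h, rfl⟩ := ha
  obtain ⟨x', y', h', rfl⟩ := hb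
  refine ⟨x * x' + -M.det * y * y', x * y' + y * x', ?_, ?_⟩
  · rw [← lin_mul M hM, det_mul]; exact mul_ne_zero h h'
  · rw [pmk_mul, pmk_eq_iff]
    exact ⟨1, by rw [one_smul, lin_mul M hM]⟩

theorem InTorus.commute {M : M2} {a b : PGL} (ha : InTorus M a) (hb : InTorus M b) :
    Commute a b := by
  obtain ⟨x, y, h, rfl⟩ := ha
  obtain ⟨x', y', h', rfl⟩ := hb
  show _ * _ = _ * _
  rw [pmk_mul, pmk_mul, pmk_eq_iff]
  refine ⟨1, ?_⟩
  simp only [one_smul, add_mul, mul_add, Matrix.smul_mul, Matrix.mul_smul, Matrix.one_mul,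
    Matrix.mul_one, smul_smul]
  module

theorem InTorus.inv {M : M2} (hM : M.trace = 0) {a : PGL} (ha : InTorus M a) :
    InTorus M a⁻¹ := by
  obtain ⟨x, y, h, rfl⟩ := ha
  have hd : (x • 1 + (-y) • M).det ≠ 0 := by
    rw [det_lin M hM, neg_sq, ← det_lin M hM]; exact h
  refine ⟨x, -y, hd, ?_⟩
  rw [inv_eq_iff_mul_eq_one, pmk_mul, pmk_eq_one_iff, lin_mul M hM]
  exact ⟨x * x + -M.det * y * -y, by
    rw [show x * -y + y * x = 0 by ring, zero_smul, add_zero]⟩

/-- An involution of the torus is its centre. -/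
theorem InTorus.involution (h2 : (2 : F) ≠ 0) {M : M2} (hM : M.trace = 0) (hd : M.det ≠ 0)
    {a : PGL} (ha : InTorus M a) (hsq : a * a = 1) (hne : a ≠ 1) : a = pmk M hd := by
  obtain ⟨x, y, h, rfl⟩ := ha
  have ht := trace_eq_zero_of_involution hsq hne
  rw [Matrix.trace_add, Matrix.trace_smul, Matrix.trace_smul, hM, Matrix.trace_one] at ht
  have hx : x = 0 := by simpa [h2] using ht
  subst hx
  have hy : y ≠ 0 := fun e => h (by subst e; simp)
  rw [pmk_eq_iff]
  exact ⟨y⁻¹, by rw [zero_smul, zero_add, inv_smul_smul₀ hy]⟩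

/-- The elements commuting with an involution. -/
theorem cent_cases (h2 : (2 : F) ≠ 0) {M : M2} (hM : M.trace = 0) (hd : M.det ≠ 0) {g : PGL}
    (hg : Commute g (pmk M hd)) :
    InTorus M g ∨ (∃ (N : M2) (hN : N.det ≠ 0), g = pmk N hN ∧ N.trace = 0 ∧ N * M = -(M * N)) := by
  obtain ⟨A, hA, rfl⟩ := pmk_surjective g
  have hg' : pmk A hA * pmk M hd = pmk M hd * pmk A hA := hg
  rw [pmk_mul, pmk_mul] at hg'
  obtain ⟨c, hc⟩ := pmk_eq_iff.1 hg'
  have hc2 : c * c = 1 := by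
    have := congrArg Matrix.det hc
    rw [Matrix.det_smul, det_mul, det_mul, Fintype.card_fin] at this
    have h3 : (c ^ 2 - 1) * (A.det * M.det) = 0 := by linear_combination this
    have := (mul_eq_zero.1 h3).resolve_right (mul_ne_zero hA hd)
    linear_combination this
  rcases mul_self_eq_mul_self_iff.1 (hc2.trans (one_mul 1).symm) with rfl | rfl
  · left
    rw [one_smul] at hc
    obtain ⟨x, y, rfl⟩ := CfsgLib.SL2Tori.commutant (ne_scalar_of_trace h2 hM hd) hc
    exact ⟨x, y, hA, rfl⟩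
  · right
    rw [neg_one_smul, neg_eq_iff_eq_neg] at hc
    refine ⟨A, hA, rfl, ?_, hc⟩
    have h1 : (A * M * M).trace = -(A * M * M).trace := by
      conv_lhs => rw [hc, Matrix.neg_mul, Matrix.trace_neg, ← Matrix.trace_mul_cycle A M M]
    rw [mul_assoc, sq_eq_of_trace M hM, Matrix.mul_smul, Matrix.mul_one, Matrix.trace_smul,
      smul_eq_mul] at h1
    have h3 : (2 * -M.det) * A.trace = 0 := by linear_combination h1
    exact (mul_eq_zero.1 h3).resolve_left (mul_ne_zero h2 (neg_ne_zero.2 hd))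

/-- Anticommuting elements are involutions inverting the torus. -/
theorem anti_facts (h2 : (2 : F) ≠ 0) {M N : M2} (hM : M.trace = 0) (hd : M.det ≠ 0)
    (hN : N.trace = 0) (hNd : N.det ≠ 0) (h : N * M = -(M * N)) :
    Commute (pmk N hNd) (pmk M hd) ∧ ¬ InTorus M (pmk N hNd) ∧
      ∀ a, InTorus M a → pmk N hNd * a * (pmk N hNd)⁻¹ = a⁻¹ := by
  refine ⟨?_, ?_, ?_⟩
  · show _ * _ = _ * _
    rw [pmk_mul, pmk_mul, pmk_eq_iff]
    exact ⟨-1, by rw [neg_one_smul, h, neg_neg]⟩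
  · intro hT
    have e := hT.involution h2 hM hd (pmk_mul_self hN hNd) (pmk_ne_one h2 hN hNd)
    obtain ⟨c, hc⟩ := pmk_eq_iff.1 e
    rw [← hc, Matrix.mul_smul, Matrix.smul_mul] at h
    have hc0 : c ≠ 0 := fun e' => hd (by rw [← hc, e', zero_smul]; simp)
    have h3 : (2 * c) • (N * N) = 0 := by
      rw [← sub_eq_zero.2 h]
      module
    rw [sq_eq_of_trace N hN, smul_smul] at h3
    have := (smul_eq_zero.1 h3).resolve_right one_ne_zero
    exact mul_ne_zero (mul_ne_zero h2 hc0) (neg_ne_zero.2 hNd) this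
  · rintro a ⟨x, y, ha, rfl⟩
    refine eq_inv_of_mul_eq_one_left ?_
    rw [inv_eq_of_mul_eq_one_right (pmk_mul_self hN hNd), pmk_mul, pmk_mul, pmk_mul, pmk_eq_one_iff]
    refine ⟨-N.det * (x * x + -M.det * (-y) * y), ?_⟩
    have e : N * (x • 1 + y • M) = (x • 1 + (-y) • M) * N := by
      simp only [mul_add, add_mul, Matrix.mul_smul, Matrix.smul_mul, Matrix.mul_one, Matrix.one_mul,
        h]
      module
    calc N * (x • 1 + y • M) * N * (x • 1 + y • M)
        = (x • 1 + (-y) • M) * (N * N) * (x • 1 + y • M) := by rw [e]; simp only [mul_assoc]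
      _ = _ := by
          rw [sq_eq_of_trace N hN, Matrix.mul_smul, Matrix.mul_one, Matrix.smul_mul, lin_mul M hM,
            show x * y + -y * x = 0 by ring, zero_smul, add_zero, smul_smul]

/-- An element centralising two distinct commuting involutions has square one. -/
theorem sq_eq_one_of_two (h2 : (2 : F) ≠ 0) {g a b : PGL} (ha : a * a = 1) (ha1 : a ≠ 1)
    (hb : b * b = 1) (hb1 : b ≠ 1) (hab : Commute a b) (hne : a ≠ b) (hga : Commute g a)
    (hgb : Commute g b) : g * g = 1 := by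
  obtain ⟨A, hA, rfl⟩ := pmk_surjective a
  have hAt := trace_eq_zero_of_involution ha ha1
  rcases cent_cases h2 hAt hA hga with hg | ⟨N, hN, rfl, hNt, -⟩
  · rcases cent_cases h2 hAt hA hab.symm with hbT | ⟨B, hB, rfl, hBt, hBA⟩
    · exact absurd (hbT.involution h2 hAt hA hb hb1).symm hne
    · have e := (anti_facts h2 hAt hA hBt hB hBA).2.2 g hg
      rw [← hgb.eq, mul_inv_cancel_right] at e
      exact mul_eq_one_iff_eq_inv.2 e
  · exact pmk_mul_self hNt hN

/-- Elements of the torus of order at least three determine it. -/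
theorem InTorus.of_commute (h2 : (2 : F) ≠ 0) {M : M2} (hM : M.trace = 0) (hd : M.det ≠ 0)
    {z g : PGL} (hz : InTorus M z) (hz2 : z * z ≠ 1) (hg : Commute g z) : InTorus M g := by
  obtain ⟨x, y, h, rfl⟩ := hz
  obtain ⟨A, hA, rfl⟩ := pmk_surjective g
  have hy : y ≠ 0 := by
    rintro rfl
    refine hz2 ?_
    have : pmk (x • 1 + (0 : F) • M) h = 1 := pmk_eq_one_iff.2 ⟨x, by simp⟩
    rw [this, one_mul]
  have hx : x ≠ 0 := by
    rintro rfl
    refine hz2 ?_
    rw [pmk_mul, pmk_eq_one_iff]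
    exact ⟨-M.det * y * y, by
      rw [lin_mul M hM, show 0 * y + y * 0 = (0 : F) by ring, zero_smul, add_zero, zero_mul, zero_add]⟩
  have hg' : pmk A hA * pmk (x • 1 + y • M) h = pmk (x • 1 + y • M) h * pmk A hA := hg
  rw [pmk_mul, pmk_mul] at hg'
  obtain ⟨c, hc⟩ := pmk_eq_iff.1 hg'
  obtain ⟨u, hu⟩ : IsUnit A := (Matrix.isUnit_iff_isUnit_det A).2 (Ne.isUnit hA)
  subst hu
  have hc1 : c = 1 := by
    have h1 := congrArg (fun X => (X * ((u⁻¹ : (M2)ˣ) : M2)).trace) hc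
    simp only [Matrix.smul_mul, Matrix.trace_smul] at h1
    rw [mul_assoc (x • 1 + y • M) (u : M2), Units.mul_inv, mul_one, Matrix.trace_mul_comm,
      ← mul_assoc, Units.inv_mul, one_mul, Matrix.trace_add, Matrix.trace_smul, Matrix.trace_smul,
      hM, Matrix.trace_one] at h1
    simp only [smul_eq_mul, Fintype.card_fin, Nat.cast_ofNat, mul_zero, add_zero] at h1
    exact mul_right_cancel₀ (mul_ne_zero hx h2) (h1.trans (one_mul _).symm)
  subst hc1
  rw [one_smul, mul_add, add_mul, Matrix.mul_smul, Matrix.mul_smul, Matrix.smul_mul,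
    Matrix.smul_mul, Matrix.one_mul, Matrix.mul_one, add_right_inj] at hc
  obtain ⟨x', y', e⟩ := CfsgLib.SL2Tori.commutant (ne_scalar_of_trace h2 hM hd)
    (smul_right_injective M2 hy hc)
  exact ⟨x', y', by rw [← e]; exact hA, pmk_eq_iff.2 ⟨1, by rw [one_smul, e]⟩⟩

/-- The normaliser of a subgroup of the torus fixes the involution. -/
theorem commute_of_conj (h2 : (2 : F) ≠ 0) {M : M2} (hM : M.trace = 0) (hd : M.det ≠ 0)
    {z g : PGL} (hz : InTorus M z) (hz2 : z * z ≠ 1) (hg : InTorus M (g * z * g⁻¹)) :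
    Commute g (pmk M hd) := by
  have hm := InTorus.of_commute h2 hM hd (z := g * z * g⁻¹) (g := g * pmk M hd * g⁻¹) hg ?_ ?_
  · have e := hm.involution h2 hM hd ?_ ?_
    · exact mul_inv_eq_iff_eq_mul.1 e
    · rw [show g * pmk M hd * g⁻¹ * (g * pmk M hd * g⁻¹) = g * (pmk M hd * pmk M hd) * g⁻¹ by group,
        pmk_mul_self hM hd, mul_one, mul_inv_cancel]
    · rw [ne_eq, conj_eq_one_iff]; exact pmk_ne_one h2 hM hd
  · rw [show g * z * g⁻¹ * (g * z * g⁻¹) = g * (z * z) * g⁻¹ by group, ne_eq, conj_eq_one_iff]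
    exact hz2
  · show _ * _ = _ * _
    rw [show g * pmk M hd * g⁻¹ * (g * z * g⁻¹) = g * (pmk M hd * z) * g⁻¹ by group,
      ((InTorus.self M hd).commute hz).eq]
    group

/-- An anticommuting invertible traceless matrix exists. -/
theorem exists_anti (h2 : (2 : F) ≠ 0) {M : M2} (hM : M.trace = 0) (hd : M.det ≠ 0) :
    ∃ N : M2, N.det ≠ 0 ∧ N.trace = 0 ∧ N * M = -(M * N) := by
  obtain ⟨a, b, c, rfl⟩ : ∃ a b c : F, M = !![a, b; c, -a] := by
    refine ⟨M 0 0, M 0 1, M 1 0, ?_⟩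
    rw [Matrix.trace_fin_two] at hM
    conv_lhs => rw [Matrix.eta_fin_two M, show M 1 1 = -M 0 0 by linear_combination hM]
  suffices ∃ α β γ : F, 2 * a * α + b * γ + c * β = 0 ∧ -(α * α) - β * γ ≠ 0 by
    obtain ⟨α, β, γ, h1, h3⟩ := this
    refine ⟨!![α, β; γ, -α], by simpa [Matrix.det_fin_two] using h3,
      by simp [Matrix.trace_fin_two], ?_⟩
    rw [Matrix.mul_fin_two, Matrix.mul_fin_two]
    ext i j
    fin_cases i <;> fin_cases j <;>
      simp <;>
      first
      | linear_combination h1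
      | ring
  by_cases hb : b = 0
  · by_cases hc : c = 0
    · exact ⟨0, 1, 1, by rw [hb, hc]; ring, by simp⟩
    · exact ⟨c, -(2 * a), 0, by rw [hb]; ring, by simpa using hc⟩
  · exact ⟨b, 0, -(2 * a), by ring, by simpa using hb⟩

/-- Two traceless matrices with determinants in the same square class are conjugate in `PGL₂`. -/
theorem exists_conj (h2 : (2 : F) ≠ 0) {M M' : M2} (hM : M.trace = 0) (hd : M.det ≠ 0)
    (hM' : M'.trace = 0) (hd' : M'.det ≠ 0) (hsq : IsSquare (M'.det / M.det)) :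
    ∃ g : PGL, g * pmk M hd * g⁻¹ = pmk M' hd' := by
  have comp : ∀ (A : M2), A.trace = 0 → A.det ≠ 0 →
      ∃ P : M2, P.det ≠ 0 ∧ A * P = P * !![0, -A.det; 1, 0] := by
    intro A hA hAd
    have h11 : A 1 1 = -A 0 0 := by
      rw [Matrix.trace_fin_two] at hA
      linear_combination hA
    have hdet : A.det = -(A 0 0 * A 0 0) - A 0 1 * A 1 0 := by
      rw [Matrix.det_fin_two, h11]; ring
    obtain ⟨v, w, hvw⟩ : ∃ v w : F,
        v * (A 1 0 * v + A 1 1 * w) - w * (A 0 0 * v + A 0 1 * w) ≠ 0 := by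
      by_cases hc : A 1 0 = 0
      · by_cases hb : A 0 1 = 0
        · refine ⟨1, 1, ?_⟩
          rw [hdet, hb, zero_mul, sub_zero, neg_ne_zero] at hAd
          rw [hb, hc, h11]
          have := mul_ne_zero h2 (left_ne_zero_of_mul hAd)
          intro e; exact this (by linear_combination -e)
        · exact ⟨0, 1, by simpa using hb⟩
      · exact ⟨1, 0, by simpa using hc⟩
    refine ⟨!![v, A 0 0 * v + A 0 1 * w; w, A 1 0 * v + A 1 1 * w], ?_, ?_⟩
    · rw [Matrix.det_fin_two_of]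
      intro e; exact hvw (by linear_combination e)
    · conv_lhs => rw [Matrix.eta_fin_two A]
      rw [Matrix.mul_fin_two, Matrix.mul_fin_two, hdet, h11]
      ext i j
      fin_cases i <;> fin_cases j <;> simp <;> ring
  obtain ⟨s, hs⟩ := hsq
  have hs0 : s ≠ 0 := fun e => by
    rw [e, mul_zero, div_eq_zero_iff] at hs
    exact hs.elim hd' hd
  have hsd : (s • M).det = M'.det := by
    rw [Matrix.det_smul, Fintype.card_fin, pow_two, ← hs, div_mul_cancel₀ _ hd]
  have hsd' : (s • M).det ≠ 0 := hsd.symm ▸ hd'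
  obtain ⟨P, hP, eP⟩ := comp (s • M) (by rw [Matrix.trace_smul, hM, smul_zero]) hsd'
  obtain ⟨Q, hQ, eQ⟩ := comp M' hM' hd'
  rw [hsd] at eP
  have e1 : pmk M hd = pmk (s • M) hsd' := pmk_eq_iff.2 ⟨s, rfl⟩
  have hC : (!![0, -M'.det; 1, 0] : M2).det ≠ 0 := by simpa [Matrix.det_fin_two] using hd'
  have eP' : pmk (s • M) hsd' * pmk P hP = pmk P hP * pmk _ hC := by
    rw [pmk_mul, pmk_mul, pmk_eq_iff]; exact ⟨1, by rw [one_smul, eP]⟩
  have eQ' : pmk M' hd' * pmk Q hQ = pmk Q hQ * pmk _ hC := by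
    rw [pmk_mul, pmk_mul, pmk_eq_iff]; exact ⟨1, by rw [one_smul, eQ]⟩
  refine ⟨pmk Q hQ * (pmk P hP)⁻¹, ?_⟩
  calc pmk Q hQ * (pmk P hP)⁻¹ * pmk M hd * (pmk Q hQ * (pmk P hP)⁻¹)⁻¹
      = pmk Q hQ * ((pmk P hP)⁻¹ * (pmk (s • M) hsd' * pmk P hP)) * (pmk Q hQ)⁻¹ := by
        rw [e1]; group
    _ = _ := by rw [eP', inv_mul_cancel_left, ← eQ', mul_inv_cancel_right]

end CfsgLib.GW.TopModel
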