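import Cfsg.Agent.Lib.GW.Setup

/-!
Gorenstein–Walter, Step 3.1 (e) for Sylow four-groups: the data of the abelian subgroup
`A = Z(R) O' C` of `O(C(t))` inverted by a reflection, as consumed by the torus lemma.
-/

set_option autoImplicit false
set_option linter.unusedSectionVars false

namespace CfsgLib.GW.Max31

open Subgroup

universe u

variable {G : Type u} [Group G]

/-- In the notation of Step 3.1 (e): `A = Z(R) O' C`, `T = Z(R) O'`, `N = F(U)`, and `K` a maximal
subgroup containing the normaliser of `X b = ⟨e⟩`. -/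
structure TorusData (E : Setup G) (b : G) (r : ℕ) where
  A : Subgroup G
  T : Subgroup G
  N : Subgroup G
  K : Subgroup G
  coatom : IsCoatom E.H
  four : E.d.k = 0
  refl : E.Refl b
  prime : r.Prime
  A_le : A ≤ E.U
  inverted : ∀ x ∈ A, b * x * b = x⁻¹
  /-- `C` acts fixed point freely and `b`-irreducibly on `R / Z(R)`. -/
  between : ∀ L : Subgroup G, A ≤ L → L ≤ E.U → (∀ x ∈ L, b * x * b ∈ L) → L = A ∨ L = E.U
  T_le : T ≤ A
  dvd_T : r ∣ Nat.card T
  /-- The nontrivial elements of `Z(R) O'` generate normal subgroups of `H`. -/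
  T_centralizer : ∀ y ∈ T, y ≠ 1 → centralizer ({y} : Set G) ≤ E.H
  A_inf_N : A ⊓ N ≤ T
  N_le : N ≤ E.U
  N_normal : (N.subgroupOf E.U).Normal
  N_primary : ∀ x ∈ N, (orderOf x).Coprime r → x ∈ T
  gen : ∃ c ∈ E.U, ∀ u ∈ E.U, ∃ i : ℕ, (c ^ i)⁻¹ * u ∈ N
  index_le : 2 * N.relIndex E.U ≤ r + 1
  K_ne_top : K ≠ ⊤
  T_le_K : T ≤ K
  X_ne : E.X b ≠ ⊥
  X_normalizer : normalizer (E.X b : Set G) ≤ K

end CfsgLib.GW.Max31
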