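import Cfsg.Agent.Lib.GW.Basic

/-!
Gorenstein–Walter, two-prime uniqueness: an abelian group inverted by an involution `t`, moved
without fixed points by a group of odd order centralising `t` and the fixed points of `t` on `P`,
centralises `P`.
-/

set_option autoImplicit false
set_option linter.style.haveILetI false
set_option linter.unusedSectionVars false

namespace CfsgLib.GW.UniqTwoAct

open Subgroup

universe u

variable {G : Type u} [Group G]

/-- The hypotheses. -/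
structure Data (A Y P : Subgroup G) (t : G) : Prop where
  oddA : Odd (Nat.card A)
  oddY : Odd (Nat.card Y)
  oddP : Odd (Nat.card P)
  copAP : (Nat.card A).Coprime (Nat.card P)
  copAY : (Nat.card Y).Coprime (Nat.card A)
  commA : ∀ a ∈ A, ∀ a' ∈ A, Commute a a'
  tt : t * t = 1
  invA : ∀ a ∈ A, t * a * t = a⁻¹
  normY : ∀ y ∈ Y, ∀ a ∈ A, y * a * y⁻¹ ∈ A
  fixY : ∀ a ∈ A, (∀ y ∈ Y, Commute y a) → a = 1
  commY : ∀ y ∈ Y, Commute y t
  fixP : ∀ y ∈ Y, ∀ x ∈ P, t * x * t = x → Commute y x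

variable {A Y P : Subgroup G} {t : G}

/-- An element is trivial if a power of it is, and the exponent is prime to its order. -/
theorem eq_one_of_pow {X : Subgroup G} {x : G} (hx : x ∈ X) {n : ℕ}
    (hn : n.Coprime (Nat.card X)) (h : x ^ n = 1) : x = 1 := by
  rw [← orderOf_eq_one_iff]
  refine Nat.eq_one_of_dvd_coprimes hn (orderOf_dvd_of_pow_eq_one h) ?_
  have := orderOf_dvd_natCard (⟨x, hx⟩ : X)
  rwa [Subgroup.orderOf_mk] at this

variable [Finite G]

/-- The abelian case. -/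
theorem centralizes_of_comm (D : Data A Y P t) [P.Normal] (hP : ∀ x ∈ P, ∀ x' ∈ P, Commute x x') :
    ∀ a ∈ A, ∀ x ∈ P, a * x = x * a := by
  have hPn : ∀ (g : G), ∀ x ∈ P, g * x * g⁻¹ ∈ P := fun g x hx =>
    (inferInstance : P.Normal).conj_mem x hx g
  -- the identity between `a` and `y a y⁻¹`
  let φ : G → G → G := fun a x => (a * x * a⁻¹) * (a⁻¹ * x * a)
  have hφ1 : ∀ (a : G) (x : G), x ∈ P → φ a x ∈ P := fun a x hx =>
    mul_mem (hPn a x hx) (by simpa using hPn a⁻¹ x hx)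
  have hφm : ∀ (a : G) (x x' : G), x ∈ P → x' ∈ P → φ a (x * x') = φ a x * φ a x' := by
    intro a x x' hx hx'
    have h : Commute (a * x' * a⁻¹) (a⁻¹ * x * a) :=
      hP _ (hPn a x' hx') _ (by simpa using hPn a⁻¹ x hx)
    calc φ a (x * x') = (a * x * a⁻¹) * ((a * x' * a⁻¹) * (a⁻¹ * x * a)) * (a⁻¹ * x' * a) := by
          simp only [φ]; group
      _ = φ a x * φ a x' := by rw [h.eq]; simp only [φ]; group
  let W : Subgroup G :=
    { carrier := {x | x ∈ P ∧ ∀ a ∈ A, ∀ y ∈ Y, φ a x = φ (y * a * y⁻¹) x}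
      one_mem' := ⟨one_mem P, fun a _ y _ => by
        have h : ∀ b : G, φ b 1 = 1 := fun b => by simp [φ]
        rw [h, h]⟩
      mul_mem' := by
        rintro x x' ⟨hx, hx2⟩ ⟨hx', hx'2⟩
        refine ⟨mul_mem hx hx', fun a ha y hy => ?_⟩
        rw [hφm a x x' hx hx', hφm _ x x' hx hx', hx2 a ha y hy, hx'2 a ha y hy]
      inv_mem' := by
        rintro x ⟨hx, hx2⟩
        refine ⟨inv_mem hx, fun a ha y hy => ?_⟩
        have key : ∀ b, φ b x⁻¹ = (φ b x)⁻¹ := fun b => by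
          refine eq_inv_of_mul_eq_one_left ?_
          rw [← hφm b x⁻¹ x (inv_mem hx) hx, inv_mul_cancel]
          simp [φ]
        rw [key, key, hx2 a ha y hy] }
  have hWmem : ∀ x, x ∈ W ↔ x ∈ P ∧ ∀ a ∈ A, ∀ y ∈ Y, φ a x = φ (y * a * y⁻¹) x := fun _ => Iff.rfl
  have hWP : W ≤ P := fun x hx => hx.1
  have hWA : ∀ b ∈ A, ∀ x ∈ W, b * x * b⁻¹ ∈ W := by
    intro b hb x hx
    obtain ⟨hxP, hx2⟩ := (hWmem x).1 hx
    refine (hWmem _).2 ⟨hPn b x hxP, fun a ha y hy => ?_⟩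
    have key : ∀ c ∈ A, φ c (b * x * b⁻¹) = b * φ c x * b⁻¹ := fun c hc => by
      have h1 : c * b = b * c := D.commA c hc b hb
      have h2 : c⁻¹ * b = b * c⁻¹ := D.commA _ (inv_mem hc) b hb
      have h3 : b⁻¹ * c⁻¹ = c⁻¹ * b⁻¹ := (D.commA _ (inv_mem hc) _ (inv_mem hb)).symm
      have h4 : b⁻¹ * c = c * b⁻¹ := (D.commA _ hc _ (inv_mem hb)).symm
      calc φ c (b * x * b⁻¹) = (c * b) * x * (b⁻¹ * c⁻¹) * ((c⁻¹ * b) * x * (b⁻¹ * c)) := by
            simp only [φ]; group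
        _ = b * φ c x * b⁻¹ := by rw [h1, h2, h3, h4]; simp only [φ]; group
    rw [key a ha, key _ (D.normY y hy a ha), hx2 a ha y hy]
  have hfixW : ∀ x ∈ P, t * x * t = x → x ∈ W := by
    intro x hx hxt
    refine (hWmem x).2 ⟨hx, fun a ha y hy => ?_⟩
    have hfix : t * φ a x * t = φ a x := by
      have e1 : t * φ a x * t = (t * a * t) * (t * x * t) * (t * a * t)⁻¹ *
          ((t * a * t)⁻¹ * (t * x * t) * (t * a * t)) := by
        have ht : t⁻¹ = t := inv_eq_of_mul_eq_one_right D.tt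
        simp only [φ, mul_inv_rev, ht]
        simp only [← mul_assoc]
        simp only [mul_assoc _ t t, D.tt, mul_one]
      rw [e1, D.invA a ha, hxt, inv_inv]
      exact (hP _ (by simpa using hPn a⁻¹ x hx) _ (hPn a x hx)).eq
    have h1 : y * φ a x * y⁻¹ = φ a x := by
      rw [(D.fixP y hy _ (hφ1 a x hx) hfix).eq, mul_inv_cancel_right]
    have h2 : y * x * y⁻¹ = x := by rw [(D.fixP y hy x hx hxt).eq, mul_inv_cancel_right]
    have h3 : y * φ a x * y⁻¹ = φ (y * a * y⁻¹) (y * x * y⁻¹) := by simp only [φ]; group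
    rw [← h1, h3, h2]
  -- `u = a⁻¹ c` and `v = a c`: `v` fixes every `u⁻¹ x u x⁻¹`
  have hv : ∀ a ∈ A, ∀ y ∈ Y, ∀ x ∈ W, ∀ z, z = (a⁻¹ * (y * a * y⁻¹))⁻¹ * x *
      (a⁻¹ * (y * a * y⁻¹)) * x⁻¹ → (a * (y * a * y⁻¹)) * z = z * (a * (y * a * y⁻¹)) := by
    intro a ha y hy x hx z hz
    obtain ⟨hxP, hx2⟩ := (hWmem x).1 hx
    set c := y * a * y⁻¹ with hc
    have hac : Commute a c := D.commA a ha c (D.normY y hy a ha)
    have e : (a * x * a⁻¹) * (a⁻¹ * x * a) = (c * x * c⁻¹) * (c⁻¹ * x * c) := hx2 a ha y hy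
    -- conjugate by `a`
    have e2 : (a * a * x * (a * a)⁻¹) * x =
        (a * c * x * (a * c)⁻¹) * (c⁻¹ * a * x * (c⁻¹ * a)⁻¹) := by
      have h := congrArg (fun w => a * w * a⁻¹) e
      have l : a * ((a * x * a⁻¹) * (a⁻¹ * x * a)) * a⁻¹ = (a * a * x * (a * a)⁻¹) * x := by group
      have r : a * ((c * x * c⁻¹) * (c⁻¹ * x * c)) * a⁻¹ =
          (a * c * x * (a * c)⁻¹) * ((a * c⁻¹) * x * (a * c⁻¹)⁻¹) := by group
      simp only [l, r, hac.inv_right.eq] at h
      exact h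
    have hP1 : c⁻¹ * a * x * (c⁻¹ * a)⁻¹ ∈ P := hPn _ x hxP
    have hz' : z = (c⁻¹ * a * x * (c⁻¹ * a)⁻¹) * x⁻¹ := by rw [hz]; group
    have hzP : z ∈ P := hz' ▸ mul_mem hP1 (inv_mem hxP)
    have h4 : a * c * (c⁻¹ * a) = a * a := by group
    have h5 : a * c * z * (a * c)⁻¹ = (a * a * x * (a * a)⁻¹) * (a * c * x * (a * c)⁻¹)⁻¹ := by
      rw [hz', ← h4]; group
    have h6 : a * c * z * (a * c)⁻¹ = z := by
      have hA1 : a * a * x * (a * a)⁻¹ ∈ P := hPn _ x hxP
      have hA2 : a * c * x * (a * c)⁻¹ ∈ P := hPn _ x hxP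
      rw [h5]
      have e3 : a * a * x * (a * a)⁻¹ = (a * c * x * (a * c)⁻¹) * z := by
        rw [hz']
        calc a * a * x * (a * a)⁻¹ = (a * a * x * (a * a)⁻¹ * x) * x⁻¹ := by group
          _ = _ := by rw [e2]; group
      rw [e3, (hP _ hA2 _ hzP).eq, mul_inv_cancel_right]
    exact mul_inv_eq_iff_eq_mul.1 h6
  -- on a minimal `A`-invariant subgroup `u` is trivial
  have hmin : ∀ S : Subgroup G, S ≤ W → S ≠ ⊥ → (∀ b ∈ A, ∀ x ∈ S, b * x * b⁻¹ ∈ S) →
      (∀ S' : Subgroup G, S' ≤ S → S' ≠ ⊥ → (∀ b ∈ A, ∀ x ∈ S', b * x * b⁻¹ ∈ S') → S' = S) →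
      ∀ a ∈ A, ∀ y ∈ Y, a⁻¹ * (y * a * y⁻¹) ∈ centralizer (S : Set G) := by
    intro S hSW hS hSA hSmin
    have hor : ∀ a ∈ A, ∀ y ∈ Y, a⁻¹ * (y * a * y⁻¹) ∈ centralizer (S : Set G) ∨
        a * (y * a * y⁻¹) ∈ centralizer (S : Set G) := by
      intro a ha y hy
      have hcA := D.normY y hy a ha
      set c := y * a * y⁻¹ with hc
      set u := a⁻¹ * c with hu
      have huA : u ∈ A := mul_mem (inv_mem ha) hcA
      rcases eq_or_ne (S ⊓ centralizer ({u} : Set G)) ⊥ with h0 | h0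
      · refine Or.inr (mem_centralizer_iff.2 fun s hs => ?_)
        -- `x ↦ u⁻¹ x u x⁻¹` is onto
        have hmaps : ∀ x ∈ S, u⁻¹ * x * u * x⁻¹ ∈ S := fun x hx =>
          mul_mem (by simpa using hSA _ (inv_mem huA) x hx) (inv_mem hx)
        let f : S → S := fun x => ⟨u⁻¹ * x * u * (x : G)⁻¹, hmaps x x.2⟩
        have hinj : Function.Injective f := by
          rintro ⟨x1, h1⟩ ⟨x2, h2⟩ he
          have he' : u⁻¹ * x1 * u * x1⁻¹ = u⁻¹ * x2 * u * x2⁻¹ := congrArg Subtype.val he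
          have hm : u⁻¹ * (x2⁻¹ * x1) * u = x2⁻¹ * x1 := by
            calc u⁻¹ * (x2⁻¹ * x1) * u
                = (u⁻¹ * x2 * u)⁻¹ * (u⁻¹ * x1 * u * x1⁻¹) * x1 := by group
              _ = x2⁻¹ * x1 := by rw [he']; group
          have hm2 : x2⁻¹ * x1 ∈ S ⊓ centralizer ({u} : Set G) := by
            refine ⟨S.mul_mem (S.inv_mem h2) h1, mem_centralizer_singleton_iff.2 ?_⟩
            nth_rewrite 2 [← hm]
            group
          rw [h0, mem_bot, inv_mul_eq_one] at hm2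
          exact Subtype.ext hm2.symm
        obtain ⟨⟨x, hx⟩, hxs⟩ := (Finite.injective_iff_surjective.1 hinj) ⟨s, hs⟩
        exact (hv a ha y hy x (hSW hx) s (congrArg Subtype.val hxs).symm).symm
      · refine Or.inl ?_
        have h1 := hSmin _ inf_le_left h0 fun b hb x hx => ⟨hSA b hb x hx.1, ?_⟩
        · rw [← h1]
          exact mem_centralizer_iff.2 fun x hx => mem_centralizer_singleton_iff.1 hx.2
        · have h2 : Commute x u := mem_centralizer_singleton_iff.1 hx.2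
          have h3 : Commute b u := D.commA b hb u huA
          exact mem_centralizer_singleton_iff.2 ((h3.mul_left h2).mul_left h3.inv_left).eq
    have hK : ∀ k ∈ A, k ∈ centralizer (S : Set G) → ∀ y ∈ Y,
        y * k * y⁻¹ ∈ centralizer (S : Set G) := by
      intro k hk hkS y hy
      rcases hor k hk y hy with h | h
      · simpa [mul_assoc] using mul_mem hkS h
      · simpa [mul_assoc] using mul_mem (inv_mem hkS) h
    intro a ha y hy
    have hcA := D.normY y hy a ha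
    set c := y * a * y⁻¹ with hc
    rcases hor a ha y hy with h | h
    · exact h
    -- now `c ≡ a⁻¹`, so `y²` fixes `a`
    have hcc : Commute a c := D.commA a ha c hcA
    have h2 : y * y * a * (y * y)⁻¹ * a⁻¹ ∈ centralizer (S : Set G) := by
      have h1 := mul_mem (hK _ (mul_mem ha hcA) h y hy) (inv_mem h)
      have e : y * (a * c) * y⁻¹ * (a * c)⁻¹ = y * y * a * (y * y)⁻¹ * a⁻¹ := by
        have hcd : Commute c (y * c * y⁻¹) := D.commA c hcA _ (D.normY y hy c hcA)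
        calc y * (a * c) * y⁻¹ * (a * c)⁻¹ = (c * (y * c * y⁻¹)) * c⁻¹ * a⁻¹ := by rw [hc]; group
          _ = (y * c * y⁻¹) * a⁻¹ := by rw [hcd.eq]; group
          _ = _ := by rw [hc]; group
      rwa [e] at h1
    have h2A : y * y * a * (y * y)⁻¹ * a⁻¹ ∈ A :=
      mul_mem (D.normY _ (mul_mem hy hy) a ha) (inv_mem ha)
    have hi : ∀ i : ℕ, (y * y) ^ i * a * ((y * y) ^ i)⁻¹ * a⁻¹ ∈ centralizer (S : Set G) := by
      intro i
      induction i with
      | zero => simp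
      | succ i ih =>
        have h3 : (y * y) ^ i * a * ((y * y) ^ i)⁻¹ * a⁻¹ ∈ A :=
          mul_mem (D.normY _ (pow_mem (mul_mem hy hy) i) a ha) (inv_mem ha)
        have e : (y * y) ^ (i + 1) * a * ((y * y) ^ (i + 1))⁻¹ * a⁻¹ =
            (y * (y * ((y * y) ^ i * a * ((y * y) ^ i)⁻¹ * a⁻¹) * y⁻¹) * y⁻¹) *
              (y * y * a * (y * y)⁻¹ * a⁻¹) := by
          rw [pow_succ']
          generalize (y * y) ^ i = w
          group
        rw [e]
        exact mul_mem (hK _ (D.normY y hy _ h3) (hK _ h3 ih y hy) y hy) h2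
    obtain ⟨m, hm⟩ := CfsgLib.RankOneInvol.odd_orderOf_of_mem D.oddY hy
    have hyinv : (y * y) ^ m = y⁻¹ := by
      refine eq_inv_of_mul_eq_one_left ?_
      rw [← pow_two, ← pow_mul, ← pow_succ, ← hm, pow_orderOf_eq_one]
    have h4 := hi m
    rw [hyinv] at h4
    have h5 : a * c⁻¹ ∈ centralizer (S : Set G) := by
      have := hK _ (mul_mem (D.normY _ (inv_mem hy) a ha) (inv_mem ha)) h4 y hy
      have e : y * (y⁻¹ * a * y⁻¹⁻¹ * a⁻¹) * y⁻¹ = a * c⁻¹ := by rw [hc]; group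
      rwa [e] at this
    have h6 : a * a ∈ centralizer (S : Set G) := by
      have := mul_mem h h5
      have e : a * c * (a * c⁻¹) = a * a := by
        calc a * c * (a * c⁻¹) = a * (c * a) * c⁻¹ := by group
          _ = a * a := by rw [← hcc.eq]; group
      rwa [e] at this
    have h7 : a ∈ centralizer (S : Set G) := by
      obtain ⟨j, hj⟩ := CfsgLib.RankOneInvol.exists_pow_sq_eq
        (CfsgLib.RankOneInvol.odd_orderOf_of_mem D.oddA ha)
      rw [← hj, ← (Commute.refl a).mul_pow]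
      exact pow_mem h6 j
    exact mul_mem (inv_mem h7) (hK a ha h7 y hy)
  -- `u` centralises `W`
  have hu : ∀ a ∈ A, ∀ y ∈ Y, ∀ x ∈ W,
      (a⁻¹ * (y * a * y⁻¹))⁻¹ * x * (a⁻¹ * (y * a * y⁻¹)) = x := by
    intro a ha y hy
    set u := a⁻¹ * (y * a * y⁻¹) with hudef
    have huA : u ∈ A := mul_mem (inv_mem ha) (D.normY y hy a ha)
    let I : Subgroup G :=
      { carrier := {z | ∃ x ∈ W, z = u⁻¹ * x * u * x⁻¹}
        one_mem' := ⟨1, one_mem W, by group⟩
        mul_mem' := by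
          rintro z z' ⟨x, hx, rfl⟩ ⟨x', hx', rfl⟩
          refine ⟨x * x', mul_mem hx hx', ?_⟩
          have hA1 : u⁻¹ * x' * u * x'⁻¹ ∈ P :=
            mul_mem (by simpa using hPn u⁻¹ x' (hWP hx')) (inv_mem (hWP hx'))
          calc (u⁻¹ * x * u * x⁻¹) * (u⁻¹ * x' * u * x'⁻¹)
              = u⁻¹ * x * u * (x⁻¹ * (u⁻¹ * x' * u * x'⁻¹)) := by group
            _ = u⁻¹ * x * u * ((u⁻¹ * x' * u * x'⁻¹) * x⁻¹) := by
                rw [(hP _ (inv_mem (hWP hx)) _ hA1).eq]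
            _ = _ := by group
        inv_mem' := by
          rintro z ⟨x, hx, rfl⟩
          refine ⟨x⁻¹, inv_mem hx, ?_⟩
          have hA1 : u⁻¹ * x⁻¹ * u ∈ P := by simpa using hPn u⁻¹ _ (inv_mem (hWP hx))
          calc (u⁻¹ * x * u * x⁻¹)⁻¹ = x * (u⁻¹ * x⁻¹ * u) := by group
            _ = u⁻¹ * x⁻¹ * u * x := (hP _ (hWP hx) _ hA1).eq
            _ = _ := by group }
    have hIm : ∀ z, z ∈ I ↔ ∃ x ∈ W, z = u⁻¹ * x * u * x⁻¹ := fun _ => Iff.rfl
    suffices hI : I = ⊥ by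
      intro x hx
      have h : u⁻¹ * x * u * x⁻¹ ∈ I := (hIm _).2 ⟨x, hx, rfl⟩
      rwa [hI, mem_bot, mul_inv_eq_one] at h
    by_contra hI
    have hIW : I ≤ W := by
      rintro z hz
      obtain ⟨x, hx, rfl⟩ := (hIm z).1 hz
      exact mul_mem (by simpa using hWA _ (inv_mem huA) x hx) (inv_mem hx)
    have hIA : ∀ b ∈ A, ∀ z ∈ I, b * z * b⁻¹ ∈ I := by
      intro b hb z hz
      obtain ⟨x, hx, rfl⟩ := (hIm z).1 hz
      refine (hIm _).2 ⟨b * x * b⁻¹, hWA b hb x hx, ?_⟩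
      have h1 : b * u⁻¹ = u⁻¹ * b := D.commA b hb _ (inv_mem huA)
      have h2 : u * b⁻¹ = b⁻¹ * u := D.commA u huA _ (inv_mem hb)
      calc b * (u⁻¹ * x * u * x⁻¹) * b⁻¹ = (b * u⁻¹) * x * (u * b⁻¹) * (b * x⁻¹ * b⁻¹) := by group
        _ = _ := by rw [h1, h2]; group
    obtain ⟨S, ⟨⟨hSI, hS0, hSA⟩, hSmin⟩⟩ :=
      (Set.toFinite {S : Subgroup G | S ≤ I ∧ S ≠ ⊥ ∧ ∀ b ∈ A, ∀ x ∈ S, b * x * b⁻¹ ∈ S}).exists_minimal
        ⟨I, le_rfl, hI, hIA⟩
    have hS := hmin S (hSI.trans hIW) hS0 hSA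
      (fun S' h1 h2 h3 => le_antisymm h1 (hSmin ⟨h1.trans hSI, h2, h3⟩ h1)) a ha y hy
    haveI : Nontrivial S := (S.nontrivial_iff_ne_bot).2 hS0
    obtain ⟨⟨s, hs⟩, hs1⟩ := exists_ne (1 : S)
    apply hs1
    obtain ⟨x, hx, hsx⟩ := (hIm s).1 (hSI hs)
    have hus : Commute u s := (mem_centralizer_iff.1 hS s hs).symm
    have hiter : ∀ k : ℕ, (u ^ k)⁻¹ * x * u ^ k = s ^ k * x := by
      intro k
      induction k with
      | zero => simp
      | succ k ih =>
        have hk : u⁻¹ * s ^ k = s ^ k * u⁻¹ := (hus.pow_right k).inv_left.eq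
        calc (u ^ (k + 1))⁻¹ * x * u ^ (k + 1) = u⁻¹ * ((u ^ k)⁻¹ * x * u ^ k) * u := by
              rw [pow_succ]; group
          _ = (u⁻¹ * s ^ k) * x * u := by rw [ih]; group
          _ = s ^ k * (u⁻¹ * x * u * x⁻¹) * x := by rw [hk]; group
          _ = s ^ (k + 1) * x := by rw [← hsx, pow_succ]
    have h8 := hiter (Nat.card A)
    rw [orderOf_dvd_iff_pow_eq_one.1 (A.orderOf_dvd_natCard huA)] at h8
    refine Subtype.ext (eq_one_of_pow (hWP (hIW (hSI hs))) D.copAP ?_)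
    simpa using h8
  -- norm argument: `A` centralises the fixed points of `t`
  have hfix : ∀ a ∈ A, ∀ x ∈ P, t * x * t = x → a * x = x * a := by
    classical
    intro a ha x hx hxt
    have hxW := hfixW x hx hxt
    set A0 : Subgroup G := centralizer ({x} : Set G) ⊓ A
    letI : CommGroup A :=
      { (inferInstance : Group A) with mul_comm := fun p q => Subtype.ext (D.commA _ p.2 _ q.2).eq }
    haveI := Fintype.ofFinite Y
    let f : Y → A := fun y => ⟨y * a * (y : G)⁻¹, D.normY _ y.2 a ha⟩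
    have hp1 : ((∏ y, f y : A) : G) = 1 := by
      refine D.fixY _ (∏ y, f y : A).2 fun y0 hy0 => ?_
      let ψ : A →* A :=
        { toFun := fun b => ⟨y0 * b * y0⁻¹, D.normY _ hy0 _ b.2⟩
          map_one' := Subtype.ext (by simp)
          map_mul' := fun p q => Subtype.ext (by simp) }
      have h : ψ (∏ y, f y) = ∏ y, f y := by
        rw [map_prod]
        exact Fintype.prod_equiv (Equiv.mulLeft (⟨y0, hy0⟩ : Y)) _ _ fun y =>
          Subtype.ext (by simp [f, ψ, mul_assoc])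
      exact (mul_inv_eq_iff_eq_mul.1 (congrArg Subtype.val h))
    let π := QuotientGroup.mk' (A0.subgroupOf A)
    have h9 : π (∏ y, f y) = π ⟨a, ha⟩ ^ Nat.card Y := by
      rw [map_prod, Nat.card_eq_fintype_card, ← Finset.card_univ, ← Finset.prod_const]
      refine Finset.prod_congr rfl fun y _ => ?_
      refine ((QuotientGroup.eq).2 ?_).symm
      refine mem_subgroupOf.2 ⟨?_, ((⟨a, ha⟩⁻¹ * f y : A)).2⟩
      refine mem_centralizer_singleton_iff.2 ?_
      have h := hu a ha y y.2 x hxW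
      show a⁻¹ * (y * a * (y : G)⁻¹) * x = x * (a⁻¹ * (y * a * (y : G)⁻¹))
      generalize a⁻¹ * (y * a * (y : G)⁻¹) = w at h ⊢
      conv_lhs => rw [← h]
      group
    rw [show (∏ y, f y : A) = 1 from Subtype.ext hp1, map_one] at h9
    have h10 : (⟨a, ha⟩ : A) ^ Nat.card Y ∈ A0.subgroupOf A := by
      rw [← QuotientGroup.eq_one_iff, QuotientGroup.mk_pow]
      exact h9.symm
    have hcop' : (orderOf (⟨a, ha⟩ : A)).Coprime (Nat.card Y) :=
      D.copAY.symm.coprime_dvd_left (orderOf_dvd_natCard _)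
    obtain ⟨m, hm⟩ := exists_pow_eq_self_of_coprime hcop'.symm
    have h11 : (⟨a, ha⟩ : A) ∈ A0.subgroupOf A := hm ▸ pow_mem h10 m
    exact mem_centralizer_singleton_iff.1 (mem_subgroupOf.1 h11).1
  intro a ha x hx
  exact commute_of_inverted D.oddP D.tt
    (fun z hz => by
      have ht : t⁻¹ = t := inv_eq_of_mul_eq_one_right D.tt
      have := hPn t z hz
      rwa [ht] at this)
    (hPn a) (D.invA a ha) (CfsgLib.RankOneInvol.odd_orderOf_of_mem D.oddA ha)
    (D.copAP.coprime_dvd_left (by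
      have := orderOf_dvd_natCard (⟨a, ha⟩ : A)
      rwa [Subgroup.orderOf_mk] at this))
    (fun z hz hzt => hfix a ha z hz hzt) x hx

/-- The hypotheses pass to quotients by subgroups of `P`. -/
theorem Data.map {G' : Type*} [Group G'] (D : Data A Y P t) [P.Normal] (f : G →* G')
    (hker : ∀ g, f g = 1 → g ∈ P) : Data (A.map f) (Y.map f) (P.map f) (f t) where
  oddA := Odd.of_dvd_nat D.oddA (card_map_dvd _ _)
  oddY := Odd.of_dvd_nat D.oddY (card_map_dvd _ _)
  oddP := Odd.of_dvd_nat D.oddP (card_map_dvd _ _)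
  copAP := (D.copAP.coprime_dvd_left (card_map_dvd _ _)).coprime_dvd_right (card_map_dvd _ _)
  copAY := (D.copAY.coprime_dvd_left (card_map_dvd _ _)).coprime_dvd_right (card_map_dvd _ _)
  commA := by
    rintro _ ⟨a, ha, rfl⟩ _ ⟨a', ha', rfl⟩
    exact (D.commA a ha a' ha').map f
  tt := by rw [← map_mul, D.tt, map_one]
  invA := by
    rintro _ ⟨a, ha, rfl⟩
    rw [← map_mul, ← map_mul, D.invA a ha, map_inv]
  normY := by
    rintro _ ⟨y, hy, rfl⟩ _ ⟨a, ha, rfl⟩
    exact ⟨y * a * y⁻¹, D.normY y hy a ha, by simp⟩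
  fixY := by
    rintro _ ⟨a, ha, rfl⟩ h
    rw [D.fixY a ha fun y hy => ?_, map_one]
    have h1 : y * a * y⁻¹ * a⁻¹ ∈ P := hker _ (by
      rw [map_mul, map_mul, map_mul, map_inv, map_inv, (h _ ⟨y, hy, rfl⟩).eq]
      group)
    have h2 : y * a * y⁻¹ * a⁻¹ ∈ A := mul_mem (D.normY y hy a ha) (inv_mem ha)
    have h3 : y * a * y⁻¹ * a⁻¹ = 1 := by
      refine eq_one_of_pow h2 D.copAP.symm ?_
      have h := congrArg Subtype.val (pow_card_eq_one' (x := (⟨_, h1⟩ : P)))
      exact (SubmonoidClass.coe_pow _ _).symm.trans h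
    exact mul_inv_eq_iff_eq_mul.1 (mul_inv_eq_one.1 h3)
  commY := by
    rintro _ ⟨y, hy, rfl⟩
    exact Commute.map (D.commY y hy) f
  fixP := by
    rintro _ ⟨y, hy, rfl⟩ _ ⟨x, hx, rfl⟩ hxt
    have ht : t⁻¹ = t := inv_eq_of_mul_eq_one_right D.tt
    have hnt : ∀ w ∈ P, t * w * t ∈ P := fun w hw => by
      have := (inferInstance : P.Normal).conj_mem w hw t
      rwa [ht] at this
    obtain ⟨x1, x2, hx1, hx1t, hx2, hx2t, rfl⟩ :=
      CfsgLib.RankOneInvol.exists_fixed_mul_inverted D.oddP D.tt hnt hx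
    have e : t * (x1 * x2) * t = x1 * x2⁻¹ := by
      calc t * (x1 * x2) * t = (t * x1 * t) * (t * x2 * t) := by
            simp only [← mul_assoc]; simp only [mul_assoc _ t t, D.tt, mul_one]
        _ = _ := by rw [hx1t, hx2t]
    have h1 : f x2 = 1 := by
      refine CfsgLib.RankOneInvol.eq_one_of_sq_of_odd
        (CfsgLib.RankOneInvol.odd_orderOf_of_mem (Odd.of_dvd_nat D.oddP (card_map_dvd _ _))
          (mem_map_of_mem f hx2)) ?_
      rw [← map_mul, ← map_mul, e, map_mul, map_mul, mul_right_inj, map_inv] at hxt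
      calc f x2 * f x2 = (f x2)⁻¹ * f x2 := by rw [hxt]
        _ = 1 := inv_mul_cancel _
    rw [map_mul, h1, mul_one]
    exact (D.fixP y hy x1 hx1 hx1t).map f

/-- The general case. -/
theorem centralizes (D : Data A Y P t) [P.Normal] {r : ℕ} [Fact r.Prime] (hP : IsPGroup r P) :
    ∀ a ∈ A, ∀ x ∈ P, a * x = x * a := by
  induction hn : Nat.card P using Nat.strong_induction_on generalizing G with
  | _ n ih => ?_
  by_cases hb : P = ⊥
  · intro a _ x hx
    rw [hb, mem_bot] at hx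
    rw [hx, mul_one, one_mul]
  set Z : Subgroup G := P ⊓ centralizer (P : Set G) with hZ
  haveI : (centralizer (P : Set G)).Normal := inferInstance
  haveI : Z.Normal := inferInstance
  have hZ0 : Z ≠ ⊥ := by
    haveI : Nontrivial P := (P.nontrivial_iff_ne_bot).2 hb
    haveI := hP.center_nontrivial
    obtain ⟨z, hz⟩ := exists_ne (1 : center P)
    intro h
    have hzm : ((z : P) : G) ∈ Z := ⟨(z : P).2, mem_centralizer_iff.2 fun y hy =>
      congrArg Subtype.val (mem_center_iff.1 z.2 ⟨y, hy⟩)⟩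
    rw [h, mem_bot] at hzm
    exact hz (Subtype.ext (Subtype.ext hzm))
  have hcop : ∀ {X : Subgroup G}, X ≤ P → (Nat.card A).Coprime (Nat.card X) := fun h =>
    D.copAP.coprime_dvd_right (card_dvd_of_le h)
  have hoddle : ∀ {X : Subgroup G}, X ≤ P → Odd (Nat.card X) := fun h =>
    Odd.of_dvd_nat D.oddP (card_dvd_of_le h)
  have hcZ : ∀ a ∈ A, ∀ x ∈ Z, a * x = x * a :=
    centralizes_of_comm (Y := Y) (t := t)
      ⟨D.oddA, D.oddY, hoddle inf_le_left, hcop inf_le_left, D.copAY, D.commA, D.tt, D.invA,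
        D.normY, D.fixY, D.commY, fun y hy x hx => D.fixP y hy x hx.1⟩
      fun x hx x' hx' => (mem_centralizer_iff.1 hx.2 x' hx'.1).symm
  let f := QuotientGroup.mk' Z
  have hfk : ∀ g : G, f g = 1 ↔ g ∈ Z := fun g => QuotientGroup.eq_one_iff g
  have hlt : Nat.card (P.map f) < n := by
    rw [← hn]
    refine lt_of_le_of_ne (Nat.le_of_dvd Nat.card_pos (card_map_dvd _ _)) fun he => ?_
    haveI : Nontrivial Z := (Z.nontrivial_iff_ne_bot).2 hZ0
    obtain ⟨⟨z, hz⟩, hz1⟩ := exists_ne (1 : Z)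
    apply hz1
    have hinj : Function.Injective (f.subgroupMap P) :=
      ((Nat.bijective_iff_surjective_and_card _).2 ⟨f.subgroupMap_surjective P, he.symm⟩).1
    have := @hinj ⟨z, hz.1⟩ 1 (Subtype.ext (by simpa using (hfk z).2 hz))
    exact Subtype.ext (show z = 1 from congrArg Subtype.val this)
  have hD : Data (A.map f) (Y.map f) (P.map f) (f t) :=
    D.map f fun g hg => ((hfk g).1 hg).1
  haveI : (P.map f).Normal := Normal.map inferInstance f (QuotientGroup.mk'_surjective Z)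
  have hq := ih _ hlt hD (hP.map f) rfl
  intro a ha x hx
  have h1 : a * x * a⁻¹ * x⁻¹ ∈ Z := by
    rw [← hfk, map_mul, map_mul, map_mul, map_inv, map_inv,
      hq _ (mem_map_of_mem f ha) _ (mem_map_of_mem f hx)]
    group
  set z := a * x * a⁻¹ * x⁻¹ with hz
  have hpow : ∀ k : ℕ, a ^ k * x * (a ^ k)⁻¹ = z ^ k * x := by
    intro k
    induction k with
    | zero => simp
    | succ k ih' =>
      have hk : a * z ^ k = z ^ k * a := (Commute.pow_right (hcZ a ha z h1) k).eq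
      calc a ^ (k + 1) * x * (a ^ (k + 1))⁻¹ = a * (a ^ k * x * (a ^ k)⁻¹) * a⁻¹ := by
            rw [pow_succ']; group
        _ = (a * z ^ k) * x * a⁻¹ := by rw [ih']; group
        _ = z ^ k * z * x := by rw [hk, hz]; group
        _ = z ^ (k + 1) * x := by rw [pow_succ]
  have h2 := hpow (Nat.card A)
  rw [orderOf_dvd_iff_pow_eq_one.1 (A.orderOf_dvd_natCard ha)] at h2
  have h3 : z = 1 := eq_one_of_pow h1 (hcop inf_le_left) (by simpa using h2)
  rw [hz, mul_inv_eq_one, mul_inv_eq_iff_eq_mul] at h3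
  exact h3

end CfsgLib.GW.UniqTwoAct
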